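-- helper89: piece (M-F) SPLIT of board post #5001 (for helper16, defect-one engine), part A:
-- general lemmas (relative Maschke modulo a stable subspace; complements for nilpotent operators;
-- uniqueness of the top).
import Mathlib

set_option autoImplicit false

namespace Cfsg.Agent.Helper89.DefOneSplit

universe u v w

section General

variable {k : Type v} [Field k] {Γ : Type u} [Group Γ] {V : Type w} [AddCommGroup V] [Module k V]

/-- `U` is stable under the representation `ρ`. -/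
def Stable (ρ : Representation k Γ V) (U : Submodule k V) : Prop :=
  ∀ γ, U ≤ U.comap (ρ γ)

theorem Stable.mem {ρ : Representation k Γ V} {U : Submodule k V} (h : Stable ρ U) (γ : Γ)
    {v : V} (hv : v ∈ U) : ρ γ v ∈ U := h γ hv

theorem rho_mul_apply (ρ : Representation k Γ V) (a b : Γ) (v : V) :
    ρ a (ρ b v) = ρ (a * b) v := by
  rw [map_mul, Module.End.mul_apply]

theorem rho_inv_apply (ρ : Representation k Γ V) (a : Γ) (v : V) :
    ρ a (ρ a⁻¹ v) = v := by
  rw [rho_mul_apply, mul_inv_cancel, map_one, Module.End.one_apply]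

/-- **Relative Maschke modulo a stable subspace.** -/
theorem exists_stable_compl_mod [Finite Γ] (ρ : Representation k Γ V) (P : Subgroup Γ) [P.Normal]
    (hidx : ((P.index : ℕ) : k) ≠ 0)
    (U B W : Submodule k V) (hU : Stable ρ U) (hB : Stable ρ B) (hW : Stable ρ W)
    (hUB : U ≤ B) (hBW : B ≤ W)
    (π₀ : V →ₗ[k] V) (hπB : ∀ v, π₀ v ∈ B) (hπid : ∀ b ∈ B, π₀ b = b)
    (hH : ∀ y ∈ P, ∀ w ∈ W, ρ y (π₀ w) - π₀ (ρ y w) ∈ U) :
    ∃ A : Submodule k V, Stable ρ A ∧ U ≤ A ∧ A ≤ W ∧ A ⊔ B = W ∧ A ⊓ B = U := by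
  classical
  have : Fintype (Γ ⧸ P) := Fintype.ofFinite _
  set c : k := ((P.index : ℕ) : k)⁻¹ with hc
  -- the averaged map
  set π' : V →ₗ[k] V := c • ∑ q : Γ ⧸ P, ρ q.out * π₀ * ρ (q.out)⁻¹ with hπ'
  have hπ'apply : ∀ v, π' v = c • ∑ q : Γ ⧸ P, ρ q.out (π₀ (ρ (q.out)⁻¹ v)) := by
    intro v
    simp only [hπ', LinearMap.smul_apply, LinearMap.sum_apply, Module.End.mul_apply]
  have h1 : ∀ v, π' v ∈ B := by
    intro v
    rw [hπ'apply]
    exact B.smul_mem _ (Submodule.sum_mem _ fun q _ => hB.mem _ (hπB _))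
  have hcard : (Fintype.card (Γ ⧸ P) : k) = ((P.index : ℕ) : k) := by
    rw [Subgroup.index, Nat.card_eq_fintype_card]
  have h2 : ∀ b ∈ B, π' b = b := by
    intro b hb
    rw [hπ'apply]
    have : ∀ q : Γ ⧸ P, ρ q.out (π₀ (ρ (q.out)⁻¹ b)) = b := by
      intro q
      rw [hπid _ (hB.mem _ hb), rho_inv_apply]
    rw [Finset.sum_congr rfl fun q _ => this q, Finset.sum_const, Finset.card_univ,
      ← Nat.cast_smul_eq_nsmul k, hcard, smul_smul, hc, inv_mul_cancel₀ hidx, one_smul]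
  have h3 : ∀ γ : Γ, ∀ w ∈ W, ρ γ (π' w) - π' (ρ γ w) ∈ U := by
    intro γ w hw
    rw [hπ'apply, hπ'apply, map_smul, map_sum, ← smul_sub]
    refine U.smul_mem _ ?_
    rw [← Equiv.sum_comp (MulAction.toPerm γ : Equiv.Perm (Γ ⧸ P))
      (fun q => ρ q.out (π₀ (ρ (q.out)⁻¹ (ρ γ w)))), ← Finset.sum_sub_distrib]
    refine Submodule.sum_mem _ fun q _ => ?_
    simp only [MulAction.toPerm_apply]
    set g := q.out with hg
    set g' := (γ • q).out with hg'
    have hyP : g'⁻¹ * (γ * g) ∈ P := by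
      rw [← QuotientGroup.eq]
      rw [hg', hg, QuotientGroup.out_eq']
      show γ • q = ((γ * q.out : Γ) : Γ ⧸ P)
      conv_lhs => rw [← QuotientGroup.out_eq' q]
      rfl
    set y := g'⁻¹ * (γ * g) with hy
    have e1 : γ * g = g' * y := by rw [hy]; group
    have e2 : g'⁻¹ * γ = y * g⁻¹ := by rw [hy]; group
    have hw1 : ρ g⁻¹ w ∈ W := hW.mem _ hw
    have t1 : ρ γ (ρ g (π₀ (ρ g⁻¹ w))) = ρ g' (ρ y (π₀ (ρ g⁻¹ w))) := by
      rw [rho_mul_apply, e1, ← rho_mul_apply]
    have t2 : ρ g'⁻¹ (ρ γ w) = ρ y (ρ g⁻¹ w) := by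
      rw [rho_mul_apply, e2, ← rho_mul_apply]
    rw [t1, t2, ← map_sub]
    exact hU.mem _ (hH y hyP _ hw1)
  refine ⟨W ⊓ U.comap π', ?_, ?_, inf_le_left, ?_, ?_⟩
  · intro γ v hv
    rw [Submodule.mem_comap, Submodule.mem_inf, Submodule.mem_comap]
    rw [Submodule.mem_inf, Submodule.mem_comap] at hv
    refine ⟨hW.mem _ hv.1, ?_⟩
    have := h3 γ v hv.1
    have h4 : π' (ρ γ v) = ρ γ (π' v) - (ρ γ (π' v) - π' (ρ γ v)) := by abel
    rw [h4]
    exact U.sub_mem (hU.mem _ hv.2) this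
  · intro u hu
    rw [Submodule.mem_inf, Submodule.mem_comap, h2 u (hUB hu)]
    exact ⟨hBW (hUB hu), hu⟩
  · apply le_antisymm
    · exact sup_le inf_le_left hBW
    · intro w hw
      rw [Submodule.mem_sup]
      refine ⟨w - π' w, ?_, π' w, h1 w, by abel⟩
      rw [Submodule.mem_inf, Submodule.mem_comap]
      refine ⟨W.sub_mem hw (hBW (h1 w)), ?_⟩
      rw [map_sub, h2 _ (h1 w), sub_self]
      exact U.zero_mem
  · apply le_antisymm
    · intro w hw
      rw [Submodule.mem_inf, Submodule.mem_inf, Submodule.mem_comap] at hw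
      have := hw.1.2
      rwa [h2 w hw.2] at this
    · intro u hu
      rw [Submodule.mem_inf, Submodule.mem_inf, Submodule.mem_comap, h2 u (hUB hu)]
      exact ⟨⟨hBW (hUB hu), hu⟩, hUB hu⟩

end General

section Nilpotent

variable {k : Type v} [Field k] {V : Type w} [AddCommGroup V] [Module k V]

theorem pow_mem_of_stable (z : Module.End k V) (W : Submodule k V) (hW : ∀ w ∈ W, z w ∈ W)
    (m : ℕ) : ∀ w ∈ W, (z ^ m) w ∈ W := by
  induction m with
  | zero => intro w hw; simpa using hw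
  | succ m ih =>
    intro w hw
    rw [pow_succ', Module.End.mul_apply]
    exact hW _ (ih w hw)

/-- **Complements for a nilpotent operator**: a `z`-stable subspace `W` on which
`ker z^(n-1) = z W` (all Jordan blocks of `W` have the full size `n`) has a `z`-stable complement. -/
theorem exists_compl_of_nilpotent [FiniteDimensional k V] (z : Module.End k V) (n : ℕ)
    (hn : 0 < n) (hz : z ^ n = 0) (W : Submodule k V) (hW : ∀ w ∈ W, z w ∈ W)
    (hstar : ∀ w ∈ W, (z ^ (n - 1)) w = 0 → ∃ w₁ ∈ W, w = z w₁) :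
    ∃ C : Submodule k V, (∀ c ∈ C, z c ∈ C) ∧ IsCompl W C := by
  classical
  have hnoeth : IsNoetherian k V := inferInstance
  obtain ⟨C, ⟨hCz, hCd⟩, hCmax⟩ := set_has_maximal_iff_noetherian.2 hnoeth
    {C : Submodule k V | (∀ c ∈ C, z c ∈ C) ∧ Disjoint W C}
    ⟨⊥, by
      refine ⟨?_, disjoint_bot_right⟩
      intro c hc
      rw [Submodule.mem_bot] at hc
      rw [hc, map_zero]
      exact Submodule.zero_mem _⟩
  refine ⟨C, hCz, hCd, ?_⟩
  rw [codisjoint_iff]
  by_contra hne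
  -- the sum `S = W ⊔ C` is `z`-stable and proper
  have hSz : ∀ s ∈ W ⊔ C, z s ∈ W ⊔ C := by
    intro s hs
    obtain ⟨w, hw, c, hc, rfl⟩ := Submodule.mem_sup.1 hs
    rw [map_add]
    exact Submodule.add_mem _ (Submodule.mem_sup_left (hW w hw)) (Submodule.mem_sup_right (hCz c hc))
  obtain ⟨v, hv⟩ : ∃ v : V, v ∉ W ⊔ C := by
    by_contra hall
    simp only [not_exists, not_not] at hall
    exact hne (eq_top_iff.2 fun x _ => hall x)
  -- a vector `v₀ ∉ S` with `z v₀ ∈ S`
  have hex : ∃ i : ℕ, (z ^ i) v ∈ W ⊔ C := ⟨n, by rw [hz]; exact Submodule.zero_mem _⟩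
  have hi0 : Nat.find hex ≠ 0 := by
    intro h0
    have := Nat.find_spec hex
    rw [h0, pow_zero] at this
    exact hv this
  obtain ⟨j, hj⟩ := Nat.exists_eq_succ_of_ne_zero hi0
  have hv₀ : (z ^ j) v ∉ W ⊔ C := Nat.find_min hex (by rw [hj]; exact Nat.lt_succ_self j)
  have hzv₀ : z ((z ^ j) v) ∈ W ⊔ C := by
    have := Nat.find_spec hex
    rwa [hj, pow_succ', Module.End.mul_apply] at this
  set v₀ := (z ^ j) v with hv₀def
  obtain ⟨w, hw, c, hc, hwc⟩ := Submodule.mem_sup.1 hzv₀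
  -- `z^(n-1) w = 0`
  have hnn : n - 1 + 1 = n := Nat.sub_add_cancel hn
  have h1 : (z ^ (n - 1)) (z v₀) = 0 := by
    rw [← Module.End.mul_apply, ← pow_succ, hnn, hz, LinearMap.zero_apply]
  have h2 : (z ^ (n - 1)) w = -(z ^ (n - 1)) c := by
    rw [← hwc, map_add] at h1
    exact eq_neg_of_add_eq_zero_left h1
  have h3 : (z ^ (n - 1)) w = 0 := by
    have hW' : (z ^ (n - 1)) w ∈ W := pow_mem_of_stable z W hW _ w hw
    have hC' : (z ^ (n - 1)) w ∈ C := by
      rw [h2]
      exact C.neg_mem (pow_mem_of_stable z C hCz _ c hc)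
    exact (Submodule.disjoint_def.1 hCd) _ hW' hC'
  obtain ⟨w₁, hw₁, hww₁⟩ := hstar w hw h3
  set v' := v₀ - w₁ with hv'def
  have hzv' : z v' = c := by
    rw [hv'def, map_sub, ← hwc, hww₁]
    abel
  have hv'S : v' ∉ W ⊔ C := by
    intro h
    apply hv₀
    have : v₀ = v' + w₁ := by rw [hv'def]; abel
    rw [this]
    exact Submodule.add_mem _ h (Submodule.mem_sup_left hw₁)
  -- enlarge `C`
  have hmem : ∀ x ∈ C ⊔ Submodule.span k {v'}, ∃ c₁ ∈ C, ∃ l : k, x = c₁ + l • v' := by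
    intro x hx
    obtain ⟨c₁, hc₁, y, hy, rfl⟩ := Submodule.mem_sup.1 hx
    obtain ⟨l, rfl⟩ := Submodule.mem_span_singleton.1 hy
    exact ⟨c₁, hc₁, l, rfl⟩
  have hC'mem : (C ⊔ Submodule.span k {v'}) ∈
      {C : Submodule k V | (∀ c ∈ C, z c ∈ C) ∧ Disjoint W C} := by
    refine ⟨?_, ?_⟩
    · intro x hx
      obtain ⟨c₁, hc₁, l, rfl⟩ := hmem x hx
      rw [map_add, map_smul, hzv']
      exact Submodule.mem_sup_left (C.add_mem (hCz c₁ hc₁) (C.smul_mem l hc))
    · rw [Submodule.disjoint_def]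
      intro x hxW hx
      obtain ⟨c₁, hc₁, l, rfl⟩ := hmem x hx
      by_cases hl : l = 0
      · rw [hl, zero_smul, add_zero] at hxW ⊢
        exact (Submodule.disjoint_def.1 hCd) _ hxW hc₁
      · exfalso
        apply hv'S
        have : v' = l⁻¹ • ((c₁ + l • v') - c₁) := by
          rw [add_sub_cancel_left, smul_smul, inv_mul_cancel₀ hl, one_smul]
        rw [this]
        exact Submodule.smul_mem _ _
          (Submodule.sub_mem _ (Submodule.mem_sup_left hxW) (Submodule.mem_sup_right hc₁))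
  have hlt : C < C ⊔ Submodule.span k {v'} := by
    refine lt_of_le_of_ne le_sup_left ?_
    intro heq
    apply hv'S
    have : v' ∈ C := by
      rw [heq]
      exact Submodule.mem_sup_right (Submodule.mem_span_singleton_self v')
    exact Submodule.mem_sup_right this
  exact hCmax _ hC'mem hlt

end Nilpotent

section Top

variable {k : Type v} [Field k] {Γ : Type u} [Group Γ] {V : Type w} [AddCommGroup V] [Module k V]

/-- a nonzero intertwining map to an irreducible representation is onto -/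
theorem surjective_of_irreducible {T : Type*} [AddCommGroup T] [Module k T]
    (ρ : Representation k Γ V) (τ : Representation k Γ T) (hτ : τ.IsIrreducible)
    (a : V →ₗ[k] T) (ha : ∀ γ, a ∘ₗ ρ γ = τ γ ∘ₗ a) (h0 : a ≠ 0) : Function.Surjective a := by
  have := hτ
  let S : Subrepresentation τ := ⟨LinearMap.range a, by
    rintro γ t ⟨v, rfl⟩
    exact ⟨ρ γ v, LinearMap.congr_fun (ha γ) v⟩⟩
  rcases eq_bot_or_eq_top S with h | h
  · exfalso
    apply h0
    ext v
    have h1 : a v ∈ S.toSubmodule := ⟨v, rfl⟩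
    rw [h] at h1
    exact (Submodule.mem_bot k).1 h1
  · intro t
    have h1 : t ∈ S.toSubmodule := by rw [h]; exact Submodule.mem_top
    exact h1

theorem stable_inf_ker {T : Type*} [AddCommGroup T] [Module k T]
    (ρ : Representation k Γ V) (τ : Representation k Γ T) (a : V →ₗ[k] T)
    (ha : ∀ γ, a ∘ₗ ρ γ = τ γ ∘ₗ a) (W : Submodule k V) (hW : Stable ρ W) :
    Stable ρ (W ⊓ LinearMap.ker a) := by
  intro γ v hv
  rw [Submodule.mem_comap, Submodule.mem_inf, LinearMap.mem_ker]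
  rw [Submodule.mem_inf, LinearMap.mem_ker] at hv
  refine ⟨hW.mem γ hv.1, ?_⟩
  have := LinearMap.congr_fun (ha γ) v
  simp only [LinearMap.comp_apply] at this
  rw [this, hv.2, map_zero]

theorem inf_ker_ne {T : Type*} [AddCommGroup T] [Module k T] (W W' : Submodule k V)
    (hcompl : IsCompl W W') (a : V →ₗ[k] T) (hk : W' ≤ LinearMap.ker a) (h0 : a ≠ 0) :
    W ⊓ LinearMap.ker a ≠ W := by
  intro h
  apply h0
  have h1 : W ≤ LinearMap.ker a := by rw [← h]; exact inf_le_right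
  have h2 : (⊤ : Submodule k V) ≤ LinearMap.ker a := by
    rw [← hcompl.sup_eq_top]
    exact sup_le h1 hk
  ext v
  exact LinearMap.mem_ker.1 (h2 Submodule.mem_top)

/-- one inclusion of kernels in the uniqueness of the top -/
theorem ker_le_ker_of_top {T T' : Type*} [AddCommGroup T] [Module k T] [AddCommGroup T']
    [Module k T'] (ρ : Representation k Γ V) (W W' N : Submodule k V) (hWs : Stable ρ W)
    (hcompl : IsCompl W W')
    (hmin : ∀ A : Submodule k V, Stable ρ A → A ≤ W → A ≠ W → A ≤ N) (hWN : ¬ W ≤ N)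
    (τ : Representation k Γ T) (τ' : Representation k Γ T') (hτ : τ.IsIrreducible)
    (a : V →ₗ[k] T) (a' : V →ₗ[k] T') (ha : ∀ γ, a ∘ₗ ρ γ = τ γ ∘ₗ a)
    (ha' : ∀ γ, a' ∘ₗ ρ γ = τ' γ ∘ₗ a') (hk : W' ≤ LinearMap.ker a) (hk' : W' ≤ LinearMap.ker a')
    (h0 : a ≠ 0) (h0' : a' ≠ 0) : LinearMap.ker a' ≤ LinearMap.ker a := by
  have := hτ
  by_contra hnot
  obtain ⟨v0, hv0', hv0⟩ := SetLike.not_le_iff_exists.1 hnot
  rw [LinearMap.mem_ker] at hv0' hv0
  -- the image of `ker a'` under `a` is a nonzero subrepresentation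
  let S : Subrepresentation τ := ⟨(LinearMap.ker a').map a, by
    rintro γ t ⟨v, hv, rfl⟩
    refine ⟨ρ γ v, ?_, LinearMap.congr_fun (ha γ) v⟩
    rw [SetLike.mem_coe, LinearMap.mem_ker] at hv ⊢
    have := LinearMap.congr_fun (ha' γ) v
    simp only [LinearMap.comp_apply] at this
    rw [this, hv, map_zero]⟩
  have hStop : S = ⊤ := by
    rcases eq_bot_or_eq_top S with h | h
    · exfalso
      apply hv0
      have h1 : a v0 ∈ S.toSubmodule := ⟨v0, hv0', rfl⟩
      rw [h] at h1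
      exact (Submodule.mem_bot k).1 h1
    · exact h
  have hA : W ⊓ LinearMap.ker a ≤ N :=
    hmin _ (stable_inf_ker ρ τ a ha W hWs) inf_le_left (inf_ker_ne W W' hcompl a hk h0)
  have hA' : W ⊓ LinearMap.ker a' ≤ N :=
    hmin _ (stable_inf_ker ρ τ' a' ha' W hWs) inf_le_left (inf_ker_ne W W' hcompl a' hk' h0')
  apply hWN
  intro w hw
  have h1 : a w ∈ S.toSubmodule := by rw [hStop]; exact Submodule.mem_top
  obtain ⟨v, hv, hvw⟩ := h1
  rw [SetLike.mem_coe, LinearMap.mem_ker] at hv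
  have hvtop : v ∈ W ⊔ W' := by rw [hcompl.sup_eq_top]; exact Submodule.mem_top
  obtain ⟨p, hp, q, hq, rfl⟩ := Submodule.mem_sup.1 hvtop
  have hq' : a' q = 0 := LinearMap.mem_ker.1 (hk' hq)
  have hqa : a q = 0 := LinearMap.mem_ker.1 (hk hq)
  have hp' : a' p = 0 := by
    rw [map_add, hq', add_zero] at hv
    exact hv
  have hwp : a (w - p) = 0 := by
    rw [map_sub, ← hvw, map_add, hqa, add_zero, sub_self]
  have e : w = (w - p) + p := by abel
  rw [e]
  exact N.add_mem (hA ⟨W.sub_mem hw hp, LinearMap.mem_ker.2 hwp⟩) (hA' ⟨hp, LinearMap.mem_ker.2 hp'⟩)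

/-- **Uniqueness of the top.** -/
theorem nonempty_equiv_of_top {T T' : Type*} [AddCommGroup T] [Module k T] [AddCommGroup T']
    [Module k T'] (ρ : Representation k Γ V) (W W' N : Submodule k V) (hWs : Stable ρ W)
    (hcompl : IsCompl W W')
    (hmin : ∀ A : Submodule k V, Stable ρ A → A ≤ W → A ≠ W → A ≤ N) (hWN : ¬ W ≤ N)
    (τ : Representation k Γ T) (τ' : Representation k Γ T') (hτ : τ.IsIrreducible)
    (hτ' : τ'.IsIrreducible)
    (a : V →ₗ[k] T) (a' : V →ₗ[k] T') (ha : ∀ γ, a ∘ₗ ρ γ = τ γ ∘ₗ a)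
    (ha' : ∀ γ, a' ∘ₗ ρ γ = τ' γ ∘ₗ a') (hk : W' ≤ LinearMap.ker a) (hk' : W' ≤ LinearMap.ker a')
    (h0 : a ≠ 0) (h0' : a' ≠ 0) : Nonempty (τ.Equiv τ') := by
  have hker : LinearMap.ker a = LinearMap.ker a' :=
    le_antisymm
      (ker_le_ker_of_top ρ W W' N hWs hcompl hmin hWN τ' τ hτ' a' a ha' ha hk' hk h0' h0)
      (ker_le_ker_of_top ρ W W' N hWs hcompl hmin hWN τ τ' hτ a a' ha ha' hk hk' h0 h0')
  have hs : Function.Surjective a := surjective_of_irreducible ρ τ hτ a ha h0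
  have hs' : Function.Surjective a' := surjective_of_irreducible ρ τ' hτ' a' ha' h0'
  let e : T ≃ₗ[k] T' := (LinearMap.quotKerEquivOfSurjective a hs).symm ≪≫ₗ
    (Submodule.quotEquivOfEq _ _ hker) ≪≫ₗ (LinearMap.quotKerEquivOfSurjective a' hs')
  have he : ∀ v : V, e (a v) = a' v := by
    intro v
    have h1 : (LinearMap.quotKerEquivOfSurjective a hs).symm (a v) =
        Submodule.Quotient.mk v := by
      rw [LinearEquiv.symm_apply_eq, LinearMap.quotKerEquivOfSurjective_apply_mk]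
    show (LinearMap.quotKerEquivOfSurjective a' hs') ((Submodule.quotEquivOfEq _ _ hker)
      ((LinearMap.quotKerEquivOfSurjective a hs).symm (a v))) = a' v
    rw [h1, Submodule.quotEquivOfEq_mk, LinearMap.quotKerEquivOfSurjective_apply_mk]
  refine ⟨Representation.Equiv.mk e ?_⟩
  intro γ
  ext t
  obtain ⟨v, rfl⟩ := hs t
  have h1 := LinearMap.congr_fun (ha γ) v
  have h2 := LinearMap.congr_fun (ha' γ) v
  simp only [LinearMap.comp_apply] at h1 h2
  simp only [LinearMap.comp_apply, LinearEquiv.coe_coe]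
  rw [← h1, he, he, h2]

end Top

end Cfsg.Agent.Helper89.DefOneSplit
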