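-- helper89: piece (M-F) SPLIT of board post #5001 (for helper16, defect-one engine), part B:
-- a group with a normal subgroup `P` of order `p = char k` and index prime to `p`: every nonzero
-- representation has a stable direct summand with a unique (simple) top.
import Mathlib
import Cfsg.Agent.Helper89.DefOneSplitA

set_option autoImplicit false

namespace Cfsg.Agent.Helper89.DefOneSplit

universe u v w

open Finset

section Relations

variable {k : Type v} [Field k] {Γ : Type u} [Group Γ] {V : Type w} [AddCommGroup V] [Module k V]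
  (ρ : Representation k Γ V) (x : Γ)

/-- the geometric sums `1 + ρ x + ... + (ρ x)^(i-1)` -/
def gsum (i : ℕ) : Module.End k V := ∑ j ∈ range i, (ρ x) ^ j

theorem commute_gsum (i : ℕ) : Commute (gsum ρ x i) (ρ x - 1) := by
  unfold gsum
  refine Commute.sum_left _ _ _ fun j _ => ?_
  exact ((Commute.refl (ρ x)).pow_left j).sub_right (Commute.one_right _)

theorem rho_pow_sub_one (i : ℕ) : ρ (x ^ i) - 1 = (ρ x - 1) * gsum ρ x i := by
  rw [map_pow, gsum, mul_geom_sum]

theorem gsum_mem (W : Submodule k V) (hW : Stable ρ W) (i : ℕ) {w : V} (hw : w ∈ W) :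
    gsum ρ x i w ∈ W := by
  unfold gsum
  rw [LinearMap.sum_apply]
  refine Submodule.sum_mem _ fun j _ => ?_
  rw [← map_pow]
  exact hW.mem _ hw

/-- conjugation relation: if `γ x γ⁻¹ = x^i` then `ρ γ (ρ x - 1) = (ρ x - 1) (G_i ρ γ)` -/
theorem rel_left (γ : Γ) (i : ℕ) (h : γ * x * γ⁻¹ = x ^ i) :
    ρ γ * (ρ x - 1) = (ρ x - 1) * (gsum ρ x i * ρ γ) := by
  have h1 : γ * x = x ^ i * γ := by rw [← h]; group
  rw [← mul_assoc, ← rho_pow_sub_one, mul_sub, sub_mul, mul_one, one_mul, ← map_mul, ← map_mul, h1]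

/-- the other conjugation relation: if `γ⁻¹ x γ = x^i` then `(ρ x - 1) ρ γ = ρ γ (G_i (ρ x - 1))` -/
theorem rel_right (γ : Γ) (i : ℕ) (h : γ⁻¹ * x * γ = x ^ i) :
    (ρ x - 1) * ρ γ = ρ γ * (gsum ρ x i * (ρ x - 1)) := by
  have h1 : x * γ = γ * x ^ i := by rw [← h]; group
  rw [(commute_gsum ρ x i).eq, ← rho_pow_sub_one, mul_sub, sub_mul, mul_one, one_mul, ← map_mul,
    ← map_mul, h1]

theorem rel_right_pow (γ : Γ) (i : ℕ) (h : γ⁻¹ * x * γ = x ^ i) (m : ℕ) :
    (ρ x - 1) ^ m * ρ γ = ρ γ * ((gsum ρ x i) ^ m * (ρ x - 1) ^ m) := by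
  rw [← (commute_gsum ρ x i).mul_pow]
  induction m with
  | zero => simp
  | succ m ih =>
    rw [pow_succ', mul_assoc, ih, ← mul_assoc, rel_right ρ x γ i h, mul_assoc, ← pow_succ']

end Relations

section Main

variable {k : Type v} [Field k] {Γ : Type u} [Group Γ]

theorem exists_summand_simple_top [Fintype Γ] (p : ℕ) [Fact p.Prime] [CharP k p]
    (P : Subgroup Γ) [P.Normal] (hP : Nat.card P = p) (hidx : ¬ p ∣ P.index)
    {V : Type*} [AddCommGroup V] [Module k V] [FiniteDimensional k V] [Nontrivial V]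
    (ρ : Representation k Γ V) :
    ∃ W W' : Submodule k V, (∀ γ, W ≤ W.comap (ρ γ)) ∧ (∀ γ, W' ≤ W'.comap (ρ γ)) ∧
      IsCompl W W' ∧ W ≠ ⊥ ∧
      ∀ {T T' : Type u} [AddCommGroup T] [Module k T] [AddCommGroup T'] [Module k T']
        (τ : Representation k Γ T) (τ' : Representation k Γ T'), τ.IsIrreducible →
        τ'.IsIrreducible → (∀ x ∈ P, τ x = 1) → (∀ x ∈ P, τ' x = 1) →
        ∀ (a : V →ₗ[k] T) (a' : V →ₗ[k] T'), (∀ γ, a ∘ₗ ρ γ = τ γ ∘ₗ a) →
        (∀ γ, a' ∘ₗ ρ γ = τ' γ ∘ₗ a') → W' ≤ LinearMap.ker a → W' ≤ LinearMap.ker a' →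
        a ≠ 0 → a' ≠ 0 → Nonempty (τ.Equiv τ') := by
  classical
  have hp : p.Prime := Fact.out
  -- a generator of `P`
  have hPfin : Finite ↥P := inferInstance
  have hcyc : IsCyclic ↥P := isCyclic_of_prime_card hP
  obtain ⟨x0, hx0⟩ := IsCyclic.exists_monoid_generator (α := ↥P)
  set x : Γ := (x0 : Γ) with hxdef
  have hgen : ∀ y ∈ P, ∃ i : ℕ, y = x ^ i := by
    intro y hy
    obtain ⟨i, hi⟩ := Submonoid.mem_powers_iff _ _ |>.1 (hx0 ⟨y, hy⟩)
    refine ⟨i, ?_⟩
    have := congrArg (Subtype.val) hi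
    simpa using this.symm
  have hconj : ∀ γ : Γ, ∃ i : ℕ, γ * x * γ⁻¹ = x ^ i := fun γ =>
    hgen _ (Subgroup.Normal.conj_mem inferInstance x x0.2 γ)
  have hconj' : ∀ γ : Γ, ∃ i : ℕ, γ⁻¹ * x * γ = x ^ i := by
    intro γ
    obtain ⟨i, hi⟩ := hconj γ⁻¹
    exact ⟨i, by rw [← hi, inv_inv]⟩
  have hidxk : ((P.index : ℕ) : k) ≠ 0 := by
    rw [Ne, CharP.cast_eq_zero_iff k p]
    exact hidx
  -- the nilpotent operator
  set z : Module.End k V := ρ x - 1 with hz
  have hzp : z ^ p = 0 := by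
    have : CharP (Module.End k V) p :=
      charP_of_injective_algebraMap (algebraMap k (Module.End k V)).injective p
    have hxp : x ^ p = 1 := by
      have h1 : x0 ^ p = 1 := by rw [← hP]; exact pow_card_eq_one'
      have := congrArg (Subtype.val) h1
      simpa using this
    rw [hz, sub_pow_char_of_commute _ (Commute.one_right _), one_pow, ← map_pow, hxp, map_one,
      sub_self]
  have hex : ∃ n : ℕ, z ^ n = 0 := ⟨p, hzp⟩
  set n := Nat.find hex with hn
  have hzn : z ^ n = 0 := Nat.find_spec hex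
  have hn0 : 0 < n := by
    rcases Nat.eq_zero_or_pos n with h | h
    · exfalso
      rw [h, pow_zero] at hzn
      exact one_ne_zero hzn
    · exact h
  have hzn1 : z ^ (n - 1) ≠ 0 := Nat.find_min hex (Nat.sub_lt hn0 Nat.one_pos)
  -- stability of kernels
  have hkerstab : ∀ m : ℕ, Stable ρ (LinearMap.ker (z ^ m)) := by
    intro m γ v hv
    rw [Submodule.mem_comap, LinearMap.mem_ker]
    rw [LinearMap.mem_ker] at hv
    obtain ⟨i, hi⟩ := hconj' γ
    have h1 := rel_right_pow ρ x γ i hi m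
    have h2 := LinearMap.congr_fun h1 v
    simp only [Module.End.mul_apply] at h2
    rw [← hz] at h2
    rw [h2, hv, map_zero, map_zero]
  set N : Submodule k V := LinearMap.ker (z ^ (n - 1)) with hN
  have hNstab : Stable ρ N := hkerstab (n - 1)
  -- the minimal stable subspace not inside `N`
  have hart : IsArtinian k V := inferInstance
  obtain ⟨W, ⟨hWs, hWN⟩, hWmin⟩ := set_has_minimal_iff_artinian.2 hart
    {X : Submodule k V | Stable ρ X ∧ ¬ X ≤ N}
    ⟨⊤, by
      refine ⟨fun γ v _ => Submodule.mem_top, ?_⟩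
      intro hle
      apply hzn1
      ext v
      exact LinearMap.mem_ker.1 (hle Submodule.mem_top)⟩
  have hmin : ∀ A : Submodule k V, Stable ρ A → A ≤ W → A ≠ W → A ≤ N := by
    intro A hA hAW hne
    by_contra hAN
    exact hWmin A ⟨hA, hAN⟩ (lt_of_le_of_ne hAW hne)
  have hWz : ∀ w ∈ W, z w ∈ W := by
    intro w hw
    rw [hz, LinearMap.sub_apply, Module.End.one_apply]
    exact W.sub_mem (hWs.mem x hw) hw
  -- `U = z W` is stable and `P` acts trivially on `W` modulo `U`
  set U : Submodule k V := W.map z with hU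
  have hUstab : Stable ρ U := by
    rintro γ _ ⟨w, hw, rfl⟩
    obtain ⟨i, hi⟩ := hconj γ
    have h1 := LinearMap.congr_fun (rel_left ρ x γ i hi) w
    simp only [Module.End.mul_apply] at h1
    rw [← hz] at h1
    rw [Submodule.mem_comap, h1]
    exact ⟨_, gsum_mem ρ x W hWs i (hWs.mem γ hw), rfl⟩
  have hPU : ∀ y ∈ P, ∀ w ∈ W, ρ y w - w ∈ U := by
    intro y hy w hw
    obtain ⟨i, rfl⟩ := hgen y hy
    have h1 := LinearMap.congr_fun (rho_pow_sub_one ρ x i) w
    simp only [Module.End.mul_apply, LinearMap.sub_apply, Module.End.one_apply] at h1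
    rw [h1]
    exact ⟨_, gsum_mem ρ x W hWs i hw, by rw [hz, LinearMap.sub_apply, Module.End.one_apply]⟩
  have hnn : n - 1 + 1 = n := Nat.sub_add_cancel hn0
  have hUN : U ≤ N := by
    rintro _ ⟨w, -, rfl⟩
    rw [hN, LinearMap.mem_ker, ← Module.End.mul_apply, ← pow_succ, hnn, hzn, LinearMap.zero_apply]
  have hUW : U ≤ W := by
    rintro _ ⟨w, hw, rfl⟩
    exact hWz w hw
  -- `W ⊓ N = z W`
  have hBU : W ⊓ N = U := by
    have hBstab : Stable ρ (W ⊓ N) := by
      intro γ v hv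
      exact ⟨hWs.mem γ hv.1, hNstab.mem γ hv.2⟩
    obtain ⟨B', hB'⟩ := Submodule.exists_isCompl (W ⊓ N)
    set π₀ : V →ₗ[k] V := (W ⊓ N).projection B' hB' with hπ₀
    have hπB : ∀ v, π₀ v ∈ W ⊓ N := fun v => Submodule.projection_apply_mem hB' v
    have hπid : ∀ b ∈ W ⊓ N, π₀ b = b := fun b hb => Submodule.projection_apply_of_mem_left hB' hb
    obtain ⟨A, hAs, hUA, hAW, hsup, hinf⟩ := exists_stable_compl_mod ρ P hidxk U (W ⊓ N) W hUstab
      hBstab hWs (le_inf hUW hUN) inf_le_left π₀ hπB hπid (by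
        intro y hy w hw
        have hb : π₀ w ∈ W := (hπB w).1
        have hu : ρ y w - w ∈ U := hPU y hy w hw
        have hu' : ρ y (π₀ w) - π₀ w ∈ U := hPU y hy _ hb
        have e1 : π₀ (ρ y w) = π₀ w + (ρ y w - w) := by
          have : ρ y w = w + (ρ y w - w) := by abel
          rw [this, map_add, hπid _ (le_inf hUW hUN hu)]
          congr 1
          abel
        rw [e1]
        have : ρ y (π₀ w) - (π₀ w + (ρ y w - w)) = (ρ y (π₀ w) - π₀ w) - (ρ y w - w) := by abel
        rw [this]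
        exact U.sub_mem hu' hu)
    by_cases hAeq : A = W
    · rw [← hinf, hAeq, inf_eq_right.2 inf_le_left]
    · exfalso
      have hAN : A ≤ N := hmin A hAs hAW hAeq
      apply hWN
      rw [← hsup]
      exact sup_le hAN inf_le_right
  have hstar : ∀ w ∈ W, (z ^ (n - 1)) w = 0 → ∃ w₁ ∈ W, w = z w₁ := by
    intro w hw hzw
    have : w ∈ U := by
      rw [← hBU]
      exact ⟨hw, LinearMap.mem_ker.2 hzw⟩
    obtain ⟨w₁, hw₁, h⟩ := this
    exact ⟨w₁, hw₁, h.symm⟩
  -- a `z`-stable complement and the projection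
  obtain ⟨C, hCz, hWC⟩ := exists_compl_of_nilpotent z n hn0 hzn W hWz hstar
  set π₁ : V →ₗ[k] V := W.projection C hWC with hπ₁
  have hπ₁W : ∀ v, π₁ v ∈ W := fun v => Submodule.projection_apply_mem hWC v
  have hπ₁id : ∀ b ∈ W, π₁ b = b := fun b hb => Submodule.projection_apply_of_mem_left hWC hb
  have hπ₁z : Commute π₁ z := by
    ext v
    have hvtop : v ∈ W ⊔ C := by rw [hWC.sup_eq_top]; exact Submodule.mem_top
    obtain ⟨w, hw, c, hc, rfl⟩ := Submodule.mem_sup.1 hvtop
    simp only [Module.End.mul_apply, map_add]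
    rw [hπ₁id _ (hWz w hw), hπ₁id w hw,
      Submodule.projection_apply_of_mem_right hWC (hCz c hc),
      Submodule.projection_apply_of_mem_right hWC hc, map_zero]
  have hπ₁P : ∀ y ∈ P, ∀ v : V, ρ y (π₁ v) - π₁ (ρ y v) = 0 := by
    intro y hy v
    obtain ⟨i, rfl⟩ := hgen y hy
    have hc1 : Commute π₁ (ρ x) := by
      have : ρ x = z + 1 := by rw [hz]; abel
      rw [this]
      exact hπ₁z.add_right (Commute.one_right _)
    have hc2 : Commute π₁ (ρ (x ^ i)) := by
      rw [map_pow]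
      exact hc1.pow_right i
    have := LinearMap.congr_fun hc2.eq v
    simp only [Module.End.mul_apply] at this
    rw [this, sub_self]
  obtain ⟨W', hW's, -, -, hsup', hinf'⟩ := exists_stable_compl_mod ρ P hidxk ⊥ W ⊤
    (fun γ v hv => by
      rw [Submodule.mem_bot] at hv
      rw [Submodule.mem_comap, hv, map_zero]
      exact Submodule.zero_mem _)
    hWs (fun γ v _ => Submodule.mem_top) bot_le le_top π₁ hπ₁W hπ₁id (by
      intro y hy v _
      rw [hπ₁P y hy v]
      exact Submodule.zero_mem _)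
  have hcompl : IsCompl W W' := by
    constructor
    · rw [disjoint_iff, inf_comm]; exact hinf'
    · rw [codisjoint_iff, sup_comm]; exact hsup'
  refine ⟨W, W', hWs, hW's, hcompl, ?_, ?_⟩
  · intro hbot
    apply hWN
    rw [hbot]
    exact bot_le
  · intro T T' _ _ _ _ τ τ' hτ hτ' _ _ a a' ha ha' hk hk' h0 h0'
    exact nonempty_equiv_of_top ρ W W' N hWs hcompl hmin hWN τ τ' hτ hτ' a a' ha ha' hk hk' h0 h0'

end Main

end Cfsg.Agent.Helper89.DefOneSplit
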