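import Mathlib
import Cfsg.Prelude.Def_Solvable
import Cfsg.Agent.S0039

/-!
# (GC) of helper10's S3999 plan (#6179)

A normal Hall subgroup `N` such that no element has order `p q` (`p ∣ |N|`, `q ∣ [X:N]`) is a
Frobenius kernel: its Schur–Zassenhaus complement is a Frobenius complement.
-/

set_option autoImplicit false

namespace Cfsg.Agent.Helper89.FrobOT

open Cfsg

universe u

variable {X : Type u} [Group X] [Finite X]

/-- (GC) a normal Hall subgroup `N` such that no element has order `p q` (`p ∣ |N|`,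
`q ∣ [X:N]`) is a Frobenius kernel -/
theorem exists_frobenius_complement_of_no_mixed (N : Subgroup X) [N.Normal]
    (hN1 : 1 < Nat.card N) (hi1 : 1 < N.index) (hcop : (Nat.card N).Coprime N.index)
    (hmix : ∀ p q : ℕ, p.Prime → q.Prime → p ∣ Nat.card N → q ∣ N.index →
      ∀ x : X, orderOf x ≠ p * q) :
    ∃ C : Subgroup X, IsFrobeniusComplement C := by
  classical
  obtain ⟨C, hc⟩ := Subgroup.exists_right_complement'_of_coprime hcop
  have hcardC : Nat.card C = N.index := by
    have h1 := hc.card_mul_card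
    have h2 := N.card_mul_index
    have hpos : 0 < Nat.card N := Nat.card_pos
    exact Nat.eq_of_mul_eq_mul_left hpos (h1.trans h2.symm)
  have hNbot : N ≠ ⊥ := by
    intro h
    rw [h, Subgroup.card_bot] at hN1
    exact lt_irrefl _ hN1
  have hCbot : C ≠ ⊥ := by
    intro h
    rw [h, Subgroup.card_bot] at hcardC
    omega
  refine ⟨C, (Cfsg.Agent.S0039.result N C hc hNbot hCbot).2 ?_⟩
  intro h hhC hh1
  rw [eq_bot_iff]
  rintro k ⟨hkN, hkC⟩
  rw [Subgroup.mem_bot]
  by_contra hk1
  have hcomm : Commute k h := by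
    have := (Subgroup.mem_centralizer_iff.mp hkC) h (Set.mem_singleton h)
    exact this.symm
  -- orders
  have hok : orderOf k ∣ Nat.card N := by
    have : orderOf (⟨k, hkN⟩ : N) ∣ Nat.card N := orderOf_dvd_natCard _
    rwa [Subgroup.orderOf_mk] at this
  have hoh : orderOf h ∣ N.index := by
    have : orderOf (⟨h, hhC⟩ : C) ∣ Nat.card C := orderOf_dvd_natCard _
    rwa [Subgroup.orderOf_mk, hcardC] at this
  have hok1 : orderOf k ≠ 1 := fun e => hk1 (orderOf_eq_one_iff.mp e)
  have hoh1 : orderOf h ≠ 1 := fun e => hh1 (orderOf_eq_one_iff.mp e)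
  obtain ⟨p, hp, hpk⟩ := Nat.exists_prime_and_dvd hok1
  obtain ⟨q, hq, hqh⟩ := Nat.exists_prime_and_dvd hoh1
  have hk0 : orderOf k ≠ 0 := (orderOf_pos k).ne'
  have hh0 : orderOf h ≠ 0 := (orderOf_pos h).ne'
  have e1 : orderOf (k ^ (orderOf k / p)) = p := orderOf_pow_orderOf_div hk0 hpk
  have e2 : orderOf (h ^ (orderOf h / q)) = q := orderOf_pow_orderOf_div hh0 hqh
  have hpN : p ∣ Nat.card N := hpk.trans hok
  have hqI : q ∣ N.index := hqh.trans hoh
  have hpq : p.Coprime q := Nat.Coprime.coprime_dvd_left hpN (Nat.Coprime.coprime_dvd_right hqI hcop)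
  have hcomm' : Commute (k ^ (orderOf k / p)) (h ^ (orderOf h / q)) := hcomm.pow_pow _ _
  have e3 : orderOf (k ^ (orderOf k / p) * h ^ (orderOf h / q)) = p * q := by
    rw [hcomm'.orderOf_mul_eq_mul_orderOf_of_coprime (by rw [e1, e2]; exact hpq), e1, e2]
  exact hmix p q hp hq hpN hqI _ e3

end Cfsg.Agent.Helper89.FrobOT
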