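import Mathlib
import Cfsg.Prelude.Def_Solvable
import Cfsg.Agent.S4345

/-!
# (ZC) of helper10's S3999 plan (#6179)

If `5 ∥ |X|` and `X` has exactly `24 ν` elements of order `5` with `ν` odd, then `X` is not
solvable: `n_5 = 6 ν`, and Hall's condition `2 ^ (v_2 n_5) ≡ 1 (mod 5)` fails.
-/

set_option autoImplicit false

namespace Cfsg.Agent.Helper89.FrobOT

open Cfsg

universe u

variable {X : Type u} [Group X] [Finite X]

/-- when `5 ∥ |X|`, the elements of order `5` are in bijection with pairs (Sylow `5`-subgroup,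
nonidentity element) -/
theorem card_orderOf_five_eq (h5 : (Nat.card X).factorization 5 = 1) :
    Nat.card {x : X // orderOf x = 5} = 4 * Nat.card (Sylow 5 X) := by
  classical
  haveI : Fact (Nat.Prime 5) := ⟨by norm_num⟩
  have hcardP : ∀ P : Sylow 5 X, Nat.card P = 5 := by
    intro P
    rw [P.card_eq_multiplicity, h5, pow_one]
  -- the equivalence
  have hord : ∀ (P : Sylow 5 X) (x : X), x ∈ (P : Subgroup X) → x ≠ 1 → orderOf x = 5 := by
    intro P x hx hx1
    have hd : orderOf (⟨x, hx⟩ : (P : Subgroup X)) ∣ 5 := by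
      have := orderOf_dvd_natCard (⟨x, hx⟩ : (P : Subgroup X))
      rwa [hcardP P] at this
    rw [Subgroup.orderOf_mk] at hd
    rcases (Nat.dvd_prime (by norm_num : Nat.Prime 5)).mp hd with h | h
    · exact absurd (orderOf_eq_one_iff.mp h) hx1
    · exact h
  have hzp : ∀ (P : Sylow 5 X) (x : X), x ∈ (P : Subgroup X) → orderOf x = 5 →
      (P : Subgroup X) = Subgroup.zpowers x := by
    intro P x hx hox
    symm
    apply Subgroup.eq_of_le_of_card_ge ((Subgroup.zpowers_le).mpr hx)
    rw [Nat.card_zpowers, hox, hcardP P]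
  let f : (Σ P : Sylow 5 X, {x : (P : Subgroup X) // x ≠ 1}) → {x : X // orderOf x = 5} :=
    fun s => ⟨(s.2.1 : X), hord s.1 _ s.2.1.2 (fun h => s.2.2 (Subtype.ext h))⟩
  have hfinj : Function.Injective f := by
    rintro ⟨P, ⟨⟨x, hx⟩, hx1⟩⟩ ⟨Q, ⟨⟨y, hy⟩, hy1⟩⟩ hxy
    have hxy' : x = y := congrArg Subtype.val hxy
    subst hxy'
    have hox : orderOf x = 5 := hord P x hx (fun h => hx1 (Subtype.ext h))
    have hPQ : P = Q := Sylow.ext ((hzp P x hx hox).trans (hzp Q x hy hox).symm)
    subst hPQ
    rfl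
  have hfsurj : Function.Surjective f := by
    rintro ⟨x, hox⟩
    have hpg : IsPGroup 5 (Subgroup.zpowers x) := by
      apply IsPGroup.of_card (n := 1)
      rw [Nat.card_zpowers, hox, pow_one]
    obtain ⟨P, hP⟩ := hpg.exists_le_sylow
    have hxP : x ∈ (P : Subgroup X) := hP (Subgroup.mem_zpowers x)
    have hx1 : x ≠ 1 := by
      intro h
      rw [h, orderOf_one] at hox
      norm_num at hox
    exact ⟨⟨P, ⟨⟨x, hxP⟩, fun h => hx1 (congrArg Subtype.val h)⟩⟩, rfl⟩
  have hcard := Nat.card_congr (Equiv.ofBijective f ⟨hfinj, hfsurj⟩)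
  rw [← hcard]
  haveI : Fintype (Sylow 5 X) := Fintype.ofFinite _
  rw [Nat.card_sigma]
  have hfib : ∀ P : Sylow 5 X, Nat.card {x : (P : Subgroup X) // x ≠ 1} = 4 := by
    intro P
    haveI : Fintype (P : Subgroup X) := Fintype.ofFinite _
    rw [Nat.card_eq_fintype_card, Fintype.card_subtype_compl, Fintype.card_subtype_eq,
      ← Nat.card_eq_fintype_card, hcardP P]
  simp only [hfib, Finset.sum_const, Finset.card_univ, smul_eq_mul, Nat.card_eq_fintype_card]
  ring

/-- (ZC) Hall's condition on Sylow numbers fails -/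
theorem not_isSolvable_of_card_orderOf_five (h5 : (Nat.card X).factorization 5 = 1) (ν : ℕ)
    (hν : Odd ν) (hcount : Nat.card {x : X // orderOf x = 5} = 24 * ν) :
    ¬ Group.IsSolvable X := by
  intro hsol
  haveI : Fact (Nat.Prime 5) := ⟨by norm_num⟩
  have h1 := card_orderOf_five_eq (X := X) h5
  have hn5 : Nat.card (Sylow 5 X) = 6 * ν := by omega
  have hhall := Cfsg.Agent.S4345.result hsol 5 2 Nat.prime_two
  rw [hn5] at hhall
  have hν0 : ν ≠ 0 := by
    rintro rfl
    exact absurd hν (by decide)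
  have hv2 : (6 * ν).factorization 2 = 1 := by
    rw [Nat.factorization_mul (by norm_num) hν0]
    have h6 : (6 : ℕ).factorization 2 = 1 := by
      have : (6 : ℕ) = 2 * 3 := by norm_num
      rw [this, Nat.factorization_mul (by norm_num) (by norm_num)]
      simp [Nat.Prime.factorization Nat.prime_two, Nat.Prime.factorization Nat.prime_three]
    have hνf : ν.factorization 2 = 0 := by
      apply Nat.factorization_eq_zero_of_not_dvd
      exact hν.not_two_dvd_nat
    simp [h6, hνf]
  rw [hv2] at hhall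
  exact absurd hhall (by decide)

end Cfsg.Agent.Helper89.FrobOT
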