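import Mathlib
import Cfsg.Prelude.Def_SporadicB

/-!
# Vocabulary for S5559 (3-transposition groups `H = O_{2,3,2}(H)` with `F*(H) = O_2(H)`)

`K = P⟨d⟩`, `P` a normal 3-subgroup of index 2, `d` an involution; `Inv P d` is the set of elements of
`P` inverted by `d`.  `Setup P d` records what a class of 3-transpositions without commuting pairs gives.
-/

set_option autoImplicit false

namespace Cfsg.Agent.Helper89.TT59

variable {K : Type*} [Group K]

/-- the elements of the subgroup `P` inverted by the involution `d` -/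
def Inv (P : Subgroup K) (d : K) : Set K := {s | s ∈ P ∧ d * s * d = s⁻¹}

theorem mem_Inv {P : Subgroup K} {d s : K} : s ∈ Inv P d ↔ s ∈ P ∧ d * s * d = s⁻¹ := Iff.rfl

theorem one_mem_Inv (P : Subgroup K) {d : K} (hd : d * d = 1) : (1 : K) ∈ Inv P d :=
  ⟨P.one_mem, by rw [mul_one, hd, inv_one]⟩

/-- `K = P⟨d⟩` with `P` a normal 3-subgroup of index 2 generated by the elements inverted by the
involution `d`, and `(s⁻¹ t)³ = 1` for all inverted `s, t` (this is the 3-transposition property of
the class `d (Inv P d)` of `d`). -/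
structure Setup (P : Subgroup K) (d : K) : Prop where
  normal : P.Normal
  p3 : IsPGroup 3 P
  dd : d * d = 1
  dP : d ∉ P
  top : ∀ k : K, k ∈ P ∨ d * k ∈ P
  gen : Subgroup.closure (Inv P d) = P
  cube : ∀ s ∈ Inv P d, ∀ t ∈ Inv P d, (s⁻¹ * t) ^ 3 = 1

theorem Setup.pow_three {P : Subgroup K} {d : K} (hS : Setup P d) {t : K} (ht : t ∈ Inv P d) :
    t ^ 3 = 1 := by
  have := hS.cube 1 (one_mem_Inv P hS.dd) t ht
  rwa [inv_one, one_mul] at this

end Cfsg.Agent.Helper89.TT59
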