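import Mathlib

/-!
# (M1) for S5559: an elementary abelian 2-group acted on by two commuting automorphisms of order
dividing 3 is generated by the fixed points of the four cyclic subgroups
-/

set_option autoImplicit false

namespace Cfsg.Agent.Helper89.TT59

/-- the norm `w · γ w · γ² w` -/
def nrm {W : Type*} [Group W] (γ : MulAut W) (w : W) : W := w * γ w * γ (γ w)

theorem nrm_fixed {W : Type*} [Group W] (hWc : ∀ a b : W, a * b = b * a) (γ : MulAut W)
    (hγ : γ ^ 3 = 1) (w : W) : γ (nrm γ w) = nrm γ w := by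
  have h3 : γ (γ (γ w)) = w := by
    have := congrArg (fun f : MulAut W => f w) hγ
    simpa [pow_succ, MulAut.mul_apply] using this
  unfold nrm
  rw [map_mul, map_mul, h3, hWc (γ w * γ (γ w)) w, mul_assoc]

/-- (M1) -/
theorem gen_of_commuting_cubes {W : Type*} [Group W] (hWc : ∀ a b : W, a * b = b * a)
    (hW2 : ∀ w : W, w * w = 1) (α β : MulAut W) (hαβ : α * β = β * α) (hα : α ^ 3 = 1)
    (hβ : β ^ 3 = 1) (w : W) :
    ∃ w1 w2 w3 w4 : W, α w1 = w1 ∧ β w2 = w2 ∧ (α * β) w3 = w3 ∧ (α⁻¹ * β) w4 = w4 ∧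
      w = w1 * w2 * w3 * w4 := by
  let _ : CommGroup W := { (inferInstance : Group W) with mul_comm := hWc }
  have hab : ∀ v : W, α (β v) = β (α v) := by
    intro v
    have := congrArg (fun f : MulAut W => f v) hαβ
    simpa [MulAut.mul_apply] using this
  have ha3 : ∀ v : W, α (α (α v)) = v := by
    intro v
    have := congrArg (fun f : MulAut W => f v) hα
    simpa [pow_succ, MulAut.mul_apply] using this
  have hb3 : ∀ v : W, β (β (β v)) = v := by
    intro v
    have := congrArg (fun f : MulAut W => f v) hβ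
    simpa [pow_succ, MulAut.mul_apply] using this
  have hainv : ∀ v : W, α⁻¹ v = α (α v) := by
    intro v
    rw [MulAut.inv_apply, MulEquiv.symm_apply_eq, ha3]
  have hαβ3 : (α * β) ^ 3 = 1 := by
    rw [(Commute.mul_pow (show Commute α β from hαβ) 3), hα, hβ, one_mul]
  have hαiβ3 : (α⁻¹ * β) ^ 3 = 1 := by
    have hc : Commute α⁻¹ β := (show Commute α β from hαβ).inv_left
    rw [hc.mul_pow 3, inv_pow, hα, hβ, inv_one, one_mul]
  -- the total norm
  set nA : W := nrm α (nrm β w) with hnA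
  have hnA_fixed : α nA = nA := nrm_fixed hWc α hα _
  refine ⟨nrm α w * nA, nrm β w, nrm (α * β) w, nrm (α⁻¹ * β) w, ?_, nrm_fixed hWc β hβ w,
    nrm_fixed hWc (α * β) hαβ3 w, nrm_fixed hWc (α⁻¹ * β) hαiβ3 w, ?_⟩
  · rw [map_mul, nrm_fixed hWc α hα, hnA_fixed]
  · -- the identity
    rw [hnA]
    simp only [nrm, MulAut.mul_apply, hainv, map_mul, hab, ha3]
    have c1 : ∀ a b : W, a * (a * b) = b := fun a b => by rw [← mul_assoc, hW2, one_mul]
    simp only [mul_assoc, mul_left_comm, mul_comm, c1, hW2, mul_one, one_mul]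

end Cfsg.Agent.Helper89.TT59
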