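import Mathlib
import Cfsg.Prelude.Def_Characters
import Cfsg.Agent.Helper15.IndChar

/-!
# (D) of helper61's S4707 plan (#6269): the sum of a character over a subgroup is a multiple of
the order of the subgroup
-/

set_option autoImplicit false

namespace Cfsg.Agent.Helper89.TwoP

open Cfsg
open scoped ComplexConjugate

variable {G : Type*} [Group G] [Fintype G]

/-- (D) the sum of a character over a subgroup is a multiple of the order. -/
theorem exists_nat_sum_subgroup (H : Subgroup G) [Fintype H] {χ : G → ℂ} (hχ : IsCharacter G χ) :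
    ∃ m : ℕ, ∑ x : H, χ (x : G) = (m : ℂ) * (Nat.card H : ℂ) := by
  have h1 : IsCharacter H (fun h : H => χ h) := Cfsg.Agent.Helper74.isCharacter_restrict H hχ
  have h2 : IsCharacter H (fun _ : H => (1 : ℂ)) := Cfsg.Agent.Helper74.isCharacter_one
  obtain ⟨m, hm⟩ := Cfsg.Agent.Helper15.isCharacter_inner_nat h1 h2
  refine ⟨m, ?_⟩
  have hpos : (Nat.card H : ℂ) ≠ 0 := by
    have : 0 < Nat.card H := Nat.card_pos
    exact_mod_cast this.ne'
  unfold classInner at hm
  simp only [map_one, mul_one] at hm
  rw [← hm]
  field_simp
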