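import Mathlib
import Cfsg.Agent.Helper13.Sp4O.Defs

/-!
# S2281 (n = 2, q odd; helper13 architect, board #10428), piece (BRMEM)
-/

set_option autoImplicit false

namespace Cfsg.Agent.Helper89.Sp4O

open Matrix Cfsg.Agent.Helper13.Sp4O

variable {F : Type*} [Field F]

/-- (BRMEM) -/
theorem mem_of_braid {G : Type*} [Group G] (H : Subgroup G) (X W Y : G) (hX : X ∈ H)
    (hWY : W * Y ∈ H) (hcomm : X * W = W * X) (hbraid : X * Y⁻¹ * X = Y⁻¹ * X * Y⁻¹) :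
    W ∈ H ∧ Y ∈ H := by
  have hc : Commute X W := hcomm
  have h1 : Y * X * Y⁻¹ = X * Y⁻¹ * X⁻¹ := by
    have e : Y * (X * Y⁻¹ * X) * X⁻¹ = Y * (Y⁻¹ * X * Y⁻¹) * X⁻¹ := by rw [hbraid]
    have e1 : Y * (X * Y⁻¹ * X) * X⁻¹ = Y * X * Y⁻¹ := by group
    have e2 : Y * (Y⁻¹ * X * Y⁻¹) * X⁻¹ = X * Y⁻¹ * X⁻¹ := by group
    rw [← e1, e, e2]
  have h2 : (W * Y) * X * (W * Y)⁻¹ = X * (W * Y⁻¹ * W⁻¹) * X⁻¹ := by
    calc (W * Y) * X * (W * Y)⁻¹ = W * (Y * X * Y⁻¹) * W⁻¹ := by group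
      _ = W * (X * Y⁻¹ * X⁻¹) * W⁻¹ := by rw [h1]
      _ = (W * X) * Y⁻¹ * (X⁻¹ * W⁻¹) := by group
      _ = (X * W) * Y⁻¹ * (W⁻¹ * X⁻¹) := by rw [← hc.eq, hc.inv_inv.eq]
      _ = X * (W * Y⁻¹ * W⁻¹) * X⁻¹ := by group
  have h3 : W * Y⁻¹ * W⁻¹ ∈ H := by
    have e : W * Y⁻¹ * W⁻¹ = X⁻¹ * ((W * Y) * X * (W * Y)⁻¹) * X := by rw [h2]; group
    rw [e]
    exact H.mul_mem (H.mul_mem (H.inv_mem hX)
      (H.mul_mem (H.mul_mem hWY hX) (H.inv_mem hWY))) hX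
  have hW : W ∈ H := by
    have e : W = (W * Y⁻¹ * W⁻¹) * (W * Y) := by group
    rw [e]
    exact H.mul_mem h3 hWY
  refine ⟨hW, ?_⟩
  have e : Y = W⁻¹ * (W * Y) := by group
  rw [e]
  exact H.mul_mem (H.inv_mem hW) hWY

end Cfsg.Agent.Helper89.Sp4O
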