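import Mathlib
import Cfsg.Agent.Helper13.Sp4O.Defs

/-!
# S2281 (n = 2, q odd; helper13 architect, board #10428), piece (TVE)
-/

set_option autoImplicit false

namespace Cfsg.Agent.Helper89.Sp4O

open Matrix Cfsg.Agent.Helper13.Sp4O

variable {F : Type*} [Field F]

/-- (TVE) -/
theorem tv_mem_of_e1_coord (H : Subgroup (Sp4 F)) (hQf : ∀ a b z : F, MfS a b z ∈ H)
    (he1 : ∀ c : F, tvS e1 c ∈ H) (w : V4 F) (hw : w (Sum.inr 0) ≠ 0) (c : F) : tvS w c ∈ H := by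
  obtain ⟨l, hl⟩ : ∃ l : F, l = w (Sum.inr 0) := ⟨_, rfl⟩
  have hl0 : l ≠ 0 := by rw [hl]; exact hw
  obtain ⟨a, ha⟩ : ∃ a : F, a = w (Sum.inr 1) / l := ⟨_, rfl⟩
  obtain ⟨b, hb⟩ : ∃ b : F, b = w (Sum.inl 1) / l := ⟨_, rfl⟩
  obtain ⟨z, hz⟩ : ∃ z : F, z = w (Sum.inl 0) / l := ⟨_, rfl⟩
  have hv : w = l • (Mf a b z *ᵥ e1) := by
    rw [Mf_mulVec, B_e1_y]
    apply vec_ext
    · simp only [B_f1, e1_inr0, Pi.smul_apply, Pi.add_apply, smul_eq_mul, f1_inr, e2_inr0,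
        f2_inr]
      rw [hl]; ring
    · simp only [B_f1, e1_inr0, e1_inr1, Pi.smul_apply, Pi.add_apply, smul_eq_mul, f1_inr,
        e2_inr1, f2_inr]
      rw [ha]; field_simp; ring
    · simp only [B_f1, e1_inr0, Pi.smul_apply, Pi.add_apply, smul_eq_mul, e2_inl, f2_inl0,
        e1_inl, f1_inl0]
      rw [hz]; field_simp; ring
    · simp only [B_f1, e1_inr0, Pi.smul_apply, Pi.add_apply, smul_eq_mul, e2_inl, f2_inl1,
        e1_inl, f1_inl1]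
      rw [hb]; field_simp; ring
  have hconj : tvS w c = MfS a b z * tvS e1 (c * l ^ 2) * (MfS a b z)⁻¹ := by
    apply Subtype.ext
    show Cfsg.sympTransvection 2 w c =
      Mf a b z * Cfsg.sympTransvection 2 e1 (c * l ^ 2) * (((MfS a b z)⁻¹ : Sp4 F) : M4 F)
    rw [SymplecticGroup.coe_inv', coe_MfS,
      Cfsg.Agent.Helper13.SpE.sympTransvection_conj_gen _ (Mf_mem a b z),
      ← Cfsg.Agent.Helper13.SpE.sympTransvection_smul, ← hv]
  rw [hconj]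
  exact H.mul_mem (H.mul_mem (hQf a b z) (he1 _)) (H.inv_mem (hQf a b z))

end Cfsg.Agent.Helper89.Sp4O
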