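-- helper89: piece (STEP0) of board post #11709 (for helper5, S2549): the last nonzero coordinate of
-- a singular vector is not in the middle (anisotropy of `Nf`).
import Mathlib
import Cfsg.Agent.Helper5.OmBN.Defs

set_option autoImplicit false

namespace Cfsg.Agent.Helper89.OmBN

open Matrix Cfsg.Agent.Helper5.OmBN

variable {F : Type*} [Field F] {m : ℕ} {α β : F}

/-- (STEP0) -/
theorem step_middle (hab : ∀ z₁ z₂ : F, Nf α β z₁ z₂ = 0 → z₁ = 0 ∧ z₂ = 0)
    (v : Fin (2 * m + 2) → F) (hv : Qm α β v = 0)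
    (hvA : ∀ r : Fin (2 * m + 2), m + 1 < r.val → v r = 0) : v c1 = 0 ∧ v c2 = 0 := by
  apply hab
  unfold Qm at hv
  have h0 : ∑ i : Fin m, v (lo i) * v (hi i) = 0 := by
    apply Finset.sum_eq_zero
    intro i _
    have : v (hi i) = 0 := by
      apply hvA
      rw [val_hi]
      have := i.2
      omega
    rw [this, mul_zero]
  rw [h0, zero_add] at hv
  exact hv

end Cfsg.Agent.Helper89.OmBN
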