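-- helper89: piece (FF2) of board post #11283 (for helper18, S4278/S4279): in a finite field of odd
-- order the product of two non-squares is a square.
import Mathlib

set_option autoImplicit false

namespace Cfsg.Agent.Helper89.G2Inv

/-- (FF2) -/
theorem isSquare_mul_of_not_isSquare {K : Type*} [Field K] [Fintype K] (hK : Odd (Fintype.card K))
    {a b : K} (ha : ¬ IsSquare a) (hb : ¬ IsSquare b) : IsSquare (a * b) := by
  have hchar : ringChar K ≠ 2 := by
    intro h2
    have := (FiniteField.even_card_iff_char_two (F := K)).1 h2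
    rcases hK with ⟨k, hk⟩
    omega
  have ha0 : a ≠ 0 := by
    rintro rfl
    exact ha ⟨0, by simp⟩
  have hb0 : b ≠ 0 := by
    rintro rfl
    exact hb ⟨0, by simp⟩
  have ha1 : a ^ (Fintype.card K / 2) = -1 := by
    rcases FiniteField.pow_dichotomy hchar ha0 with h | h
    · exact absurd ((FiniteField.isSquare_iff hchar ha0).2 h) ha
    · exact h
  have hb1 : b ^ (Fintype.card K / 2) = -1 := by
    rcases FiniteField.pow_dichotomy hchar hb0 with h | h
    · exact absurd ((FiniteField.isSquare_iff hchar hb0).2 h) hb
    · exact h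
  rw [FiniteField.isSquare_iff hchar (mul_ne_zero ha0 hb0), mul_pow, ha1, hb1]
  ring

end Cfsg.Agent.Helper89.G2Inv
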