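-- helper89: piece (R1) of board post #11283 (for helper18, S4278/S4279): the split rank-one case.
import Cfsg.Agent.Helper40.SL2Hom

set_option autoImplicit false

namespace Cfsg.Agent.Helper89.G2Inv

open Cfsg.Agent.Helper40.SL2Hom

variable {F : Type*} [Field F] {Γ : Type*} [Group Γ] {x y : F → Γ}

/-- (R1) if `c = e²` is a square, conjugating `m` by `g = w(1)⁻¹ x(e⁻¹)` gives
`w(1)⁻¹ m h(e⁻¹) x(e)`. -/
theorem rank1_split (R : Rel x y) (m : Γ) (e : F) (he : e ≠ 0)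
    (hx : ∀ t, m * x t * m⁻¹ = y (e * e * t)) (hy : ∀ t, m * y t * m⁻¹ = x ((e * e)⁻¹ * t)) :
    ((w x y 1)⁻¹ * x e⁻¹) * m * ((w x y 1)⁻¹ * x e⁻¹)⁻¹ = (w x y 1)⁻¹ * m * h x y e⁻¹ * x e := by
  obtain ⟨n, hn⟩ : ∃ n : Γ, n = w x y 1 := ⟨_, rfl⟩
  rw [← hn]
  have he0 : e⁻¹ ≠ 0 := inv_ne_zero he
  have hne0 : -e⁻¹ ≠ 0 := neg_ne_zero.2 he0
  -- `x(e⁻¹) m = m y(e)`
  have h1 : x e⁻¹ * m = m * y e := by
    have := hy e
    have e1 : (e * e)⁻¹ * e = e⁻¹ := by field_simp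
    rw [e1] at this
    rw [← this]; group
  -- `y(e) x(-e⁻¹) = w(-e⁻¹) y(-e)`
  have h2 : y e * x (-e⁻¹) = w x y (-e⁻¹) * y (-e) := by
    have := R.w_alt (-e⁻¹) hne0
    have e1 : -(-e⁻¹)⁻¹ = e := by rw [inv_neg, inv_inv, neg_neg]
    rw [e1] at this
    rw [this, R.y_neg]; group
  -- `y(-e) n = n x(e)`
  have h3 : y (-e) * n = n * x e := by
    have := R.conj_y' 1 (-e) one_ne_zero
    rw [← hn] at this
    have e1 : -((1 : F) * 1 * -e) = e := by ring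
    rw [e1] at this
    rw [← this]; group
  -- `w(-e⁻¹) n = h(e⁻¹)`
  have h4 : w x y (-e⁻¹) * n = h x y e⁻¹ := by
    have a := Rel.h_mul_n (x := x) (y := y) (-e⁻¹)
    rw [← hn] at a
    have b := R.n_sq
    rw [← hn] at b
    have c := R.h_mul (-e⁻¹) (-1) hne0 (by simp)
    have e1 : -e⁻¹ * -1 = e⁻¹ := by ring
    rw [e1] at c
    rw [c, ← b, ← a]; group
  have hxinv : (x e⁻¹)⁻¹ = x (-e⁻¹) := (R.x_neg _).symm
  calc (n⁻¹ * x e⁻¹) * m * (n⁻¹ * x e⁻¹)⁻¹ = n⁻¹ * (x e⁻¹ * m) * (x e⁻¹)⁻¹ * n := by group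
    _ = n⁻¹ * (m * y e) * x (-e⁻¹) * n := by rw [h1, hxinv]
    _ = n⁻¹ * m * (y e * x (-e⁻¹)) * n := by group
    _ = n⁻¹ * m * (w x y (-e⁻¹) * y (-e)) * n := by rw [h2]
    _ = n⁻¹ * m * w x y (-e⁻¹) * (y (-e) * n) := by group
    _ = n⁻¹ * m * w x y (-e⁻¹) * (n * x e) := by rw [h3]
    _ = n⁻¹ * m * (w x y (-e⁻¹) * n) * x e := by group
    _ = n⁻¹ * m * h x y e⁻¹ * x e := by rw [h4]

end Cfsg.Agent.Helper89.G2Inv
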