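import Cfsg.Agent.Helper54.BT.Defs
import Cfsg.Agent.Helper82.Brauer43.L4Glue
import Cfsg.Agent.S4731

/-!
# (TH) of helper54's S0998 plan (#7616): the `θ θ̄` argument

Close copy of `Cfsg.Agent.Helper82.Brauer43.eps_plus_core`.
-/

set_option autoImplicit false

namespace Cfsg.Agent.Helper89.BT

open Cfsg Cfsg.Agent.Helper74 Cfsg.Agent.Helper82.Brauer43
open scoped ComplexConjugate

universe u

section abstract

variable {G : Type u} [Group G] [Fintype G]

/-- (TH) the `θ θ̄` argument: `p = 2e+1`, `θ` irreducible of degree `e` with `[θ|_P, θ|_P] = e`;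
every irreducible `ψ ≠ 1` has `(e+1) a_ψ < ψ(1)` (`a_ψ` = multiplicity of `1_P` in `ψ|_P`) unless
`ψ(1) = p + 1`, `a_ψ = 2`.  Then some `ψ` is of the latter kind. -/
theorem theta_core (P : Subgroup G) [Fintype P] (p e : ℕ) (hP : Nat.card P = p)
    (hpe : p = 2 * e + 1) (he : 2 ≤ e)
    (θ : IrrCharacter G) (hdeg : charDegree (θ : G → ℂ) = e)
    (hθ2 : ∑ z : P, (θ : G → ℂ) z * conj ((θ : G → ℂ) z) = ((p * e : ℕ) : ℂ))
    (hIrr : ∀ ψ : IrrCharacter G, (ψ : G → ℂ) = (fun _ => 1) ∨
        (charDegree (ψ : G → ℂ) = p + 1 ∧ ∑ z : P, (ψ : G → ℂ) z = ((2 * p : ℕ) : ℂ)) ∨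
        ((e : ℝ) + 1) * (∑ z : P, (ψ : G → ℂ) z).re < (p : ℝ) * (charDegree (ψ : G → ℂ) : ℝ)) :
    ∃ ψ : IrrCharacter G, charDegree (ψ : G → ℂ) = p + 1 ∧
      ∑ z : P, (ψ : G → ℂ) z = ((2 * p : ℕ) : ℂ) := by
  classical
  by_contra hno
  push_neg at hno
  letI : Fintype (IrrCharacter G) := irrFintype G
  have hppos : 0 < p := by rw [← hP]; exact Nat.card_pos
  -- the character `θ θ̄`
  have hθc : IsCharacter G (θ : G → ℂ) := irr_isCharacter θ
  set Φ : G → ℂ := (θ : G → ℂ) * (fun g => conj ((θ : G → ℂ) g)) with hΦdef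
  have hΦ : IsCharacter G Φ := isCharacter_mul hθc (isCharacter_conj hθc)
  have hexp := isCharacter_eq_sum_irr hΦ
  choose m hm using fun ψ : IrrCharacter G => isCharacter_inner_irr_nat hΦ ψ
  choose a ha using fun ψ : IrrCharacter G => sum_subgroup_eq_nat P (irr_isCharacter ψ)
  set d : IrrCharacter G → ℕ := fun ψ => charDegree (ψ : G → ℂ) with hd
  have hdc : ∀ ψ : IrrCharacter G, (ψ : G → ℂ) 1 = (d ψ : ℂ) := fun ψ =>
    (charDegree_cast (irr_isCharacter ψ)).symm
  let one : IrrCharacter G := ⟨fun _ => 1, Cfsg.Agent.Helper79.isIrrCharacter_one⟩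
  -- multiplicity of the trivial character
  have hm1 : m one = 1 := by
    have h1 := hm one
    have h2 : classInner Φ (one : G → ℂ) = classInner (θ : G → ℂ) (θ : G → ℂ) := by
      rw [classInner_def, classInner_def]
      congr 1
      refine Finset.sum_congr rfl fun g _ => ?_
      simp [hΦdef, one]
    rw [h2, irr_inner_self] at h1
    exact_mod_cast h1.symm
  -- evaluation at 1
  have hE1 : e * e = ∑ ψ : IrrCharacter G, m ψ * d ψ := by
    have h1 := congrFun hexp 1
    simp only [Finset.sum_apply, Pi.smul_apply, smul_eq_mul, hm, hdc] at h1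
    have h2 : Φ 1 = ((e * e : ℕ) : ℂ) := by
      simp only [hΦdef, Pi.mul_apply]
      rw [hdc θ]
      simp [hd, hdeg]
    rw [h2] at h1
    exact_mod_cast h1
  -- sum over P
  have hEP : p * e = ∑ ψ : IrrCharacter G, m ψ * (p * a ψ) := by
    have h1 : ∑ z : P, Φ z = ∑ ψ : IrrCharacter G, (m ψ : ℂ) * ∑ z : P, (ψ : G → ℂ) z := by
      have h2 : ∀ z : P, Φ z = ∑ ψ : IrrCharacter G, (m ψ : ℂ) * (ψ : G → ℂ) z := by
        intro z
        have h3 := congrFun hexp z
        simpa only [Finset.sum_apply, Pi.smul_apply, smul_eq_mul, hm] using h3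
      simp only [h2]
      rw [Finset.sum_comm]
      refine Finset.sum_congr rfl fun ψ _ => ?_
      rw [Finset.mul_sum]
    have h4 : ∑ z : P, Φ z = ((p * e : ℕ) : ℂ) := by
      rw [← hθ2]
      refine Finset.sum_congr rfl fun z _ => ?_
      simp [hΦdef]
    rw [h4] at h1
    simp only [ha, hP] at h1
    exact_mod_cast h1
  have hEP' : e = ∑ ψ : IrrCharacter G, m ψ * a ψ := by
    have h1 : p * e = p * ∑ ψ : IrrCharacter G, m ψ * a ψ := by
      rw [hEP, Finset.mul_sum]
      refine Finset.sum_congr rfl fun ψ _ => ?_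
      ring
    exact Nat.eq_of_mul_eq_mul_left hppos h1
  have hone_a : a one = 1 := by
    have h1 := ha one
    have h2 : ∑ z : P, (one : G → ℂ) z = (Nat.card P : ℂ) := by
      simp [one, Nat.card_eq_fintype_card]
    rw [h2] at h1
    have h3 : Nat.card P = Nat.card P * a one := by exact_mod_cast h1
    have := Nat.card_pos (α := P)
    nlinarith
  have hone_d : d one = 1 := by
    have h1 := hdc one
    have h2 : (one : G → ℂ) 1 = 1 := rfl
    rw [h2] at h1
    exact_mod_cast h1.symm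
  -- the strict inequality for every nonprincipal character
  have hstrict : ∀ ψ : IrrCharacter G, ψ ≠ one → (e + 1) * a ψ + 1 ≤ d ψ := by
    intro ψ hne
    rcases hIrr ψ with h3 | h3 | h3
    · exact absurd (Subtype.ext h3) hne
    · exact absurd h3.2 (hno ψ h3.1)
    · rw [ha ψ, hP] at h3
      have h4 : ((e : ℝ) + 1) * ((p * a ψ : ℕ) : ℝ) < (p : ℝ) * (d ψ : ℝ) := by
        simpa using h3
      have h5 : (p : ℝ) * (((e + 1) * a ψ : ℕ) : ℝ) < (p : ℝ) * (d ψ : ℝ) := by
        push_cast at h4 ⊢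
        linarith
      have hp0 : (0 : ℝ) < p := by exact_mod_cast hppos
      have h6 : (((e + 1) * a ψ : ℕ) : ℝ) < (d ψ : ℝ) := lt_of_mul_lt_mul_left h5 hp0.le
      have h7 : (e + 1) * a ψ < d ψ := by exact_mod_cast h6
      omega
  have hpsum : ∀ c : ℕ, ∑ ψ : IrrCharacter G, m ψ * (if ψ = one then c else 0) = c := by
    intro c
    rw [Finset.sum_eq_single one]
    · simp [hm1]
    · intro ψ _ hne; simp [hne]
    · intro h; exact absurd (Finset.mem_univ _) h
  have hi : ∀ ψ : IrrCharacter G,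
      m ψ * ((e + 1) * a ψ) + m ψ * (if ψ = one then 0 else 1) ≤
        m ψ * d ψ + m ψ * (if ψ = one then e else 0) := by
    intro ψ
    by_cases h1 : ψ = one
    · subst h1
      rw [if_pos rfl, if_pos rfl, hm1, hone_a, hone_d]
      omega
    · rw [if_neg h1, if_neg h1]
      have := hstrict ψ h1
      calc m ψ * ((e + 1) * a ψ) + m ψ * 1 = m ψ * ((e + 1) * a ψ + 1) := by ring
        _ ≤ m ψ * d ψ := Nat.mul_le_mul_left _ this
        _ = m ψ * d ψ + m ψ * 0 := by ring
  set M' : ℕ := ∑ ψ : IrrCharacter G, m ψ * (if ψ = one then 0 else 1) with hM'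
  have hsum : (e + 1) * e + M' ≤ e * e + e := by
    calc (e + 1) * e + M'
        = ∑ ψ : IrrCharacter G, (m ψ * ((e + 1) * a ψ) + m ψ * (if ψ = one then 0 else 1)) := by
          rw [Finset.sum_add_distrib, ← hM']
          congr 1
          rw [hEP', Finset.mul_sum]
          refine Finset.sum_congr rfl fun ψ _ => ?_
          ring
      _ ≤ ∑ ψ : IrrCharacter G, (m ψ * d ψ + m ψ * (if ψ = one then e else 0)) :=
          Finset.sum_le_sum fun ψ _ => hi ψ
      _ = e * e + e := by
          rw [Finset.sum_add_distrib, ← hE1, hpsum]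
  have hM0 : M' = 0 := by nlinarith
  have hm0 : ∀ ψ : IrrCharacter G, ψ ≠ one → m ψ = 0 := by
    intro ψ hne
    have h1 := (Finset.sum_eq_zero_iff.mp hM0) ψ (Finset.mem_univ _)
    rw [if_neg hne, mul_one] at h1
    exact h1
  have he1 : e = 1 := by
    rw [hEP']
    rw [Finset.sum_eq_single one]
    · rw [hm1, hone_a]
    · intro ψ _ hne
      rw [hm0 ψ hne, zero_mul]
    · intro h; exact absurd (Finset.mem_univ _) h
  omega

end abstract

end Cfsg.Agent.Helper89.BT
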