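import Cfsg.Agent.Helper54.BT.Defs
import Cfsg.Agent.Helper82.Brauer43.L4Glue
import Cfsg.Agent.S4731
import Cfsg.Agent.Helper16.Brauer43.GL
import Cfsg.Agent.Helper20.D8Main
import Cfsg.Agent.Helper89.BTTH

/-!
# (DP) of helper54's S0998 plan (#7616): the case `δ = +1`, `p = 2r + 1`

Close copy of `Cfsg.Agent.Helper82.Brauer43.eps_plus_n_eq_one`.
-/

set_option autoImplicit false

namespace Cfsg.Agent.Helper89.BT

open Cfsg Cfsg.Agent.Helper16 Cfsg.Agent.Helper16.DefOne Cfsg.Agent.Helper82.DefOne
  Cfsg.Agent.Helper77.DefOne Cfsg.Agent.Helper16.Brauer43 Cfsg.Agent.Helper74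
  Cfsg.Agent.Helper82.Brauer43
open scoped ComplexConjugate

universe u

variable {G : Type u} [Group G] [Fintype G] {p : ℕ} [Fact p.Prime]
  (P : Sylow p G) [Fintype (P : Subgroup G)] (D : L0Data P)

/-- (DP) case `δ = +1`, `p = 2r+1`: a character of degree `p + 1` in `X` -/
theorem delta_plus (hP : Nat.card P = p) (hC : cen P = (P : Subgroup G))
    (hperf : commutator G = ⊤) (r : ℕ) (hpr : p = 2 * r + 1) (hr : 2 ≤ r) (hδ : D.δ = 1)
    (he : (cen P).relIndex (nor P) = r)
    (hY : ∀ ψ ∈ D.Y, charDegree (ψ : G → ℂ) = r) :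
    ∃ χ ∈ D.X, D.ε χ = 1 ∧ charDegree (χ : G → ℂ) = p + 1 := by
  classical
  have hp : p.Prime := Fact.out
  have hp1 : 1 ≤ p := hp.one_lt.le
  have hpR : (p : ℝ) = 2 * (r : ℝ) + 1 := by exact_mod_cast hpr
  have hrR : (2 : ℝ) ≤ r := by exact_mod_cast hr
  obtain ⟨θ, hθ⟩ := Cfsg.Agent.Helper47.B43.Y_nonempty47 P D hP
  have hdcg : ∀ ψ : IrrCharacter G, (ψ : G → ℂ) 1 = (charDegree (ψ : G → ℂ) : ℂ) := fun ψ =>
    (charDegree_cast (irr_isCharacter ψ)).symm
  have hdpos : ∀ ψ : IrrCharacter G, 0 < charDegree (ψ : G → ℂ) := fun ψ =>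
    Cfsg.Agent.Helper79.irr_charDegree_pos ψ
  have key : ∃ ψ : IrrCharacter G, charDegree (ψ : G → ℂ) = p + 1 ∧
      ∑ z : (P : Subgroup G), (ψ : G → ℂ) z = ((2 * p : ℕ) : ℂ) := by
    refine theta_core (P : Subgroup G) p r hP hpr hr θ (hY θ hθ) ?_ ?_
    · rw [D.hY2 θ hθ, hY θ hθ, he]
      push_cast
      ring
    · intro ψ
      have hdc := hdcg ψ
      have hd0 : (0 : ℝ) < (charDegree (ψ : G → ℂ) : ℝ) := by exact_mod_cast hdpos ψ
      by_cases hψX : ψ ∈ D.X
      · have hsum := sum_P_of_const P hP (ψ : G → ℂ) (D.ε ψ : ℂ) (D.hX ψ hψX)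
        have hmod := GL.deg_modEq_X P D hP ψ hψX
        rcases D.hε ψ with h1 | h1
        · -- ε = 1 : d = 1 + u p
          rw [h1] at hmod
          obtain ⟨u, hu⟩ := (Int.modEq_iff_dvd.mp hmod.symm)
          -- (d : ℤ) - 1 = p * u
          by_cases hprinc : (ψ : G → ℂ) = (fun _ => 1)
          · exact Or.inl hprinc
          · have hd1 : charDegree (ψ : G → ℂ) ≠ 1 := by
              intro h
              apply hprinc
              have h2 : (ψ : G → ℂ) 1 = 1 := by rw [hdc, h]; simp
              have := Cfsg.Agent.Helper20.D8.eq_principal_of_degree_one hperf ψ h2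
              rw [this]
              rfl
            have hd2 : 2 ≤ charDegree (ψ : G → ℂ) := by
              have := hdpos ψ
              omega
            have hu1 : 1 ≤ u := by
              by_contra hcon
              push_neg at hcon
              have h3 : (p : ℤ) * u ≤ 0 := by
                have hp0 : (0 : ℤ) ≤ p := by positivity
                have : u ≤ 0 := by omega
                exact mul_nonpos_of_nonneg_of_nonpos hp0 this
              have h4 : (2 : ℤ) ≤ (charDegree (ψ : G → ℂ) : ℤ) := by exact_mod_cast hd2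
              omega
            by_cases hu2 : u = 1
            · right; left
              have hd : charDegree (ψ : G → ℂ) = p + 1 := by
                have : (charDegree (ψ : G → ℂ) : ℤ) = (p : ℤ) + 1 := by
                  rw [hu2] at hu
                  linarith
                exact_mod_cast this
              refine ⟨hd, ?_⟩
              rw [hsum, hdc, hd, h1]
              push_cast
              ring
            · right; right
              have hu3 : (2 : ℤ) ≤ u := by omega
              have hdR : (charDegree (ψ : G → ℂ) : ℝ) = 1 + (p : ℝ) * (u : ℝ) := by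
                have : (charDegree (ψ : G → ℂ) : ℤ) = 1 + (p : ℤ) * u := by linarith
                exact_mod_cast this
              have huR : (2 : ℝ) ≤ (u : ℝ) := by exact_mod_cast hu3
              rw [hsum, hdc, h1]
              have h3 : ((charDegree (ψ : G → ℂ) : ℂ) + ((p : ℂ) - 1) * ((1 : ℤ) : ℂ)).re =
                  (charDegree (ψ : G → ℂ) : ℝ) + ((p : ℝ) - 1) := by
                simp
              rw [h3, hdR, hpR]
              have hu0 : (0 : ℝ) < (u : ℝ) - 1 := by linarith
              have hpos := mul_pos (mul_pos (by linarith : (0 : ℝ) < 2 * (r : ℝ) + 1)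
                (by linarith : (0 : ℝ) < (r : ℝ))) hu0
              have e : (2 * (r : ℝ) + 1) * (1 + (2 * (r : ℝ) + 1) * (u : ℝ)) -
                  ((r : ℝ) + 1) * (1 + (2 * (r : ℝ) + 1) * (u : ℝ) + (2 * (r : ℝ) + 1 - 1)) =
                  (2 * (r : ℝ) + 1) * (r : ℝ) * ((u : ℝ) - 1) := by ring
              linarith
        · -- ε = -1 : d = u p - 1
          right; right
          rw [h1] at hmod
          obtain ⟨u, hu⟩ := (Int.modEq_iff_dvd.mp hmod.symm)
          -- (d : ℤ) - (-1) = p * u
          have hu1 : 1 ≤ u := by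
            by_contra hcon
            push_neg at hcon
            have h3 : (p : ℤ) * u ≤ 0 := by
              have hp0 : (0 : ℤ) ≤ p := by positivity
              have : u ≤ 0 := by omega
              exact mul_nonpos_of_nonneg_of_nonpos hp0 this
            have h4 : (1 : ℤ) ≤ (charDegree (ψ : G → ℂ) : ℤ) := by exact_mod_cast hdpos ψ
            omega
          have hdR : (charDegree (ψ : G → ℂ) : ℝ) = (p : ℝ) * (u : ℝ) - 1 := by
            have : (charDegree (ψ : G → ℂ) : ℤ) = (p : ℤ) * u - 1 := by linarith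
            exact_mod_cast this
          have huR : (1 : ℝ) ≤ (u : ℝ) := by exact_mod_cast hu1
          rw [hsum, hdc, h1]
          have h3 : ((charDegree (ψ : G → ℂ) : ℂ) + ((p : ℂ) - 1) * ((-1 : ℤ) : ℂ)).re =
              (charDegree (ψ : G → ℂ) : ℝ) - ((p : ℝ) - 1) := by
            simp
            ring
          rw [h3, hdR, hpR]
          have hu0 : (0 : ℝ) < (u : ℝ) + 1 := by linarith
          have hpos := mul_pos (mul_pos (by linarith : (0 : ℝ) < 2 * (r : ℝ) + 1)
            (by linarith : (0 : ℝ) < (r : ℝ))) hu0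
          have e : (2 * (r : ℝ) + 1) * ((2 * (r : ℝ) + 1) * (u : ℝ) - 1) -
              ((r : ℝ) + 1) * ((2 * (r : ℝ) + 1) * (u : ℝ) - 1 - (2 * (r : ℝ) + 1 - 1)) =
              (2 * (r : ℝ) + 1) * (r : ℝ) * ((u : ℝ) + 1) := by ring
          linarith
      · by_cases hψY : ψ ∈ D.Y
        · right; right
          rw [D.hY1 ψ hψY, hY ψ hψY, he, hδ]
          have h3 : (((r : ℕ) : ℂ) - ((1 : ℤ) : ℂ) * ((r : ℕ) : ℂ)).re = 0 := by simp
          rw [h3, mul_zero]
          have : (0 : ℝ) < (p : ℝ) := by exact_mod_cast hp.pos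
          positivity
        · right; right
          have hsum := sum_P_of_const P hP (ψ : G → ℂ) 0 (D.hZ ψ hψX hψY)
          rw [hsum, hdc]
          have h3 : ((charDegree (ψ : G → ℂ) : ℂ) + ((p : ℂ) - 1) * 0).re =
              (charDegree (ψ : G → ℂ) : ℝ) := by simp
          rw [h3, hpR]
          nlinarith
  obtain ⟨ψ, hd, hs⟩ := key
  have hdc := hdcg ψ
  have hpC : (p : ℂ) ≠ 1 := by
    have : p ≠ 1 := hp.one_lt.ne'
    exact_mod_cast this
  by_cases hψX : ψ ∈ D.X
  · refine ⟨ψ, hψX, ?_, hd⟩
    rcases D.hε ψ with h1 | h1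
    · exact h1
    · exfalso
      have hsum := sum_P_of_const P hP (ψ : G → ℂ) (D.ε ψ : ℂ) (D.hX ψ hψX)
      rw [hs, hdc, hd, h1] at hsum
      push_cast at hsum
      apply hpC
      linear_combination (1 / 2 : ℂ) * hsum
  · exfalso
    by_cases hψY : ψ ∈ D.Y
    · have h1 := D.hY1 ψ hψY
      rw [hs, hY ψ hψY, he, hδ] at h1
      push_cast at h1
      have hp0 : (p : ℂ) ≠ 0 := by exact_mod_cast hp.ne_zero
      apply hp0
      linear_combination (1 / 2 : ℂ) * h1
    · have hsum := sum_P_of_const P hP (ψ : G → ℂ) 0 (D.hZ ψ hψX hψY)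
      rw [hs, hdc, hd] at hsum
      push_cast at hsum
      apply hpC
      linear_combination hsum

end Cfsg.Agent.Helper89.BT
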