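import Mathlib
import Cfsg.Agent.Helper17.Parity
import Cfsg.Agent.S0215

/-!
# WANTED #3352 (helper17, for S0978): `kill_240`

In a simple group of order `5040`, an involution `c` centralizing a Sylow `5`-subgroup `P`, with
`|C(c)| = 240`, cannot be the only conjugate of itself inside `C(P)`.

Proof: parity of the action of `c` on the `21` cosets of `C(c)`, the fixed-point congruence for `P`
and Glauberman's `Z*`-theorem (`Cfsg.Agent.S0215.result`).
-/

set_option autoImplicit false
set_option linter.style.haveILetI false
set_option linter.unusedSectionVars false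

namespace Cfsg.Agent.Helper89.Kill240

open Subgroup

variable {G : Type*} [Group G]

/-- `c • gC(c) = gC(c)` iff `g⁻¹ c g` commutes with `c`. -/
theorem smul_coset_eq_iff (c g : G) :
    c • ((g : G) : G ⧸ centralizer ({c} : Set G)) = ((g : G) : G ⧸ centralizer ({c} : Set G)) ↔
      g⁻¹ * c * g ∈ centralizer ({c} : Set G) := by
  rw [MulAction.Quotient.smul_mk, QuotientGroup.eq]
  constructor
  · intro h
    have := (centralizer ({c} : Set G)).inv_mem h
    simpa [mul_assoc] using this
  · intro h
    have := (centralizer ({c} : Set G)).inv_mem h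
    simpa [mul_assoc] using this

theorem mem_centralizer_singleton_iff' (c x : G) :
    x ∈ centralizer ({c} : Set G) ↔ c * x = x * c := by
  rw [mem_centralizer_iff]
  constructor
  · intro h; exact h c (Set.mem_singleton c)
  · intro h y hy
    rw [Set.mem_singleton_iff] at hy
    rw [hy]; exact h

/-- if `c` commutes with all its conjugates then the centralizer of `c` contains the normal closure
of `c`. -/
theorem normalClosure_le_centralizer (c : G)
    (h : ∀ g : G, g⁻¹ * c * g ∈ centralizer ({c} : Set G)) :
    normalClosure ({c} : Set G) ≤ centralizer ({c} : Set G) := by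
  rw [normalClosure, closure_le]
  intro x hx
  rw [Group.mem_conjugatesOfSet_iff] at hx
  obtain ⟨a, ha, hax⟩ := hx
  rw [Set.mem_singleton_iff] at ha
  subst ha
  rw [isConj_iff] at hax
  obtain ⟨g, hg⟩ := hax
  have := h g⁻¹
  rw [inv_inv] at this
  rw [← hg]
  exact this

/-- `(5040).factorization 2 = 4` -/
theorem factorization_5040 : (5040 : ℕ).factorization 2 = 4 := by
  apply le_antisymm
  · by_contra hlt
    push Not at hlt
    have : 2 ^ 5 ∣ 5040 :=
      (Nat.Prime.pow_dvd_iff_le_factorization Nat.prime_two (by norm_num)).mpr hlt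
    omega
  · exact (Nat.Prime.pow_dvd_iff_le_factorization Nat.prime_two (by norm_num)).mp (by norm_num)

/-- `(240).factorization 2 = 4` -/
theorem factorization_240 : (240 : ℕ).factorization 2 = 4 := by
  apply le_antisymm
  · by_contra hlt
    push Not at hlt
    have : 2 ^ 5 ∣ 240 :=
      (Nat.Prime.pow_dvd_iff_le_factorization Nat.prime_two (by norm_num)).mpr hlt
    omega
  · exact (Nat.Prime.pow_dvd_iff_le_factorization Nat.prime_two (by norm_num)).mp (by norm_num)

theorem kill_240 [Finite G] [IsSimpleGroup G] (hcard : Nat.card G = 5040)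
    (P : Sylow 5 G) (c : G) (hc : orderOf c = 2)
    (hcP : c ∈ Subgroup.centralizer ((P : Subgroup G) : Set G))
    (hC : Nat.card (Subgroup.centralizer ({c} : Set G)) = 240)
    (huniq : ∀ g : G, g * c * g⁻¹ ∈ Subgroup.centralizer ((P : Subgroup G) : Set G) →
      g * c * g⁻¹ = c) : False := by
  classical
  haveI : Fact (Nat.Prime 5) := ⟨by norm_num⟩
  haveI : Fact (Nat.Prime 2) := ⟨Nat.prime_two⟩
  set C := centralizer ({c} : Set G) with hCdef
  have hc1 : c ≠ 1 := by
    intro h; rw [h, orderOf_one] at hc; omega
  have hcC : c ∈ C := by rw [hCdef, mem_centralizer_singleton_iff']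
  -- `C ≠ ⊤`
  have hCtop : C ≠ ⊤ := by
    intro h
    have : Nat.card C = Nat.card G := by rw [h]; exact Subgroup.card_top
    omega
  have hG2 : 2 < Nat.card G := by omega
  letI : Fintype (G ⧸ C) := Fintype.ofFinite _
  have hidx : C.index = 21 := by
    have := Subgroup.card_mul_index C
    rw [hC, hcard] at this
    omega
  have hcardΩ : Fintype.card (G ⧸ C) = 21 := by
    rw [← Nat.card_eq_fintype_card, ← hidx]; rfl
  set Tset : Finset (G ⧸ C) := Finset.univ.filter (fun x => c • x = x) with hTset
  have hmemT : ∀ x : G ⧸ C, x ∈ Tset ↔ c • x = x := by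
    intro x; rw [hTset, Finset.mem_filter]; simp
  have hbase : ∀ g : G, g ∈ C → g • (((1 : G) : G ⧸ C)) = ((1 : G) : G ⧸ C) := by
    intro g hg
    rw [MulAction.Quotient.smul_mk, QuotientGroup.eq]
    simpa using hg
  have hPC : (P : Subgroup G) ≤ C := by
    intro g hg
    rw [hCdef, mem_centralizer_singleton_iff']
    exact (hcP g hg).symm
  -- (2) congruence mod 5
  have hcong5 : Tset.card ≡ 1 [MOD 5] := by
    have hinv : ∀ g : (P : Subgroup G), ∀ x ∈ Tset, g • x ∈ Tset := by
      intro g x hx
      rw [hmemT] at hx ⊢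
      have hcomm : (g : G) * c = c * g := hcP g g.2
      change c • ((g : G) • x) = (g : G) • x
      rw [← mul_smul, ← hcomm, mul_smul, hx]
    have h1 := Helper70.PCount.card_modEq_card_fixed (p := 5) P.isPGroup' Tset hinv
    have h2 : (Tset.filter (fun x => ∀ g : (P : Subgroup G), g • x = x)).card = 1 := by
      rw [Finset.card_eq_one]
      refine ⟨((1 : G) : G ⧸ C), ?_⟩
      ext x
      rw [Finset.mem_filter, Finset.mem_singleton, hmemT]
      constructor
      · rintro ⟨-, hx⟩
        induction x using QuotientGroup.induction_on with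
        | H g =>
          -- `g c g⁻¹ ∈ C(P)`
          have hgc : g * c * g⁻¹ ∈ centralizer ((P : Subgroup G) : Set G) := by
            rw [mem_centralizer_iff]
            intro y hy
            have hfix : (y : G) • ((g : G) : G ⧸ C) = ((g : G) : G ⧸ C) := hx ⟨y, hy⟩
            rw [MulAction.Quotient.smul_mk, QuotientGroup.eq] at hfix
            -- `(y g)⁻¹ g ∈ C`, i.e. `g⁻¹ y⁻¹ g` commutes with `c`
            rw [hCdef, mem_centralizer_singleton_iff'] at hfix
            -- goal : y * (g c g⁻¹) = (g c g⁻¹) * y
            have e1 : c * ((y * g)⁻¹ * g) = (y * g)⁻¹ * g * c := hfix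
            have e2 : g * (c * ((y * g)⁻¹ * g)) * g⁻¹ * y = g * ((y * g)⁻¹ * g * c) * g⁻¹ * y := by
              rw [e1]
            have e3 : g * (c * ((y * g)⁻¹ * g)) * g⁻¹ * y = g * c * g⁻¹ := by
              simp [mul_assoc]
            have e4 : g * ((y * g)⁻¹ * g * c) * g⁻¹ * y = y⁻¹ * (g * c * g⁻¹) * y := by
              simp [mul_assoc]
            rw [e3, e4] at e2
            -- e2 : g c g⁻¹ = y⁻¹ (g c g⁻¹) y
            calc y * (g * c * g⁻¹) = y * (y⁻¹ * (g * c * g⁻¹) * y) := by rw [← e2]
              _ = g * c * g⁻¹ * y := by simp [mul_assoc]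
          have hgc' := huniq g hgc
          -- so `g ∈ C`
          have hgC : g ∈ C := by
            rw [hCdef, mem_centralizer_singleton_iff']
            calc c * g = (g * c * g⁻¹) * g := by rw [hgc']
              _ = g * c := by simp [mul_assoc]
          rw [QuotientGroup.eq]
          simpa using hgC
      · rintro rfl
        refine ⟨hbase c hcC, fun g => ?_⟩
        exact hbase g (hPC g.2)
    rw [h2] at h1
    exact h1
  -- (1) the sign
  set σ : Equiv.Perm (G ⧸ C) := MulAction.toPermHom G (G ⧸ C) c with hσ
  have hσ2 : σ ^ 2 = 1 := by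
    rw [hσ, ← map_pow, ← hc, pow_orderOf_eq_one, map_one]
  have hsupp : σ.support = Finset.univ \ Tset := by
    ext x
    rw [Equiv.Perm.mem_support, Finset.mem_sdiff, hmemT]
    simp [hσ]
  have hTle : Tset.card ≤ 21 := by
    rw [← hcardΩ]; exact Finset.card_le_univ _
  have hsuppcard : σ.support.card + Tset.card = 21 := by
    rw [hsupp, Finset.card_sdiff_of_subset (Finset.subset_univ _), Finset.card_univ, hcardΩ]
    omega
  have hcases : Tset.card = 21 ∨ Tset.card = 1 := by
    by_cases hσ1 : σ = 1
    · left
      rw [hσ1, Equiv.Perm.support_one, Finset.card_empty] at hsuppcard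
      omega
    · have hσord : orderOf σ = 2 := orderOf_eq_prime hσ2 hσ1
      obtain ⟨m', hm'⟩ := Equiv.Perm.two_dvd_card_support hσ2
      have hsign := Helper17.sign_of_involution' σ hσord m' hm'
      have hone := Helper17.sign_toPerm_eq_one' hG2 (Ω := G ⧸ C) c
      rw [← hσ, hsign] at hone
      have hev : Even m' := by
        by_contra hodd
        rw [Nat.not_even_iff_odd] at hodd
        rw [hodd.neg_one_pow] at hone
        exact absurd hone (by decide)
      obtain ⟨m, hm⟩ := hev
      have h5 : Tset.card % 5 = 1 % 5 := hcong5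
      omega
  rcases hcases with h21 | h1
  · -- (4) `c` commutes with all its conjugates
    have hall : ∀ x : G ⧸ C, x ∈ Tset := by
      have : Tset = Finset.univ := by
        apply Finset.eq_univ_of_card
        rw [h21, hcardΩ]
      intro x; rw [this]; exact Finset.mem_univ x
    have hconj : ∀ g : G, g⁻¹ * c * g ∈ C := by
      intro g
      have := (hmemT _).mp (hall ((g : G) : G ⧸ C))
      exact (smul_coset_eq_iff c g).mp this
    have hle := normalClosure_le_centralizer c hconj
    have hnc : normalClosure ({c} : Set G) = ⊤ := by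
      rcases (normalClosure_normal (s := ({c} : Set G))).eq_bot_or_eq_top with h | h
      · exfalso
        have : c ∈ normalClosure ({c} : Set G) := subset_normalClosure (Set.mem_singleton c)
        rw [h, mem_bot] at this
        exact hc1 this
      · exact h
    rw [hnc] at hle
    exact hCtop (top_le_iff.mp hle)
  · -- (5) Glauberman's Z*
    have hT1 : ∀ x : G ⧸ C, x ∈ Tset → x = ((1 : G) : G ⧸ C) := by
      intro x hx
      have h1mem : ((1 : G) : G ⧸ C) ∈ Tset := (hmemT _).mpr (hbase c hcC)
      obtain ⟨a, ha⟩ := Finset.card_eq_one.mp h1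
      rw [ha, Finset.mem_singleton] at hx h1mem
      rw [hx, h1mem]
    -- a Sylow 2-subgroup of `C` containing `c`
    have hzp : IsPGroup 2 (zpowers (⟨c, hcC⟩ : C)) := by
      rw [IsPGroup.iff_card]
      refine ⟨1, ?_⟩
      rw [Nat.card_zpowers, Subgroup.orderOf_mk, hc, pow_one]
    obtain ⟨S0, hS0⟩ := hzp.exists_le_sylow
    have hS0card : Nat.card (S0 : Subgroup C) = 16 := by
      rw [Sylow.card_eq_multiplicity, hC, factorization_240]; norm_num
    set S' : Subgroup G := (S0 : Subgroup C).map C.subtype with hS'
    have hS'card : Nat.card S' = 16 := by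
      rw [hS', Subgroup.card_map_of_injective C.subtype_injective, hS0card]
    have hS'C : S' ≤ C := by
      rw [hS']; exact Subgroup.map_subtype_le _
    have hcS' : c ∈ S' := by
      rw [hS', Subgroup.mem_map]
      refine ⟨⟨c, hcC⟩, hS0 (mem_zpowers _), rfl⟩
    let S : Sylow 2 G := Sylow.ofCard S' (by rw [hS'card, hcard, factorization_5040]; norm_num)
    have hSS' : (S : Subgroup G) = S' := rfl
    have hiso : ∀ g : G, g * c * g⁻¹ ∈ S → g * c * g⁻¹ = c := by
      intro g hg
      have hgC : g * c * g⁻¹ ∈ C := hS'C hg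
      have hfix : c • ((g⁻¹ : G) : G ⧸ C) = ((g⁻¹ : G) : G ⧸ C) := by
        rw [smul_coset_eq_iff, inv_inv]; exact hgC
      have := hT1 _ ((hmemT _).mpr hfix)
      rw [QuotientGroup.eq] at this
      have hgC' : g ∈ C := by
        have h2 := C.inv_mem this
        simpa using h2
      rw [hCdef, mem_centralizer_singleton_iff'] at hgC'
      calc g * c * g⁻¹ = (c * g) * g⁻¹ := by rw [hgC']
        _ = c := by simp [mul_assoc]
    obtain ⟨N, hNn, hNodd, hNcomm⟩ := Cfsg.Agent.S0215.result S c hc hcS' hiso
    rcases hNn.eq_bot_or_eq_top with h | h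
    · apply hCtop
      rw [eq_top_iff]
      intro g _
      rw [hCdef, mem_centralizer_singleton_iff']
      have := hNcomm g
      rw [h, mem_bot] at this
      -- c g c⁻¹ g⁻¹ = 1
      have h2 : c * g * c⁻¹ = g := by
        have := mul_inv_eq_one.mp this
        exact this
      calc c * g = (c * g * c⁻¹) * c := by simp [mul_assoc]
        _ = g * c := by rw [h2]
    · rw [h, Subgroup.card_top, hcard] at hNodd
      exact absurd hNodd (by decide)

end Cfsg.Agent.Helper89.Kill240
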