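-- Fusion systems over abelian p-groups (helper89).
import Cfsg.Prelude.Def_FusionSystem
import Cfsg.Agent.Helper87.FusionBasic
import Cfsg.Agent.Helper87.FusionFrobenius

set_option autoImplicit false

namespace Cfsg.Agent.Helper89

open Cfsg Cfsg.FusionSystem Cfsg.Agent.Helper87

variable {Ω : Type*} [Group Ω]

/-- In the inner fusion system of an abelian subgroup every map is the inclusion. -/
theorem inner_abelian_apply {T : Subgroup Ω} (hab : ∀ x ∈ T, ∀ y ∈ T, x * y = y * x) {P : Subgroup Ω}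
    {φ : P →* Ω} (hφ : φ ∈ (innerFusionSystem T).Hom P) (x : P) : φ x = x := by
  obtain ⟨hP, g, hg, hgx⟩ := hφ
  rw [hgx x, hab g hg x (hP x.2)]
  group

/-- An isomorphism of the inner fusion system of an abelian subgroup from `P` to itself is the identity. -/
theorem inner_abelian_aut_eq_one {T : Subgroup Ω} (hab : ∀ x ∈ T, ∀ y ∈ T, x * y = y * x) {P : Subgroup Ω}
    (hP : P ≤ T) {α : MulAut P} (hα : α ∈ (innerFusionSystem T).autGroup P) : α = 1 := by
  have h := (mem_autGroup_iff (innerFusionSystem T) hP α).1 hα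
  ext x
  exact inner_abelian_apply hab h x

/-- The inner fusion system of an abelian subgroup is saturated (for every `p`). -/
theorem inner_abelian_isSaturated {T : Subgroup Ω} (hab : ∀ x ∈ T, ∀ y ∈ T, x * y = y * x) (p : ℕ) :
    (innerFusionSystem T).IsSaturated p := by
  intro P hP
  refine ⟨P, ⟨P.subtype, subtype_mem _ hP, Subgroup.range_subtype P⟩, ⟨hP, ?_⟩, ⟨hP, ?_⟩⟩
  · -- fully automized: the automorphism group is trivial
    have hsub : Subsingleton ↥((innerFusionSystem T).autGroup P) := by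
      constructor
      intro a b
      apply Subtype.ext
      rw [inner_abelian_aut_eq_one hab hP a.2, inner_abelian_aut_eq_one hab hP b.2]
    obtain ⟨R⟩ : Nonempty (Sylow p ↥((innerFusionSystem T).autGroup P)) := inferInstance
    refine ⟨R, ?_⟩
    ext a
    have ha : a = 1 := Subsingleton.elim _ _
    rw [ha]
    simp only [Subgroup.one_mem]
  · -- receptive
    intro R φ hφ _
    have hle : extender T R φ ≤ T := by
      unfold extender
      rw [Subgroup.closure_le]
      intro g hg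
      exact hg.1
    refine ⟨(extender T R φ).subtype, subtype_mem _ hle, fun x hxR hxN => ?_⟩
    rw [inner_abelian_apply hab hφ ⟨x, hxR⟩]
    rfl

variable {S : Subgroup Ω}

/-- An injective endomorphism of `S` in the system, as an automorphism of `S`. -/
theorem exists_aut_of_hom_top [Finite S] (F : FusionSystem S) {ψ : S →* Ω} (hψ : ψ ∈ F.Hom S) :
    ∃ α : MulAut S, IsIso F (α : S ≃* S) ∧ ∀ x : S, ((α x : S) : Ω) = ψ x := by
  have hval := (F.le_of_mem hψ).2
  have hinj : Function.Injective (ψ.codRestrict S hval) := by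
    intro a b hab
    exact F.injective_of_mem hψ (congrArg Subtype.val hab)
  have hbij : Function.Bijective (ψ.codRestrict S hval) := Finite.injective_iff_bijective.1 hinj
  refine ⟨MulEquiv.ofBijective (ψ.codRestrict S hval) hbij, ?_, fun x => rfl⟩
  unfold IsIso
  exact mem_of_eq F hψ (fun x => rfl)

/-- For an abelian `S`, the extender of any map on `P ≤ S` is all of `S`. -/
theorem le_extender_of_abelian (hab : ∀ x ∈ S, ∀ y ∈ S, x * y = y * x) {P : Subgroup Ω} (hP : P ≤ S)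
    (φ : P →* Ω) : S ≤ extender S P φ := by
  intro g hg
  rw [mem_extender_iff]
  have hfix : ∀ x ∈ P, g * x * g⁻¹ = x := by
    intro x hx
    rw [hab g hg x (hP hx)]
    group
  refine ⟨hg, ?_, 1, S.one_mem, fun x hx => ?_⟩
  · rw [Subgroup.mem_normalizer_iff]
    intro x
    constructor
    · intro hx
      rw [hfix x hx]; exact hx
    · intro hx
      have h1 : g⁻¹ * (g * x * g⁻¹) * g⁻¹⁻¹ = x := by group
      have h2 : g⁻¹ * (g * x * g⁻¹) * g⁻¹⁻¹ = g * x * g⁻¹ := by
        rw [hab g⁻¹ (S.inv_mem hg) _ (hP hx)]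
        group
      rw [← h1, h2]
      exact hx
  · have : (⟨g * (x : Ω) * g⁻¹, hx⟩ : P) = x := Subtype.ext (hfix x x.2)
    rw [this]
    simp

/-- In a saturated fusion system over an abelian `S`, every map extends to an automorphism of `S` in the system. -/
theorem exists_aut_extending [Finite S] (p : ℕ) (F : FusionSystem S) (hF : F.IsSaturated p)
    (hab : ∀ x ∈ S, ∀ y ∈ S, x * y = y * x) {P : Subgroup Ω} {φ : P →* Ω} (hφ : φ ∈ F.Hom P) :
    ∃ α : MulAut S, IsIso F (α : S ≃* S) ∧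
      ∀ x : P, ((α ⟨x, (F.le_of_mem hφ).1 x.2⟩ : S) : Ω) = φ x := by
  have hPS := (F.le_of_mem hφ).1
  obtain ⟨R, hPR, -, hRr⟩ := hF P hPS
  obtain ⟨e1, he1⟩ := (isConj_iff F P R).mp hPR
  -- the isomorphism P ≃ φ(P)
  have heφ := isIso_isoOfRange F hφ rfl
  set eφ := isoOfRange F hφ rfl with heφ_def
  have hP'S : φ.range ≤ S := heφ.le_right
  have he2 : IsIso F (eφ.symm.trans e1) := heφ.symm.trans he1
  -- extend e1 to S
  have hrange : ∀ {Q : Subgroup Ω} (e : Q ≃* R), (R.subtype.comp e.toMonoidHom).range = R := by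
    intro Q e
    ext y
    constructor
    · rintro ⟨x, rfl⟩
      exact (e x).2
    · intro hy
      exact ⟨e.symm ⟨y, hy⟩, by simp⟩
  obtain ⟨ψ1, hψ1, hψ1x⟩ := hRr.2 P _ he1 (hrange e1)
  obtain ⟨ψ2, hψ2, hψ2x⟩ := hRr.2 φ.range _ he2 (hrange _)
  have hle1 := le_extender_of_abelian hab hPS (R.subtype.comp e1.toMonoidHom)
  have hle2 := le_extender_of_abelian hab hP'S (R.subtype.comp (eφ.symm.trans e1).toMonoidHom)
  obtain ⟨α1, hα1, hα1x⟩ := exists_aut_of_hom_top F (restrict_mem F hψ1 hle1)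
  obtain ⟨α2, hα2, hα2x⟩ := exists_aut_of_hom_top F (restrict_mem F hψ2 hle2)
  refine ⟨(α1 : S ≃* S).trans (α2 : S ≃* S).symm, hα1.trans hα2.symm, fun x => ?_⟩
  -- α2 (φ x) = α1 x
  have h1 : ((α1 ⟨x, hPS x.2⟩ : S) : Ω) = ((e1 x : R) : Ω) := by
    rw [hα1x]
    exact hψ1x x x.2 (hle1 (hPS x.2))
  have hφxS : φ x ∈ S := (F.le_of_mem hφ).2 x
  have h2 : ((α2 ⟨φ x, hφxS⟩ : S) : Ω) = ((e1 x : R) : Ω) := by
    rw [hα2x]
    have := hψ2x (φ x) ⟨x, rfl⟩ (hle2 hφxS)
    refine this.trans ?_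
    show (((eφ.symm.trans e1) ⟨φ x, ⟨x, rfl⟩⟩ : R) : Ω) = ((e1 x : R) : Ω)
    have : eφ.symm ⟨φ x, ⟨x, rfl⟩⟩ = x := by
      rw [MulEquiv.symm_apply_eq]
      exact Subtype.ext rfl
    rw [MulEquiv.trans_apply, this]
  have h3 : α2 ⟨φ x, hφxS⟩ = α1 ⟨x, hPS x.2⟩ := Subtype.ext (h2.trans h1.symm)
  show (((α2 : S ≃* S).symm (α1 ⟨x, hPS x.2⟩) : S) : Ω) = φ x
  rw [← h3]
  simp

end Cfsg.Agent.Helper89
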