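-- Basic lemmas on involutions and sets of 3-transpositions (helper89).
import Mathlib
import Cfsg.Prelude.Def_FischerSpaces

set_option autoImplicit false

namespace Cfsg.Agent.Helper89

variable {G : Type*} [Group G]

theorem mul_self_of_orderOf_two {d : G} (h : orderOf d = 2) : d * d = 1 := by
  rw [← pow_two, ← h, pow_orderOf_eq_one]

theorem inv_eq_self_of_orderOf_two {d : G} (h : orderOf d = 2) : d⁻¹ = d :=
  inv_eq_of_mul_eq_one_left (mul_self_of_orderOf_two h)

theorem ne_one_of_orderOf_two {d : G} (h : orderOf d = 2) : d ≠ 1 := by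
  rintro rfl
  rw [orderOf_one] at h
  omega

/-- Two involutions whose product squares to one commute. -/
theorem commute_of_mul_sq_eq_one {d e : G} (hd : d * d = 1) (he : e * e = 1) (h : (d * e) ^ 2 = 1) :
    Commute d e := by
  show d * e = e * d
  have h1 : d * e * (d * e) = 1 := by rw [← pow_two]; exact h
  calc d * e = d * e * ((d * e) * (e * d)) := by
        rw [show d * e * (e * d) = d * (e * e) * d by group, he, mul_one, hd, mul_one]
    _ = (d * e * (d * e)) * (e * d) := by group
    _ = e * d := by rw [h1, one_mul]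

/-- Two commuting involutions have product squaring to one. -/
theorem mul_sq_eq_one_of_commute {d e : G} (hd : d * d = 1) (he : e * e = 1) (h : Commute d e) :
    (d * e) ^ 2 = 1 := by
  rw [h.mul_pow, pow_two, pow_two, hd, he, one_mul]

/-- If `x ^ (2 ^ k) = 1` and `x ^ 3 = 1` then `x = 1`. -/
theorem eq_one_of_pow_two_pow_of_pow_three {x : G} {k : ℕ} (h2 : x ^ (2 ^ k) = 1) (h3 : x ^ 3 = 1) : x = 1 := by
  have hcop : Nat.Coprime (2 ^ k) 3 := by
    apply Nat.Coprime.pow_left
    decide
  have := pow_gcd_eq_one.2 ⟨h2, h3⟩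
  rwa [hcop, pow_one] at this

/-- In a set of 3-transpositions, two members lying in a common 2-subgroup commute. -/
theorem commute_of_mem_two_group {D : Set G} (hD : Cfsg.IsThreeTranspositionSet D) {T : Subgroup G}
    (hT : IsPGroup 2 T) {d e : G} (hd : d ∈ D) (he : e ∈ D) (hdT : d ∈ T) (heT : e ∈ T) : Commute d e := by
  have hdd := mul_self_of_orderOf_two (hD.1 d hd)
  have hee := mul_self_of_orderOf_two (hD.1 e he)
  rcases hD.2 d hd e he with h2 | h3
  · exact commute_of_mul_sq_eq_one hdd hee h2
  · obtain ⟨k, hk⟩ := hT ⟨d * e, T.mul_mem hdT heT⟩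
    have hk' : (d * e) ^ (2 ^ k) = 1 := by
      have := congrArg Subtype.val hk
      simpa using this
    have h1 := eq_one_of_pow_two_pow_of_pow_three hk' h3
    apply commute_of_mul_sq_eq_one hdd hee
    rw [h1, one_pow]

/-- A subgroup generated by pairwise commuting involutions is a 2-group. -/
theorem isPGroup_two_closure_of_commuting_involutions {E : Set G} (hinv : ∀ d ∈ E, orderOf d = 2)
    (hcomm : ∀ a ∈ E, ∀ b ∈ E, Commute a b) : IsPGroup 2 (Subgroup.closure E) := by
  have hsq : ∀ x ∈ Subgroup.closure E, x ^ 2 = 1 := by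
    have hc : IsMulCommutative (Subgroup.closure E) :=
      Subgroup.isMulCommutative_closure (fun x hx y hy => hcomm x hx y hy)
    intro x hx
    induction hx using Subgroup.closure_induction with
    | mem x hx => rw [pow_two]; exact mul_self_of_orderOf_two (hinv x hx)
    | one => exact one_pow 2
    | mul x y hx hy ihx ihy =>
      have hxy : Commute x y := by
        have := hc.is_comm.comm ⟨x, hx⟩ ⟨y, hy⟩
        exact congrArg Subtype.val this
      rw [hxy.mul_pow, ihx, ihy, one_mul]
    | inv x hx ih => rw [inv_pow, ih, inv_one]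
  intro x
  refine ⟨1, ?_⟩
  apply Subtype.ext
  simpa using hsq x.1 x.2

end Cfsg.Agent.Helper89
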