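import Mathlib
import Cfsg.Prelude.Def_Characters
import Cfsg.Agent.Helper74.RealRep

/-!
# (H) of helper61's S4707 plan (#6269): the exterior square of a character is a character

Second compound matrices: `C(A) (i,j) (k,l) = A i k * A j l - A i l * A j k` on the index set
`{(i,j) | i < j}`; Cauchy–Binet for `2 × 2` minors gives `C(AB) = C(A) C(B)`, `C(1) = 1` and
`tr C(A) = ((tr A)^2 - tr (A * A)) / 2`.
-/

set_option autoImplicit false

namespace Cfsg.Agent.Helper89.TwoP

open Cfsg Cfsg.Agent.Helper74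

/-- the index set of the second compound matrix -/
abbrev Idx2 (n : ℕ) : Type := {x : Fin n × Fin n // x.1 < x.2}

/-- a double sum of a function vanishing on the diagonal, folded onto `i < j` -/
theorem sum_sum_eq_sum_idx2 {n : ℕ} (F : Fin n → Fin n → ℂ) (h0 : ∀ s, F s s = 0) :
    ∑ s, ∑ t, F s t = ∑ x : Idx2 n, (F x.1.1 x.1.2 + F x.1.2 x.1.1) := by
  classical
  have h1 : ∑ x : Idx2 n, (F x.1.1 x.1.2 + F x.1.2 x.1.1)
      = ∑ p : Fin n × Fin n, if p.1 < p.2 then (F p.1 p.2 + F p.2 p.1) else 0 := by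
    rw [← Finset.sum_filter]
    exact (Finset.sum_subtype (Finset.univ.filter fun p : Fin n × Fin n => p.1 < p.2)
      (by simp) (fun p => F p.1 p.2 + F p.2 p.1)).symm
  have h2 : ∑ p : Fin n × Fin n, (if p.1 < p.2 then F p.2 p.1 else 0)
      = ∑ p : Fin n × Fin n, (if p.2 < p.1 then F p.1 p.2 else 0) := by
    refine Fintype.sum_equiv (Equiv.prodComm _ _) _ _ ?_
    intro p
    rfl
  rw [h1, ← Fintype.sum_prod_type']
  have h3 : ∀ p : Fin n × Fin n, (if p.1 < p.2 then (F p.1 p.2 + F p.2 p.1) else 0)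
      = (if p.1 < p.2 then F p.1 p.2 else 0) + (if p.1 < p.2 then F p.2 p.1 else 0) := by
    intro p
    split_ifs <;> simp
  simp_rw [h3]
  rw [Finset.sum_add_distrib, h2, ← Finset.sum_add_distrib]
  refine Finset.sum_congr rfl ?_
  intro p _
  rcases lt_trichotomy p.1 p.2 with h | h | h
  · simp [h, not_lt.mpr h.le]
  · have hF : F p.1 p.2 = 0 := by rw [h]; exact h0 _
    have hn : ¬ p.1 < p.2 := by rw [h]; exact lt_irrefl _
    have hn' : ¬ p.2 < p.1 := by rw [h]; exact lt_irrefl _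
    rw [if_neg hn, if_neg hn', hF, add_zero]
  · simp [h, not_lt.mpr h.le]

/-- the second compound matrix -/
noncomputable def comp2 {n : ℕ} (A : Matrix (Fin n) (Fin n) ℂ) : Matrix (Idx2 n) (Idx2 n) ℂ :=
  Matrix.of fun a b => A a.1.1 b.1.1 * A a.1.2 b.1.2 - A a.1.1 b.1.2 * A a.1.2 b.1.1

theorem comp2_apply {n : ℕ} (A : Matrix (Fin n) (Fin n) ℂ) (a b : Idx2 n) :
    comp2 A a b = A a.1.1 b.1.1 * A a.1.2 b.1.2 - A a.1.1 b.1.2 * A a.1.2 b.1.1 := rfl

theorem comp2_one {n : ℕ} : comp2 (1 : Matrix (Fin n) (Fin n) ℂ) = 1 := by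
  classical
  ext a b
  obtain ⟨⟨i, j⟩, hij⟩ := a
  obtain ⟨⟨k, l⟩, hkl⟩ := b
  simp only at hij hkl
  rw [comp2_apply]
  simp only [Matrix.one_apply]
  by_cases hab : (⟨(i, j), hij⟩ : Idx2 n) = ⟨(k, l), hkl⟩
  · rw [if_pos hab]
    have h1 : i = k := by
      have := congrArg (fun x : Idx2 n => x.1.1) hab
      simpa using this
    have h2 : j = l := by
      have := congrArg (fun x : Idx2 n => x.1.2) hab
      simpa using this
    subst h1 h2
    have hne : i ≠ j := ne_of_lt hij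
    simp [hne, hne.symm]
  · rw [if_neg hab]
    have h1 : ¬ (i = k ∧ j = l) := by
      rintro ⟨rfl, rfl⟩
      exact hab rfl
    have h2 : ¬ (i = l ∧ j = k) := by
      rintro ⟨rfl, rfl⟩
      exact absurd hij (not_lt.mpr hkl.le)
    by_cases hik : i = k
    · have hjl : j ≠ l := fun h => h1 ⟨hik, h⟩
      by_cases hil : i = l
      · have hjk : j ≠ k := fun h => h2 ⟨hil, h⟩
        simp [hik, hjl, hjk]
      · simp [hjl, hil]
    · by_cases hil : i = l
      · have hjk : j ≠ k := fun h => h2 ⟨hil, h⟩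
        simp [hik, hjk]
      · simp [hik, hil]

theorem comp2_mul {n : ℕ} (A B : Matrix (Fin n) (Fin n) ℂ) :
    comp2 (A * B) = comp2 A * comp2 B := by
  classical
  ext a b
  obtain ⟨⟨i, j⟩, hij⟩ := a
  obtain ⟨⟨k, l⟩, hkl⟩ := b
  rw [Matrix.mul_apply, comp2_apply]
  simp only [Matrix.mul_apply]
  -- the left side as a double sum
  have hL : (∑ s, A i s * B s k) * (∑ t, A j t * B t l) - (∑ s, A i s * B s l) * (∑ t, A j t * B t k)
      = ∑ s, ∑ t, A i s * A j t * (B s k * B t l - B s l * B t k) := by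
    rw [Finset.sum_mul_sum, Finset.sum_mul_sum, ← Finset.sum_sub_distrib]
    refine Finset.sum_congr rfl fun s _ => ?_
    rw [← Finset.sum_sub_distrib]
    refine Finset.sum_congr rfl fun t _ => ?_
    ring
  rw [hL, sum_sum_eq_sum_idx2 _ (fun s => by ring)]
  refine Finset.sum_congr rfl fun x _ => ?_
  rw [comp2_apply, comp2_apply]
  ring

theorem trace_comp2 {n : ℕ} (A : Matrix (Fin n) (Fin n) ℂ) :
    (comp2 A).trace = (A.trace ^ 2 - (A * A).trace) / 2 := by
  classical
  have h : A.trace ^ 2 - (A * A).trace = ∑ s, ∑ t, (A s s * A t t - A s t * A t s) := by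
    simp only [Matrix.trace, Matrix.diag_apply, Matrix.mul_apply, sq]
    rw [Finset.sum_mul_sum, ← Finset.sum_sub_distrib]
    refine Finset.sum_congr rfl fun s _ => ?_
    rw [← Finset.sum_sub_distrib]
  rw [h, sum_sum_eq_sum_idx2 _ (fun s => by ring)]
  have h2 : ∀ x : Idx2 n, (A x.1.1 x.1.1 * A x.1.2 x.1.2 - A x.1.1 x.1.2 * A x.1.2 x.1.1
      + (A x.1.2 x.1.2 * A x.1.1 x.1.1 - A x.1.2 x.1.1 * A x.1.1 x.1.2))
      = 2 * comp2 A x x := by
    intro x
    rw [comp2_apply]
    ring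
  simp_rw [h2]
  rw [← Finset.mul_sum]
  simp only [Matrix.trace, Matrix.diag_apply]
  ring

/-- (H) the exterior square of a character is a character. -/
theorem isCharacter_extSq {G : Type*} [Group G] {χ : G → ℂ} (hχ : IsCharacter G χ) :
    IsCharacter G (fun g => (χ g ^ 2 - χ (g * g)) / 2) := by
  classical
  obtain ⟨n, ρ, rfl⟩ := hχ
  let e : Idx2 n ≃ Fin (Fintype.card (Idx2 n)) := Fintype.equivFin _
  let Y : G → Matrix (Fin (Fintype.card (Idx2 n))) (Fin (Fintype.card (Idx2 n))) ℂ :=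
    fun g => Matrix.reindex e e (comp2 (repMat ρ g))
  have hY1 : Y 1 = 1 := by
    simp only [Y]
    rw [repMat_one, comp2_one]
    simp
  have hYmul : ∀ g h, Y (g * h) = Y g * Y h := by
    intro g h
    simp only [Y]
    rw [repMat_mul, comp2_mul]
    simp [Matrix.submatrix_mul_equiv]
  refine ⟨_, repOfMat Y hY1 hYmul, ?_⟩
  funext g
  rw [character_eq_trace_repMat, repMat_repOfMat]
  simp only [Y]
  rw [Matrix.reindex_apply]
  have htr : ((comp2 (repMat ρ g)).submatrix ⇑e.symm ⇑e.symm).trace = (comp2 (repMat ρ g)).trace := by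
    simp only [Matrix.trace, Matrix.diag_apply, Matrix.submatrix_apply]
    exact Equiv.sum_comp e.symm (fun x => comp2 (repMat ρ g) x x)
  rw [htr, trace_comp2, character_eq_trace_repMat, character_eq_trace_repMat, repMat_mul]

end Cfsg.Agent.Helper89.TwoP
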