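import Mathlib

set_option autoImplicit false

/-!
# (G2) of helper3's S3805 plan (#5796): an abelian Sylow subgroup whose nontrivial elements have
their centralizers inside `N(T)` is "TI" in the form: `g t g⁻¹ ∈ T`, `t ∈ T#` forces `g ∈ N(T)`.
-/

namespace Cfsg.Agent.Helper89.S3S3

universe u

variable {G : Type u} [Group G]

/-- (G2) `T` is a TI-subgroup, in the form used below. -/
theorem mem_normalizer_of_conj_mem [Finite G] {p : ℕ} [Fact p.Prime] (T : Sylow p G)
    (hcomm : ∀ s ∈ (T : Subgroup G), ∀ t ∈ (T : Subgroup G), s * t = t * s)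
    (hloc : ∀ t ∈ (T : Subgroup G), t ≠ 1 →
      Subgroup.centralizer ({t} : Set G) ≤ Subgroup.normalizer ((T : Subgroup G) : Set G))
    (g t : G) (ht : t ∈ (T : Subgroup G)) (ht1 : t ≠ 1) (hg : g * t * g⁻¹ ∈ (T : Subgroup G)) :
    g ∈ Subgroup.normalizer ((T : Subgroup G) : Set G) := by
  classical
  set s : G := g * t * g⁻¹ with hs
  have hs1 : s ≠ 1 := by
    intro h
    apply ht1
    have : t = g⁻¹ * s * g := by rw [hs]; group
    rw [this, h]; group
  -- the conjugate Sylow subgroup `Q = g • T`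
  set Q : Sylow p G := g • T with hQ
  have hmemQ : ∀ x : G, x ∈ (Q : Subgroup G) ↔ g⁻¹ * x * g ∈ (T : Subgroup G) := by
    intro x
    rw [hQ, Sylow.coe_subgroup_smul, Subgroup.mem_pointwise_smul_iff_inv_smul_mem]
    simp [MulAut.smul_def, mul_assoc]
  -- `Q ≤ C(s) ≤ N(T)`
  have hQN : (Q : Subgroup G) ≤ Subgroup.normalizer ((T : Subgroup G) : Set G) := by
    intro x hx
    apply hloc s hg hs1
    rw [Subgroup.mem_centralizer_iff]
    intro y hy
    rw [Set.mem_singleton_iff] at hy
    subst hy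
    have hx' := (hmemQ x).1 hx
    have h1 := hcomm t ht (g⁻¹ * x * g) hx'
    -- s * x = x * s
    have : s * x = g * (t * (g⁻¹ * x * g)) * g⁻¹ := by rw [hs]; group
    rw [this, h1, hs]; group
  -- `T ⊔ Q` is a `p`-group, hence equals `T`
  have hp : IsPGroup p ((T : Subgroup G) ⊔ (Q : Subgroup G) : Subgroup G) :=
    IsPGroup.to_sup_of_normal_left' T.isPGroup' Q.isPGroup' hQN
  have hsupT : ((T : Subgroup G) ⊔ (Q : Subgroup G) : Subgroup G) = T :=
    T.is_maximal' hp le_sup_left
  have hQT : (Q : Subgroup G) ≤ T := by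
    rw [← hsupT]; exact le_sup_right
  have hTQ : (T : Subgroup G) = Q := Q.is_maximal' T.isPGroup' hQT
  have hsm : g • T = T := by
    apply Sylow.ext
    rw [← hQ]; exact hTQ.symm
  exact Sylow.smul_eq_iff_mem_normalizer.1 hsm

end Cfsg.Agent.Helper89.S3S3
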