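import Mathlib
import Cfsg.Prelude.Def_Solvable
import Cfsg.Prelude.Def_CaseTheorems
import Cfsg.Agent.Lib.Cores
import Cfsg.Agent.Helper24.PLenMax

/-! (P1c) of helper21's S3797 plan, round 2 (#5569): the preimage `L` of `O_2(N_G(T)/T)`. -/

set_option autoImplicit false

namespace Cfsg.Agent.Helper89.THP1c

open Subgroup Cfsg

universe u

variable {G : Type u} [Group G] [Finite G]

theorem le_normalizer_map_subtype (N : Subgroup G) (L' : Subgroup ↥N) [hL : L'.Normal] :
    N ≤ normalizer ((L'.map N.subtype : Subgroup G) : Set G) := by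
  have key : ∀ n ∈ N, ∀ h ∈ L'.map N.subtype, n * h * n⁻¹ ∈ L'.map N.subtype := by
    intro n hn h hh
    obtain ⟨l, hl, rfl⟩ := Subgroup.mem_map.mp hh
    refine Subgroup.mem_map.mpr ⟨⟨n, hn⟩ * l * ⟨n, hn⟩⁻¹, hL.conj_mem l hl ⟨n, hn⟩, ?_⟩
    simp
  intro n hn
  rw [Subgroup.mem_normalizer_iff]
  intro h
  constructor
  · exact key n hn h
  · intro hh
    have := key n⁻¹ (N.inv_mem hn) _ hh
    have h2 : n⁻¹ * (n * h * n⁻¹) * n⁻¹⁻¹ = h := by group
    rwa [h2] at this

/-- (P1c) -/
theorem exists_L (T : Subgroup G)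
    (h : ¬ 2 ∣ (pCore 2 (↥(normalizer (T : Set G)) ⧸ T.subgroupOf (normalizer (T : Set G)))).index) :
    ∃ L : Subgroup G, T ≤ L ∧ L ≤ normalizer (T : Set G) ∧
      normalizer (T : Set G) ≤ normalizer (L : Set G) ∧
      (∃ k : ℕ, T.relIndex L = 2 ^ k) ∧ ¬ 2 ∣ L.relIndex (normalizer (T : Set G)) := by
  set N := normalizer (T : Set G) with hN
  set T' := T.subgroupOf N with hT'
  set C := pCore 2 (↥N ⧸ T') with hC
  set L' := C.comap (QuotientGroup.mk' T') with hL'
  have hTN : T ≤ N := le_normalizer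
  have hT'map : T'.map N.subtype = T := by
    rw [hT', Subgroup.subgroupOf_map_subtype, inf_eq_left.mpr hTN]
  have hT'L' : T' ≤ L' := Cfsg.Agent.Helper24.le_comap_mk T' C
  refine ⟨L'.map N.subtype, ?_, Subgroup.map_subtype_le L', ?_, ?_, ?_⟩
  · rw [← hT'map]
    exact Subgroup.map_mono hT'L'
  · haveI : L'.Normal := by
      rw [hL']
      infer_instance
    exact le_normalizer_map_subtype N L'
  · have hcard : ∃ k : ℕ, Nat.card C = 2 ^ k :=
      IsPGroup.iff_card.mp (Cfsg.Agent.Lib.isPGroup_pCore 2)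
    obtain ⟨k, hk⟩ := hcard
    refine ⟨k, ?_⟩
    rw [← hk]
    conv_lhs => rw [← hT'map]
    rw [Subgroup.relIndex_map_map_of_injective _ _ N.subtype_injective]
    exact Cfsg.Agent.Helper24.relIndex_ker_comap T' C
  · have h2 : (⊤ : Subgroup ↥N).map N.subtype = N := by
      rw [← MonoidHom.range_eq_map, Subgroup.range_subtype]
    have h1 : (L'.map N.subtype).relIndex N = C.index := by
      calc (L'.map N.subtype).relIndex N
          = (L'.map N.subtype).relIndex ((⊤ : Subgroup ↥N).map N.subtype) := by rw [h2]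
        _ = L'.relIndex ⊤ := Subgroup.relIndex_map_map_of_injective _ _ N.subtype_injective
        _ = L'.index := Subgroup.relIndex_top_right _
        _ = C.index := by
          rw [hL', Subgroup.index_comap_of_surjective _ (QuotientGroup.mk'_surjective T')]
    rw [h1]
    exact h

end Cfsg.Agent.Helper89.THP1c
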