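import Mathlib

/-! (W6) of helper21's S3797 plan (#5260/#5273): a finite abelian 2-group whose automorphism
group is transitive on involutions is homocyclic. -/

set_option autoImplicit false

namespace Cfsg.Agent.Helper89.THW6

open Multiplicative

theorem zmod_pow_eq_one (N K : ℕ) (g : Multiplicative (ZMod N)) (h : N ∣ K) : g ^ K = 1 := by
  apply Multiplicative.toAdd.injective
  rw [toAdd_pow, toAdd_one, nsmul_eq_mul, (ZMod.natCast_eq_zero_iff K N).mpr h, zero_mul]

theorem ofAdd_natCast_ne_one (N K : ℕ) (h : ¬ N ∣ K) :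
    Multiplicative.ofAdd ((K : ℕ) : ZMod N) ≠ 1 := by
  intro hc
  exact h ((ZMod.natCast_eq_zero_iff K N).mp (ofAdd_eq_one.mp hc))

theorem ofAdd_natCast_eq_pow (N K : ℕ) :
    Multiplicative.ofAdd ((K : ℕ) : ZMod N) = (Multiplicative.ofAdd (1 : ZMod N)) ^ K := by
  rw [← ofAdd_nsmul, nsmul_one]

/-- (W6) a finite abelian 2-group whose automorphism group is transitive on involutions is
homocyclic. -/
theorem homocyclic_of_transitive {S : Type*} [CommGroup S] [Finite S] (hS : IsPGroup 2 S)
    (h : ∀ x y : S, x ≠ 1 → x ^ 2 = 1 → y ≠ 1 → y ^ 2 = 1 → ∃ a : MulAut S, a x = y) :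
    ∃ m r : ℕ, Nonempty (S ≃* (Fin r → Multiplicative (ZMod (2 ^ m)))) := by
  classical
  obtain ⟨ι, hι, n, hn, ⟨e⟩⟩ := CommGroup.equiv_prod_multiplicative_zmod_of_finite S
  obtain ⟨k, hk⟩ := IsPGroup.iff_card.mp hS
  have hcard : ∏ i, n i = 2 ^ k := by
    rw [← hk, Nat.card_congr e.toEquiv, Nat.card_pi]
    refine Finset.prod_congr rfl (fun i _ => ?_)
    exact ((Nat.card_congr Multiplicative.toAdd).trans (Nat.card_zmod (n i))).symm
  have hpow : ∀ i, ∃ d, n i = 2 ^ d := by
    intro i
    have h1 : n i ∣ 2 ^ k := hcard ▸ Finset.dvd_prod_of_mem n (Finset.mem_univ i)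
    obtain ⟨d, -, hd⟩ := (Nat.dvd_prime_pow Nat.prime_two).mp h1
    exact ⟨d, hd⟩
  choose d hd using hpow
  have hd1 : ∀ i, 1 ≤ d i := by
    intro i
    have h1 := hn i
    rw [hd i] at h1
    by_contra hc
    have h0 : d i = 0 := by omega
    rw [h0] at h1
    simp at h1
  -- key: all exponents are equal
  have key : ∀ i j, ¬ d j < d i := by
    intro i j hlt
    have hM1 : 1 ≤ d i := hd1 i
    let s' : (i : ι) → Multiplicative (ZMod (n i)) :=
      MonoidHom.mulSingle (fun i => Multiplicative (ZMod (n i))) i (Multiplicative.ofAdd 1)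
    let y' : (i : ι) → Multiplicative (ZMod (n i)) :=
      MonoidHom.mulSingle (fun i => Multiplicative (ZMod (n i))) j
        (Multiplicative.ofAdd ((2 ^ (d j - 1) : ℕ) : ZMod (n j)))
    have hx1 : s' ^ (2 ^ (d i - 1)) ≠ 1 := by
      intro hc
      have h1 := congrFun hc i
      simp only [s', Pi.pow_apply, MonoidHom.mulSingle_apply, Pi.mulSingle_eq_same,
        Pi.one_apply] at h1
      rw [← ofAdd_natCast_eq_pow] at h1
      refine ofAdd_natCast_ne_one _ _ ?_ h1
      rw [hd i]
      intro hdvd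
      have := (Nat.pow_dvd_pow_iff_le_right (by norm_num : 1 < 2)).mp hdvd
      omega
    have hx2 : (s' ^ (2 ^ (d i - 1))) ^ 2 = 1 := by
      rw [← pow_mul, ← pow_succ, Nat.sub_add_cancel hM1]
      simp only [s']
      rw [← map_pow, ← ofAdd_natCast_eq_pow, ← hd i]
      simp
    have hy1 : y' ≠ 1 := by
      intro hc
      have h1 := congrFun hc j
      simp only [y', MonoidHom.mulSingle_apply, Pi.mulSingle_eq_same, Pi.one_apply] at h1
      refine ofAdd_natCast_ne_one _ _ ?_ h1
      rw [hd j]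
      intro hdvd
      have := (Nat.pow_dvd_pow_iff_le_right (by norm_num : 1 < 2)).mp hdvd
      have := hd1 j
      omega
    have hy2 : y' ^ 2 = 1 := by
      simp only [y']
      rw [← map_pow, ofAdd_natCast_eq_pow, ← pow_mul, ← pow_succ, Nat.sub_add_cancel (hd1 j),
        ← ofAdd_natCast_eq_pow, ← hd j]
      simp
    obtain ⟨a, ha⟩ := h (e.symm (s' ^ (2 ^ (d i - 1)))) (e.symm y')
      (by
        intro hc
        apply hx1
        have := congrArg e hc
        simpa using this)
      (by rw [← map_pow, hx2, map_one])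
      (by
        intro hc
        apply hy1
        have := congrArg e hc
        simpa using this)
      (by rw [← map_pow, hy2, map_one])
    have hyt : y' = (e (a (e.symm s'))) ^ (2 ^ (d i - 1)) := by
      rw [← map_pow, ← map_pow, ← map_pow, ha]
      simp
    have hj := congrFun hyt j
    rw [Pi.pow_apply, zmod_pow_eq_one (n j) (2 ^ (d i - 1)) _
      (by rw [hd j]; exact pow_dvd_pow 2 (by omega))] at hj
    apply hy1
    funext j'
    by_cases hjj : j' = j
    · subst hjj
      exact hj
    · simp only [y', MonoidHom.mulSingle_apply, Pi.one_apply]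
      exact Pi.mulSingle_eq_of_ne hjj _
  by_cases hne : Nonempty ι
  · obtain ⟨i₀⟩ := hne
    have hall : ∀ i, d i = d i₀ := by
      intro i
      have h1 := key i i₀
      have h2 := key i₀ i
      omega
    have hn' : n = fun _ => 2 ^ d i₀ := by
      funext i
      rw [hd i, hall i]
    subst hn'
    exact ⟨d i₀, Fintype.card ι,
      ⟨e.trans (MulEquiv.arrowCongr (Fintype.equivFin ι) (MulEquiv.refl _))⟩⟩
  · haveI : IsEmpty ι := not_nonempty_iff.mp hne
    refine ⟨0, 0, ⟨?_⟩⟩
    haveI : Unique S := ⟨⟨1⟩, fun x => e.injective (Subsingleton.elim _ _)⟩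
    exact MulEquiv.ofUnique
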