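import Mathlib
import Cfsg.Agent.Helper89.THW6

/-! (T3) of helper21's S3797 plan, round 2 (#5569): the Sylow 2-subgroup is homocyclic, or
nonabelian with a solvable group of automorphisms transitive on its involutions. -/

set_option autoImplicit false

namespace Cfsg.Agent.Helper89.THT3

open Subgroup

universe u

variable {G : Type u} [Group G] [Finite G]

/-- conjugation action of the normalizer of `S` on `S`. -/
noncomputable def conjS (S : Subgroup G) : ↥(normalizer (S : Set G)) →* MulAut ↥S :=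
  (MulAut.congr (Subgroup.subgroupOfEquivOfLe (le_normalizer (H := S)))).toMonoidHom.comp
    (MulAut.conjNormal (H := S.subgroupOf (normalizer (S : Set G))))

theorem conjS_apply (S : Subgroup G) (n : ↥(normalizer (S : Set G))) (s : ↥S) :
    ((conjS S n s : ↥S) : G) = (n : G) * (s : G) * (n : G)⁻¹ := by
  simp [conjS, MulAut.congr, Subgroup.subgroupOfEquivOfLe]

/-- (T3) uses (W6) -/
theorem sylow_disj (hsol : Group.IsSolvable G) (S : Sylow 2 G)
    (htr : ∀ x y : G, x ∈ (S : Subgroup G) → y ∈ (S : Subgroup G) → x ≠ 1 → x ^ 2 = 1 → y ≠ 1 →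
      y ^ 2 = 1 → ∃ n ∈ normalizer ((S : Subgroup G) : Set G), n * x * n⁻¹ = y) :
    (∃ m r : ℕ, Nonempty (↥(S : Subgroup G) ≃* (Fin r → Multiplicative (ZMod (2 ^ m))))) ∨
    (¬ IsMulCommutative (S : Subgroup G) ∧ ∃ Y : Subgroup (MulAut ↥(S : Subgroup G)),
      Group.IsSolvable Y ∧
      ∀ x y : ↥(S : Subgroup G), x ≠ 1 → x ^ 2 = 1 → y ≠ 1 → y ^ 2 = 1 → ∃ a ∈ Y, a x = y) := by
  have htrans : ∀ x y : ↥(S : Subgroup G), x ≠ 1 → x ^ 2 = 1 → y ≠ 1 → y ^ 2 = 1 →
      ∃ a ∈ (conjS (S : Subgroup G)).range, a x = y := by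
    intro x y hx1 hx2 hy1 hy2
    obtain ⟨n, hn, hnx⟩ := htr (x : G) (y : G) x.2 y.2
      (fun h => hx1 (Subtype.ext h)) (by rw [← Subgroup.coe_pow, hx2]; rfl)
      (fun h => hy1 (Subtype.ext h)) (by rw [← Subgroup.coe_pow, hy2]; rfl)
    refine ⟨conjS (S : Subgroup G) ⟨n, hn⟩, ⟨⟨n, hn⟩, rfl⟩, ?_⟩
    apply Subtype.ext
    rw [conjS_apply]
    exact hnx
  by_cases hcomm : IsMulCommutative (S : Subgroup G)
  · left
    letI : CommGroup ↥(S : Subgroup G) :=
      { (inferInstance : Group ↥(S : Subgroup G)) with mul_comm := hcomm.is_comm.comm }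
    refine Cfsg.Agent.Helper89.THW6.homocyclic_of_transitive S.isPGroup' ?_
    intro x y hx1 hx2 hy1 hy2
    obtain ⟨a, -, ha⟩ := htrans x y hx1 hx2 hy1 hy2
    exact ⟨a, ha⟩
  · right
    refine ⟨hcomm, (conjS (S : Subgroup G)).range, ?_, htrans⟩
    haveI : Group.IsSolvable ↥(normalizer ((S : Subgroup G) : Set G)) := inferInstance
    exact solvable_of_surjective (conjS (S : Subgroup G)).rangeRestrict_surjective

end Cfsg.Agent.Helper89.THT3
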