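import Mathlib
import Cfsg.Prelude.Def_Local
import Cfsg.Agent.Lib.Cores
import Cfsg.Agent.Helper82.CharPWitness

/-!
# `O_{p'}(G) ≤ O_{p',p}(G)` is a `CharPWitness` as soon as a Sylow `p`-subgroup of `O_{p',p}(G)`
contains its centralizer (helper89, WANTED #3032 of helper82)
-/

set_option autoImplicit false

namespace Cfsg.Agent.Helper89

open Cfsg
open scoped Pointwise

/-- Core lemma (Frattini + coprime): if `K` is a normal `p'`-subgroup, `Q` a `p`-subgroup and `g`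
centralizes `Q` modulo `K`, then `g ∈ K * C_G(Q)`. -/
theorem exists_mul_mem_centralizer_of_comm_mem {G : Type*} [Group G] [Finite G] (p : ℕ)
    [Fact p.Prime] (K Q : Subgroup G) [hKn : K.Normal] (hK : (Nat.card K).Coprime p)
    (hQ : IsPGroup p Q) (g : G) (hg : ∀ q ∈ Q, g * q * g⁻¹ * q⁻¹ ∈ K) :
    ∃ k ∈ K, k * g ∈ Subgroup.centralizer (Q : Set G) := by
  classical
  have hp : p.Prime := Fact.out
  -- `K ⊓ Q = ⊥`
  have hKQ : K ⊓ Q = ⊥ := by
    have h1 : IsPGroup p (K ⊓ Q : Subgroup G) := hQ.to_le inf_le_right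
    obtain ⟨n, hn⟩ := IsPGroup.iff_card.mp h1
    have h2 : (Nat.card (K ⊓ Q : Subgroup G)).Coprime p :=
      Nat.Coprime.coprime_dvd_left (Subgroup.card_dvd_of_le inf_le_left) hK
    rw [hn] at h2
    rcases Nat.eq_zero_or_pos n with rfl | hpos
    · rw [pow_zero] at hn; exact Subgroup.card_eq_one.mp hn
    · exfalso
      have := (Nat.coprime_pow_left_iff hpos p p).mp h2
      rw [Nat.coprime_self] at this
      exact hp.one_lt.ne' this
  set M : Subgroup G := Q ⊔ K with hM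
  have hQM : Q ≤ M := le_sup_left
  have hKM : K ≤ M := le_sup_right
  -- the index of `Q` in `M` divides `|K|`
  have hidx : Q.relIndex M ∣ Nat.card K := by
    have h1 : Nat.card M = K.relIndex Q * Nat.card K := by
      have := Subgroup.relIndex_mul_relIndex ⊥ K M bot_le hKM
      rw [Subgroup.relIndex_bot_left, Subgroup.relIndex_bot_left] at this
      rw [← this, mul_comm, hM, Subgroup.relIndex_sup_right]
    have h2 : Nat.card M = Nat.card Q * Q.relIndex M := by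
      have := Subgroup.relIndex_mul_relIndex ⊥ Q M bot_le hQM
      rw [Subgroup.relIndex_bot_left, Subgroup.relIndex_bot_left] at this
      rw [← this]
    have h3 : K.relIndex Q ∣ Nat.card Q := Subgroup.relIndex_dvd_card K Q
    have h4 : Nat.card Q * Q.relIndex M ∣ Nat.card Q * Nat.card K := by
      rw [← h2, h1]; exact Nat.mul_dvd_mul_right h3 _
    exact (Nat.mul_dvd_mul_iff_left Nat.card_pos).mp h4
  have hnd : ¬ p ∣ (Q.subgroupOf M).index := by
    intro hd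
    have : p ∣ Nat.card K := dvd_trans hd hidx
    have h5 := Nat.Coprime.symm hK
    exact (Nat.Prime.coprime_iff_not_dvd hp).mp h5 this
  -- the conjugate of `Q` lies in `M`
  have hconjM : ∀ q ∈ Q, g * q * g⁻¹ ∈ M := by
    intro q hq
    have : g * q * g⁻¹ = (g * q * g⁻¹ * q⁻¹) * q := by group
    rw [this]
    exact M.mul_mem (hKM (hg q hq)) (hQM hq)
  -- Sylow in `M`
  have hQ1 : IsPGroup p (Q.subgroupOf M) := hQ.comap_subtype
  let P1 : Sylow p M := hQ1.toSylow hnd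
  let Q2 : Subgroup M := (Q.map (MulAut.conj g).toMonoidHom).subgroupOf M
  have hQ2 : IsPGroup p Q2 :=
    (hQ.map (MulAut.conj g).toMonoidHom).comap_subtype
  obtain ⟨P2, hP2⟩ := hQ2.exists_le_sylow
  obtain ⟨m, hm⟩ := MulAction.exists_smul_eq M P2 P1
  have hmconj : ∀ q ∈ Q, (m : G) * (g * q * g⁻¹) * (m : G)⁻¹ ∈ Q := by
    intro q hq
    have h1 : (⟨g * q * g⁻¹, hconjM q hq⟩ : M) ∈ Q2 := by
      show g * q * g⁻¹ ∈ Q.map (MulAut.conj g).toMonoidHom
      exact ⟨q, hq, by simp [MulAut.conj_apply]⟩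
    have h2 : (⟨g * q * g⁻¹, hconjM q hq⟩ : M) ∈ P2 := hP2 h1
    have hm' : MulAut.conj m • (P2 : Subgroup M) = (P1 : Subgroup M) := by
      rw [← Sylow.coe_subgroup_smul, hm]
    have h3 : MulAut.conj m • (⟨g * q * g⁻¹, hconjM q hq⟩ : M) ∈
        MulAut.conj m • (P2 : Subgroup M) :=
      Subgroup.smul_mem_pointwise_smul _ _ _ h2
    rw [hm', MulAut.smul_def, MulAut.conj_apply] at h3
    have h4 : m * ⟨g * q * g⁻¹, hconjM q hq⟩ * m⁻¹ ∈ Q.subgroupOf M := h3
    rw [Subgroup.mem_subgroupOf] at h4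
    simpa using h4
  -- decompose `m = q' * k'`
  have hmM : (m : G) ∈ ((Q ⊔ K : Subgroup G) : Set G) := m.2
  rw [Subgroup.mul_normal] at hmM
  obtain ⟨q', hq', k', hk', hqk⟩ := Set.mem_mul.mp hmM
  refine ⟨k', hk', ?_⟩
  rw [Subgroup.mem_centralizer_iff]
  intro q hq
  -- `n q n⁻¹ ∈ Q`
  have hnQ : (k' * g) * q * (k' * g)⁻¹ ∈ Q := by
    have : (k' * g) * q * (k' * g)⁻¹ = q'⁻¹ * ((m : G) * (g * q * g⁻¹) * (m : G)⁻¹) * q' := by
      rw [← hqk]; group
    rw [this]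
    exact Q.mul_mem (Q.mul_mem (Q.inv_mem hq') (hmconj q hq)) hq'
  have hnK : (k' * g) * q * (k' * g)⁻¹ * q⁻¹ ∈ K := by
    have : (k' * g) * q * (k' * g)⁻¹ * q⁻¹ = k' * (g * q * g⁻¹ * q⁻¹) * (q * k'⁻¹ * q⁻¹) := by
      group
    rw [this]
    exact K.mul_mem (K.mul_mem hk' (hg q hq)) (hKn.conj_mem _ (K.inv_mem hk') q)
  have hbot : (k' * g) * q * (k' * g)⁻¹ * q⁻¹ ∈ K ⊓ Q :=
    ⟨hnK, Q.mul_mem hnQ (Q.inv_mem hq)⟩
  rw [hKQ, Subgroup.mem_bot] at hbot
  -- `q * n = n * q`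
  have : (k' * g) * q = q * (k' * g) := by
    have h := congrArg (fun x => x * q * (k' * g)) hbot
    simp only [one_mul] at h
    rw [← h]; group
  exact this.symm

/-- WANTED #3032 (helper82): `O_{p'}(G) ≤ O_{p',p}(G)` is a `CharPWitness` when a Sylow `p`-subgroup
`Q` of `O_{p',p}(G)` satisfies `C_G(Q) ≤ O_{p',p}(G)`. -/
theorem charPWitness_of_sylow_centralizer {G : Type*} [Group G] [Finite G] (p : ℕ) [Fact p.Prime]
    (K L Q : Subgroup G) (hK : K = Cfsg.pPrimeCore p G) (hL : L = Cfsg.pPrimePCore p G)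
    (hQL : Q ≤ L) (hQp : IsPGroup p Q) (hQS : ¬ p ∣ Q.relIndex L)
    (hCQ : Subgroup.centralizer (Q : Set G) ≤ L) : Cfsg.Agent.Helper82.CharPWitness p K L := by
  subst hK
  have hKL : Cfsg.pPrimeCore p G ≤ L := by
    rw [hL]
    intro x hx
    show QuotientGroup.mk' (Cfsg.pPrimeCore p G) x ∈ Cfsg.pCore p (G ⧸ Cfsg.pPrimeCore p G)
    have h1 : QuotientGroup.mk' (Cfsg.pPrimeCore p G) x = 1 := (QuotientGroup.eq_one_iff x).mpr hx
    rw [h1]
    exact Subgroup.one_mem _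
  have hLn : L.Normal := by
    rw [hL]; unfold Cfsg.pPrimePCore; infer_instance
  refine ⟨hKL, inferInstance, hLn, ?_, ?_⟩
  · intro u hu
    rw [hL] at hu
    have hu' : QuotientGroup.mk' (Cfsg.pPrimeCore p G) u ∈
        Cfsg.pCore p (G ⧸ Cfsg.pPrimeCore p G) := hu
    obtain ⟨k, hk⟩ := Cfsg.Agent.Lib.isPGroup_pCore (G := G ⧸ Cfsg.pPrimeCore p G) p ⟨_, hu'⟩
    refine ⟨k, ?_⟩
    have hk' : (QuotientGroup.mk' (Cfsg.pPrimeCore p G) u) ^ (p ^ k) = 1 := by
      have := congrArg Subtype.val hk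
      simpa using this
    rw [← map_pow] at hk'
    exact (QuotientGroup.eq_one_iff _).mp hk'
  · intro g hg
    obtain ⟨k, hk, hkg⟩ := exists_mul_mem_centralizer_of_comm_mem p (Cfsg.pPrimeCore p G) Q
      (Cfsg.Agent.Lib.card_pPrimeCore_coprime p) hQp g (fun q hq => hg q (hQL hq))
    have h1 : k * g ∈ L := hCQ hkg
    have h2 : g = k⁻¹ * (k * g) := by group
    rw [h2]
    exact L.mul_mem (L.inv_mem (hKL hk)) h1

end Cfsg.Agent.Helper89
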