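import Mathlib
import Cfsg.Agent.Helper44.CliffDefs

/-!
# S3084 (helper44 architect, board #9890), piece (C1): the character sum on `(ZMod 2)^n`
-/

set_option autoImplicit false
open scoped MatrixGroups

namespace Cfsg.Agent.Helper89.Cliff

open Matrix Cfsg.Agent.Helper44.Cliff

variable {n : ℕ}

/-- (C1) character sum on `(ZMod 2)^n` -/
theorem sum_sg_dot (a : X n) : ∑ x : X n, sg (a ⬝ᵥ x) = if a = 0 then (2 : ZMod 3) ^ n else 0 := by
  classical
  by_cases ha : a = 0
  · rw [if_pos ha, ha]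
    have h : ∀ x : X n, sg ((0 : X n) ⬝ᵥ x) = 1 := fun x => by rw [zero_dotProduct, sg_zero]
    rw [Finset.sum_congr rfl (fun x _ => h x), Finset.sum_const, Finset.card_univ, nsmul_eq_mul,
      mul_one]
    have hc : Fintype.card (X n) = 2 ^ n := by
      rw [Fintype.card_fun, ZMod.card, Fintype.card_fin]
    rw [hc]
    push_cast
    rfl
  · rw [if_neg ha]
    obtain ⟨i, hi⟩ : ∃ i, a i ≠ 0 := by
      by_contra hcon
      apply ha
      funext i
      by_contra h
      exact hcon ⟨i, h⟩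
    have hi1 : a i = 1 := (zmod2_cases (a i)).resolve_left hi
    set e : X n := Pi.single i 1 with he
    have hdot : ∀ x : X n, a ⬝ᵥ (x + e) = a ⬝ᵥ x + 1 := by
      intro x
      rw [dotProduct_add, he, dotProduct_single, hi1, mul_one]
    have hsum : ∑ x : X n, sg (a ⬝ᵥ (x + e)) = ∑ x : X n, sg (a ⬝ᵥ x) :=
      Fintype.sum_equiv (Equiv.addRight e) _ _ (fun x => rfl)
    have hneg : ∑ x : X n, sg (a ⬝ᵥ (x + e)) = - ∑ x : X n, sg (a ⬝ᵥ x) := by
      rw [← Finset.sum_neg_distrib]
      refine Finset.sum_congr rfl fun x _ => ?_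
      rw [hdot x, sg_add, sg_one, mul_neg, mul_one]
    rw [hsum] at hneg
    -- `S = -S` in `ZMod 3`
    have h2 : (2 : ZMod 3) * ∑ x : X n, sg (a ⬝ᵥ x) = 0 := by
      rw [two_mul]
      nth_rewrite 1 [hneg]
      exact neg_add_cancel _
    have h2u : (2 : ZMod 3) ≠ 0 := by decide
    exact (mul_eq_zero.mp h2).resolve_left h2u

end Cfsg.Agent.Helper89.Cliff
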