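import Mathlib
import Cfsg.Agent.Helper44.CliffDefs
import Cfsg.Agent.Helper89.CliffC1

/-!
# S3084 (helper44 architect, board #9890), piece (C2): the trace of a Pauli operator
-/

set_option autoImplicit false
open scoped MatrixGroups

namespace Cfsg.Agent.Helper89.Cliff

open Matrix Cfsg.Agent.Helper44.Cliff

variable {n : ℕ}

/-- (C2) trace of a Pauli operator. -/
theorem trace_T (u : U0 n) : Matrix.trace (T u) = if u = 0 then (2 : ZMod 3) ^ n else 0 := by
  classical
  rw [Matrix.trace]
  simp only [Matrix.diag_apply, T_apply]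
  by_cases h2 : u.2 = 0
  · have h : ∀ x : X n, (if x = x + u.2 then sg (u.1 ⬝ᵥ x) else 0) = sg (u.1 ⬝ᵥ x) := by
      intro x
      rw [if_pos (by rw [h2, add_zero])]
    rw [Finset.sum_congr rfl (fun x _ => h x), sum_sg_dot]
    have hiff : u.1 = 0 ↔ u = 0 := by
      constructor
      · intro h1; exact Prod.ext h1 h2
      · intro h0; rw [h0]; rfl
    by_cases h1 : u.1 = 0
    · rw [if_pos h1, if_pos (hiff.mp h1)]
    · rw [if_neg h1, if_neg (fun h0 => h1 (hiff.mpr h0))]
  · have h : ∀ x : X n, (if x = x + u.2 then sg (u.1 ⬝ᵥ x) else 0) = 0 := by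
      intro x
      rw [if_neg]
      intro hx
      apply h2
      have := add_left_cancel (a := x) (b := 0) (c := u.2) (by rw [add_zero]; exact hx)
      exact this.symm
    rw [Finset.sum_congr rfl (fun x _ => h x), Finset.sum_const_zero, if_neg]
    intro h0
    apply h2
    rw [h0]; rfl

end Cfsg.Agent.Helper89.Cliff
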