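import Mathlib

/-!
# S2089 block A `p'`-part (helper71's farm), piece (AC) `exists_of_mem_commutator` — helper89
-/

set_option autoImplicit false

namespace Cfsg.Agent.Helper89.PsuA

open scoped commutatorElement

universe u

/-- (AC) derived subgroup of `Q = Y⟨x⟩`, `Y` abelian normal. -/
theorem exists_of_mem_commutator {Q : Type*} [Group Q] (Y : Subgroup Q)
    (hY : ∀ a ∈ Y, ∀ b ∈ Y, a * b = b * a) (x : Q) (hx : ∀ y ∈ Y, x * y * x⁻¹ ∈ Y)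
    (hx' : ∀ y ∈ Y, x⁻¹ * y * x ∈ Y) (hgen : ∀ g : Q, ∃ y ∈ Y, ∃ k : ℤ, g = y * x ^ k) :
    ∀ c ∈ commutator Q, ∃ y ∈ Y, c = x * y * x⁻¹ * y⁻¹ := by
  have hφmul : ∀ y ∈ Y, ∀ y' ∈ Y, x * (y * y') * x⁻¹ * (y * y')⁻¹ =
      (x * y * x⁻¹ * y⁻¹) * (x * y' * x⁻¹ * y'⁻¹) := by
    intro y hy y' hy'
    have h1 : y⁻¹ * (x * y' * x⁻¹) = (x * y' * x⁻¹) * y⁻¹ := hY _ (inv_mem hy) _ (hx y' hy')
    have h2 : y'⁻¹ * y⁻¹ = y⁻¹ * y'⁻¹ := hY _ (inv_mem hy') _ (inv_mem hy)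
    calc x * (y * y') * x⁻¹ * (y * y')⁻¹
        = x * y * x⁻¹ * ((x * y' * x⁻¹) * y⁻¹) * y'⁻¹ := by rw [mul_inv_rev, h2]; group
      _ = x * y * x⁻¹ * (y⁻¹ * (x * y' * x⁻¹)) * y'⁻¹ := by rw [h1]
      _ = (x * y * x⁻¹ * y⁻¹) * (x * y' * x⁻¹ * y'⁻¹) := by group
  let C : Subgroup Q :=
    { carrier := {c | ∃ y ∈ Y, c = x * y * x⁻¹ * y⁻¹}
      mul_mem' := by
        rintro _ _ ⟨y, hy, rfl⟩ ⟨y', hy', rfl⟩
        exact ⟨y * y', mul_mem hy hy', (hφmul y hy y' hy').symm⟩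
      one_mem' := ⟨1, one_mem _, by group⟩
      inv_mem' := by
        rintro _ ⟨y, hy, rfl⟩
        refine ⟨y⁻¹, inv_mem hy, ?_⟩
        have h1 : y * (x * y⁻¹ * x⁻¹) = (x * y⁻¹ * x⁻¹) * y := hY _ hy _ (hx _ (inv_mem hy))
        calc (x * y * x⁻¹ * y⁻¹)⁻¹ = y * (x * y⁻¹ * x⁻¹) := by group
          _ = (x * y⁻¹ * x⁻¹) * y := h1
          _ = x * y⁻¹ * x⁻¹ * y⁻¹⁻¹ := by group }
  have hCmem : ∀ c : Q, c ∈ C ↔ ∃ y ∈ Y, c = x * y * x⁻¹ * y⁻¹ := fun c => Iff.rfl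
  have hCY : C ≤ Y := by
    rintro _ ⟨y, hy, rfl⟩
    exact mul_mem (hx y hy) (inv_mem hy)
  -- `x` normalises `C`
  have hxN : x ∈ Subgroup.normalizer (C : Set Q) := by
    rw [Subgroup.mem_normalizer_iff]
    intro c
    constructor
    · rintro ⟨y, hy, rfl⟩
      exact ⟨x * y * x⁻¹, hx y hy, by group⟩
    · rintro ⟨y, hy, hc⟩
      refine ⟨x⁻¹ * y * x, hx' y hy, ?_⟩
      calc c = x⁻¹ * (x * c * x⁻¹) * x := by group
        _ = x⁻¹ * (x * y * x⁻¹ * y⁻¹) * x := by rw [hc]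
        _ = x * (x⁻¹ * y * x) * x⁻¹ * (x⁻¹ * y * x)⁻¹ := by group
  have hCn : C.Normal := by
    refine ⟨fun c hc g => ?_⟩
    obtain ⟨y₀, hy₀, k, rfl⟩ := hgen g
    have h1 : x ^ k ∈ Subgroup.normalizer (C : Set Q) := zpow_mem hxN k
    have h2 : x ^ k * c * (x ^ k)⁻¹ ∈ C := (Subgroup.mem_normalizer_iff.mp h1 c).mp hc
    have h3 : y₀ * (x ^ k * c * (x ^ k)⁻¹) = (x ^ k * c * (x ^ k)⁻¹) * y₀ := hY _ hy₀ _ (hCY h2)
    have h4 : y₀ * x ^ k * c * (y₀ * x ^ k)⁻¹ = x ^ k * c * (x ^ k)⁻¹ := by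
      calc y₀ * x ^ k * c * (y₀ * x ^ k)⁻¹ = y₀ * (x ^ k * c * (x ^ k)⁻¹) * y₀⁻¹ := by group
        _ = (x ^ k * c * (x ^ k)⁻¹) * y₀ * y₀⁻¹ := by rw [h3]
        _ = x ^ k * c * (x ^ k)⁻¹ := by group
    rw [h4]
    exact h2
  -- the quotient is commutative
  have hcxy : ∀ y ∈ Y, Commute (QuotientGroup.mk' C x) (QuotientGroup.mk' C y) := by
    intro y hy
    rw [← commutatorElement_eq_one_iff_commute, ← map_commutatorElement, QuotientGroup.mk'_apply,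
      QuotientGroup.eq_one_iff]
    exact ⟨y, hy, rfl⟩
  have hcyy : ∀ y ∈ Y, ∀ y' ∈ Y, Commute (QuotientGroup.mk' C y) (QuotientGroup.mk' C y') := by
    intro y hy y' hy'
    show QuotientGroup.mk' C y * QuotientGroup.mk' C y' = QuotientGroup.mk' C y' * QuotientGroup.mk' C y
    rw [← map_mul, ← map_mul, hY y hy y' hy']
  have hle : commutator Q ≤ C := by
    rw [commutator_def, Subgroup.commutator_le]
    intro g _ g' _
    rw [← QuotientGroup.eq_one_iff, ← QuotientGroup.mk'_apply, map_commutatorElement,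
      commutatorElement_eq_one_iff_commute]
    obtain ⟨y, hy, k, rfl⟩ := hgen g
    obtain ⟨y', hy', k', rfl⟩ := hgen g'
    rw [map_mul, map_mul, map_zpow, map_zpow]
    apply Commute.mul_left
    · apply Commute.mul_right (hcyy y hy y' hy')
      exact ((hcxy y hy).symm).zpow_right k'
    · apply Commute.mul_right
      · exact (hcxy y' hy').zpow_left k
      · exact (Commute.refl _).zpow_zpow k k'
  intro c hc
  exact (hCmem c).mp (hle hc)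

end Cfsg.Agent.Helper89.PsuA
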