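-- helper89: piece (L1) of board post #10854 (for helper25, S4484): the key inequality of
-- Blichfeldt's sixty-degree lemma.
import Mathlib
import Cfsg.Agent.Helper25.Bli.Defs

set_option autoImplicit false

namespace Cfsg.Agent.Helper89.Bli

variable {V : Type*} [NormedAddCommGroup V] [InnerProductSpace ℂ V]

/-- (L1) `u` isometric, `‖u - α‖ ≤ 1`, `u w = α w`, `w`, `v` unit vectors:
`|⟪u v, v⟫| ≥ (1 + |⟪w, v⟫|²) / 2`. -/
theorem norm_inner_ge (u : V →L[ℂ] V) (hu : ∀ v, ‖u v‖ = ‖v‖) (α : ℂ) (hα : ‖α‖ = 1)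
    (h : ‖u - α • (1 : V →L[ℂ] V)‖ ≤ 1) (w v : V) (hw : u w = α • w) (hw1 : ‖w‖ = 1)
    (hv1 : ‖v‖ = 1) : (1 + ‖inner ℂ w v‖ ^ 2) / 2 ≤ ‖inner ℂ (u v) v‖ := by
  obtain ⟨c, hc⟩ : ∃ c : ℂ, c = inner ℂ w v := ⟨_, rfl⟩
  obtain ⟨b, hb⟩ : ∃ b : V, b = v - c • w := ⟨_, rfl⟩
  rw [← hc]
  have hww : inner ℂ w w = 1 := by
    rw [inner_self_eq_norm_sq_to_K, hw1]; simp
  have hwb : inner ℂ w b = 0 := by
    rw [hb, inner_sub_right, inner_smul_right, hww, mul_one, hc, sub_self]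
  have hv : v = c • w + b := by rw [hb]; abel
  -- Pythagoras
  have hnb : ‖b‖ ^ 2 = 1 - ‖c‖ ^ 2 := by
    have h1 : inner ℂ (c • w) b = 0 := by
      rw [inner_smul_left, hwb, mul_zero]
    have h2 := norm_add_sq_eq_norm_sq_add_norm_sq_of_inner_eq_zero (c • w) b h1
    rw [← hv, hv1, norm_smul, hw1, mul_one] at h2
    nlinarith [h2]
  -- `(u - α) v = (u - α) b`
  have hub : (u - α • (1 : V →L[ℂ] V)) v = (u - α • (1 : V →L[ℂ] V)) b := by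
    have h1 : (u - α • (1 : V →L[ℂ] V)) (c • w) = 0 := by
      have h2 : (u - α • (1 : V →L[ℂ] V)) (c • w) = u (c • w) - α • (c • w) := rfl
      rw [h2, map_smul, hw, smul_comm, sub_self]
    conv_lhs => rw [hv]
    rw [map_add, h1, zero_add]
  have hle : ‖(u - α • (1 : V →L[ℂ] V)) v‖ ≤ ‖b‖ := by
    rw [hub]
    calc ‖(u - α • (1 : V →L[ℂ] V)) b‖ ≤ ‖u - α • (1 : V →L[ℂ] V)‖ * ‖b‖ :=
          ContinuousLinearMap.le_opNorm _ _
      _ ≤ 1 * ‖b‖ := mul_le_mul_of_nonneg_right h (norm_nonneg _)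
      _ = ‖b‖ := one_mul _
  have hsq : ‖(u - α • (1 : V →L[ℂ] V)) v‖ ^ 2 ≤ ‖b‖ ^ 2 :=
    pow_le_pow_left₀ (norm_nonneg _) hle 2
  -- expand the square
  have hexp : ‖(u - α • (1 : V →L[ℂ] V)) v‖ ^ 2 = 2 - 2 * (α * inner ℂ (u v) v).re := by
    have h1 : (u - α • (1 : V →L[ℂ] V)) v = u v - α • v := by
      rfl
    rw [h1, norm_sub_sq (𝕜 := ℂ), hu, hv1, norm_smul, hα, hv1, inner_smul_right]
    simp only [RCLike.re_to_complex]
    ring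
  have hre : (α * inner ℂ (u v) v).re ≤ ‖inner ℂ (u v) v‖ := by
    calc (α * inner ℂ (u v) v).re ≤ ‖α * inner ℂ (u v) v‖ := Complex.re_le_norm _
      _ = ‖inner ℂ (u v) v‖ := by rw [norm_mul, hα, one_mul]
  rw [hexp, hnb] at hsq
  linarith
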