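-- helper89: piece (L5b) of board post #10854 (for helper25, S4484): in an imprimitive unitary
-- group with pairwise orthogonal blocks, an element of prime order `p` moving a block has every
-- `p`-th root of unity as an eigenvalue.
import Mathlib
import Cfsg.Agent.Helper25.Bli.Defs

set_option autoImplicit false

namespace Cfsg.Agent.Helper89.Bli

open Module Module.End Cfsg.Agent.Helper25.Bli

variable {G : Type*} [Group G] {V : Type*} [NormedAddCommGroup V] [InnerProductSpace ℂ V]
  [FiniteDimensional ℂ V]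

theorem act_one (Φ : G →* unitary (V →L[ℂ] V)) : act Φ 1 = LinearMap.id := by
  ext v
  simp [act]

theorem act_mul (Φ : G →* unitary (V →L[ℂ] V)) (g h : G) :
    act Φ (g * h) = (act Φ g).comp (act Φ h) := by
  ext v
  simp [act]

theorem act_mul_apply (Φ : G →* unitary (V →L[ℂ] V)) (g h : G) (v : V) :
    act Φ (g * h) v = act Φ g (act Φ h v) := by
  rw [act_mul]; rfl

/-- the stabilizer of a subspace -/
def stab (Φ : G →* unitary (V →L[ℂ] V)) (W : Submodule ℂ V) : Subgroup G where
  carrier := {g | W.map (act Φ g) = W}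
  one_mem' := by
    show W.map (act Φ 1) = W
    rw [act_one, Submodule.map_id]
  mul_mem' := by
    intro g h hg hh
    show W.map (act Φ (g * h)) = W
    rw [act_mul, Submodule.map_comp]
    have hh' : W.map (act Φ h) = W := hh
    rw [hh']
    exact hg
  inv_mem' := by
    intro g hg
    show W.map (act Φ g⁻¹) = W
    have hg' : W.map (act Φ g) = W := hg
    conv_lhs => rw [← hg']
    rw [← Submodule.map_comp, ← act_mul, inv_mul_cancel, act_one, Submodule.map_id]

theorem mem_stab (Φ : G →* unitary (V →L[ℂ] V)) (W : Submodule ℂ V) (g : G) :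
    g ∈ stab Φ W ↔ W.map (act Φ g) = W := Iff.rfl

/-- (L5b) -/
theorem hasEigenvalue_of_moved (Φ : G →* unitary (V →L[ℂ] V))
    (𝒲 : Set (Submodule ℂ V)) (h0 : ∀ W ∈ 𝒲, W ≠ ⊥)
    (horth : ∀ W ∈ 𝒲, ∀ W' ∈ 𝒲, W ≠ W' → W ⟂ W')
    (hinv : ∀ g : G, ∀ W ∈ 𝒲, W.map (act Φ g) ∈ 𝒲) (y : G) (p : ℕ) (hp : p.Prime)
    (hy : orderOf y = p) (W : Submodule ℂ V) (hW : W ∈ 𝒲) (hmv : W.map (act Φ y) ≠ W)
    (ζ : ℂ) (hζ : ζ ^ p = 1) : HasEigenvalue (act Φ y) ζ := by
  have hζ0 : ζ ≠ 0 := by
    rintro rfl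
    rw [zero_pow hp.ne_zero] at hζ
    exact zero_ne_one hζ
  have hyp : y ^ p = 1 := by rw [← hy]; exact pow_orderOf_eq_one y
  -- `y ^ i`, `0 < i < p`, moves `W`
  have hmove : ∀ i : ℕ, 0 < i → i < p → W.map (act Φ (y ^ i)) ≠ W := by
    intro i hi0 hip hst
    apply hmv
    have hmem : y ^ i ∈ stab Φ W := hst
    have hcop : Nat.Coprime i p :=
      (Nat.coprime_of_lt_prime hi0.ne' hip hp).symm
    obtain ⟨m, -, hm⟩ := Nat.exists_mul_mod_eq_one_of_coprime hcop hp.one_lt
    have h1 : (y ^ i) ^ m = y := by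
      rw [← pow_mul, ← pow_mod_orderOf, hy, hm, pow_one]
    have h2 : y ∈ stab Φ W := by
      rw [← h1]; exact Subgroup.pow_mem _ hmem m
    exact h2
  -- a nonzero vector of `W`
  obtain ⟨v, hvW, hv0⟩ := (Submodule.ne_bot_iff W).1 (h0 W hW)
  -- orthogonality of `v` and `y ^ i v`
  have horthv : ∀ i : ℕ, 0 < i → i < p → inner ℂ v (act Φ (y ^ i) v) = 0 := by
    intro i hi0 hip
    have h1 : W ⟂ W.map (act Φ (y ^ i)) :=
      horth W hW _ (hinv (y ^ i) W hW) (hmove i hi0 hip).symm
    exact (Submodule.isOrtho_iff_inner_eq.1 h1) v hvW _ (Submodule.mem_map_of_mem hvW)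
  -- the eigenvector
  set f : ℕ → V := fun i => (ζ⁻¹ ^ i) • act Φ (y ^ i) v with hf
  set e : V := ∑ i ∈ Finset.range p, f i with he
  have hfp : f p = f 0 := by
    simp only [hf]
    rw [hyp, pow_zero, pow_zero, inv_pow, hζ, inv_one]
  have hshift : ∑ i ∈ Finset.range p, f (i + 1) = e := by
    have h1 := Finset.sum_range_succ f p
    have h2 := Finset.sum_range_succ' f p
    rw [h1, hfp] at h2
    exact (add_right_cancel h2).symm
  have hact : act Φ y e = ζ • e := by
    have hterm : ∀ i : ℕ, act Φ y (f i) = ζ • f (i + 1) := by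
      intro i
      simp only [hf]
      rw [map_smul, ← act_mul_apply, ← pow_succ', smul_smul]
      congr 1
      rw [pow_succ]
      field_simp
    calc act Φ y e = ∑ i ∈ Finset.range p, act Φ y (f i) := by rw [he, map_sum]
      _ = ∑ i ∈ Finset.range p, ζ • f (i + 1) := Finset.sum_congr rfl fun i _ => hterm i
      _ = ζ • ∑ i ∈ Finset.range p, f (i + 1) := Finset.smul_sum.symm
      _ = ζ • e := by rw [hshift]
  have hinner : inner ℂ v e = inner ℂ v v := by
    rw [he, inner_sum]
    obtain ⟨p', rfl⟩ : ∃ p', p = p' + 1 := Nat.exists_eq_succ_of_ne_zero hp.ne_zero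
    rw [Finset.sum_range_succ']
    have h1 : ∑ i ∈ Finset.range p', inner ℂ v (f (i + 1)) = 0 := by
      refine Finset.sum_eq_zero fun i hi => ?_
      simp only [hf]
      rw [inner_smul_right, horthv (i + 1) (Nat.succ_pos i)
        (Nat.succ_lt_succ (Finset.mem_range.1 hi)), mul_zero]
    rw [h1, zero_add]
    simp only [hf, pow_zero, one_smul]
    rw [act_one]
    rfl
  have he0 : e ≠ 0 := by
    intro h
    rw [h, inner_zero_right] at hinner
    exact hv0 (inner_self_eq_zero.1 hinner.symm)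
  exact hasEigenvalue_of_hasEigenvector ⟨mem_eigenspace_iff.2 hact, he0⟩

end Cfsg.Agent.Helper89.Bli
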