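-- helper89: piece (JA3) of board post #4867 (for helper95, S4469 Jordan): the unitarian trick.
-- Every complex matrix representation of a finite group is conjugate to a unitary one.
import Mathlib

set_option autoImplicit false

namespace Cfsg.Agent.Helper89.Jordan

open Matrix
open scoped ComplexOrder MatrixOrder

/-- conjugating a family of matrices preserving the hermitian form `Bᴴ B` by `B` gives unitaries -/
theorem star_mul_self_conj {n : ℕ} (B M : Matrix (Fin n) (Fin n) ℂ) (hB : IsUnit B.det)
    (hM : Mᴴ * (Bᴴ * B) * M = Bᴴ * B) :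
    star (B * M * B⁻¹) * (B * M * B⁻¹) = 1 := by
  have hBh : IsUnit (Bᴴ).det := by
    rw [det_conjTranspose]
    exact hB.star
  rw [star_eq_conjTranspose, conjTranspose_mul, conjTranspose_mul, conjTranspose_nonsing_inv]
  calc Bᴴ⁻¹ * (Mᴴ * Bᴴ) * (B * M * B⁻¹) = Bᴴ⁻¹ * (Mᴴ * (Bᴴ * B) * M) * B⁻¹ := by
        simp only [Matrix.mul_assoc]
    _ = Bᴴ⁻¹ * (Bᴴ * B) * B⁻¹ := by rw [hM]
    _ = (Bᴴ⁻¹ * Bᴴ) * (B * B⁻¹) := by simp only [Matrix.mul_assoc]
    _ = 1 := by rw [nonsing_inv_mul _ hBh, mul_nonsing_inv _ hB, Matrix.mul_one]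

theorem exists_unitary_hom {G : Type*} [Group G] [Finite G] (n : ℕ)
    (ρ : Representation ℂ G (Fin n → ℂ)) :
    ∃ Φ : G →* unitary (EuclideanSpace ℂ (Fin n) →L[ℂ] EuclideanSpace ℂ (Fin n)),
      ∀ g : G, Φ g = 1 → ρ g = 1 := by
  classical
  have : Fintype G := Fintype.ofFinite G
  -- the matrices of the representation
  set M : G → Matrix (Fin n) (Fin n) ℂ := fun g => LinearMap.toMatrix' (ρ g) with hMdef
  have hM1 : M 1 = 1 := by
    simp only [hMdef, map_one]
    exact LinearMap.toMatrix'_one
  have hMmul : ∀ g h : G, M (g * h) = M g * M h := by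
    intro g h
    simp only [hMdef, map_mul]
    exact LinearMap.toMatrix'_mul _ _
  -- the averaged hermitian form
  set H : Matrix (Fin n) (Fin n) ℂ := ∑ g : G, (M g)ᴴ * M g with hHdef
  have hHinv : ∀ h : G, (M h)ᴴ * H * M h = H := by
    intro h
    rw [hHdef, Matrix.mul_sum, Matrix.sum_mul]
    rw [← Equiv.sum_comp (Equiv.mulRight h) (fun g => (M g)ᴴ * M g)]
    refine Finset.sum_congr rfl fun g _ => ?_
    simp only [Equiv.coe_mulRight, hMmul, conjTranspose_mul, Matrix.mul_assoc]
  have hHpd : H.PosDef := by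
    have h1 : H = (M 1)ᴴ * M 1 + ∑ g ∈ (Finset.univ.erase (1 : G)), (M g)ᴴ * M g := by
      rw [hHdef]
      exact (Finset.add_sum_erase Finset.univ (fun g => (M g)ᴴ * M g) (Finset.mem_univ (1 : G))).symm
    rw [h1, hM1, conjTranspose_one, Matrix.one_mul]
    exact PosDef.one.add_posSemidef
      (posSemidef_sum _ fun g _ => posSemidef_conjTranspose_mul_self (M g))
  -- the positive square root
  set S : Matrix (Fin n) (Fin n) ℂ := CFC.sqrt H with hSdef
  have hS2 : S * S = H := CFC.sqrt_mul_sqrt_self H hHpd.posSemidef.nonneg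
  have hSh : Sᴴ = S := (CFC.sqrt_nonneg H).posSemidef.isHermitian
  have hSdet : IsUnit S.det := by
    have hHu : IsUnit H.det := (Matrix.isUnit_iff_isUnit_det H).1 hHpd.isUnit
    rw [← hS2, det_mul] at hHu
    exact isUnit_of_mul_isUnit_left hHu
  have hSS : Sᴴ * S = H := by rw [hSh, hS2]
  -- the conjugated matrices
  set U : G → Matrix (Fin n) (Fin n) ℂ := fun g => S * M g * S⁻¹ with hUdef
  have hU1 : U 1 = 1 := by
    simp only [hUdef, hM1, Matrix.mul_one, mul_nonsing_inv _ hSdet]
  have hUmul : ∀ g h : G, U (g * h) = U g * U h := by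
    intro g h
    simp only [hUdef, hMmul]
    calc S * (M g * M h) * S⁻¹ = S * M g * (1 : Matrix (Fin n) (Fin n) ℂ) * M h * S⁻¹ := by
          simp only [Matrix.mul_one, Matrix.mul_assoc]
      _ = S * M g * S⁻¹ * (S * M h * S⁻¹) := by
          rw [← nonsing_inv_mul _ hSdet]; simp only [Matrix.mul_assoc]
  have hUstar : ∀ g : G, star (U g) * U g = 1 := by
    intro g
    exact star_mul_self_conj S (M g) hSdet (by rw [hSS]; exact hHinv g)
  have hUstar' : ∀ g : G, U g * star (U g) = 1 := by
    intro g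
    exact mul_eq_one_comm.1 (hUstar g)
  -- transport to continuous linear maps
  let e := Matrix.toEuclideanCLM (n := Fin n) (𝕜 := ℂ)
  refine ⟨{ toFun := fun g => ⟨e (U g), Unitary.mem_iff.2 ⟨by
              rw [← map_star, ← map_mul, hUstar, map_one], by
              rw [← map_star, ← map_mul, hUstar', map_one]⟩⟩
            map_one' := by
              apply Subtype.ext
              show e (U 1) = 1
              rw [hU1, map_one]
            map_mul' := by
              intro g h
              apply Subtype.ext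
              show e (U (g * h)) = e (U g) * e (U h)
              rw [hUmul, map_mul] }, ?_⟩
  intro g hg
  have h1 : e (U g) = 1 := congrArg Subtype.val hg
  have h2 : U g = 1 := by
    apply e.injective
    show e (U g) = e 1
    rw [h1, map_one]
  have h3 : M g = 1 := by
    have : S⁻¹ * (S * M g * S⁻¹) * S = S⁻¹ * 1 * S := by
      have h2' : S * M g * S⁻¹ = 1 := h2
      rw [h2']
    rw [Matrix.mul_one, nonsing_inv_mul _ hSdet] at this
    rw [← this]
    calc M g = (S⁻¹ * S) * M g * (S⁻¹ * S) := by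
          rw [nonsing_inv_mul _ hSdet, Matrix.one_mul, Matrix.mul_one]
      _ = S⁻¹ * (S * M g * S⁻¹) * S := by simp only [Matrix.mul_assoc]
  apply LinearMap.toMatrix'.injective
  rw [LinearMap.toMatrix'_one]
  exact h3

end Cfsg.Agent.Helper89.Jordan
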