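-- helper89: piece (U) of board post #10864 (for helper25, S4484 Brauer p^a q^b g0):
-- the unitarian trick WITH the intertwiner `T`.
import Mathlib
import Cfsg.Agent.Helper89.JordanJA3

set_option autoImplicit false

namespace Cfsg.Agent.Helper89.Bli

open Matrix
open scoped ComplexOrder MatrixOrder

/-- (U) every complex matrix representation of a finite group is conjugate, by an explicit linear
isomorphism `T`, to a unitary representation on Euclidean space. -/
theorem exists_unitary_conj {G : Type*} [Group G] [Finite G] (n : ℕ)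
    (ρ : Representation ℂ G (Fin n → ℂ)) :
    ∃ (Φ : G →* unitary (EuclideanSpace ℂ (Fin n) →L[ℂ] EuclideanSpace ℂ (Fin n)))
      (T : (Fin n → ℂ) ≃ₗ[ℂ] EuclideanSpace ℂ (Fin n)),
      ∀ (g : G) (v : Fin n → ℂ), (Φ g : EuclideanSpace ℂ (Fin n) →L[ℂ] EuclideanSpace ℂ (Fin n)) (T v)
        = T (ρ g v) := by
  classical
  have : Fintype G := Fintype.ofFinite G
  -- the matrices of the representation
  set M : G → Matrix (Fin n) (Fin n) ℂ := fun g => LinearMap.toMatrix' (ρ g) with hMdef
  have hM1 : M 1 = 1 := by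
    simp only [hMdef, map_one]
    exact LinearMap.toMatrix'_one
  have hMmul : ∀ g h : G, M (g * h) = M g * M h := by
    intro g h
    simp only [hMdef, map_mul]
    exact LinearMap.toMatrix'_mul _ _
  have hMv : ∀ (g : G) (v : Fin n → ℂ), M g *ᵥ v = ρ g v := by
    intro g v
    simp only [hMdef]
    rw [← Matrix.toLin'_apply, Matrix.toLin'_toMatrix']
  -- the averaged hermitian form
  set H : Matrix (Fin n) (Fin n) ℂ := ∑ g : G, (M g)ᴴ * M g with hHdef
  have hHinv : ∀ h : G, (M h)ᴴ * H * M h = H := by
    intro h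
    rw [hHdef, Matrix.mul_sum, Matrix.sum_mul]
    rw [← Equiv.sum_comp (Equiv.mulRight h) (fun g => (M g)ᴴ * M g)]
    refine Finset.sum_congr rfl fun g _ => ?_
    simp only [Equiv.coe_mulRight, hMmul, conjTranspose_mul, Matrix.mul_assoc]
  have hHpd : H.PosDef := by
    have h1 : H = (M 1)ᴴ * M 1 + ∑ g ∈ (Finset.univ.erase (1 : G)), (M g)ᴴ * M g := by
      rw [hHdef]
      exact (Finset.add_sum_erase Finset.univ (fun g => (M g)ᴴ * M g) (Finset.mem_univ (1 : G))).symm
    rw [h1, hM1, conjTranspose_one, Matrix.one_mul]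
    exact PosDef.one.add_posSemidef
      (posSemidef_sum _ fun g _ => posSemidef_conjTranspose_mul_self (M g))
  -- the positive square root
  set S : Matrix (Fin n) (Fin n) ℂ := CFC.sqrt H with hSdef
  have hS2 : S * S = H := CFC.sqrt_mul_sqrt_self H hHpd.posSemidef.nonneg
  have hSh : Sᴴ = S := (CFC.sqrt_nonneg H).posSemidef.isHermitian
  have hSdet : IsUnit S.det := by
    have hHu : IsUnit H.det := (Matrix.isUnit_iff_isUnit_det H).1 hHpd.isUnit
    rw [← hS2, det_mul] at hHu
    exact isUnit_of_mul_isUnit_left hHu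
  have hSS : Sᴴ * S = H := by rw [hSh, hS2]
  -- the conjugated matrices
  set U : G → Matrix (Fin n) (Fin n) ℂ := fun g => S * M g * S⁻¹ with hUdef
  have hU1 : U 1 = 1 := by
    simp only [hUdef, hM1, Matrix.mul_one, mul_nonsing_inv _ hSdet]
  have hUmul : ∀ g h : G, U (g * h) = U g * U h := by
    intro g h
    simp only [hUdef, hMmul]
    calc S * (M g * M h) * S⁻¹ = S * M g * (1 : Matrix (Fin n) (Fin n) ℂ) * M h * S⁻¹ := by
          simp only [Matrix.mul_one, Matrix.mul_assoc]
      _ = S * M g * S⁻¹ * (S * M h * S⁻¹) := by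
          rw [← nonsing_inv_mul _ hSdet]; simp only [Matrix.mul_assoc]
  have hUstar : ∀ g : G, star (U g) * U g = 1 := by
    intro g
    exact Cfsg.Agent.Helper89.Jordan.star_mul_self_conj S (M g) hSdet (by rw [hSS]; exact hHinv g)
  have hUstar' : ∀ g : G, U g * star (U g) = 1 := by
    intro g
    exact mul_eq_one_comm.1 (hUstar g)
  have hUS : ∀ g : G, U g * S = S * M g := by
    intro g
    simp only [hUdef]
    rw [Matrix.mul_assoc, nonsing_inv_mul _ hSdet, Matrix.mul_one]
  -- transport to continuous linear maps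
  let e := Matrix.toEuclideanCLM (n := Fin n) (𝕜 := ℂ)
  -- the intertwiner
  haveI : Invertible S := Matrix.invertibleOfIsUnitDet S hSdet
  let T : (Fin n → ℂ) ≃ₗ[ℂ] EuclideanSpace ℂ (Fin n) :=
    (Matrix.toLinearEquiv' S inferInstance).trans (WithLp.linearEquiv 2 ℂ (Fin n → ℂ)).symm
  have hT : ∀ v : Fin n → ℂ, T v = WithLp.toLp 2 (S *ᵥ v) := by
    intro v
    rfl
  refine ⟨{ toFun := fun g => ⟨e (U g), Unitary.mem_iff.2 ⟨by
              rw [← map_star, ← map_mul, hUstar, map_one], by
              rw [← map_star, ← map_mul, hUstar', map_one]⟩⟩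
            map_one' := by
              apply Subtype.ext
              show e (U 1) = 1
              rw [hU1, map_one]
            map_mul' := by
              intro g h
              apply Subtype.ext
              show e (U (g * h)) = e (U g) * e (U h)
              rw [hUmul, map_mul] }, T, ?_⟩
  intro g v
  show e (U g) (T v) = T (ρ g v)
  rw [hT, hT, Matrix.toEuclideanCLM_toLp, Matrix.mulVec_mulVec, hUS, ← Matrix.mulVec_mulVec, hMv]

end Cfsg.Agent.Helper89.Bli
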