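import Mathlib
import Cfsg.Prelude.Def_Blocks
import Cfsg.Agent.Helper80.Degree
import Cfsg.Agent.Helper80.OneChar
import Cfsg.Agent.Helper80.Induced
import Cfsg.Agent.Helper81.LinTwist

/-!
# S2332 (helper80, board #9431), piece (A7): the Heisenberg lemma
-/

set_option autoImplicit false
set_option linter.unusedSectionVars false
set_option linter.unusedVariables false

namespace Cfsg.Agent.Helper89.LS

open Cfsg
open scoped ComplexConjugate

universe u

/-- the dimension of the space of invariants is the average of the traces -/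
theorem finrank_invariants_eq {H : Type*} [Group H] [Fintype H] {V : Type*} [AddCommGroup V]
    [Module ℂ V] [FiniteDimensional ℂ V] (σ : Representation ℂ H V) :
    (Module.finrank ℂ σ.invariants : ℂ) =
      (Fintype.card H : ℂ)⁻¹ * ∑ h : H, LinearMap.trace ℂ V (σ h) := by
  classical
  have hcard : (Fintype.card H : ℂ) ≠ 0 := Nat.cast_ne_zero.mpr Fintype.card_ne_zero
  have : Invertible (Fintype.card H : ℂ) := invertibleOfNonzero hcard
  have htr := (Representation.isProj_averageMap σ).trace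
  have havg : σ.averageMap = (Fintype.card H : ℂ)⁻¹ • ∑ s : H, σ s := by
    rw [Representation.averageMap, GroupAlgebra.average, map_smul, map_sum, invOf_eq_inv]
    congr 1
    refine Finset.sum_congr rfl (fun s _ => ?_)
    rw [Representation.asAlgebraHom_of]
  rw [havg, map_smul, map_sum, smul_eq_mul] at htr
  rw [← htr]

/-- values of a linear character of a finite group have norm one, so `conj = inv` -/
theorem conj_lin_eq_inv {H : Type*} [Group H] [Finite H] (α : H →* ℂˣ) (x : H) :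
    conj ((α x : ℂˣ) : ℂ) = (((α x)⁻¹ : ℂˣ) : ℂ) := by
  have hpow : ((α x : ℂˣ) : ℂ) ^ orderOf x = 1 := by
    rw [← Units.val_pow_eq_pow_val, ← map_pow, pow_orderOf_eq_one, map_one, Units.val_one]
  have hnorm : ‖((α x : ℂˣ) : ℂ)‖ = 1 :=
    Complex.norm_eq_one_of_pow_eq_one hpow (orderOf_pos x).ne'
  rw [Units.val_inv_eq_inv_val, Complex.inv_eq_conj hnorm]

/-- if `ρ w v = c • v` with `v ≠ 0` then `ρ w⁻¹ v = c⁻¹ • v` -/
theorem eigen_inv {H : Type*} [Group H] {V : Type*} [AddCommGroup V] [Module ℂ V]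
    (ρ : Representation ℂ H V) (w : H) (v : V) (c : ℂ) (hv : v ≠ 0) (h : ρ w v = c • v) :
    c ≠ 0 ∧ ρ w⁻¹ v = c⁻¹ • v := by
  have hinv : ρ w⁻¹ (ρ w v) = v := by
    rw [← Module.End.mul_apply, ← map_mul, inv_mul_cancel, map_one, Module.End.one_apply]
  have hc : c ≠ 0 := by
    rintro rfl
    rw [zero_smul] at h
    rw [h, map_zero] at hinv
    exact hv hinv.symm
  refine ⟨hc, ?_⟩
  rw [h, map_smul] at hinv
  conv_rhs => rw [← hinv]
  rw [smul_smul, inv_mul_cancel₀ hc, one_smul]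

variable {G : Type u} [Group G] [Fintype G]

/-- (A7) the Heisenberg lemma: `a = 0`, `e = 1` is impossible. -/
theorem A7_heisenberg (Q Qs Z Q0 : Subgroup G) [Fintype Q] [Fintype Qs]
    (hQab : ∀ x ∈ Q, ∀ y ∈ Q, x * y = y * x)
    (hZQ : Z ≤ Q) (hZQs : Z ≤ Qs) (hcomm : ∀ x ∈ Q, ∀ y ∈ Qs, x * y * x⁻¹ * y⁻¹ ∈ Z)
    (hZQ0 : Z ≤ Q0) (hQ0Q : Q0 ≤ Q) (hQ0ne : ∃ x ∈ Q, x ∉ Q0)
    (S : Set G) (hSQ : ∀ g ∈ S, ∀ x ∈ Q, g * x * g⁻¹ ∈ Q)
    (hSQs : ∀ g ∈ S, ∀ y ∈ Qs, g * y * g⁻¹ ∈ Qs)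
    (hSQ0 : ∀ g ∈ S, ∀ x ∈ Q, g * x * g⁻¹ * x⁻¹ ∈ Q0)
    (hgen : Qs ≤ Subgroup.closure ((Z : Set G) ∪
      {w | ∃ g ∈ S, ∃ y ∈ Qs, w = g * y * g⁻¹ * y⁻¹}))
    {χ : G → ℂ} (hχ : IsCharacter G χ)
    (hQ1 : ∀ lam : Q →* ℂˣ, lam ≠ 1 →
      classInner (fun x : Q => χ x) (fun x => ((lam x : ℂˣ) : ℂ)) = 1)
    (hQs0 : classInner (fun y : Qs => χ y) (fun _ => 1) = 0) : False := by
  classical
  obtain ⟨n, ρ, rfl⟩ := hχ
  obtain ⟨x0, hx0Q, hx0⟩ := hQ0ne
  -- `Q` is commutative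
  have hQc : ∀ a b : Q, a * b = b * a := fun a b => Subtype.ext (hQab a a.2 b b.2)
  have hnorm : (Q0.subgroupOf Q).Normal :=
    ⟨fun a ha b => by rw [hQc b a, mul_inv_cancel_right]; exact ha⟩
  obtain ⟨α, hα0, hαx0⟩ := Cfsg.Agent.Helper80.exists_hom_ne_one_of_not_mem (G := Q)
    (Q0.subgroupOf Q)
    (fun a b => by
      induction a using QuotientGroup.induction_on with
      | H a =>
        induction b using QuotientGroup.induction_on with
        | H b => rw [← QuotientGroup.mk_mul, ← QuotientGroup.mk_mul, hQc a b])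
    ⟨x0, hx0Q⟩ (by rw [Subgroup.mem_subgroupOf]; exact hx0)
  have hα1 : α ≠ 1 := fun h => hαx0 (by rw [h]; rfl)
  have h1 := hQ1 α hα1
  have hαQ0 : ∀ (z : G) (hz : z ∈ Q0), α ⟨z, hQ0Q hz⟩ = 1 := fun z hz =>
    hα0 ⟨z, hQ0Q hz⟩ (by rw [Subgroup.mem_subgroupOf]; exact hz)
  set ρQ : Representation ℂ Q (Fin n → ℂ) := ρ.comp Q.subtype with hρQ
  set σ : Representation ℂ Q (Fin n → ℂ) := Cfsg.Agent.Helper81.twistRep α⁻¹ ρQ with hσ
  have hfin : (Module.finrank ℂ σ.invariants : ℂ) = 1 := by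
    rw [finrank_invariants_eq, ← h1, classInner, Nat.card_eq_fintype_card]
    congr 1
    refine Finset.sum_congr rfl fun x _ => ?_
    rw [conj_lin_eq_inv, hσ, Cfsg.Agent.Helper81.twistRep_apply, map_smul, smul_eq_mul,
      mul_comm]
    rfl
  have hfin' : Module.finrank ℂ σ.invariants = 1 := by exact_mod_cast hfin
  obtain ⟨⟨v, hvmem⟩, hv0, hvspan⟩ := finrank_eq_one_iff'.mp hfin'
  have hv0' : v ≠ 0 := fun h => hv0 (Subtype.ext h)
  -- the eigenvector property
  have hσv : ∀ x : Q, ρ (x : G) v = ((α x : ℂˣ) : ℂ) • v := by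
    intro x
    have h := (Representation.mem_invariants σ v).mp hvmem x
    rw [hσ, Cfsg.Agent.Helper81.twistRep_apply, LinearMap.smul_apply] at h
    have h2 : ρ (x : G) v = ρQ x v := rfl
    rw [h2]
    conv_lhs => rw [← one_smul ℂ (ρQ x v)]
    rw [show (1 : ℂ) = ((α x : ℂˣ) : ℂ) * (((α⁻¹ : Q →* ℂˣ) x : ℂˣ) : ℂ) by
      rw [MonoidHom.inv_apply, ← Units.val_mul, mul_inv_cancel, Units.val_one], ← smul_smul, h]
  -- membership criterion for invariants
  have hmemσ : ∀ w : Fin n → ℂ, (∀ x : Q, ρ (x : G) w = ((α x : ℂˣ) : ℂ) • w) →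
      ∃ c : ℂ, w = c • v := by
    intro w hw
    have hwmem : w ∈ σ.invariants := by
      rw [Representation.mem_invariants]
      intro x
      rw [hσ, Cfsg.Agent.Helper81.twistRep_apply, LinearMap.smul_apply]
      have h2 : ρQ x w = ρ (x : G) w := rfl
      rw [h2, hw x, smul_smul, MonoidHom.inv_apply, ← Units.val_mul, inv_mul_cancel,
        Units.val_one, one_smul]
    obtain ⟨c, hc⟩ := hvspan ⟨w, hwmem⟩
    exact ⟨c, by simpa using (congrArg Subtype.val hc).symm⟩
  -- Claim 1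
  have hclaim1 : ∀ y ∈ Qs, ∃ c : ℂ, ρ y v = c • v := by
    intro y hy
    refine hmemσ _ fun x => ?_
    have hz : (x : G)⁻¹ * y⁻¹ * x * y ∈ Z := by
      have := hcomm (x : G)⁻¹ (Q.inv_mem x.2) y⁻¹ (Qs.inv_mem hy)
      rwa [inv_inv, inv_inv] at this
    have hzQ : (x : G)⁻¹ * y⁻¹ * x * y ∈ Q := hZQ hz
    have hαz : α ⟨_, hzQ⟩ = 1 := hαQ0 _ (hZQ0 hz)
    have heq : (x : G) * y = y * ((x * ⟨_, hzQ⟩ : Q) : G) := by
      simp only [Subgroup.coe_mul]; group
    rw [← Module.End.mul_apply, ← map_mul, heq, map_mul, Module.End.mul_apply, hσv, map_mul,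
      hαz, mul_one, map_smul]
  -- Claim 2
  have hclaim2 : ∀ g ∈ S, ∃ c : ℂ, ρ g v = c • v := by
    intro g hg
    refine hmemσ _ fun x => ?_
    -- conjugation by `g` is a bijection of `Q`
    let f : Q → Q := fun x' => ⟨g * x' * g⁻¹, hSQ g hg x' x'.2⟩
    have hfinj : Function.Injective f := by
      intro a b hab
      have := congrArg Subtype.val hab
      simp only [f] at this
      exact Subtype.ext (mul_left_cancel (mul_right_cancel this))
    obtain ⟨x', hx'⟩ := (Finite.injective_iff_surjective.mp hfinj) x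
    have hx'g : g * (x' : G) * g⁻¹ = x := congrArg Subtype.val hx'
    have hq0 : g * (x' : G) * g⁻¹ * (x' : G)⁻¹ ∈ Q0 := hSQ0 g hg x' x'.2
    have hαeq : α x = α x' := by
      have : x = ⟨_, hQ0Q hq0⟩ * x' := by
        apply Subtype.ext
        simp only [Subgroup.coe_mul]
        rw [inv_mul_cancel_right, hx'g]
      rw [this, map_mul, hαQ0 _ hq0, one_mul]
    have heq : (x : G) * g = g * (x' : G) := by rw [← hx'g]; group
    rw [← Module.End.mul_apply, ← map_mul, heq, map_mul, Module.End.mul_apply, hσv, hαeq,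
      map_smul]
  -- the stabiliser of `v`
  let T : Subgroup G :=
    { carrier := {w | ρ w v = v}
      mul_mem' := fun {a b} ha hb => by
        change ρ _ v = v at ha hb ⊢
        rw [map_mul, Module.End.mul_apply, hb, ha]
      one_mem' := by simp
      inv_mem' := fun {a} ha => by
        change ρ _ v = v at ha ⊢
        have := (eigen_inv ρ a v 1 hv0' (by rw [ha, one_smul])).2
        rwa [inv_one, one_smul] at this }
  have hT : Subgroup.closure ((Z : Set G) ∪
      {w | ∃ g ∈ S, ∃ y ∈ Qs, w = g * y * g⁻¹ * y⁻¹}) ≤ T := by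
    rw [Subgroup.closure_le]
    rintro w (hw | ⟨g, hg, y, hy, rfl⟩)
    · show ρ w v = v
      have := hσv ⟨w, hZQ hw⟩
      rw [hαQ0 w (hZQ0 hw), Units.val_one, one_smul] at this
      exact this
    · show ρ (g * y * g⁻¹ * y⁻¹) v = v
      obtain ⟨cg, hcg⟩ := hclaim2 g hg
      obtain ⟨cy, hcy⟩ := hclaim1 y hy
      obtain ⟨hcg0, hcgi⟩ := eigen_inv ρ g v cg hv0' hcg
      obtain ⟨hcy0, hcyi⟩ := eigen_inv ρ y v cy hv0' hcy
      rw [map_mul, map_mul, map_mul, Module.End.mul_apply, Module.End.mul_apply,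
        Module.End.mul_apply, hcyi]
      simp only [map_smul, hcgi, hcy, hcg, smul_smul]
      have : cy⁻¹ * cg⁻¹ * cy * cg = 1 := by field_simp
      rw [this, one_smul]
  have hQsv : ∀ y : Qs, ρ (y : G) v = v := fun y => hT (hgen y.2)
  -- contradiction with `hQs0`
  set ρs : Representation ℂ Qs (Fin n → ℂ) := ρ.comp Qs.subtype with hρs
  have hfin0 : (Module.finrank ℂ ρs.invariants : ℂ) = 0 := by
    rw [finrank_invariants_eq, ← hQs0, classInner, Nat.card_eq_fintype_card]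
    congr 1
    refine Finset.sum_congr rfl fun x _ => ?_
    rw [map_one, mul_one]
    rfl
  have hfin0' : Module.finrank ℂ ρs.invariants = 0 := by exact_mod_cast hfin0
  have hbot : ρs.invariants = ⊥ := Submodule.finrank_eq_zero.mp hfin0'
  have hvs : v ∈ ρs.invariants := by
    rw [Representation.mem_invariants]
    intro y
    exact hQsv y
  rw [hbot, Submodule.mem_bot] at hvs
  exact hv0' hvs

end Cfsg.Agent.Helper89.LS
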