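import Mathlib
import Cfsg.Prelude.Def_Blocks
import Cfsg.Agent.Helper80.Degree
import Cfsg.Agent.Helper80.OneChar
import Cfsg.Agent.Helper80.Induced
import Cfsg.Agent.Helper81.LinTwist
import Cfsg.Agent.Helper89.LS_A7

/-!
# S2332 (helper80, board #9431), piece (A1): a character constant on `Q ∖ 1`
-/

set_option autoImplicit false
set_option linter.unusedSectionVars false
set_option linter.unusedVariables false

namespace Cfsg.Agent.Helper89.LS

open Cfsg
open scoped ComplexConjugate

universe u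

/-- the multiplicity of a linear character in a character is the dimension of an eigenspace -/
theorem classInner_lin_eq_finrank {H : Type u} [Group H] [Fintype H] {n : ℕ}
    (ρ : Representation ℂ H (Fin n → ℂ)) (lam : H →* ℂˣ) :
    classInner ρ.character (fun x => ((lam x : ℂˣ) : ℂ)) =
      (Module.finrank ℂ (Cfsg.Agent.Helper81.twistRep lam⁻¹ ρ).invariants : ℂ) := by
  rw [finrank_invariants_eq, classInner, Nat.card_eq_fintype_card]
  congr 1
  refine Finset.sum_congr rfl fun x _ => ?_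
  rw [conj_lin_eq_inv, Cfsg.Agent.Helper81.twistRep_apply, map_smul, smul_eq_mul, mul_comm]
  rfl

/-- a non-trivial linear character sums to zero -/
theorem sum_lin_eq_zero {H : Type*} [Group H] [Fintype H] (lam : H →* ℂˣ) (h : lam ≠ 1) :
    ∑ x : H, ((lam x : ℂˣ) : ℂ) = 0 := by
  obtain ⟨x0, hx0⟩ : ∃ x0, lam x0 ≠ 1 := by
    by_contra hcon
    exact h (MonoidHom.ext fun x => by
      by_contra hx
      exact hcon ⟨x, hx⟩)
  have hsum : ∑ x : H, ((lam (x0 * x) : ℂˣ) : ℂ) = ∑ x : H, ((lam x : ℂˣ) : ℂ) :=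
    Fintype.sum_equiv (Equiv.mulLeft x0) _ _ (fun x => rfl)
  have hmul : ((lam x0 : ℂˣ) : ℂ) * ∑ x : H, ((lam x : ℂˣ) : ℂ) = ∑ x : H, ((lam x : ℂˣ) : ℂ) := by
    conv_rhs => rw [← hsum]
    rw [Finset.mul_sum]
    refine Finset.sum_congr rfl fun x _ => ?_
    rw [map_mul, Units.val_mul]
  have hne : ((lam x0 : ℂˣ) : ℂ) - 1 ≠ 0 := by
    intro h0
    apply hx0
    apply Units.ext
    rw [Units.val_one]
    exact sub_eq_zero.mp h0
  have : (((lam x0 : ℂˣ) : ℂ) - 1) * ∑ x : H, ((lam x : ℂˣ) : ℂ) = 0 := by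
    rw [sub_mul, hmul, one_mul, sub_self]
  exact (mul_eq_zero.mp this).resolve_left hne

variable {G : Type u} [Group G] [Fintype G]

/-- (A1) A character of `G` which is constant `= τ` on the non-identity elements of a non-trivial
abelian subgroup `Q`. -/
theorem A1_exists_a_e (Q : Subgroup G) [Fintype Q] (hQab : ∀ x ∈ Q, ∀ y ∈ Q, x * y = y * x)
    (hnt : ∃ x ∈ Q, x ≠ 1) {χ : G → ℂ} (hχ : IsCharacter G χ) (τ : ℂ)
    (hτ : ∀ x ∈ Q, x ≠ 1 → χ x = τ) :
    ∃ a e : ℕ, classInner (fun x : Q => χ x) (fun _ => 1) = a ∧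
      (∀ lam : Q →* ℂˣ, lam ≠ 1 →
        classInner (fun x : Q => χ x) (fun x => ((lam x : ℂˣ) : ℂ)) = e) ∧
      χ 1 = (a : ℂ) + e * ((Nat.card Q : ℂ) - 1) ∧ τ = (a : ℂ) - e := by
  classical
  obtain ⟨n, ρ, rfl⟩ := hχ
  set ρQ : Representation ℂ Q (Fin n → ℂ) := ρ.comp Q.subtype with hρQ
  have hchar : (fun x : Q => ρ.character x) = ρQ.character := rfl
  have hq0 : (Nat.card Q : ℂ) ≠ 0 := Nat.cast_ne_zero.mpr Nat.card_pos.ne'
  -- the shape of `χ` on `Q`
  have hχx : ∀ x : Q, ρ.character x = τ + (if x = 1 then ρ.character 1 - τ else 0) := by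
    intro x
    by_cases hx : x = 1
    · rw [if_pos hx, hx]; simp
    · rw [if_neg hx, add_zero]
      exact hτ x x.2 (fun h => hx (Subtype.ext h))
  -- general formula for the inner product
  have hinner : ∀ c : Q → ℂ, c 1 = 1 →
      classInner (fun x : Q => ρ.character x) c =
        (Nat.card Q : ℂ)⁻¹ * (τ * conj (∑ x : Q, c x) + (ρ.character 1 - τ)) := by
    intro c hc1
    rw [classInner]
    congr 1
    have : ∀ x : Q, ρ.character x * conj (c x) =
        τ * conj (c x) + (if x = 1 then (ρ.character 1 - τ) * conj (c x) else 0) := by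
      intro x
      rw [hχx x, add_mul, ite_mul, zero_mul]
    rw [Finset.sum_congr rfl (fun x _ => this x), Finset.sum_add_distrib, ← Finset.mul_sum,
      Finset.sum_ite_eq' Finset.univ (1 : Q), if_pos (Finset.mem_univ _), hc1, map_one, mul_one,
      map_sum]
  -- the trivial character
  have htriv : classInner (fun x : Q => ρ.character x) (fun _ => 1) =
      (Nat.card Q : ℂ)⁻¹ * (τ * (Nat.card Q : ℂ) + (ρ.character 1 - τ)) := by
    rw [hinner (fun _ => 1) rfl]
    congr 2
    rw [Finset.sum_const, Finset.card_univ, nsmul_eq_mul, mul_one, map_natCast,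
      Nat.card_eq_fintype_card]
  -- non-trivial characters
  have hnontriv : ∀ lam : Q →* ℂˣ, lam ≠ 1 →
      classInner (fun x : Q => ρ.character x) (fun x => ((lam x : ℂˣ) : ℂ)) =
        (Nat.card Q : ℂ)⁻¹ * (ρ.character 1 - τ) := by
    intro lam hlam
    rw [hinner (fun x => ((lam x : ℂˣ) : ℂ)) (by rw [map_one, Units.val_one]),
      sum_lin_eq_zero lam hlam, map_zero, mul_zero, zero_add]
  -- a non-trivial linear character
  obtain ⟨x0, hx0Q, hx01⟩ := hnt
  have hQc : ∀ a b : Q, a * b = b * a := fun a b => Subtype.ext (hQab a a.2 b b.2)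
  obtain ⟨lam0, -, hlam0⟩ := Cfsg.Agent.Helper80.exists_hom_ne_one_of_not_mem (G := Q)
    (⊥ : Subgroup Q)
    (fun a b => by
      induction a using QuotientGroup.induction_on with
      | H a =>
        induction b using QuotientGroup.induction_on with
        | H b => rw [← QuotientGroup.mk_mul, ← QuotientGroup.mk_mul, hQc a b])
    ⟨x0, hx0Q⟩ (by
      rw [Subgroup.mem_bot]
      intro h
      exact hx01 (congrArg Subtype.val h))
  have hlam01 : lam0 ≠ 1 := fun h => hlam0 (by rw [h]; rfl)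
  -- the multiplicities
  have ha := classInner_lin_eq_finrank ρQ (1 : Q →* ℂˣ)
  have he := classInner_lin_eq_finrank ρQ lam0
  rw [← hchar] at ha he
  have ha' : classInner (fun x : Q => ρ.character x) (fun _ => 1) =
      (Module.finrank ℂ (Cfsg.Agent.Helper81.twistRep (1 : Q →* ℂˣ)⁻¹ ρQ).invariants : ℂ) := by
    rw [← ha]
    rfl
  refine ⟨Module.finrank ℂ (Cfsg.Agent.Helper81.twistRep (1 : Q →* ℂˣ)⁻¹ ρQ).invariants,
    Module.finrank ℂ (Cfsg.Agent.Helper81.twistRep lam0⁻¹ ρQ).invariants,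
    ha', fun lam hlam => ?_, ?_, ?_⟩
  · rw [hnontriv lam hlam, ← he, hnontriv lam0 hlam01]
  · rw [← ha', ← he, htriv, hnontriv lam0 hlam01]
    field_simp
    ring
  · rw [← ha', ← he, htriv, hnontriv lam0 hlam01]
    field_simp
    ring

end Cfsg.Agent.Helper89.LS
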