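import Mathlib
import Cfsg.Prelude.Def_Classical
import Cfsg.Agent.S0827
import Cfsg.Agent.S0279

/-!
# Involutions of the derived group of `SU_3(2)`

`SU_3(2)` (order 216) maps onto the quaternion group of order 8 with a kernel all of whose
2-elements are trivial; hence the derived group `SU_3(2)'` (of order 54) maps into `Q_8' = {±1}`
and two commuting involutions of `SU_3(2)'` are equal.
-/

set_option autoImplicit false

namespace Cfsg.Agent.Helper89.SU3Two

open Cfsg
open scoped commutatorElement

/-- In `Q_8` every commutator is `±1`. -/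
theorem quaternion_commutator_cases : ∀ g₁ g₂ : QuaternionGroup 2,
    ⁅g₁, g₂⁆ = 1 ∨ ⁅g₁, g₂⁆ = QuaternionGroup.a 2 := by
  decide

theorem quaternion_a2_mul_self : (QuaternionGroup.a 2 : QuaternionGroup 2) * QuaternionGroup.a 2 = 1 := by
  decide

/-- The derived subgroup of `Q_8` is contained in `{1, -1}`. -/
theorem quaternion_mem_commutator {c : QuaternionGroup 2} (hc : c ∈ commutator (QuaternionGroup 2)) :
    c = 1 ∨ c = QuaternionGroup.a 2 := by
  have hle : commutator (QuaternionGroup 2) ≤ Subgroup.zpowers (QuaternionGroup.a 2) := by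
    rw [commutator_eq_closure, Subgroup.closure_le]
    rintro g ⟨g₁, g₂, rfl⟩
    rcases quaternion_commutator_cases g₁ g₂ with h | h
    · rw [h]; exact Subgroup.one_mem _
    · rw [h]; exact Subgroup.mem_zpowers _
  have := hle hc
  rw [Subgroup.mem_zpowers_iff] at this
  obtain ⟨k, rfl⟩ := this
  rcases Int.even_or_odd' k with ⟨j, rfl | rfl⟩
  · left
    rw [zpow_mul, zpow_two, quaternion_a2_mul_self, one_zpow]
  · right
    rw [zpow_add, zpow_mul, zpow_two, quaternion_a2_mul_self, one_zpow, one_mul, zpow_one]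

variable {F : Type*} [Field F] [Fintype F]

/-- **Commuting involutions of `SU_3(2)'` are equal.** -/
theorem eq_of_commute_of_sq (hF : Fintype.card F = 4) {s t : ↥(commutator ↥(SU 3 F 2))}
    (hs : s * s = 1) (ht : t * t = 1) (hs1 : s ≠ 1) (ht1 : t ≠ 1) (hst : Commute s t) : s = t := by
  obtain ⟨N, hN, -, hN3, ⟨ψ⟩⟩ := Cfsg.Agent.S0827.result hF
  haveI := hN
  have hZ : Nat.card (Subgroup.center ↥(SU 3 F 2)) = 3 := by
    have := Cfsg.Agent.S0279.result (F := F) (q := 2) (by rw [hF]; norm_num) 3 (le_refl 3)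
    simpa using this
  -- the homomorphism to `Q_8`
  let f : ↥(SU 3 F 2) →* QuaternionGroup 2 :=
    (ψ.toMonoidHom.comp (QuotientGroup.mk' N)).comp (QuotientGroup.mk' (Subgroup.center ↥(SU 3 F 2)))
  -- an element of order dividing 2 in the kernel is trivial
  have hker : ∀ x : ↥(SU 3 F 2), x * x = 1 → f x = 1 → x = 1 := by
    intro x hxx hfx
    have h1 : (QuotientGroup.mk' N) ((QuotientGroup.mk' (Subgroup.center ↥(SU 3 F 2))) x) = 1 := by
      have : ψ ((QuotientGroup.mk' N) ((QuotientGroup.mk' (Subgroup.center ↥(SU 3 F 2))) x)) = 1 := hfx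
      rwa [MulEquiv.map_eq_one_iff] at this
    have h2 : (QuotientGroup.mk' (Subgroup.center ↥(SU 3 F 2))) x ∈ N :=
      (QuotientGroup.eq_one_iff _).mp h1
    set y := (QuotientGroup.mk' (Subgroup.center ↥(SU 3 F 2))) x with hy
    have hy3 : y ^ 3 = 1 := hN3 y h2
    have hy2 : y ^ 2 = 1 := by
      rw [hy, ← map_pow, pow_two, hxx, map_one]
    have hy1 : y = 1 := by
      have : y ^ 3 = y ^ 2 * y := pow_succ y 2
      rw [hy3, hy2, one_mul] at this
      exact this.symm
    have hxZ : x ∈ Subgroup.center ↥(SU 3 F 2) := (QuotientGroup.eq_one_iff x).mp hy1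
    have hx3 : x ^ 3 = 1 := by
      have h := pow_card_eq_one' (G := Subgroup.center ↥(SU 3 F 2)) (x := ⟨x, hxZ⟩)
      rw [hZ] at h
      have := congrArg Subtype.val h
      simpa using this
    have : x ^ 3 = x ^ 2 * x := pow_succ x 2
    rw [hx3, pow_two, hxx, one_mul] at this
    exact this.symm
  -- members of the derived group map to `±1`
  have hfc : ∀ u : ↥(commutator ↥(SU 3 F 2)), f u = 1 ∨ f u = QuaternionGroup.a 2 := by
    intro u
    apply quaternion_mem_commutator
    have h1 : (commutator ↥(SU 3 F 2)).map f ≤ commutator (QuaternionGroup 2) := by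
      rw [commutator_def, commutator_def, Subgroup.map_commutator]
      exact Subgroup.commutator_mono le_top le_top
    exact h1 (Subgroup.mem_map_of_mem f u.2)
  have hinv : ∀ u : ↥(commutator ↥(SU 3 F 2)), u * u = 1 → u ≠ 1 → f u = QuaternionGroup.a 2 := by
    intro u huu hu1
    rcases hfc u with h | h
    · exfalso
      apply hu1
      have huu' : (u : ↥(SU 3 F 2)) * (u : ↥(SU 3 F 2)) = 1 := by
        have := congrArg Subtype.val huu
        simpa using this
      exact Subtype.ext (hker u huu' h)
    · exact h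
  have hfs := hinv s hs hs1
  have hft := hinv t ht ht1
  have hu : (s * t) * (s * t) = 1 := by
    calc (s * t) * (s * t) = s * (t * s) * t := by simp only [mul_assoc]
      _ = s * (s * t) * t := by rw [hst.eq]
      _ = (s * s) * (t * t) := by simp only [mul_assoc]
      _ = 1 := by rw [hs, ht, one_mul]
  have hfu : f ((s * t : ↥(commutator ↥(SU 3 F 2))) : ↥(SU 3 F 2)) = 1 := by
    rw [Subgroup.coe_mul, map_mul, hfs, hft, quaternion_a2_mul_self]
  have hu1 : s * t = 1 := by
    have huu' : ((s * t : ↥(commutator ↥(SU 3 F 2))) : ↥(SU 3 F 2)) *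
        ((s * t : ↥(commutator ↥(SU 3 F 2))) : ↥(SU 3 F 2)) = 1 := by
      have := congrArg Subtype.val hu
      simpa using this
    exact Subtype.ext (hker _ huu' hfu)
  have : s = t⁻¹ := eq_inv_of_mul_eq_one_left hu1
  rw [this, inv_eq_of_mul_eq_one_left ht]

end Cfsg.Agent.Helper89.SU3Two
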