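import Mathlib

/-!
# (5K1) of helper3's S2500 part 5 farm (#12490)

A `3 × 3` matrix `M` over a finite field `F` without eigenvectors makes `F³` a one-dimensional
vector space over the cubic extension `L`: there are `lam : L` and an `F`-linear equivalence
`θ : L ≃ F³` with `θ (lam * x) = M θ x`.
-/

set_option autoImplicit false

namespace Cfsg.Agent.Helper89.Cov2P5

open Polynomial Module Matrix

variable {F : Type*} [Field F] [Fintype F] {q : ℕ}

/-- no eigenvector ⟹ the characteristic polynomial (a cubic) is irreducible -/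
theorem charpoly_irreducible_of_no_eigen (M : Matrix (Fin 3) (Fin 3) F)
    (hirr : ∀ v : Fin 3 → F, v ≠ 0 → ∀ c : F, M *ᵥ v ≠ c • v) : Irreducible M.charpoly := by
  apply Polynomial.irreducible_of_degree_le_three_of_not_isRoot
  · rw [Matrix.charpoly_natDegree_eq_dim, Fintype.card_fin]
    simp
  · intro c hc
    rw [IsRoot, Matrix.eval_charpoly] at hc
    obtain ⟨v, hv, hMv⟩ := Matrix.exists_mulVec_eq_zero_iff.mpr hc
    apply hirr v hv c
    rw [Matrix.sub_mulVec, sub_eq_zero] at hMv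
    rw [← hMv]
    ext i
    simp [Matrix.scalar, Matrix.mulVec_diagonal]

variable (L : Type*) [Field L] [Algebra F L] [Finite L]

/-- (5K1) -/
theorem exists_theta (hL3 : finrank F L = 3) (M : Matrix (Fin 3) (Fin 3) F)
    (hirr : ∀ v : Fin 3 → F, v ≠ 0 → ∀ c : F, M *ᵥ v ≠ c • v) :
    ∃ (lam : L) (θ : L ≃ₗ[F] (Fin 3 → F)), ∀ x : L, θ (lam * x) = M *ᵥ θ x := by
  classical
  set p := M.charpoly with hp
  have hpirr : Irreducible p := charpoly_irreducible_of_no_eigen M hirr
  haveI : Fact (Irreducible p) := ⟨hpirr⟩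
  have hdeg : p.natDegree = 3 := by
    rw [hp, Matrix.charpoly_natDegree_eq_dim, Fintype.card_fin]
  -- the algebra hom `ρ : F[X]/(p) → M₃(F)`
  have hI : ∀ a : F[X], a ∈ Ideal.span {p} → Polynomial.aeval M a = 0 := by
    intro a ha
    obtain ⟨b, rfl⟩ := Ideal.mem_span_singleton.mp ha
    rw [map_mul, hp, Matrix.aeval_self_charpoly, zero_mul]
  let ρ : AdjoinRoot p →ₐ[F] Matrix (Fin 3) (Fin 3) F :=
    Ideal.Quotient.liftₐ (Ideal.span {p}) (Polynomial.aeval M) hI
  have hρroot : ρ (AdjoinRoot.root p) = M := by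
    have h := AlgHom.congr_fun
      (Ideal.Quotient.liftₐ_comp (Ideal.span {p}) (Polynomial.aeval M) hI) X
    rw [Polynomial.aeval_X] at h
    exact h
  let v₀ : Fin 3 → F := Pi.single 0 1
  let θ₁ : AdjoinRoot p →ₗ[F] (Fin 3 → F) :=
    { toFun := fun y => ρ y *ᵥ v₀
      map_add' := fun y z => by rw [map_add, Matrix.add_mulVec]
      map_smul' := fun c y => by rw [map_smul, Matrix.smul_mulVec]; rfl }
  have hθ₁ : ∀ y, θ₁ y = ρ y *ᵥ v₀ := fun y => rfl
  have hinj : Function.Injective θ₁ := by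
    rw [← LinearMap.ker_eq_bot, LinearMap.ker_eq_bot']
    intro y hy
    by_contra hy0
    rw [hθ₁] at hy
    have h1 : ρ (y⁻¹ * y) *ᵥ v₀ = 0 := by
      rw [map_mul, ← Matrix.mulVec_mulVec, hy, Matrix.mulVec_zero]
    rw [inv_mul_cancel₀ hy0, map_one, Matrix.one_mulVec] at h1
    have := congrFun h1 0
    simp [v₀] at this
  have hfr1 : finrank F (AdjoinRoot p) = 3 := by
    rw [← hdeg]
    exact finrank_quotient_span_eq_natDegree
  have hfr : finrank F (AdjoinRoot p) = finrank F (Fin 3 → F) := by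
    rw [hfr1]
    simp
  haveI : FiniteDimensional F (AdjoinRoot p) := Module.finite_of_finrank_pos (by rw [hfr1]; norm_num)
  let θ₀ : AdjoinRoot p ≃ₗ[F] (Fin 3 → F) := θ₁.linearEquivOfInjective hinj hfr
  have hθ₀ : ∀ y, θ₀ y = ρ y *ᵥ v₀ := fun y => rfl
  -- the isomorphism `F[X]/(p) ≃ L`
  obtain ⟨pp, hpp⟩ := CharP.exists F
  haveI := hpp
  haveI : Fact pp.Prime := ⟨CharP.char_is_prime F pp⟩
  haveI : NeZero 3 := ⟨by norm_num⟩
  let e1 := FiniteField.algEquivExtension F pp 3 (AdjoinRoot p) hfr1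
  let e2 := FiniteField.algEquivExtension F pp 3 L hL3
  let e : AdjoinRoot p ≃ₐ[F] L := e1.trans e2.symm
  refine ⟨e (AdjoinRoot.root p), e.symm.toLinearEquiv.trans θ₀, ?_⟩
  intro x
  show θ₀ (e.symm (e (AdjoinRoot.root p) * x)) = M *ᵥ θ₀ (e.symm x)
  rw [map_mul, AlgEquiv.symm_apply_apply, hθ₀, hθ₀, map_mul, hρroot, Matrix.mulVec_mulVec]

end Cfsg.Agent.Helper89.Cov2P5
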