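import Mathlib
import Cfsg.Agent.Helper13.UGen1

/-!
# (5T) of helper3's S2500 part 5 farm (#12490): an element of trace one
-/

set_option autoImplicit false

namespace Cfsg.Agent.Helper89.Cov2P5

variable {F : Type*} [Field F] [Fintype F] {q : ℕ}

/-- (5T) -/
theorem exists_trace_one (hF : Fintype.card F = q ^ 2) : ∃ c₀ : F, c₀ + c₀ ^ q = 1 :=
  Cfsg.Agent.Helper13.exists_trace_eq_of_fixed hF (one_pow q)

end Cfsg.Agent.Helper89.Cov2P5
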