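import Mathlib
import Cfsg.Prelude.Def_Characters
import Cfsg.Prelude.Def_Blocks
import Cfsg.Agent.Helper3.DixonDefs
import Cfsg.Agent.Helper80.CharLevel
import Cfsg.Agent.Helper80.Pullback
import Cfsg.Agent.Helper80.ItoConv
import Cfsg.Agent.Helper15.CliffordCorr
import Cfsg.Agent.Helper76.CentralType
import Cfsg.Agent.Helper71.SolvMax
import Cfsg.Agent.Helper74.CharCenter
import Cfsg.Agent.Helper80.Deg2Prim
import Cfsg.Agent.Helper80.TwoClassesInertia
import Cfsg.Agent.Helper80.Linear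

/-!
# S4467 (Dixon's theorem, helper3 architect, board #9711), piece (CENT)
-/

set_option autoImplicit false

namespace Cfsg.Agent.Helper89.Dixon

open Cfsg
open scoped commutatorElement

universe u

/-- (CENT) if every irreducible constituent of `χ_A` (`A` abelian normal, `χ` faithful
irreducible) is `G`-invariant then `A` is central. -/
theorem le_center_of_invariant {G : Type u} [Group G] [Fintype G] (χ : IrrCharacter G)
    (hfaith : ∀ g : G, (χ : G → ℂ) g = (χ : G → ℂ) 1 → g = 1)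
    (A : Subgroup G) [A.Normal] [Fintype A] (hA : ∀ x ∈ A, ∀ y ∈ A, x * y = y * x)
    (hinv : ∀ θ : A → ℂ, IsIrrCharacter A θ →
      classInner (fun a : A => (χ : G → ℂ) a) θ ≠ 0 → Helper15.inertia A θ = ⊤) :
    A ≤ Subgroup.center G := by
  classical
  have hχc : IsCharacter G (χ : G → ℂ) := Helper74.isCharacter_of_isIrr χ.2
  have hχA : IsCharacter A (fun a : A => (χ : G → ℂ) a) := Helper74.isCharacter_restrict A hχc
  -- an irreducible constituent of `χ_A`
  let _ : Fintype (IrrCharacter A) := Helper74.irrFintype A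
  obtain ⟨θ, hθ⟩ : ∃ θ : IrrCharacter A,
      classInner (fun a : A => (χ : G → ℂ) a) (θ : A → ℂ) ≠ 0 := by
    by_contra hcon
    have hcon' : ∀ θ : IrrCharacter A,
        classInner (fun a : A => (χ : G → ℂ) a) (θ : A → ℂ) = 0 := by
      intro θ
      by_contra h
      exact hcon ⟨θ, h⟩
    have h := Helper74.isCharacter_eq_sum_irr hχA
    have h1 := congrFun h 1
    rw [Finset.sum_apply] at h1
    have h2 : (χ : G → ℂ) 1 = 0 := by
      have : ((1 : A) : G) = 1 := rfl
      rw [← this]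
      rw [h1]
      refine Finset.sum_eq_zero fun θ _ => ?_
      rw [hcon' θ, zero_smul]
      rfl
    exact Helper80.IsIrrCharacter.map_one_ne_zero χ.2 h2
  have hinvθ := hinv θ θ.2 hθ
  have hres := Helper15.restrict_eq_smul_of_invariant A χ.2 θ.2 hθ (fun g => by
    have hg : g ∈ Helper15.inertia A (θ : A → ℂ) := by rw [hinvθ]; trivial
    exact hg)
  -- `θ` is linear
  have : IsMulCommutative A := ⟨⟨fun a b => Subtype.ext (hA a a.2 b b.2)⟩⟩
  have hθc : IsCharacter A (θ : A → ℂ) := Helper74.isCharacter_of_isIrr θ.2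
  have hθ1 : charDegree (θ : A → ℂ) = 1 := Helper80.IsIrrCharacter.charDegree_eq_one_of_comm θ.2
  have hθ1' : (θ : A → ℂ) 1 = 1 := by
    rw [← Helper80.IsCharacter.charDegree_cast hθc, hθ1, Nat.cast_one]
  obtain ⟨φ, hφ⟩ := Helper80.IsCharacter.exists_monoidHom hθc hθ1'
  intro a ha
  -- `‖χ a‖ = χ 1`
  have hnorm : ‖(χ : G → ℂ) a‖ = (charDegree (χ : G → ℂ) : ℝ) := by
    have h1 := congrFun hres ⟨a, ha⟩
    have h2 := congrFun hres 1
    simp only [Pi.smul_apply, smul_eq_mul] at h1 h2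
    rw [hθ1', mul_one] at h2
    have hθn : ‖(θ : A → ℂ) ⟨a, ha⟩‖ = 1 := by
      rw [hφ]
      have hpow : ((φ ⟨a, ha⟩ : ℂˣ) : ℂ) ^ orderOf (⟨a, ha⟩ : A) = 1 := by
        rw [← Units.val_pow_eq_pow_val, ← map_pow, pow_orderOf_eq_one, map_one, Units.val_one]
      exact Complex.norm_eq_one_of_pow_eq_one hpow (orderOf_pos _).ne'
    have h1' : (χ : G → ℂ) a =
        classInner (fun a : A => (χ : G → ℂ) a) (θ : A → ℂ) * (θ : A → ℂ) ⟨a, ha⟩ := h1
    have h2' : (χ : G → ℂ) 1 = classInner (fun a : A => (χ : G → ℂ) a) (θ : A → ℂ) := h2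
    rw [h1', norm_mul, hθn, mul_one, ← h2', ← Helper80.IsCharacter.charDegree_cast hχc,
      Complex.norm_natCast]
  have hmem : a ∈ Helper74.charCenter χ := (Helper74.mem_charCenter_iff χ a).mpr hnorm
  obtain ⟨c, hc⟩ := hmem
  have hinj : ∀ g : G, Helper74.irrRep χ g = 1 → g = 1 := by
    intro g hg
    apply hfaith
    rw [← Helper74.irrRep_character χ]
    unfold Representation.character
    rw [hg, ← map_one (Helper74.irrRep χ)]
  rw [Helper80.mem_center_iff_scalar (Helper74.irrRep χ) (Helper74.irrRep_isIrreducible χ) hinj a]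
  exact ⟨c, hc⟩

end Cfsg.Agent.Helper89.Dixon
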