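import Mathlib
import Cfsg.Agent.Helper30.HallSym.Defs
import Cfsg.Agent.Helper37.HallSymGA1
import Cfsg.Agent.Helper87.HallSymGB

/-!
# Common lemmas for the alternating side of the Hall subgroups of `S_n`, `A_n` (helper30 #6463)
-/

set_option autoImplicit false
open Equiv Equiv.Perm MulAction Subgroup Cfsg Cfsg.Agent.Helper30.HallSym
open scoped Nat Pointwise
universe u

namespace Cfsg.Agent.Helper89.HallSym

variable {α : Type u} [Fintype α] [DecidableEq α]

/-- Hall valuation in the alternating group -/
theorem alt_hall_val [Nontrivial α] {π : Set ℕ} (M : Subgroup (Perm α))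
    (hM : IsPiHallOf π M (alternatingGroup α)) {r : ℕ} [Fact r.Prime] (hrπ : r ∈ π) :
    padicValNat r (2 * Nat.card M) = padicValNat r (Fintype.card α)! := by
  have h1 : M.relIndex (alternatingGroup α) * (alternatingGroup α).index = M.index :=
    Subgroup.relIndex_mul_index hM.1
  rw [alternatingGroup.index_eq_two] at h1
  have h2 : Nat.card M * M.index = (Fintype.card α)! := by
    rw [Subgroup.card_mul_index, Nat.card_perm, Nat.card_eq_fintype_card]
  have h3 : (2 * Nat.card M) * M.relIndex (alternatingGroup α) = (Fintype.card α)! := by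
    rw [← h2, ← h1]; ring
  have h4 : ¬ r ∣ M.relIndex (alternatingGroup α) := hM.2.2 r Fact.out hrπ
  have h5 : 2 * Nat.card M ≠ 0 := by
    have : 0 < Nat.card M := Nat.card_pos
    omega
  have h6 : M.relIndex (alternatingGroup α) ≠ 0 := by
    intro h
    rw [h, mul_zero] at h3
    exact Nat.factorial_ne_zero _ h3.symm
  rw [← h3, padicValNat.mul h5 h6, padicValNat.eq_zero_of_not_dvd h4, add_zero]

/-- A group of even permutations preserving a non-injective `f` has order dividing half the product
of the factorials of the fibre sizes. -/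
theorem two_mul_card_dvd_of_preserves {ι : Type*} [Fintype ι] (f : α → ι)
    (X : Subgroup (Perm α)) (hX : ∀ g ∈ X, ∀ x, f (g x) = f x) (hXA : X ≤ alternatingGroup α)
    (hf : ∃ x y : α, x ≠ y ∧ f x = f y) :
    2 * Nat.card X ∣ ∏ i, (Nat.card {a // f a = i})! := by
  classical
  obtain ⟨x, y, hxy, hfxy⟩ := hf
  set St : Subgroup (Perm α) := Cfsg.Agent.Helper37.HallSym.fiberStab f with hSt
  have hcard : Nat.card St = ∏ i, (Nat.card {a // f a = i})! := by
    rw [hSt, Cfsg.Agent.Helper37.HallSym.card_fiberStab]
    refine Finset.prod_congr rfl (fun i _ => ?_)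
    rw [Nat.card_eq_fintype_card]
  have hXS : X ≤ St := by
    intro g hg
    rw [hSt, Cfsg.Agent.Helper37.HallSym.mem_fiberStab]
    funext a
    exact hX g hg a
  have hswap : swap x y ∈ St := by
    rw [hSt, Cfsg.Agent.Helper37.HallSym.mem_fiberStab]
    funext a
    simp only [Function.comp_apply]
    by_cases hax : a = x
    · rw [hax, swap_apply_left, hfxy]
    · by_cases hay : a = y
      · rw [hay, swap_apply_right, hfxy]
      · rw [swap_apply_of_ne_of_ne hax hay]
  set sgn : St →* ℤˣ := Perm.sign.comp St.subtype with hsgn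
  have hrange : Nat.card sgn.range = 2 := by
    have htop : sgn.range = ⊤ := by
      rw [eq_top_iff]
      intro u _
      rcases Int.units_eq_one_or u with h | h
      · rw [h]; exact one_mem _
      · rw [h]
        refine ⟨⟨swap x y, hswap⟩, ?_⟩
        rw [hsgn]
        simp [sign_swap hxy]
    rw [htop, Subgroup.card_top]
    simp
  have hker : Nat.card sgn.ker * 2 = Nat.card St := by
    rw [← hrange, ← Subgroup.index_ker, Subgroup.card_mul_index]
  have hle : X ≤ sgn.ker.map St.subtype := by
    intro g hg
    refine ⟨⟨g, hXS hg⟩, ?_, rfl⟩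
    show (⟨g, hXS hg⟩ : St) ∈ sgn.ker
    rw [MonoidHom.mem_ker, hsgn]
    exact (mem_alternatingGroup.mp (hXA hg))
  have hdvd : Nat.card X ∣ Nat.card sgn.ker := by
    have := Subgroup.card_dvd_of_le hle
    rwa [Subgroup.card_map_of_injective St.subtype_injective] at this
  rw [← hcard, ← hker, mul_comm]
  exact Nat.mul_dvd_mul_right hdvd 2

end Cfsg.Agent.Helper89.HallSym
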