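import Mathlib
import Cfsg.Agent.Helper30.HallSym.Defs
import Cfsg.Agent.Helper89.HallSymAlt

/-!
# (A-3) of helper30's #6463: the constituent of a Hall subgroup of `A_n` on an invariant set whose
complement has at most one point is a Hall subgroup of the alternating group of that set
-/

set_option autoImplicit false
open Equiv Equiv.Perm MulAction Subgroup Cfsg Cfsg.Agent.Helper30.HallSym
open scoped Nat Pointwise
universe u

namespace Cfsg.Agent.Helper89.HallSym

theorem alt_constituent_alt {α : Type u} [Fintype α] [DecidableEq α] {π : Set ℕ}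
    (M : Subgroup (Perm α)) (hM : IsPiHallOf π M (alternatingGroup α)) (S : SubMulAction M α)
    [Fintype S] (hS : ∀ x y : α, x ∉ S → y ∉ S → x = y)
    (hS2 : ∃ x y : α, x ≠ y ∧ x ∈ S ∧ y ∈ S) :
    IsPiHallOf π (MulAction.toPermHom M S).range (alternatingGroup S) := by
  classical
  obtain ⟨x₀, y₀, hxy, hx₀, hy₀⟩ := hS2
  haveI : Nontrivial α := ⟨⟨x₀, y₀, hxy⟩⟩
  haveI : Nontrivial S := ⟨⟨⟨x₀, hx₀⟩, ⟨y₀, hy₀⟩, fun h => hxy (congrArg Subtype.val h)⟩⟩
  set ρ : M →* Perm S := MulAction.toPermHom M S with hρ
  have hρ_apply : ∀ (g : M) (s : S), ((ρ g s : S) : α) = (g : Perm α) (s : α) := fun g s => rfl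
  -- the elements of M fix the points outside S
  have hfix : ∀ (g : M) (x : α), x ∉ S → (g : Perm α) x = x := by
    intro g x hx
    have hgx : (g : Perm α) x ∉ S := by
      intro h1
      apply hx
      have h2 := S.smul_mem g⁻¹ h1
      have h3 : g⁻¹ • ((g : Perm α) x) = x := by
        show ((g⁻¹ : M) : Perm α) ((g : Perm α) x) = x
        simp
      rwa [h3] at h2
    exact hS _ _ hgx hx
  -- the restriction preserves the sign
  have hext : ∀ g : M, (g : Perm α) = ofSubtype (p := fun x => x ∈ S) (ρ g) := by
    intro g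
    ext x
    by_cases hx : x ∈ S
    · rw [ofSubtype_apply_of_mem (p := fun x => x ∈ S) (ρ g) hx]
      exact (hρ_apply g ⟨x, hx⟩).symm
    · rw [ofSubtype_apply_of_not_mem (p := fun x => x ∈ S) (ρ g) hx]
      exact hfix g x hx
  have hsign : ∀ g : M, Perm.sign (ρ g) = Perm.sign (g : Perm α) := by
    intro g
    conv_rhs => rw [hext g]
    exact (sign_ofSubtype (p := fun x => x ∈ S) (ρ g)).symm
  have hinj : Function.Injective ρ := by
    rw [injective_iff_map_eq_one]
    intro g hg
    apply Subtype.ext
    rw [hext g, hg, map_one]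
    rfl
  have hcard : Nat.card ρ.range = Nat.card M :=
    (Nat.card_congr (MonoidHom.ofInjective hinj).toEquiv).symm
  have hle : ρ.range ≤ alternatingGroup S := by
    rintro _ ⟨g, rfl⟩
    rw [mem_alternatingGroup, hsign g]
    exact mem_alternatingGroup.mp (hM.1 g.2)
  refine ⟨hle, ?_, ?_⟩
  · intro p hp hdvd
    rw [hcard] at hdvd
    exact hM.2.1 p hp hdvd
  · intro r hr hrπ
    haveI : Fact r.Prime := ⟨hr⟩
    have h1 : ρ.range.relIndex (alternatingGroup S) * (alternatingGroup S).index = ρ.range.index :=
      Subgroup.relIndex_mul_index hle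
    rw [alternatingGroup.index_eq_two] at h1
    have h2 : Nat.card ρ.range * ρ.range.index = (Fintype.card S)! := by
      rw [Subgroup.card_mul_index, Nat.card_perm, Nat.card_eq_fintype_card]
    have h3 : (2 * Nat.card ρ.range) * ρ.range.relIndex (alternatingGroup S) = (Fintype.card S)! := by
      rw [← h2, ← h1]; ring
    have h5 : 2 * Nat.card ρ.range ≠ 0 := by
      have : 0 < Nat.card ρ.range := Nat.card_pos
      omega
    have h6 : ρ.range.relIndex (alternatingGroup S) ≠ 0 := by
      intro h
      rw [h, mul_zero] at h3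
      exact Nat.factorial_ne_zero _ h3.symm
    have h7 : padicValNat r (Fintype.card S)! =
        padicValNat r (2 * Nat.card ρ.range) + padicValNat r (ρ.range.relIndex (alternatingGroup S)) := by
      rw [← h3, padicValNat.mul h5 h6]
    have h8 : padicValNat r (2 * Nat.card ρ.range) = padicValNat r (Fintype.card α)! := by
      rw [hcard]
      exact alt_hall_val M hM hrπ
    have hSle : Fintype.card S ≤ Fintype.card α :=
      Fintype.card_le_of_injective _ Subtype.val_injective
    have h9 : padicValNat r (Fintype.card S)! ≤ padicValNat r (Fintype.card α)! :=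
      Cfsg.Agent.Helper87.HallSym.padic_le_of_dvd (Nat.factorial_ne_zero _)
        (Nat.factorial_dvd_factorial hSle)
    intro hdvd
    have h10 := one_le_padicValNat_of_dvd h6 hdvd
    omega

end Cfsg.Agent.Helper89.HallSym
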