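import Mathlib
import Cfsg.Agent.Helper30.HallSym.Defs
import Cfsg.Agent.Helper89.HallSymAlt

/-!
# (A-4) of helper30's #6463: blocks of a transitive Hall subgroup of `A_n`

Adapted from helper87's `Cfsg.Agent.Helper87.HallSym.block_constituent` (the `S_n` case): the orders
are doubled throughout, using that a group of even permutations preserving a non-injective function
has order dividing half the order of the full stabilizer of that function.
-/

set_option autoImplicit false
open Equiv Equiv.Perm MulAction Subgroup Cfsg Cfsg.Agent.Helper30.HallSym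
open Cfsg.Agent.Helper87.HallSym
open scoped Nat Pointwise
universe u

namespace Cfsg.Agent.Helper89.HallSym

section main
variable {α : Type u} [Fintype α] [DecidableEq α]

theorem alt_part_one [Nontrivial α] {π : Set ℕ} (H : Subgroup (Perm α))
    (hH : IsPiHallOf π H (alternatingGroup α)) (htr : IsPretransitive H α)
    (B : Set α) (hB : IsBlock H B) (hBne : B.Nonempty) (hB2 : 2 ≤ B.ncard)
    (blk : α → orbit H B) (h1 : ∀ x, x ∈ (blk x : Set α))
    (h2 : ∀ x (s : orbit H B), x ∈ (s : Set α) → s = blk x) {r : ℕ} [Fact r.Prime] (hrπ : r ∈ π) :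
    padicValNat r (Fintype.card α)! =
      (Nat.card (orbit H B)) * padicValNat r (B.ncard)! + padicValNat r (Nat.card (orbit H B))! ∧
    padicValNat r (2 * Nat.card (MulAction.toPermHom H (orbit H B)).ker) =
      (Nat.card (orbit H B)) * padicValNat r (B.ncard)! := by
  classical
  haveI : Finite (orbit H B) := Subtype.finite
  letI : Fintype (orbit H B) := Fintype.ofFinite _
  have hab : B.ncard * Nat.card (orbit H B) = Fintype.card α := by
    have := hB.ncard_block_mul_ncard_orbit_eq hBne
    rw [Nat.card_eq_fintype_card] at this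
    rw [← this, Nat.card_coe_set_eq]
  have ha_pos : 0 < B.ncard := (Set.ncard_pos (Set.toFinite B)).mpr hBne
  set ρ : H →* Perm (orbit H B) := MulAction.toPermHom H (orbit H B) with hρ
  have hN : 2 * Nat.card H = (2 * Nat.card ρ.ker) * Nat.card ρ.range := by
    rw [mul_assoc, ← Subgroup.index_ker, Subgroup.card_mul_index]
  have hm : Nat.card ρ.range ∣ (Nat.card (orbit H B))! := by
    have := Subgroup.card_subgroup_dvd_card ρ.range
    rwa [Nat.card_perm] at this
  obtain ⟨x, y, hx, hy, hxy⟩ := (Set.one_lt_ncard_iff (Set.toFinite B)).mp hB2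
  let B₀ : orbit H B := ⟨B, mem_orbit_self B⟩
  have hK0 : 2 * Nat.card ρ.ker ∣ (B.ncard !) ^ (Nat.card (orbit H B)) := by
    have h3 := two_mul_card_dvd_of_preserves blk (ρ.ker.map H.subtype) (by
      rintro _ ⟨k, hk, rfl⟩ x
      have h4 : ρ k = 1 := hk
      have h5 : blk (k • x) = k • blk x := blk_smul h1 h2 k x
      have h6 : k • blk x = blk x := by
        have := congrArg (fun σ : Perm (orbit H B) => σ (blk x)) h4
        simpa [hρ] using this
      rw [h6] at h5
      exact h5) (by
      rintro _ ⟨k, hk, rfl⟩
      exact hH.1 k.2) ⟨x, y, hxy, by rw [← h2 x B₀ hx, ← h2 y B₀ hy]⟩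
    rw [Subgroup.card_map_of_injective H.subtype_injective] at h3
    have h7 : ∏ i : orbit H B, (Nat.card {a // blk a = i})! = (B.ncard !) ^ (Nat.card (orbit H B)) := by
      rw [Finset.prod_congr rfl (fun i _ => by rw [card_fibre h1 h2 i]), Finset.prod_const, Finset.card_univ,
        Nat.card_eq_fintype_card]
    rwa [h7] at h3
  exact val_core ha_pos hab hN (alt_hall_val H hH hrπ) hK0 hm

/-- a group of even permutations preserving all blocks and fixing the block `B` pointwise -/
theorem two_mul_card_dvd_of_fix (H : Subgroup (Perm α)) (B : Set α)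
    (blk : α → orbit H B) (h1 : ∀ x, x ∈ (blk x : Set α))
    (h2 : ∀ x (s : orbit H B), x ∈ (s : Set α) → s = blk x)
    (X : Subgroup (Perm α)) (hX1 : ∀ g ∈ X, ∀ x, blk (g x) = blk x) (hX2 : ∀ g ∈ X, ∀ x ∈ B, g x = x)
    (hXA : X ≤ alternatingGroup α) (hz : ∃ z z' : α, z ≠ z' ∧ z ∉ B ∧ blk z = blk z') :
    2 * Nat.card X ∣ (B.ncard !) ^ (Nat.card (orbit H B) - 1) := by
  classical
  haveI : Finite (orbit H B) := Subtype.finite
  letI : Fintype (orbit H B) := Fintype.ofFinite _
  let f' : α → (orbit H B) ⊕ α := fun x => if x ∈ B then Sum.inr x else Sum.inl (blk x)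
  have hf'in : ∀ x, x ∈ B → f' x = Sum.inr x := fun x hx => if_pos hx
  have hf'out : ∀ x, x ∉ B → f' x = Sum.inl (blk x) := fun x hx => if_neg hx
  let B₀ : orbit H B := ⟨B, mem_orbit_self B⟩
  have hB₀ : ∀ x, x ∈ B → blk x = B₀ := fun x hx => (h2 x B₀ hx).symm
  have hB₀' : ∀ x, blk x = B₀ → x ∈ B := by
    intro x hx
    have := h1 x
    rw [hx] at this
    exact this
  obtain ⟨z, z', hzz', hzB, hblk⟩ := hz
  have hz'B : z' ∉ B := by
    intro h
    apply hzB
    apply hB₀'
    rw [hblk, hB₀ z' h]
  have h3 := two_mul_card_dvd_of_preserves f' X (by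
    intro g hg x
    by_cases hx : x ∈ B
    · rw [hX2 g hg x hx]
    · have hgx : g x ∉ B := by
        intro hgx
        have h4 := hX2 g hg (g x) hgx
        have h5 := g.injective h4
        exact hx (h5 ▸ hgx)
      rw [hf'out _ hgx, hf'out _ hx, hX1 g hg x]) hXA
    ⟨z, z', hzz', by rw [hf'out _ hzB, hf'out _ hz'B, hblk]⟩
  have h4 : ∏ i : (orbit H B) ⊕ α, (Nat.card {a // f' a = i})! =
      (B.ncard !) ^ (Nat.card (orbit H B) - 1) := by
    rw [Fintype.prod_sum_type]
    have e2 : ∏ y : α, (Nat.card {a // f' a = Sum.inr y})! = 1 := by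
      refine Finset.prod_eq_one (fun y _ => ?_)
      rw [Nat.factorial_eq_one]
      haveI : Subsingleton {a // f' a = Sum.inr y} := by
        refine ⟨fun u v => ?_⟩
        have hu : (u : α) = y := by
          by_cases hx : (u : α) ∈ B
          · have := u.2
            rw [hf'in _ hx] at this
            exact Sum.inr.inj this
          · have := u.2
            rw [hf'out _ hx] at this
            exact absurd this (by simp)
        have hv : (v : α) = y := by
          by_cases hx : (v : α) ∈ B
          · have := v.2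
            rw [hf'in _ hx] at this
            exact Sum.inr.inj this
          · have := v.2
            rw [hf'out _ hx] at this
            exact absurd this (by simp)
        exact Subtype.ext (hu.trans hv.symm)
      exact Finite.card_le_one_iff_subsingleton.mpr inferInstance
    have e1 : ∏ s : orbit H B, (Nat.card {a // f' a = Sum.inl s})! =
        (B.ncard !) ^ (Nat.card (orbit H B) - 1) := by
      rw [← Finset.mul_prod_erase Finset.univ _ (Finset.mem_univ B₀)]
      have e3 : Nat.card {a // f' a = Sum.inl B₀} = 0 := by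
        haveI : IsEmpty {a // f' a = Sum.inl B₀} := by
          refine ⟨fun u => ?_⟩
          by_cases hx : (u : α) ∈ B
          · have := u.2
            rw [hf'in _ hx] at this
            exact absurd this (by simp)
          · have := u.2
            rw [hf'out _ hx] at this
            exact hx (hB₀' _ (Sum.inl.inj this))
        exact Nat.card_of_isEmpty
      rw [e3, Nat.factorial_zero, one_mul]
      have e4 : ∀ s ∈ Finset.univ.erase B₀, (Nat.card {a // f' a = Sum.inl s})! = B.ncard ! := by
        intro s hs
        have hne : s ≠ B₀ := Finset.ne_of_mem_erase hs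
        have e5 : Nat.card {a // f' a = Sum.inl s} = Nat.card {a // blk a = s} := by
          refine Nat.card_congr (Equiv.subtypeEquivRight (fun x => ?_))
          constructor
          · intro hx'
            by_cases hx : x ∈ B
            · rw [hf'in _ hx] at hx'
              exact absurd hx' (by simp)
            · rw [hf'out _ hx] at hx'
              exact Sum.inl.inj hx'
          · intro hx'
            have hx : x ∉ B := fun hx => hne (by rw [← hx', hB₀ x hx])
            rw [hf'out _ hx, hx']
        rw [e5, card_fibre h1 h2 s]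
      rw [Finset.prod_congr rfl e4, Finset.prod_const, Finset.card_erase_of_mem (Finset.mem_univ _),
        Finset.card_univ, Nat.card_eq_fintype_card]
    rw [e1, e2, mul_one]
  rwa [h4] at h3

theorem alt_part_two [Nontrivial α] {π : Set ℕ} (H : Subgroup (Perm α))
    (hH : IsPiHallOf π H (alternatingGroup α)) (htr : IsPretransitive H α)
    (B : Set α) (hB : IsBlock H B) (hBne : B.Nonempty) (hB2 : 2 ≤ B.ncard)
    (hBd : B.ncard < Fintype.card α) :
    IsPiHall π (restr H B).range ∧ IsPretransitive (restr H B).range B := by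
  classical
  obtain ⟨blk, h1, h2⟩ := exists_blk H B htr hB hBne
  refine ⟨⟨fun p hp hpK => hH.2.1 p hp ?_, fun r hr hrπ => ?_⟩, ?_⟩
  · exact (hpK.trans (Subgroup.card_range_dvd (restr H B))).trans (Subgroup.card_subgroup_dvd_card _)
  · haveI : Fact r.Prime := ⟨hr⟩
    haveI : Finite (orbit H B) := Subtype.finite
    obtain ⟨hv1, hv2⟩ := alt_part_one H hH htr B hB hBne hB2 blk h1 h2 hrπ
    set ρ : H →* Perm (orbit H B) := MulAction.toPermHom H (orbit H B) with hρ
    have hfix : ∀ k ∈ ρ.ker, ∀ s : orbit H B, k • s = s := by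
      intro k hk s
      have h4 : ρ k = 1 := hk
      have := congrArg (fun σ : Perm (orbit H B) => σ s) h4
      simpa [hρ] using this
    have hle : ρ.ker ≤ stabilizer H B := by
      intro k hk
      rw [mem_stabilizer_iff]
      have := hfix k hk ⟨B, mem_orbit_self B⟩
      exact congrArg Subtype.val this
    set restr₀ : ρ.ker →* Perm B := (restr H B).comp (Subgroup.inclusion hle) with hrestr₀
    have hr0 : restr₀.range ≤ (restr H B).range := by
      rintro _ ⟨x, rfl⟩
      exact ⟨Subgroup.inclusion hle x, rfl⟩
    have c1 : 2 * Nat.card ρ.ker = (2 * Nat.card restr₀.ker) * Nat.card restr₀.range := by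
      rw [mul_assoc, ← Subgroup.index_ker, Subgroup.card_mul_index]
    have c2 : Nat.card restr₀.range ∣ Nat.card (restr H B).range := Subgroup.card_dvd_of_le hr0
    -- a second block with two points
    have hz : ∃ z z' : α, z ≠ z' ∧ z ∉ B ∧ blk z = blk z' := by
      have hex : ∃ z : α, z ∉ B := by
        by_contra hcon
        push_neg at hcon
        have : B = Set.univ := Set.eq_univ_of_forall hcon
        rw [this, Set.ncard_univ, Nat.card_eq_fintype_card] at hBd
        exact lt_irrefl _ hBd
      obtain ⟨z, hz⟩ := hex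
      have hcf := card_fibre h1 h2 (blk z)
      have hnt : Nontrivial {x // blk x = blk z} := by
        rw [← Finite.one_lt_card_iff_nontrivial, hcf]
        omega
      obtain ⟨w, hw⟩ := exists_ne (⟨z, rfl⟩ : {x // blk x = blk z})
      refine ⟨z, w.1, ?_, hz, w.2.symm⟩
      intro h
      exact hw (Subtype.ext h.symm)
    have c3 : 2 * Nat.card restr₀.ker ∣ (B.ncard !) ^ (Nat.card (orbit H B) - 1) := by
      have := two_mul_card_dvd_of_fix H B blk h1 h2 ((restr₀.ker.map ρ.ker.subtype).map H.subtype) (by
        rintro _ ⟨_, ⟨k, hk, rfl⟩, rfl⟩ x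
        have h5 : blk ((k : H) • x) = (k : H) • blk x := blk_smul h1 h2 (k : H) x
        rw [hfix (k : H) k.2] at h5
        exact h5) (by
        rintro _ ⟨_, ⟨k, hk, rfl⟩, rfl⟩ x hx
        have h4 : restr₀ k = 1 := hk
        have := congrArg (fun σ : Perm B => ((σ ⟨x, hx⟩ : B) : α)) h4
        exact this) (by
        rintro _ ⟨_, ⟨k, hk, rfl⟩, rfl⟩
        exact hH.1 (k : H).2) hz
      rwa [Subgroup.card_map_of_injective H.subtype_injective,
        Subgroup.card_map_of_injective ρ.ker.subtype_injective] at this
    -- the count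
    have hKcard : Nat.card (restr H B).range * (restr H B).range.index = (B.ncard)! := by
      rw [Subgroup.card_mul_index, Nat.card_perm, Nat.card_coe_set_eq]
    have hb_pos : 0 < Nat.card (orbit H B) := by
      haveI : Nonempty (orbit H B) := ⟨⟨B, mem_orbit_self B⟩⟩
      exact Nat.card_pos
    obtain ⟨b', hb'⟩ : ∃ b', Nat.card (orbit H B) = b' + 1 := ⟨_, (Nat.succ_pred_eq_of_pos hb_pos).symm⟩
    have hpow : (B.ncard !) ^ (Nat.card (orbit H B) - 1) ≠ 0 := pow_ne_zero _ (Nat.factorial_ne_zero _)
    have hk0 : 2 * Nat.card restr₀.ker ≠ 0 := by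
      have : 0 < Nat.card restr₀.ker := Nat.card_pos
      omega
    have hr0' : Nat.card restr₀.range ≠ 0 := Nat.card_pos.ne'
    have hK0 : Nat.card (restr H B).range ≠ 0 := Nat.card_pos.ne'
    have d1 : padicValNat r (2 * Nat.card ρ.ker) =
        padicValNat r (2 * Nat.card restr₀.ker) + padicValNat r (Nat.card restr₀.range) := by
      rw [c1, padicValNat.mul hk0 hr0']
    have d2 : padicValNat r (Nat.card restr₀.range) ≤ padicValNat r (Nat.card (restr H B).range) :=
      padic_le_of_dvd hK0 c2
    have d3 : padicValNat r (2 * Nat.card restr₀.ker) ≤ b' * padicValNat r (B.ncard)! := by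
      have := padic_le_of_dvd (p := r) hpow c3
      rwa [padicValNat.pow, hb', Nat.add_sub_cancel] at this
    have d4 : padicValNat r (B.ncard)! ≤ padicValNat r (Nat.card (restr H B).range) := by
      rw [hb'] at hv2
      have : (b' + 1) * padicValNat r (B.ncard)! = b' * padicValNat r (B.ncard)! + padicValNat r (B.ncard)! := by
        ring
      omega
    intro hdvd
    have hidx : (restr H B).range.index ≠ 0 := by
      intro h
      rw [h, mul_zero] at hKcard
      exact Nat.factorial_ne_zero _ hKcard.symm
    have d5 := one_le_padicValNat_of_dvd hidx hdvd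
    have d6 : padicValNat r (B.ncard)! =
        padicValNat r (Nat.card (restr H B).range) + padicValNat r ((restr H B).range.index) := by
      rw [← hKcard, padicValNat.mul hK0 hidx]
    omega
  · refine ⟨fun x y => ?_⟩
    obtain ⟨h, hh⟩ := htr.exists_smul_eq (x : α) (y : α)
    have hmem : h ∈ stabilizer H B := by
      rw [mem_stabilizer_iff]
      exact (isBlock_iff_smul_eq_of_mem.mp hB) x.2 (by rw [hh]; exact y.2)
    refine ⟨⟨restr H B ⟨h, hmem⟩, ⟨_, rfl⟩⟩, ?_⟩
    apply Subtype.ext
    exact hh

/-- (A-4): a transitive Hall `π`-subgroup of `alternatingGroup α` with a block `B`, `2 ≤ |B| < |α|`: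
the valuation identity, and a transitive Hall `π`-subgroup of `Perm B`. -/
theorem alt_block_constituent {π : Set ℕ} (M : Subgroup (Perm α))
    (hM : IsPiHallOf π M (alternatingGroup α)) (htr : IsPretransitive M α) (B : Set α)
    (hB : IsBlock M B) (hB2 : 2 ≤ B.ncard) (hBd : B.ncard < Fintype.card α) :
    (∀ r : ℕ, r.Prime → r ∈ π → padicValNat r (Fintype.card α)! =
      (Fintype.card α / B.ncard) * padicValNat r (B.ncard)! + padicValNat r (Fintype.card α / B.ncard)!) ∧
    ∃ K : Subgroup (Perm B), IsPiHall π K ∧ IsPretransitive K B := by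
  have hBne : B.Nonempty := by
    have h0 : 0 < B.ncard := by omega
    exact (Set.ncard_pos (Set.toFinite B)).mp h0
  haveI : Nontrivial α := by
    rw [← Fintype.one_lt_card_iff_nontrivial]
    omega
  refine ⟨fun r hr hrπ => ?_, (restr M B).range, alt_part_two M hM htr B hB hBne hB2 hBd⟩
  haveI : Fact r.Prime := ⟨hr⟩
  obtain ⟨blk, h1, h2⟩ := exists_blk M B htr hB hBne
  have hab : B.ncard * Nat.card (orbit M B) = Fintype.card α := by
    have := hB.ncard_block_mul_ncard_orbit_eq hBne
    rw [Nat.card_eq_fintype_card] at this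
    rw [← this, Nat.card_coe_set_eq]
  have ha_pos : 0 < B.ncard := (Set.ncard_pos (Set.toFinite B)).mpr hBne
  have hb : Fintype.card α / B.ncard = Nat.card (orbit M B) :=
    Nat.div_eq_of_eq_mul_right ha_pos hab.symm
  rw [hb]
  exact (alt_part_one M hM htr B hB hBne hB2 blk h1 h2 hrπ).1

end main

end Cfsg.Agent.Helper89.HallSym
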