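import Cfsg.Agent.Helper43.PsuM.RDefs

/-!
# S2089 block R piece (SEC) `exists_canonical_lift` — helper89 for helper43
-/

set_option autoImplicit false

namespace Cfsg.Agent.Helper89.PsuM

open scoped commutatorElement
open Cfsg.Agent.Helper96.StLift Cfsg.Agent.Helper43.PsuM

universe u

section central

variable {Γ G : Type u} [Group Γ] [Group G] (τ : Γ →* G) (hτ : Function.Surjective τ)
  (hc : τ.ker ≤ Subgroup.center Γ)

include hτ hc

/-- (SEC) the canonical lift of a perfect, centrally closed subgroup `L`: the commutator subgroup of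
its preimage is a complement to the kernel. -/
theorem exists_canonical_lift (L : Subgroup G) (hperf : ⁅L, L⁆ = L)
    (huniv : ∀ (E : Type u) [Group E] (π : E →* ↥L), Function.Surjective π →
      π.ker ≤ Subgroup.center E → ∃ s : ↥L →* E, π.comp s = MonoidHom.id ↥L) :
    ⁅L.comap τ, L.comap τ⁆ ⊓ τ.ker = ⊥ ∧ (⁅L.comap τ, L.comap τ⁆).map τ = L := by
  have hπs : Function.Surjective (τ.subgroupComap L) :=
    MonoidHom.subgroupComap_surjective_of_surjective τ L hτ
  have hπk : (τ.subgroupComap L).ker ≤ Subgroup.center ↥(L.comap τ) := by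
    intro x hx
    rw [MonoidHom.mem_ker] at hx
    have hx' : τ (x : Γ) = 1 := congrArg Subtype.val hx
    have hcen := hc (MonoidHom.mem_ker.mpr hx')
    rw [Subgroup.mem_center_iff] at hcen ⊢
    intro g
    apply Subtype.ext
    exact hcen g
  obtain ⟨s, hs⟩ := huniv ↥(L.comap τ) (τ.subgroupComap L) hπs hπk
  have hτs : ∀ l : ↥L, τ (((L.comap τ).subtype.comp s) l) = l := by
    intro l
    have h1 : (τ.subgroupComap L) (s l) = l := DFunLike.congr_fun hs l
    exact congrArg Subtype.val h1
  have hS_le : ((L.comap τ).subtype.comp s).range ≤ L.comap τ := by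
    rintro _ ⟨l, rfl⟩
    exact (s l).2
  -- (a)
  have ha : ⁅L.comap τ, L.comap τ⁆ ≤ ((L.comap τ).subtype.comp s).range := by
    rw [Subgroup.commutator_le]
    intro e1 h1 e2 h2
    have := commutator_eq_of_map_eq hc (x := e1) (y := e2)
      (x' := ((L.comap τ).subtype.comp s) ⟨τ e1, h1⟩)
      (y' := ((L.comap τ).subtype.comp s) ⟨τ e2, h2⟩) (by rw [hτs]) (by rw [hτs])
    rw [this, ← map_commutatorElement]
    exact ⟨_, rfl⟩
  -- perfectness inside `↥L`
  have hperf' : ⁅(⊤ : Subgroup ↥L), (⊤ : Subgroup ↥L)⁆ = (⊤ : Subgroup ↥L) := by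
    apply Subgroup.map_injective L.subtype_injective
    rw [Subgroup.map_commutator, ← MonoidHom.range_eq_map, Subgroup.range_subtype, hperf]
  -- (b)
  have hb : ((L.comap τ).subtype.comp s).range ≤ ⁅L.comap τ, L.comap τ⁆ := by
    rw [MonoidHom.range_eq_map, ← hperf', Subgroup.map_commutator, ← MonoidHom.range_eq_map]
    exact Subgroup.commutator_mono hS_le hS_le
  constructor
  · rw [eq_bot_iff]
    rintro x ⟨hx1, hx2⟩
    obtain ⟨l, rfl⟩ := ha hx1
    have h1 : τ (((L.comap τ).subtype.comp s) l) = 1 := MonoidHom.mem_ker.mp hx2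
    rw [hτs] at h1
    have hl : l = 1 := Subtype.ext h1
    rw [hl, map_one]
    exact Subgroup.mem_bot.mpr rfl
  · apply le_antisymm
    · rw [Subgroup.map_commutator]
      calc ⁅(L.comap τ).map τ, (L.comap τ).map τ⁆ ≤ ⁅L, L⁆ :=
            Subgroup.commutator_mono (Subgroup.map_comap_le _ _) (Subgroup.map_comap_le _ _)
        _ = L := hperf
    · intro l hl
      exact ⟨_, hb ⟨⟨l, hl⟩, rfl⟩, hτs ⟨l, hl⟩⟩

end central

end Cfsg.Agent.Helper89.PsuM
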