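-- helper89: piece (KAPPA) of board post #11654 (for helper38, S2412): a generator `κ` of `K^×`
-- (`|K| = q²`, `bar x = x^q`) with `κ² ≠ 1`, `bar κ ≠ κ`, such that `bar κ` is a generator too.
import Mathlib
import Cfsg.Agent.Helper38.SU2G.Defs

set_option autoImplicit false

namespace Cfsg.Agent.Helper89.SU2G

variable {K : Type*} [Field K]

/-- (KAPPA) a generator of the multiplicative group -/
theorem exists_kappa (bar : K →+* K) [Fintype K] {q : ℕ} (hq2 : 2 ≤ q)
    (hK : Fintype.card K = q ^ 2) (hq : ∀ x, bar x = x ^ q) :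
    ∃ κ : K, κ ≠ 0 ∧ κ ≠ 1 ∧ κ * κ ≠ 1 ∧ bar κ ≠ κ ∧ (∀ x : K, x ≠ 0 → ∃ j : ℕ, x = κ ^ j) ∧
      (∀ x : K, x ≠ 0 → ∃ j : ℕ, x = (bar κ) ^ j) := by
  classical
  obtain ⟨g, hg⟩ := IsCyclic.exists_generator (α := Kˣ)
  have hcard : Nat.card Kˣ = q ^ 2 - 1 := by
    rw [Nat.card_eq_fintype_card, Fintype.card_units, hK]
  have hord : orderOf g = q ^ 2 - 1 := by
    rw [← hcard]
    exact orderOf_eq_card_of_forall_mem_zpowers hg
  have hq4 : 4 ≤ q ^ 2 := by nlinarith
  have hlt : q - 1 < q ^ 2 - 1 := by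
    have : q < q ^ 2 := by nlinarith
    omega
  -- powers of `g`
  have hgen : ∀ x : K, x ≠ 0 → ∃ j : ℕ, x = (g : K) ^ j := by
    intro x hx
    have hmem : Units.mk0 x hx ∈ Submonoid.powers g := by
      rw [mem_powers_iff_mem_zpowers]
      exact hg _
    obtain ⟨j, hj⟩ := hmem
    refine ⟨j, ?_⟩
    have := congrArg (fun u : Kˣ => (u : K)) hj
    simpa using this.symm
  have hbb : ∀ x : K, bar (bar x) = x := by
    intro x
    rw [hq, hq, ← pow_mul, ← pow_two, ← hK, FiniteField.pow_card]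
  refine ⟨(g : K), g.ne_zero, ?_, ?_, ?_, hgen, ?_⟩
  · intro h1
    have : g = 1 := Units.ext h1
    rw [this, orderOf_one] at hord
    omega
  · intro h2
    have : g ^ 2 = 1 := by
      apply Units.ext
      rw [pow_two]
      exact h2
    have hd := orderOf_dvd_of_pow_eq_one this
    rw [hord] at hd
    have := Nat.le_of_dvd (by norm_num) hd
    omega
  · intro hb
    rw [hq] at hb
    -- `g ^ (q - 1) = 1`
    have h1 : (g : K) ^ (q - 1) = 1 := by
      have hq' : q = (q - 1) + 1 := by omega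
      rw [hq', pow_succ] at hb
      have hne : (g : K) ≠ 0 := g.ne_zero
      have : (g : K) ^ (q - 1) * (g : K) = 1 * (g : K) := by rw [one_mul]; convert hb using 2
      exact mul_right_cancel₀ hne this
    have h2 : g ^ (q - 1) = 1 := by
      apply Units.ext
      rw [Units.val_pow_eq_pow_val]
      exact h1
    have hd := orderOf_dvd_of_pow_eq_one h2
    rw [hord] at hd
    have := Nat.le_of_dvd (by omega) hd
    omega
  · intro x hx
    have hbx : bar x ≠ 0 := by
      intro h0
      apply hx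
      have := hbb x
      rw [h0, map_zero] at this
      exact this.symm
    obtain ⟨j, hj⟩ := hgen (bar x) hbx
    refine ⟨j, ?_⟩
    rw [← map_pow, ← hj, hbb]

end Cfsg.Agent.Helper89.SU2G
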