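import Mathlib
import Cfsg.Prelude.Def_Classical
import Cfsg.Agent.Helper84.RU3.Defs

/-!
# (CRITB) of helper84's S2283 plan (#6065)

A subgroup of the model group `SUJ` containing all lower unipotent elements and one upper unipotent
element `uE a₀ b₀` with `b₀ ≠ 0` contains all upper unipotent elements.
-/

set_option autoImplicit false

namespace Cfsg.Agent.Helper89.RU3

open Matrix Cfsg.Agent.Helper84.RU3

variable {K : Type*} [Field K] (bar : K →+* K) (hb : ∀ x, bar (bar x) = x)

/-- the antidiagonal matrix -/
def aM (x y z : K) : Matrix (Fin 3) (Fin 3) K := !![0, 0, x; 0, y, 0; z, 0, 0]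

include hb in
theorem lM_uM_lM {a b : K} (h : b + bar b + a * bar a = 0) (hb0 : b ≠ 0) :
    lM bar (-a / b) (1 / bar b) * uM bar a b * lM bar (-a / bar b) (1 / bar b)
      = aM b (-bar b / b) (1 / bar b) := by
  have hbb : bar b ≠ 0 := (map_ne_zero bar).mpr hb0
  have e1 : bar b = -b - a * bar a := by linear_combination h
  ext i j
  fin_cases i <;> fin_cases j <;>
    simp [uM, lM, aM, Matrix.mul_apply, Fin.sum_univ_three, hb, map_div₀]
  all_goals field_simp
  all_goals first
    | ring1
    | linear_combination h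
    | linear_combination (-a) * h
    | linear_combination (bar a) * h
    | linear_combination (-1 : K) * h
    | linear_combination a * h
    | linear_combination (-bar a) * h


include hb in
/-- conjugating a lower unipotent matrix by an antidiagonal matrix -/
theorem aM_mul_lM {x y z c d : K} (hy : y ≠ 0) (hz : z ≠ 0)
    (hrel : x / y = bar y / bar z) :
    aM x y z * lM bar c d = uM bar (y * c / z) (x * d / z) * aM x y z := by
  have hbz : bar z ≠ 0 := (map_ne_zero bar).mpr hz
  have hby : bar y ≠ 0 := (map_ne_zero bar).mpr hy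
  have e : x * bar z = bar y * y := by
    field_simp at hrel
    linear_combination hrel
  ext i j
  fin_cases i <;> fin_cases j <;>
    simp [uM, lM, aM, Matrix.mul_apply, Fin.sum_univ_three, hb, map_div₀]
  all_goals field_simp
  all_goals first
    | ring1
    | linear_combination (bar c) * e
    | linear_combination (-bar c) * e
    | linear_combination e


/-- (CRITB) a subgroup containing all lower unipotent elements and one nontrivial upper unipotent
element contains all upper unipotent elements -/
theorem uE_mem_of_lE_mem (G : Subgroup (SUJ bar))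
    {a₀ b₀ : K} (h₀ : b₀ + bar b₀ + a₀ * bar a₀ = 0) (hb₀ : b₀ ≠ 0) (hu : uE bar hb a₀ b₀ h₀ ∈ G)
    (hL : ∀ (c d : K) (h : d + bar d + c * bar c = 0), lE bar hb c d h ∈ G)
    (a b : K) (h : b + bar b + a * bar a = 0) : uE bar hb a b h ∈ G := by
  have hbb : bar b₀ ≠ 0 := (map_ne_zero bar).mpr hb₀
  -- the two lower unipotent elements
  have h1 : 1 / bar b₀ + bar (1 / bar b₀) + (-a₀ / b₀) * bar (-a₀ / b₀) = 0 := by
    simp only [map_div₀, map_neg, map_one, hb]
    field_simp
    linear_combination h₀
  have h2 : 1 / bar b₀ + bar (1 / bar b₀) + (-a₀ / bar b₀) * bar (-a₀ / bar b₀) = 0 := by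
    simp only [map_div₀, map_neg, map_one, hb]
    field_simp
    linear_combination h₀
  set n : SUJ bar := lE bar hb (-a₀ / b₀) (1 / bar b₀) h1 * uE bar hb a₀ b₀ h₀ *
    lE bar hb (-a₀ / bar b₀) (1 / bar b₀) h2 with hn
  have hnG : n ∈ G := G.mul_mem (G.mul_mem (hL _ _ h1) hu) (hL _ _ h2)
  have hmtn : mt bar n = aM b₀ (-bar b₀ / b₀) (1 / bar b₀) := by
    rw [hn, mt_mul, mt_mul, mt_lE, mt_uE, mt_lE]
    exact lM_uM_lM bar hb h₀ hb₀
  -- the parameters of the lower unipotent element to be conjugated
  have hy : (-bar b₀ / b₀ : K) ≠ 0 := by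
    rw [neg_div]; exact neg_ne_zero.mpr (div_ne_zero hbb hb₀)
  have hz : (1 / bar b₀ : K) ≠ 0 := one_div_ne_zero hbb
  have hrel : b₀ / (-bar b₀ / b₀) = bar (-bar b₀ / b₀) / bar (1 / bar b₀) := by
    simp only [map_div₀, map_neg, map_one, hb]
    field_simp
  set c : K := (1 / bar b₀) * a / (-bar b₀ / b₀) with hc
  set d : K := (1 / bar b₀) * b / b₀ with hd
  have hcd : d + bar d + c * bar c = 0 := by
    rw [hc, hd]
    simp only [map_div₀, map_neg, map_one, map_mul, hb]
    field_simp
    linear_combination h
  have hkey : n * lE bar hb c d hcd = uE bar hb a b h * n := by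
    apply ext_mt
    rw [mt_mul bar n (lE bar hb c d hcd), mt_mul bar (uE bar hb a b h) n, hmtn, mt_lE, mt_uE,
      aM_mul_lM bar hb hy hz hrel]
    congr 2
    · rw [hc]; field_simp
    · rw [hd]; field_simp
  have : uE bar hb a b h = n * lE bar hb c d hcd * n⁻¹ := by
    rw [hkey]; group
  rw [this]
  exact G.mul_mem (G.mul_mem hnG (hL _ _ hcd)) (G.inv_mem hnG)

end Cfsg.Agent.Helper89.RU3
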