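import Mathlib
import Cfsg.Prelude.Def_Classical
import Cfsg.Agent.Helper84.RU3.Defs

/-!
# (CONJ) of helper84's S2283 plan (#6065)

Upper and lower regular unipotent elements of the model group `SUJ` are conjugate when the
parameters match.
-/

set_option autoImplicit false

namespace Cfsg.Agent.Helper89.RU3

open Matrix Cfsg.Agent.Helper84.RU3

variable {K : Type*} [Field K] (bar : K →+* K) (hb : ∀ x, bar (bar x) = x)

theorem wM_mul_uM (a b : K) : wM * uM bar a b = lM bar (-a) b * wM := by
  ext i j
  fin_cases i <;> fin_cases j <;>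
    simp [uM, lM, wM, Matrix.mul_apply, Fin.sum_univ_three]

include hb in
theorem hM_mul_lM {l : K} (hl : l ≠ 0) (c d : K) :
    hM bar l * lM bar c d = lM bar (c * bar l / l ^ 2) (d / (l * bar l)) * hM bar l := by
  have hbl : bar l ≠ 0 := (map_ne_zero bar).mpr hl
  ext i j
  fin_cases i <;> fin_cases j <;>
    simp [hM, lM, Matrix.mul_apply, Fin.sum_univ_three, hb, map_div₀]
  all_goals field_simp

theorem lM_mul_lM_comm (c' d' c d₀ D : K) (hD : D = d₀ + bar c * c' - bar c' * c) :
    lM bar c' d' * lM bar c d₀ = lM bar c D * lM bar c' d' := by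
  subst hD
  ext i j
  fin_cases i <;> fin_cases j <;>
    simp [lM, Matrix.mul_apply, Fin.sum_univ_three]
  all_goals ring

/-- (CONJ) upper and lower regular unipotent elements are conjugate when the parameters match -/
theorem exists_conj (htr : ∀ y : K, bar y = y → ∃ t, t + bar t = y)
    {a b : K} (ha : a ≠ 0) (h : b + bar b + a * bar a = 0) {l : K} (hl : l ≠ 0) {c d : K}
    (hc : c = -(a * bar l / l ^ 2)) (h' : d + bar d + c * bar c = 0) :
    ∃ g : SUJ bar, g * uE bar hb a b h * g⁻¹ = lE bar hb c d h' := by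
  have hbl : bar l ≠ 0 := (map_ne_zero bar).mpr hl
  have hba : bar a ≠ 0 := (map_ne_zero bar).mpr ha
  have hc0 : c ≠ 0 := by
    rw [hc]
    exact neg_ne_zero.mpr (div_ne_zero (mul_ne_zero ha hbl) (pow_ne_zero 2 hl))
  have hbc : bar c ≠ 0 := (map_ne_zero bar).mpr hc0
  -- the intermediate parameter
  set d₀ : K := b / (l * bar l) with hd₀
  have hd₀rel : d₀ + bar d₀ + c * bar c = 0 := by
    rw [hd₀, hc]
    simp only [map_div₀, map_neg, map_mul, map_pow, hb]
    field_simp
    linear_combination h
  set δ : K := d - d₀ with hδ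
  have hδbar : bar δ = -δ := by
    rw [hδ, map_sub]
    linear_combination h' - hd₀rel
  obtain ⟨e, he⟩ := htr 1 (map_one bar)
  set c' : K := δ * e / bar c with hc'
  have hfix : bar (-(c' * bar c')) = -(c' * bar c') := by
    rw [map_neg, map_mul, hb]; ring
  obtain ⟨d', hd'⟩ := htr (-(c' * bar c')) hfix
  have hd'rel : d' + bar d' + c' * bar c' = 0 := by linear_combination hd'
  have hma : b + bar b + (-a) * bar (-a) = 0 := by
    rw [map_neg]; linear_combination h
  have hD : d = d₀ + bar c * c' - bar c' * c := by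
    have e1 : bar c * c' = δ * e := by
      rw [hc']; field_simp
    have e2 : bar c' * c = -δ * bar e := by
      rw [hc', map_div₀, map_mul, hb, hδbar]; field_simp
    rw [e1, e2]
    linear_combination (-δ) * he
  refine ⟨lE bar hb c' d' hd'rel * hE bar hb l hl * wE bar hb, ?_⟩
  have hkey : lE bar hb c' d' hd'rel * hE bar hb l hl * wE bar hb * uE bar hb a b h
      = lE bar hb c d h' * (lE bar hb c' d' hd'rel * hE bar hb l hl * wE bar hb) := by
    apply ext_mt
    simp only [mt_mul, mt_lE, mt_uE, mt_hE, mt_wE]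
    have hcc : -a * bar l / l ^ 2 = c := by rw [hc]; ring
    calc lM bar c' d' * hM bar l * wM * uM bar a b
        = lM bar c' d' * hM bar l * (wM * uM bar a b) := by simp only [Matrix.mul_assoc]
      _ = lM bar c' d' * hM bar l * (lM bar (-a) b * wM) := by rw [wM_mul_uM]
      _ = lM bar c' d' * (hM bar l * lM bar (-a) b) * wM := by simp only [Matrix.mul_assoc]
      _ = lM bar c' d' * (lM bar c d₀ * hM bar l) * wM := by
          rw [hM_mul_lM bar hb hl, hcc]
      _ = (lM bar c' d' * lM bar c d₀) * hM bar l * wM := by simp only [Matrix.mul_assoc]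
      _ = (lM bar c d * lM bar c' d') * hM bar l * wM := by
          rw [lM_mul_lM_comm bar c' d' c d₀ d hD]
      _ = lM bar c d * (lM bar c' d' * hM bar l * wM) := by simp only [Matrix.mul_assoc]
  rw [hkey]; group

end Cfsg.Agent.Helper89.RU3
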