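import Mathlib
import Cfsg.Agent.Helper39.C320.Defs

/-!
# S1903 (helper39 architect, board #10066), piece (A11): the norm `(a x)^5` lies in `Z`
-/

set_option autoImplicit false

namespace Cfsg.Agent.Helper89.C320

open Cfsg.Agent.Helper39.C320

section A
variable {G : Type*} [Group G] [Finite G]
variable {P Z : Subgroup G} {x : G}

/-- (A11) the "norm" `(a x)^5 = a a^x a^{x²} a^{x³} a^{x⁴}` lies in `Z` -/
theorem Setup.norm_mem (h : Setup P Z x)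
    (hfpf : ∀ p ∈ P, x * p * x⁻¹ * p⁻¹ ∈ Z → p ∈ Z)
    (hab : ∀ p ∈ P, ∀ q ∈ P, p * q * p⁻¹ * q⁻¹ ∈ Z) :
    ∀ a ∈ P, (a * x) ^ 5 ∈ Z := by
  intro a ha
  have hnorm : P.Normal := h.normP
  -- `G ⧸ P` has order 5, so fifth powers lie in `P`
  have hq : Nat.card (G ⧸ P) = 5 := by
    have h1 := Subgroup.card_eq_card_quotient_mul_card_subgroup P
    rw [h.cardG, h.cardP] at h1
    omega
  have hpow : ∀ g : G, g ^ 5 ∈ P := by
    intro g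
    rw [← QuotientGroup.eq_one_iff, QuotientGroup.mk_pow, ← hq]
    exact pow_card_eq_one'
  have hN : (a * x) ^ 5 ∈ P := hpow _
  apply hfpf _ hN
  -- `x N x⁻¹ = (x a)^5 = a⁻¹ N a`
  have h1 : x * (a * x) ^ 5 * x⁻¹ = a⁻¹ * (a * x) ^ 5 * a := by
    have e1 : x * (a * x) ^ 5 * x⁻¹ = (x * (a * x) * x⁻¹) ^ 5 := (conj_pow).symm
    have e2 : a⁻¹ * (a * x) ^ 5 * a = (a⁻¹ * (a * x) * a⁻¹⁻¹) ^ 5 := by
      rw [conj_pow, inv_inv]
    rw [e1, e2]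
    congr 1
    group
  have h2 : x * (a * x) ^ 5 * x⁻¹ * ((a * x) ^ 5)⁻¹ =
      a⁻¹ * (a * x) ^ 5 * a⁻¹⁻¹ * ((a * x) ^ 5)⁻¹ := by
    rw [h1, inv_inv]
  rw [h2]
  exact hab a⁻¹ (P.inv_mem ha) _ hN

end A

end Cfsg.Agent.Helper89.C320
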