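-- helper89: piece (A1) of board post #11030 (for helper39, S3366): `Z = Z(R)` is central in `X`.
import Cfsg.Agent.Helper39.X648.Defs

set_option autoImplicit false

namespace Cfsg.Agent.Helper89.X648

open Cfsg.Agent.Helper39.X648

variable {X : Type*} [Group X] [Finite X] {R Z : Subgroup X} {u : X}

/-- `Z` is normal in `X` -/
theorem Base.Z_conj_mem (h : Base R Z u) : ∀ z ∈ Z, ∀ g : X, g * z * g⁻¹ ∈ Z := by
  intro z hz g
  rw [h.mem_Z]
  obtain ⟨hzR, hzc⟩ := (h.mem_Z z).1 hz
  refine ⟨h.normR.conj_mem z hzR g, fun r hr => ?_⟩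
  have h1 : g⁻¹ * r * g ∈ R := by
    have := h.normR.conj_mem r hr g⁻¹
    simpa using this
  have h2 := hzc _ h1
  calc r * (g * z * g⁻¹) = g * ((g⁻¹ * r * g) * z) * g⁻¹ := by group
    _ = g * (z * (g⁻¹ * r * g)) * g⁻¹ := by rw [h2]
    _ = g * z * g⁻¹ * r := by group

/-- the elements of `Z` -/
theorem Base.Z_elts (h : Base R Z u) (z : X) (hz : z ∈ Z) (hz1 : z ≠ 1) :
    ∀ w ∈ Z, w = 1 ∨ w = z ∨ w = z⁻¹ := by
  intro w hw
  have hz3 : z ^ 3 = 1 := h.exp3 z (h.Z_le hz)
  haveI : Fact (Nat.Prime 3) := ⟨by norm_num⟩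
  have hne : (⟨z, hz⟩ : Z) ≠ 1 := by
    intro he
    exact hz1 (congrArg Subtype.val he)
  have hmem : (⟨w, hw⟩ : Z) ∈ Subgroup.zpowers (⟨z, hz⟩ : Z) :=
    mem_zpowers_of_prime_card h.cardZ hne
  obtain ⟨k, hk⟩ := Subgroup.mem_zpowers_iff.1 hmem
  have hk' : z ^ k = w := by
    have := congrArg Subtype.val hk
    simpa using this
  have hred : z ^ k = z ^ (k % 3) := by
    conv_lhs => rw [← Int.emod_add_mul_ediv k 3]
    rw [zpow_add, zpow_mul]
    have : z ^ (3 : ℤ) = 1 := by
      have := hz3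
      exact_mod_cast this
    rw [this, one_zpow, mul_one]
  have hcases : k % 3 = 0 ∨ k % 3 = 1 ∨ k % 3 = 2 := by omega
  rw [hred] at hk'
  rcases hcases with h0 | h1 | h2
  · left
    rw [h0, zpow_zero] at hk'
    exact hk'.symm
  · right; left
    rw [h1, zpow_one] at hk'
    exact hk'.symm
  · right; right
    rw [h2] at hk'
    rw [← hk']
    have h3 : z ^ (2 : ℤ) * z = 1 := by
      have : z ^ (2 : ℤ) * z = z ^ 3 := by
        rw [show (2 : ℤ) = ((2 : ℕ) : ℤ) from rfl, zpow_natCast]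
        exact (pow_succ z 2).symm
      rw [this, hz3]
    exact eq_inv_of_mul_eq_one_left h3

/-- (A1) `Z` is central in `X` -/
theorem Base.Zcen (h : Base R Z u) : ∀ z ∈ Z, ∀ g : X, g * z = z * g := by
  intro z hz g
  by_cases hz1 : z = 1
  · subst hz1; simp
  have hz3 : z ^ 3 = 1 := h.exp3 z (h.Z_le hz)
  have hzinv : z⁻¹ ≠ z := by
    intro he
    apply hz1
    have h2 : z * z = 1 := by
      nth_rewrite 1 [← he]
      exact inv_mul_cancel z
    calc z = z ^ 3 * (z * z)⁻¹ := by group
      _ = 1 := by rw [hz3, h2]; group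
  have hel := Base.Z_elts h z hz hz1
  have hZn := Base.Z_conj_mem h
  -- elements outside the centralizer invert `z`
  have key : ∀ b : X, b ∉ Subgroup.centralizer ({z} : Set X) → b * z * b⁻¹ = z⁻¹ := by
    intro b hb
    rw [Subgroup.mem_centralizer_singleton_iff] at hb
    rcases hel _ (hZn z hz b) with h1 | h1 | h1
    · exfalso
      apply hz1
      have : b * z = b := by
        calc b * z = (b * z * b⁻¹) * b := by group
          _ = b := by rw [h1, one_mul]
      exact mul_eq_left.1 this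
    · exfalso
      apply hb
      calc b * z = (b * z * b⁻¹) * b := by group
        _ = z * b := by rw [h1]
    · exact h1
  have hRN : R ≤ Subgroup.centralizer ({z} : Set X) := by
    intro r hr
    rw [Subgroup.mem_centralizer_singleton_iff]
    exact ((h.mem_Z z).1 hz).2 r hr
  by_contra hne
  have hgN : g ∉ Subgroup.centralizer ({z} : Set X) := by
    rw [Subgroup.mem_centralizer_singleton_iff]
    exact hne
  have hidx : (Subgroup.centralizer ({z} : Set X)).index = 2 := by
    rw [Subgroup.index_eq_two_iff]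
    refine ⟨g, fun b => ?_⟩
    have hg := key g hgN
    by_cases hb : b ∈ Subgroup.centralizer ({z} : Set X)
    · refine Or.inr ⟨hb, fun hbg => ?_⟩
      rw [Subgroup.mem_centralizer_singleton_iff] at hb hbg
      apply hzinv
      have h1 : b * g * z * (b * g)⁻¹ = z := by
        rw [hbg]; group
      have h2 : b * g * z * (b * g)⁻¹ = b * (g * z * g⁻¹) * b⁻¹ := by group
      rw [h2, hg] at h1
      have h3 : b * z⁻¹ * b⁻¹ = z⁻¹ := by
        have : b * z⁻¹ * b⁻¹ = (b * z * b⁻¹)⁻¹ := by group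
        rw [this, hb]; group
      rw [h3] at h1
      exact h1
    · refine Or.inl ⟨?_, hb⟩
      have hb' := key b hb
      rw [Subgroup.mem_centralizer_singleton_iff]
      have h2 : b * g * z * (b * g)⁻¹ = b * (g * z * g⁻¹) * b⁻¹ := by group
      have h3 : b * z⁻¹ * b⁻¹ = (b * z * b⁻¹)⁻¹ := by group
      have h4 : b * g * z * (b * g)⁻¹ = z := by
        rw [h2, hg, h3, hb', inv_inv]
      calc b * g * z = (b * g * z * (b * g)⁻¹) * (b * g) := by group
        _ = z * (b * g) := by rw [h4]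
  exact h.no_idx2 _ hRN hidx

end Cfsg.Agent.Helper89.X648
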