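-- helper89: piece (A15a) of board post #11031 (for helper39, S3366): from the elementary abelian
-- subgroup of order 27, an element of order 3 outside `R` centralising a non-central element of `R`.
import Cfsg.Agent.Helper39.X648.Defs

set_option autoImplicit false

namespace Cfsg.Agent.Helper89.X648

open Cfsg.Agent.Helper39.X648

variable {X : Type*} [Group X] [Finite X] {R Z : Subgroup X} {u : X}

/-- (A15a) -/
theorem Base.exists_e (h : Base R Z u) (hZ : ∀ z ∈ Z, ∀ g : X, g * z = z * g)
    (hE : ∃ E : Subgroup X, IsMulCommutative E ∧ (∀ a ∈ E, a ^ 3 = 1) ∧ Nat.card E = 27) :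
    ∃ e a : X, e ∉ R ∧ e ^ 3 = 1 ∧ a ∈ R ∧ a ∉ Z ∧ e * a = a * e := by
  classical
  obtain ⟨E, hEc, hE3, hEcard⟩ := hE
  haveI := h.normR
  have hcomm : ∀ x ∈ E, ∀ y ∈ E, x * y = y * x := by
    intro x hx y hy
    have := mul_comm' (⟨x, hx⟩ : E) ⟨y, hy⟩
    exact congrArg Subtype.val this
  -- `E` is not contained in `R`
  have hER : ¬ E ≤ R := by
    intro hle
    have hEq : E = R := Subgroup.eq_of_le_of_card_ge hle (by rw [hEcard, h.cardR])
    -- then `R` is abelian, so `Z = R`
    have hRZ : R ≤ Z := by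
      intro r hr
      rw [h.mem_Z]
      refine ⟨hr, fun s hs => ?_⟩
      exact hcomm s (hEq ▸ hs) r (hEq ▸ hr)
    have h1 : Nat.card R ≤ Nat.card Z := Nat.le_of_dvd (by rw [h.cardZ]; norm_num)
      (Subgroup.card_dvd_of_le hRZ)
    rw [h.cardR, h.cardZ] at h1
    omega
  obtain ⟨e, heE, heR⟩ := SetLike.not_le_iff_exists.1 hER
  -- the index of `R ∩ E` in `E` divides 3
  have hidx : R.index = 24 := by
    have := Subgroup.index_mul_card R
    rw [h.cardR, h.cardX] at this
    omega
  have hrel3 : R.relIndex E ∣ 3 := by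
    have h1 : R.relIndex E ∣ 24 := hidx ▸ Subgroup.relIndex_dvd_index_of_normal R E
    have h2 : R.relIndex E ∣ 27 := hEcard ▸ Subgroup.relIndex_dvd_card R E
    have := Nat.dvd_gcd h1 h2
    simpa using this
  have hrel_le : R.relIndex E ≤ 3 := Nat.le_of_dvd (by norm_num) hrel3
  -- so `R ∩ E` has at least 9 elements
  have hmul : R.relIndex E * Nat.card (R.subgroupOf E) = 27 := by
    have := Subgroup.index_mul_card (R.subgroupOf E)
    rw [hEcard] at this
    exact this
  have hcard9 : 9 ≤ Nat.card (R.subgroupOf E) := by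
    have hpos : 0 < R.relIndex E := by
      rcases Nat.eq_zero_or_pos (R.relIndex E) with h0 | h0
      · rw [h0, zero_mul] at hmul; omega
      · exact h0
    nlinarith
  -- not all of it lies in `Z`
  have hex : ∃ a : X, a ∈ E ∧ a ∈ R ∧ a ∉ Z := by
    by_contra hno
    push Not at hno
    have hinj : Function.Injective (fun x : R.subgroupOf E => (⟨(x : E), hno _ (x : E).2
        (Subgroup.mem_subgroupOf.1 x.2)⟩ : Z)) := by
      intro x y hxy
      have h1 : ((x : E) : X) = ((y : E) : X) := by
        have := congrArg (fun w : Z => (w : X)) hxy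
        exact this
      exact Subtype.ext (Subtype.ext h1)
    have := Nat.card_le_card_of_injective _ hinj
    rw [h.cardZ] at this
    omega
  obtain ⟨a, haE, haR, haZ⟩ := hex
  exact ⟨e, a, heR, hE3 e heE, haR, haZ, hcomm e heE a haE⟩

end Cfsg.Agent.Helper89.X648
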