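-- helper89: piece (A15c) of board post #11031 (for helper39, S3366): correct the element `e`
-- (of order 3, outside `R`, commuting with `r1`) by a power of `r1` so that it commutes with `t`.
import Cfsg.Agent.Helper39.X648.Defs

set_option autoImplicit false

namespace Cfsg.Agent.Helper89.X648

open Cfsg.Agent.Helper39.X648

variable {X : Type*} [Group X] [Finite X] {R Z : Subgroup X} {u : X}
variable {t : X} {Q : Subgroup X} {i r1 : X}

/-- `r1 r2^b = c^b r2^b r1` when `c = [r1, r2]` is central -/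
theorem comm_pow_of_central {r1 r2 c : X} (h12 : r1 * r2 = c * r2 * r1)
    (hc : ∀ g : X, g * c = c * g) (b : ℕ) : r1 * r2 ^ b = c ^ b * r2 ^ b * r1 := by
  induction b with
  | zero => simp
  | succ b ih =>
    calc r1 * r2 ^ (b + 1) = (r1 * r2 ^ b) * r2 := by rw [pow_succ, mul_assoc]
      _ = c ^ b * r2 ^ b * (r1 * r2) := by rw [ih]; simp only [mul_assoc]
      _ = c ^ b * r2 ^ b * (c * r2 * r1) := by rw [h12]
      _ = c ^ b * (r2 ^ b * c) * r2 * r1 := by simp only [mul_assoc]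
      _ = c ^ b * (c * r2 ^ b) * r2 * r1 := by rw [hc (r2 ^ b)]
      _ = c ^ (b + 1) * r2 ^ (b + 1) * r1 := by
        rw [pow_succ c b, pow_succ r2 b]; simp only [mul_assoc]

/-- (A15c) correct it by a power of `r1` so that it commutes with `t` -/
theorem QSetup.exists_d0 (h : QSetup R Z u t Q) (hg : Gens R Z t Q i r1)
    (hnf : ∀ r ∈ R, ∃ a b : ℕ, ∃ z ∈ Z, r = r1 ^ a * (i * r1 * i⁻¹) ^ b * z)
    (he : ∃ e : X, e ∉ R ∧ e ^ 3 = 1 ∧ e * r1 = r1 * e) :
    ∃ d : X, d * t = t * d ∧ d * r1 = r1 * d ∧ d ∉ R ∧ d ^ 3 = 1 := by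
  obtain ⟨e, heR, he3, her1⟩ := he
  have hs := h.setup
  have hb := hs.base
  haveI := hb.normR
  have ht2 : t * t = 1 := by
    have := pow_orderOf_eq_one t
    rw [hs.t_ord, pow_two] at this
    exact this
  have htinv : t⁻¹ = t := inv_eq_of_mul_eq_one_left ht2
  -- notation
  obtain ⟨r2, hr2⟩ : ∃ r2 : X, r2 = i * r1 * i⁻¹ := ⟨_, rfl⟩
  obtain ⟨c, hc⟩ : ∃ c : X, c = cm r1 r2 := ⟨_, rfl⟩
  have hcZ : c ∈ Z := by rw [hc, hr2]; exact hg.c_mem
  have hc1 : c ≠ 1 := by rw [hc, hr2]; exact hg.c_ne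
  have hccen : ∀ g : X, g * c = c * g := hs.Zcen c hcZ
  have hr1R : r1 ∈ R := hg.r1_mem.1
  have hr1inv : t * r1 * t⁻¹ = r1⁻¹ := hg.r1_mem.2
  have hr2R : r2 ∈ R := by rw [hr2]; exact hg.r2_mem.1
  have hc3 : c ^ 3 = 1 := hb.exp3 c (hb.Z_le hcZ)
  have hr23 : r2 ^ 3 = 1 := hb.exp3 r2 hr2R
  have h12 : r1 * r2 = c * r2 * r1 := by
    rw [hc]; unfold cm; group
  -- the element `s` with `e t e⁻¹ = t s`
  obtain ⟨s, hsdef⟩ : ∃ s : X, s = t⁻¹ * (e * t * e⁻¹) := ⟨_, rfl⟩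
  have hets : e * t * e⁻¹ = t * s := by rw [hsdef]; group
  have hsR : s ∈ R := by
    have ha : e * (t * u⁻¹) * e⁻¹ ∈ R := hb.normR.conj_mem _ hs.t_u e
    have hb' : e * u * e⁻¹ * u⁻¹ ∈ R := hb.u_cen e
    have hc' : (t * u⁻¹)⁻¹ ∈ R := R.inv_mem hs.t_u
    have h1 : e * t * e⁻¹ * t⁻¹ ∈ R := by
      have : e * t * e⁻¹ * t⁻¹ = e * (t * u⁻¹) * e⁻¹ * (e * u * e⁻¹ * u⁻¹) * (t * u⁻¹)⁻¹ := by
        group
      rw [this]
      exact R.mul_mem (R.mul_mem ha hb') hc'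
    have h2 : s = t⁻¹ * (e * t * e⁻¹ * t⁻¹) * t⁻¹⁻¹ := by rw [hsdef]; group
    rw [h2]
    exact hb.normR.conj_mem _ h1 t⁻¹
  have hs3 : s ^ 3 = 1 := hb.exp3 s hsR
  -- `t s` is an involution, so `t` inverts `s`
  have hts2 : t * s * (t * s) = 1 := by
    rw [← hets]
    calc e * t * e⁻¹ * (e * t * e⁻¹) = e * (t * t) * e⁻¹ := by group
      _ = 1 := by rw [ht2]; group
  have htst : t * s * t = s⁻¹ := by
    calc t * s * t = (t * s * (t * s)) * s⁻¹ := by group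
      _ = s⁻¹ := by rw [hts2, one_mul]
  have hsinv : t * s * t⁻¹ = s⁻¹ := by rw [htinv]; exact htst
  -- `s` commutes with `r1`
  have her1' : e⁻¹ * r1 * e = r1 := by
    calc e⁻¹ * r1 * e = e⁻¹ * (r1 * e) := by group
      _ = e⁻¹ * (e * r1) := by rw [her1]
      _ = r1 := by group
  have hconj : t * s * r1 * (t * s)⁻¹ = r1⁻¹ := by
    rw [← hets]
    calc e * t * e⁻¹ * r1 * (e * t * e⁻¹)⁻¹ = e * (t * (e⁻¹ * r1 * e) * t⁻¹) * e⁻¹ := by group
      _ = e * r1⁻¹ * e⁻¹ := by rw [her1', hr1inv]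
      _ = (e * r1 * e⁻¹)⁻¹ := by group
      _ = r1⁻¹ := by
        congr 1
        calc e * r1 * e⁻¹ = r1 * e * e⁻¹ := by rw [her1]
          _ = r1 := by group
  have htr1 : t⁻¹ * r1⁻¹ * t = r1 := by
    calc t⁻¹ * r1⁻¹ * t = t⁻¹ * (t * r1 * t⁻¹) * t := by rw [hr1inv]
      _ = r1 := by group
  have hsr1 : s * r1 = r1 * s := by
    have h1 : s * r1 * s⁻¹ = r1 := by
      calc s * r1 * s⁻¹ = t⁻¹ * (t * s * r1 * (t * s)⁻¹) * t := by group
        _ = t⁻¹ * r1⁻¹ * t := by rw [hconj]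
        _ = r1 := htr1
    calc s * r1 = (s * r1 * s⁻¹) * s := by group
      _ = r1 * s := by rw [h1]
  -- normal form of `s`
  obtain ⟨a, b, z, hzZ, hsnf⟩ := hnf s hsR
  rw [← hr2] at hsnf
  have hzcen : ∀ g : X, g * z = z * g := hs.Zcen z hzZ
  -- `c ^ b = 1`
  have hcb : c ^ b = 1 := by
    have hp := comm_pow_of_central h12 hccen b
    have hr1a : r1 * r1 ^ a = r1 ^ a * r1 := by
      rw [← pow_succ', pow_succ]
    have h1 : r1 * s = c ^ b * (s * r1) := by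
      have hcbcen : ∀ g : X, g * c ^ b = c ^ b * g := by
        intro g
        exact ((Commute.pow_right (show Commute g c from hccen g) b)).eq
      calc r1 * s = r1 * (r1 ^ a * r2 ^ b * z) := by rw [hsnf]
        _ = (r1 * r1 ^ a) * r2 ^ b * z := by simp only [mul_assoc]
        _ = r1 ^ a * (r1 * r2 ^ b) * z := by rw [hr1a]; simp only [mul_assoc]
        _ = r1 ^ a * (c ^ b * r2 ^ b * r1) * z := by rw [hp]
        _ = (r1 ^ a * c ^ b) * r2 ^ b * (r1 * z) := by simp only [mul_assoc]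
        _ = (c ^ b * r1 ^ a) * r2 ^ b * (z * r1) := by rw [hcbcen (r1 ^ a), hzcen r1]
        _ = c ^ b * ((r1 ^ a * r2 ^ b * z) * r1) := by simp only [mul_assoc]
        _ = c ^ b * (s * r1) := by rw [← hsnf]
    rw [← hsr1] at h1
    have : c ^ b * (s * r1) = 1 * (s * r1) := by rw [one_mul]; exact h1.symm
    exact mul_right_cancel this
  -- hence `r2 ^ b = 1`
  have hr2b : r2 ^ b = 1 := by
    haveI : Fact (Nat.Prime 3) := ⟨by norm_num⟩
    have ho : orderOf c = 3 := orderOf_eq_prime hc3 hc1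
    have hdvd : 3 ∣ b := ho ▸ orderOf_dvd_of_pow_eq_one hcb
    obtain ⟨k, rfl⟩ := hdvd
    rw [pow_mul, hr23, one_pow]
  -- `z = 1`
  have hr1aInv : r1 ^ a ∈ Inv R t := by
    refine ⟨R.pow_mem hr1R a, ?_⟩
    rw [← conj_pow, hr1inv, inv_pow]
  have hz1 : z = 1 := by
    apply hs.rep2 (r1 ^ a) hr1aInv z hzZ
    have : r1 ^ a * z = s := by rw [hsnf, hr2b, mul_one]
    rw [this]
    exact ⟨hsR, hsinv⟩
  have hsa : s = r1 ^ a := by rw [hsnf, hr2b, hz1, mul_one, mul_one]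
  -- `e` commutes with `s`
  have hes : e * s = s * e := by
    rw [hsa]
    exact ((Commute.pow_right (show Commute e r1 from her1) a)).eq
  have hes' : e * s⁻¹ = s⁻¹ * e := by
    calc e * s⁻¹ = s⁻¹ * (s * e) * s⁻¹ := by group
      _ = s⁻¹ * (e * s) * s⁻¹ := by rw [hes]
      _ = s⁻¹ * e := by group
  have hss : s * s = s⁻¹ := by
    have : s * s * s = 1 := by rw [← hs3, pow_succ, pow_two]
    exact eq_inv_of_mul_eq_one_left this
  -- the element `d = s⁻¹ e`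
  refine ⟨s⁻¹ * e, ?_, ?_, ?_, ?_⟩
  · -- commutes with `t`
    have h1 : e * t = t * s * e := by
      calc e * t = (e * t * e⁻¹) * e := by group
        _ = t * s * e := by rw [hets]
    have h2 : s⁻¹ * t = t * s := by
      calc s⁻¹ * t = (t * s * t) * t := by rw [htst]
        _ = t * s * (t * t) := by group
        _ = t * s := by rw [ht2, mul_one]
    calc s⁻¹ * e * t = s⁻¹ * (e * t) := by group
      _ = s⁻¹ * (t * s * e) := by rw [h1]
      _ = (s⁻¹ * t) * s * e := by group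
      _ = t * s * s * e := by rw [h2]
      _ = t * (s * s) * e := by group
      _ = t * s⁻¹ * e := by rw [hss]
      _ = t * (s⁻¹ * e) := by group
  · -- commutes with `r1`
    have hsr1' : s⁻¹ * r1 = r1 * s⁻¹ := by
      calc s⁻¹ * r1 = s⁻¹ * (r1 * s) * s⁻¹ := by group
        _ = s⁻¹ * (s * r1) * s⁻¹ := by rw [hsr1]
        _ = r1 * s⁻¹ := by group
    calc s⁻¹ * e * r1 = s⁻¹ * (e * r1) := by group
      _ = s⁻¹ * (r1 * e) := by rw [her1]
      _ = (s⁻¹ * r1) * e := by group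
      _ = r1 * s⁻¹ * e := by rw [hsr1']
      _ = r1 * (s⁻¹ * e) := by group
  · -- not in `R`
    intro hd
    apply heR
    have : e = s * (s⁻¹ * e) := by group
    rw [this]
    exact R.mul_mem hsR hd
  · -- order 3
    have hcomm : Commute s⁻¹ e := hes'.symm
    rw [hcomm.mul_pow, he3, mul_one, inv_pow, hs3, inv_one]

end Cfsg.Agent.Helper89.X648
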