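-- helper89: piece (A4) of board post #11030 (for helper39, S3366): conjugates of the involution
-- `t` are `R`-conjugates (Frattini-type argument, done by hand: `R` has exponent 3).
import Cfsg.Agent.Helper39.X648.Defs

set_option autoImplicit false

namespace Cfsg.Agent.Helper89.X648

open Cfsg.Agent.Helper39.X648

variable {X : Type*} [Group X] [Finite X] {R Z : Subgroup X} {u : X}

/-- (A4) conjugates of `t` are `R`-conjugates (Frattini) -/
theorem Base.frattini (h : Base R Z u) (t : X) (ht : orderOf t = 2) (htu : t * u⁻¹ ∈ R) :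
    ∀ g : X, ∃ r ∈ R, (r⁻¹ * g) * t = t * (r⁻¹ * g) := by
  intro g
  have ht2 : t * t = 1 := by
    have := pow_orderOf_eq_one t
    rw [ht, pow_two] at this
    exact this
  have htinv : t⁻¹ = t := inv_eq_of_mul_eq_one_left ht2
  -- `s = g t g⁻¹ t⁻¹ ∈ R`
  obtain ⟨s, hs⟩ : ∃ s : X, s = g * t * g⁻¹ * t⁻¹ := ⟨_, rfl⟩
  have hsR : s ∈ R := by
    have ha : g * (t * u⁻¹) * g⁻¹ ∈ R := h.normR.conj_mem _ htu g
    have hb : g * u * g⁻¹ * u⁻¹ ∈ R := h.u_cen g
    have hc : (t * u⁻¹)⁻¹ ∈ R := R.inv_mem htu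
    have : s = g * (t * u⁻¹) * g⁻¹ * (g * u * g⁻¹ * u⁻¹) * (t * u⁻¹)⁻¹ := by
      rw [hs]; group
    rw [this]
    exact R.mul_mem (R.mul_mem ha hb) hc
  have hs3 : s ^ 3 = 1 := h.exp3 s hsR
  -- `s t` is an involution
  have hst : s * t = g * t * g⁻¹ := by rw [hs]; group
  have hst2 : s * t * (s * t) = 1 := by
    rw [hst]
    calc g * t * g⁻¹ * (g * t * g⁻¹) = g * (t * t) * g⁻¹ := by group
      _ = 1 := by rw [ht2]; group
  -- `t s t⁻¹ = s⁻¹`
  have hinv : t * s * t = s⁻¹ := by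
    calc t * s * t = s⁻¹ * (s * t * (s * t)) := by group
      _ = s⁻¹ := by rw [hst2, mul_one]
  -- `r = s⁻¹` works: `s⁻¹ t s = s t`
  refine ⟨s⁻¹, R.inv_mem hsR, ?_⟩
  rw [inv_inv]
  have hss : s * s = s⁻¹ := by
    have : s * s * s = 1 := by
      rw [← hs3, pow_succ, pow_two]
    exact eq_inv_of_mul_eq_one_left this
  have hts : t * s = s⁻¹ * t := by
    calc t * s = (t * s * t) * t⁻¹ := by group
      _ = s⁻¹ * t := by rw [hinv, htinv]
  have hg : s * g = g * t * g⁻¹ * t⁻¹ * g := by rw [hs]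
  -- `t (s g) = s⁻¹ t g = s s t g = s (g t g⁻¹) g = s g t`
  calc s * g * t = s * (g * t * g⁻¹) * g := by group
    _ = s * (s * t) * g := by rw [hst]
    _ = (s * s) * t * g := by group
    _ = s⁻¹ * t * g := by rw [hss]
    _ = t * s * g := by rw [hts]
    _ = t * (s * g) := by group

end Cfsg.Agent.Helper89.X648
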