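import Mathlib

/-!
# S4385 (Goldschmidt's dihedral lemma), leaf (DRHO) `exists_odd_normal` — helper89 (hedge) for helper42
-/

set_option autoImplicit false

universe u

namespace Cfsg.Agent.Helper89.GD

/-- conjugation maps `zpowers σ` into itself as soon as it does so for `σ` -/
theorem DRHO_conj_mem {Γ : Type*} [Group Γ] (σ g : Γ) (hg : g * σ * g⁻¹ ∈ Subgroup.zpowers σ)
    (d : Γ) (hd : d ∈ Subgroup.zpowers σ) : g * d * g⁻¹ ∈ Subgroup.zpowers σ := by
  obtain ⟨j, rfl⟩ := Subgroup.mem_zpowers_iff.mp hd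
  rw [← conj_zpow]
  exact zpow_mem hg j

/-- an involution conjugating `σ` into `zpowers σ` normalises `zpowers σ` -/
theorem DRHO_invol_mem_normalizer {Γ : Type*} [Group Γ] (σ g : Γ) (hg2 : g * g = 1)
    (hg : g * σ * g⁻¹ ∈ Subgroup.zpowers σ) :
    g ∈ Subgroup.normalizer ((Subgroup.zpowers σ : Subgroup Γ) : Set Γ) := by
  have hginv : g⁻¹ = g := inv_eq_of_mul_eq_one_left hg2
  rw [Subgroup.mem_normalizer_iff]
  intro d
  constructor
  · exact DRHO_conj_mem σ g hg d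
  · intro hd
    have h1 := DRHO_conj_mem σ g hg _ hd
    have e : g * (g * d * g⁻¹) * g⁻¹ = d := by
      rw [hginv]
      calc g * (g * d * g) * g = (g * g) * d * (g * g) := by simp only [mul_assoc]
        _ = d := by rw [hg2, one_mul, mul_one]
    rwa [e] at h1

/-- (DRHO) -/
theorem exists_odd_normal
    {Γ : Type u} [Group Γ] [Finite Γ]
    (hDC : ∀ {Δ : Type u} [Group Δ] (a b : Δ), a * a = 1 → b * b = 1 → ∀ m : ℕ, 0 < m → (a * b) ^ m = 1 →
      Nat.card (Subgroup.closure {a, b}) ≤ 2 * m)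
    (Q : Subgroup Γ) [Q.Normal]
    (hQ2 : ∀ q ∈ Q, q * q = 1) (n : ℕ) (hn : Odd n) (hcard : Nat.card Γ = 2 * n * Nat.card Q)
    (a b : Γ) (ha : a * a = 1) (hb : b * b = 1) (hgen : Subgroup.closure {a, b} ⊔ Q = ⊤)
    (hρ : (a * b) ^ n ∈ Q) (k : ℕ) (hk : k ∣ n) (hcen : ∀ q ∈ Q, Commute ((a * b) ^ k) q) :
    ∃ D : Subgroup Γ, D.Normal ∧ Odd (Nat.card D) ∧
      Nat.card Γ = Nat.card D * (2 * k * Nat.card Q) := by
  obtain ⟨l, rfl⟩ := hk
  have hkl := Nat.odd_mul.mp hn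
  have hkodd : Odd k := hkl.1
  have hlodd : Odd l := hkl.2
  have hkpos : 0 < k := hkodd.pos
  have hlpos : 0 < l := hlodd.pos
  have hainv : a⁻¹ = a := inv_eq_of_mul_eq_one_left ha
  have hbinv : b⁻¹ = b := inv_eq_of_mul_eq_one_left hb
  have hρinv : (a * b)⁻¹ = b * a := by rw [mul_inv_rev, hainv, hbinv]
  have hca : a * (a * b) * a⁻¹ = (a * b)⁻¹ := by
    rw [hρinv, hainv, ← mul_assoc, ha, one_mul]
  have hcb : b * (a * b) * b⁻¹ = (a * b)⁻¹ := by
    rw [hρinv, hbinv, mul_assoc, mul_assoc, hb, mul_one]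
  -- the subgroup
  have hNa : a ∈ Subgroup.normalizer
      ((Subgroup.zpowers ((a * b) ^ (2 * k)) : Subgroup Γ) : Set Γ) := by
    apply DRHO_invol_mem_normalizer _ _ ha
    rw [← conj_pow, hca, inv_pow]
    exact inv_mem (Subgroup.mem_zpowers _)
  have hNb : b ∈ Subgroup.normalizer
      ((Subgroup.zpowers ((a * b) ^ (2 * k)) : Subgroup Γ) : Set Γ) := by
    apply DRHO_invol_mem_normalizer _ _ hb
    rw [← conj_pow, hcb, inv_pow]
    exact inv_mem (Subgroup.mem_zpowers _)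
  have hNQ : Q ≤ Subgroup.normalizer
      ((Subgroup.zpowers ((a * b) ^ (2 * k)) : Subgroup Γ) : Set Γ) := by
    rw [Subgroup.le_normalizer_iff]
    intro q hq d hd
    apply DRHO_conj_mem _ _ _ d hd
    have h1 : Commute ((a * b) ^ (2 * k)) q := by
      rw [mul_comm 2 k, pow_mul]
      exact (hcen q hq).pow_left 2
    have h2 : q * (a * b) ^ (2 * k) * q⁻¹ = (a * b) ^ (2 * k) := by
      rw [mul_inv_eq_iff_eq_mul]
      exact h1.eq.symm
    rw [h2]
    exact Subgroup.mem_zpowers _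
  have hnormal : (Subgroup.zpowers ((a * b) ^ (2 * k)) : Subgroup Γ).Normal := by
    rw [← Subgroup.normalizer_eq_top_iff, eq_top_iff, ← hgen]
    apply sup_le _ hNQ
    rw [Subgroup.closure_le]
    rintro g (rfl | rfl)
    · exact hNa
    · exact hNb
  -- the order of the image of `ρ` in the quotient
  have hQpos : 0 < Nat.card Q := Nat.card_pos
  have hquot : Nat.card (Γ ⧸ Q) = 2 * (k * l) := by
    have h1 := Subgroup.card_eq_card_quotient_mul_card_subgroup Q
    rw [hcard] at h1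
    exact (Nat.eq_of_mul_eq_mul_right hQpos h1).symm
  have hbar_pow : ((a * b : Γ) : Γ ⧸ Q) ^ (k * l) = 1 := by
    rw [← QuotientGroup.mk_pow]
    exact (QuotientGroup.eq_one_iff _).mpr hρ
  have hord : orderOf ((a * b : Γ) : Γ ⧸ Q) = k * l := by
    have hdvd : orderOf ((a * b : Γ) : Γ ⧸ Q) ∣ k * l := orderOf_dvd_of_pow_eq_one hbar_pow
    have hpos : 0 < orderOf ((a * b : Γ) : Γ ⧸ Q) := orderOf_pos _
    have h1 := hDC (Δ := Γ ⧸ Q) (a : Γ ⧸ Q) (b : Γ ⧸ Q)
      (by rw [← QuotientGroup.mk_mul, ha]; rfl) (by rw [← QuotientGroup.mk_mul, hb]; rfl)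
      (orderOf ((a * b : Γ) : Γ ⧸ Q)) hpos
      (by rw [← QuotientGroup.mk_mul]; exact pow_orderOf_eq_one _)
    have htop : Subgroup.closure {(a : Γ ⧸ Q), (b : Γ ⧸ Q)} = ⊤ := by
      have h2 : (Subgroup.closure {a, b} ⊔ Q).map (QuotientGroup.mk' Q) = ⊤ := by
        rw [hgen]
        exact Subgroup.map_top_of_surjective _ (QuotientGroup.mk'_surjective Q)
      rw [Subgroup.map_sup, QuotientGroup.map_mk'_self, sup_bot_eq, MonoidHom.map_closure,
        Set.image_pair] at h2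
      exact h2
    rw [htop, Subgroup.card_top, hquot] at h1
    have h3 := Nat.le_of_dvd (Nat.mul_pos hkpos hlpos) hdvd
    omega
  -- the order of `σ`
  have hσ : orderOf ((a * b) ^ (2 * k)) = l := by
    apply Nat.dvd_antisymm
    · apply orderOf_dvd_of_pow_eq_one
      rw [← pow_mul, show 2 * k * l = (k * l) * 2 by ring, pow_mul, pow_two]
      exact hQ2 _ hρ
    · have h1 : ((a * b : Γ) : Γ ⧸ Q) ^ (2 * k * orderOf ((a * b) ^ (2 * k))) = 1 := by
        rw [← QuotientGroup.mk_pow, pow_mul, pow_orderOf_eq_one]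
        rfl
      have h2 := orderOf_dvd_of_pow_eq_one h1
      rw [hord, show 2 * k * orderOf ((a * b) ^ (2 * k)) = k * (2 * orderOf ((a * b) ^ (2 * k))) by ring] at h2
      have h3 : l ∣ 2 * orderOf ((a * b) ^ (2 * k)) := Nat.dvd_of_mul_dvd_mul_left hkpos h2
      exact (Nat.Coprime.dvd_of_dvd_mul_left hlodd.coprime_two_right h3)
  refine ⟨Subgroup.zpowers ((a * b) ^ (2 * k)), hnormal, ?_, ?_⟩
  · rw [Nat.card_zpowers, hσ]
    exact hlodd
  · rw [Nat.card_zpowers, hσ, hcard]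
    ring

end Cfsg.Agent.Helper89.GD
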