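import Mathlib
import Cfsg.Agent.Helper95.TIC.Defs
import Cfsg.Agent.Helper65.Nilpotent

/-!
# (B1) of helper95's S4064 farm (#12259): the centralizer of a non-identity central element of a
Sylow subgroup is a block.
-/

set_option autoImplicit false

namespace Cfsg.Agent.Helper89.TICent

open Subgroup Cfsg.Agent.Helper95.TICent

variable {G : Type*} [Group G]

/-- an element killed by a power of `p` generates a `p`-group -/
theorem isPGroup_zpowers_of_pow {p : ℕ} [Fact p.Prime] {w : G} (hw : ∃ k : ℕ, w ^ p ^ k = 1) :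
    IsPGroup p (zpowers w) := by
  obtain ⟨k, hk⟩ := hw
  rintro ⟨x, hx⟩
  obtain ⟨i, rfl⟩ := mem_zpowers_iff.mp hx
  refine ⟨k, ?_⟩
  apply Subtype.ext
  simp only [SubmonoidClass.mk_pow, OneMemClass.coe_one]
  rw [← zpow_natCast, ← zpow_mul, mul_comm, zpow_mul, zpow_natCast, hk, one_zpow]

/-- (Lemma B) in a nilpotent subgroup `N` containing the Sylow `p`-subgroup `P` of `G`, every
`p`-element of `N` lies in `P`. -/
theorem mem_sylow_of_nilpotent [Finite G] {p : ℕ} [Fact p.Prime] (P : Sylow p G) (N : Subgroup G)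
    (hN : Group.IsNilpotent N) (hPN : (P : Subgroup G) ≤ N) {w : G} (hwN : w ∈ N)
    (hw : ∃ k : ℕ, w ^ p ^ k = 1) : w ∈ P := by
  set P' : Sylow p N := P.subtype hPN with hP'
  have hnorm : (P' : Subgroup N).Normal :=
    Sylow.normal_of_normalizerCondition Group.normalizerCondition_of_isNilpotent P'
  letI := Sylow.unique_of_normal P' hnorm
  have hpg : IsPGroup p (zpowers (⟨w, hwN⟩ : N)) := by
    apply isPGroup_zpowers_of_pow
    obtain ⟨k, hk⟩ := hw
    exact ⟨k, Subtype.ext (by simpa using hk)⟩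
  obtain ⟨Q, hQ⟩ := hpg.exists_le_sylow
  have hQP : Q = P' := Subsingleton.elim _ _
  have hmem : (⟨w, hwN⟩ : N) ∈ (P' : Subgroup N) := by
    rw [← hQP]
    exact hQ (mem_zpowers _)
  rw [hP', Sylow.coe_subtype, mem_subgroupOf] at hmem
  exact hmem

/-- (Lemma A) in a nilpotent subgroup `N`, a `p`-element `z` commuting with all `p`-elements of `N`
is central in `N`. -/
theorem commute_of_nilpotent [Finite G] {p : ℕ} [Fact p.Prime] (N : Subgroup G)
    (hN : Group.IsNilpotent N) {z : G} (hzN : z ∈ N) (hzp : ∃ k : ℕ, z ^ p ^ k = 1)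
    (hcomm : ∀ w ∈ N, (∃ k : ℕ, w ^ p ^ k = 1) → w * z = z * w) (g : G) (hg : g ∈ N) :
    g * z = z * g := by
  have hp : p.Prime := Fact.out
  have hpos : 0 < orderOf g := orderOf_pos g
  obtain ⟨k, m, hm, hkm⟩ := Nat.exists_eq_pow_mul_and_not_dvd hpos.ne' p hp.ne_one
  -- the `p`-part `g ^ m`
  have h1 : Commute (g ^ m) z := by
    apply hcomm (g ^ m) (pow_mem hg m)
    refine ⟨k, ?_⟩
    rw [← pow_mul, mul_comm, ← hkm, pow_orderOf_eq_one]
  -- the `p'`-part `g ^ (p ^ k)`
  have h2 : Commute (g ^ p ^ k) z := by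
    haveI := hN
    have hco : (orderOf (⟨g ^ p ^ k, pow_mem hg _⟩ : N)).Coprime (orderOf (⟨z, hzN⟩ : N)) := by
      rw [Subgroup.orderOf_mk, Subgroup.orderOf_mk]
      obtain ⟨j, hj⟩ := hzp
      have hz_dvd : orderOf z ∣ p ^ j := orderOf_dvd_of_pow_eq_one hj
      have hg_dvd : orderOf (g ^ p ^ k) ∣ m := by
        apply orderOf_dvd_of_pow_eq_one
        rw [← pow_mul, ← hkm, pow_orderOf_eq_one]
      have hmp : m.Coprime (p ^ j) :=
        Nat.Coprime.pow_right j ((Nat.Prime.coprime_iff_not_dvd hp).mpr hm).symm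
      exact Nat.Coprime.coprime_dvd_left hg_dvd (Nat.Coprime.coprime_dvd_right hz_dvd hmp)
    have hc := Cfsg.Agent.Helper65.commute_of_coprime_orderOf N _ _ hco
    have := congrArg (Subtype.val) hc.eq
    show g ^ p ^ k * z = z * g ^ p ^ k
    simpa using this
  -- Bezout
  have hcop : Nat.Coprime m (p ^ k) :=
    Nat.Coprime.pow_right k ((Nat.Prime.coprime_iff_not_dvd hp).mpr hm).symm
  have hbez : (1 : ℤ) = (m : ℤ) * Nat.gcdA m (p ^ k) + ((p ^ k : ℕ) : ℤ) * Nat.gcdB m (p ^ k) := by
    have := Nat.gcd_eq_gcd_ab m (p ^ k)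
    rw [hcop] at this
    exact_mod_cast this
  have hg1 : g = (g ^ m) ^ (Nat.gcdA m (p ^ k)) * (g ^ p ^ k) ^ (Nat.gcdB m (p ^ k)) := by
    rw [← zpow_natCast g m, ← zpow_natCast g (p ^ k), ← zpow_mul, ← zpow_mul, ← zpow_add, ← hbez,
      zpow_one]
  have hc : Commute g z := by
    rw [hg1]
    exact (h1.zpow_left _).mul_left (h2.zpow_left _)
  exact hc.eq

/-- (B1) The centralizer of a non-identity central element of a Sylow subgroup is a block. -/
theorem isBlock_centralizer [Finite G] (h : TIC G) (hCN : Cfsg.IsCNGroup G) {p : ℕ}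
    [Fact p.Prime] (P : Sylow p G) {z : G} (hzP : z ∈ P) (hz1 : z ≠ 1)
    (hzc : ∀ u ∈ P, u * z = z * u) : IsBlock (centralizer ({z} : Set G)) := by
  set M := centralizer ({z} : Set G) with hM
  have hnilM : Group.IsNilpotent M := hCN z hz1
  have hPM : (P : Subgroup G) ≤ M := fun u hu => mem_centralizer_singleton_iff.mpr (hzc u hu)
  have hzM : z ∈ M := mem_centralizer_singleton_iff.mpr rfl
  have hPp : ∀ u ∈ P, ∃ k : ℕ, u ^ p ^ k = 1 := by
    intro u hu
    obtain ⟨k, hk⟩ := P.2 ⟨u, hu⟩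
    exact ⟨k, by simpa using congrArg Subtype.val hk⟩
  -- conjugation by `N(M)` preserves `P`
  have ha : ∀ g ∈ normalizer (M : Set G), ∀ u ∈ P, g * u * g⁻¹ ∈ P := by
    intro g hg u hu
    apply mem_sylow_of_nilpotent P M hnilM hPM
    · exact (mem_normalizer_iff.mp hg u).mp (hPM hu)
    · obtain ⟨k, hk⟩ := hPp u hu
      exact ⟨k, by rw [conj_pow, hk, mul_one, mul_inv_cancel]⟩
  have haN : normalizer (M : Set G) ≤ normalizer ((P : Subgroup G) : Set G) := by
    intro g hg
    rw [mem_normalizer_iff]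
    intro u
    constructor
    · exact ha g hg u
    · intro hgu
      have := ha g⁻¹ (inv_mem hg) _ hgu
      have e : g⁻¹ * (g * u * g⁻¹) * g⁻¹⁻¹ = u := by group
      rwa [e] at this
  refine ⟨?_, hnilM, ?_⟩
  · intro hbot
    apply hz1
    have : z ∈ (⊥ : Subgroup G) := hbot ▸ hzM
    exact mem_bot.mp this
  · intro y hyM hy1 g hg
    have hCy_nil : Group.IsNilpotent (centralizer ({y} : Set G)) := hCN y hy1
    have hCyN : centralizer ({y} : Set G) ≤ normalizer (M : Set G) :=
      h.centralizer_le_normalizer hyM hy1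
    have hzCy : z ∈ centralizer ({y} : Set G) := by
      rw [mem_centralizer_singleton_iff]
      exact (mem_centralizer_singleton_iff.mp hyM).symm
    have hp_comm : ∀ w ∈ centralizer ({y} : Set G), (∃ k : ℕ, w ^ p ^ k = 1) → w * z = z * w := by
      intro w hw hwp
      have hwP : w ∈ P := by
        have hzw : zpowers w ≤ normalizer ((P : Subgroup G) : Set G) := by
          rw [zpowers_le]
          exact haN (hCyN hw)
        have hsup : IsPGroup p (zpowers w ⊔ (P : Subgroup G) : Subgroup G) :=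
          (isPGroup_zpowers_of_pow hwp).to_sup_of_normal_right' P.2 hzw
        have heq := P.is_maximal' hsup le_sup_right
        have hmem : w ∈ zpowers w ⊔ (P : Subgroup G) := le_sup_left (α := Subgroup G) (mem_zpowers w)
        rw [heq] at hmem
        exact hmem
      exact hzc w hwP
    rw [hM, mem_centralizer_singleton_iff]
    exact commute_of_nilpotent (centralizer ({y} : Set G)) hCy_nil hzCy (hPp z hzP) hp_comm g hg

end Cfsg.Agent.Helper89.TICent
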