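import Mathlib

/-!
# (8D1) of helper43's S2500 farm, POST 3 (#11867)

Normal form of a pair (vector, covector) of `F³` under `SL₃(F)` acting by `(A, A⁻ᵀ)`.
-/

set_option autoImplicit false

namespace Cfsg.Agent.Helper89.Cov2.P8

open Matrix

variable {F : Type*} [Field F]

/-- `SL₃` is transitive on nonzero vectors. -/
theorem exists_sl3_to_e0 (a : Fin 3 → F) (ha : a ≠ 0) :
    ∃ A : Matrix (Fin 3) (Fin 3) F, A.det = 1 ∧ A *ᵥ a = ![1, 0, 0] := by
  by_cases h0 : a 0 = 0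
  · by_cases h1 : a 1 = 0
    · have h2 : a 2 ≠ 0 := by
        intro h2
        apply ha
        ext i
        fin_cases i <;> simp [h0, h1, h2]
      refine ⟨!![0, 0, (a 2)⁻¹; 1, 0, -(a 0) * (a 2)⁻¹; 0, a 2, -(a 1)], ?_, ?_⟩
      · rw [Matrix.det_fin_three]; simp only [Matrix.of_apply, Matrix.cons_val]
        field_simp
        ring
      · ext i
        fin_cases i
        · simp [Matrix.mulVec, dotProduct, Fin.sum_univ_three, h2]
        · simp [Matrix.mulVec, dotProduct, Fin.sum_univ_three, h0]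
        · simp [Matrix.mulVec, dotProduct, Fin.sum_univ_three, h1]
    · refine ⟨!![0, (a 1)⁻¹, 0; -(a 1), a 0, 0; 0, -(a 2) * (a 1)⁻¹, 1], ?_, ?_⟩
      · rw [Matrix.det_fin_three]; simp only [Matrix.of_apply, Matrix.cons_val]
        field_simp
        ring
      · ext i
        fin_cases i
        · simp [Matrix.mulVec, dotProduct, Fin.sum_univ_three, h1]
        · simp [Matrix.mulVec, dotProduct, Fin.sum_univ_three, h0]
        · simp [Matrix.mulVec, dotProduct, Fin.sum_univ_three, h1]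
  · refine ⟨!![(a 0)⁻¹, 0, 0; -(a 1), a 0, 0; -(a 2) * (a 0)⁻¹, 0, 1], ?_, ?_⟩
    · rw [Matrix.det_fin_three]; simp only [Matrix.of_apply, Matrix.cons_val]
      field_simp
      ring
    · ext i
      fin_cases i
      · simp [Matrix.mulVec, dotProduct, Fin.sum_univ_three, h0]
      · simp [Matrix.mulVec, dotProduct, Fin.sum_univ_three]
        ring
      · simp [Matrix.mulVec, dotProduct, Fin.sum_univ_three, h0]

/-- The normal-form predicate of (8D1). -/
def NF3 (a b : Fin 3 → F) : Prop :=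
  ∃ A : Matrix (Fin 3) (Fin 3) F, A.det = 1 ∧
    (((A *ᵥ a) 1 = 0 ∧ (A *ᵥ a) 2 = 0 ∧ (A.adjugateᵀ *ᵥ b) 1 = 0 ∧ (A.adjugateᵀ *ᵥ b) 2 = 0) ∨
      (A *ᵥ a = ![1, 0, 0] ∧ A.adjugateᵀ *ᵥ b = ![0, 1, 0]))

theorem NF3_of_apply (a b : Fin 3 → F) (A₁ : Matrix (Fin 3) (Fin 3) F) (h₁ : A₁.det = 1)
    (h : NF3 (A₁ *ᵥ a) (A₁.adjugateᵀ *ᵥ b)) : NF3 a b := by
  obtain ⟨A₂, h₂, hA₂⟩ := h
  refine ⟨A₂ * A₁, by rw [Matrix.det_mul, h₁, h₂, mul_one], ?_⟩
  have e1 : (A₂ * A₁) *ᵥ a = A₂ *ᵥ (A₁ *ᵥ a) := by rw [Matrix.mulVec_mulVec]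
  have e2 : (A₂ * A₁).adjugateᵀ *ᵥ b = A₂.adjugateᵀ *ᵥ (A₁.adjugateᵀ *ᵥ b) := by
    rw [Matrix.mulVec_mulVec, Matrix.adjugate_mul_distrib, Matrix.transpose_mul]
  rw [e1, e2]
  exact hA₂

theorem NF3_e0 (b : Fin 3 → F) : NF3 ![1, 0, 0] b := by
  by_cases h0 : b 0 = 0
  · by_cases h12 : b 1 = 0 ∧ b 2 = 0
    · refine ⟨1, Matrix.det_one, Or.inl ?_⟩
      simp [h12.1, h12.2]
    · -- second alternative
      obtain ⟨u, v, huv⟩ : ∃ u v : F, u * b 1 + v * b 2 = 1 := by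
        by_cases h1 : b 1 = 0
        · have h2 : b 2 ≠ 0 := fun h2 => h12 ⟨h1, h2⟩
          exact ⟨0, (b 2)⁻¹, by rw [zero_mul, zero_add, inv_mul_cancel₀ h2]⟩
        · exact ⟨(b 1)⁻¹, 0, by rw [zero_mul, add_zero, inv_mul_cancel₀ h1]⟩
      refine ⟨!![1, 0, 0; 0, b 1, b 2; 0, -v, u], ?_, Or.inr ⟨?_, ?_⟩⟩
      · rw [Matrix.det_fin_three]; simp only [Matrix.of_apply, Matrix.cons_val]
        linear_combination huv
      · ext i
        fin_cases i <;> simp [Matrix.mulVec, dotProduct, Fin.sum_univ_three]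
      · rw [Matrix.adjugate_fin_three_of]
        ext i
        fin_cases i
        · simp [Matrix.mulVec, dotProduct, Fin.sum_univ_three, h0]
        · simp [Matrix.mulVec, dotProduct, Fin.sum_univ_three, h0]
          linear_combination huv
        · simp [Matrix.mulVec, dotProduct, Fin.sum_univ_three, h0]
          ring
  · refine ⟨!![1, b 1 * (b 0)⁻¹, b 2 * (b 0)⁻¹; 0, 1, 0; 0, 0, 1], ?_, Or.inl ⟨?_, ?_, ?_, ?_⟩⟩
    · rw [Matrix.det_fin_three]; simp only [Matrix.of_apply, Matrix.cons_val]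
      ring
    · simp [Matrix.mulVec, dotProduct, Fin.sum_univ_three]
    · simp [Matrix.mulVec, dotProduct, Fin.sum_univ_three]
    · rw [Matrix.adjugate_fin_three_of]
      simp [Matrix.mulVec, dotProduct, Fin.sum_univ_three]
      field_simp
      ring
    · rw [Matrix.adjugate_fin_three_of]
      simp [Matrix.mulVec, dotProduct, Fin.sum_univ_three]
      field_simp
      ring

/-- (8D1) normal form of a pair (vector, covector) under `SL₃`. -/
theorem sl3_normal (a b : Fin 3 → F) :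
    ∃ A : Matrix (Fin 3) (Fin 3) F, A.det = 1 ∧
      (((A *ᵥ a) 1 = 0 ∧ (A *ᵥ a) 2 = 0 ∧ (A.adjugateᵀ *ᵥ b) 1 = 0 ∧ (A.adjugateᵀ *ᵥ b) 2 = 0) ∨
        (A *ᵥ a = ![1, 0, 0] ∧ A.adjugateᵀ *ᵥ b = ![0, 1, 0])) := by
  change NF3 a b
  by_cases ha : a = 0
  · subst ha
    by_cases hb : b = 0
    · subst hb
      refine ⟨1, Matrix.det_one, Or.inl ?_⟩
      simp
    · obtain ⟨B, hB1, hB⟩ := exists_sl3_to_e0 b hb
      refine ⟨B.adjugateᵀ, ?_, Or.inl ?_⟩
      · rw [Matrix.det_transpose, Matrix.det_adjugate, hB1, one_pow]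
      · have e : (B.adjugateᵀ).adjugateᵀ = B := by
          rw [← Matrix.adjugate_transpose, Matrix.transpose_transpose,
            Matrix.adjugate_adjugate _ (by simp), hB1]
          simp
        rw [e, hB]
        simp
  · obtain ⟨A₁, h₁, hA₁⟩ := exists_sl3_to_e0 a ha
    apply NF3_of_apply a b A₁ h₁
    rw [hA₁]
    exact NF3_e0 _

end Cfsg.Agent.Helper89.Cov2.P8
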