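import Mathlib

/-!
# (8E) of helper43's S2500 farm, POST 3 (#11867)

Non-scalar `2 × 2` matrices over a finite field of characteristic 2 with the same trace and
determinant are `SL₂`-conjugate: both are conjugate to the companion matrix.
-/

set_option autoImplicit false

namespace Cfsg.Agent.Helper89.Cov2.P8

open Matrix

variable {F : Type*} [Field F]

/-- A non-scalar `2 × 2` matrix has a cyclic vector `(x, y)`. -/
theorem exists_cyclic_vec (h : Matrix (Fin 2) (Fin 2) F)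
    (hne : ∀ c : F, h ≠ c • (1 : Matrix (Fin 2) (Fin 2) F)) :
    ∃ x y : F, h 1 0 * x ^ 2 + (h 1 1 - h 0 0) * x * y - h 0 1 * y ^ 2 ≠ 0 := by
  by_cases hc : h 1 0 = 0
  · by_cases hb : h 0 1 = 0
    · refine ⟨1, 1, ?_⟩
      intro h0
      apply hne (h 0 0)
      have had : h 1 1 = h 0 0 := by
        rw [hc, hb] at h0
        linear_combination h0
      ext i j
      fin_cases i <;> fin_cases j <;> simp [hc, hb, had]
    · refine ⟨0, 1, ?_⟩
      simpa using hb
  · refine ⟨1, 0, ?_⟩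
    simpa using hc

/-- The companion matrix used as the normal form. -/
def comp2 (h : Matrix (Fin 2) (Fin 2) F) : Matrix (Fin 2) (Fin 2) F :=
  !![0, -h.det; 1, h.trace]

theorem exists_to_comp2 [Fintype F] [CharP F 2] (h : Matrix (Fin 2) (Fin 2) F)
    (hne : ∀ c : F, h ≠ c • (1 : Matrix (Fin 2) (Fin 2) F)) :
    ∃ Q : Matrix (Fin 2) (Fin 2) F, Q.det = 1 ∧ h * Q = Q * comp2 h := by
  obtain ⟨x, y, hxy⟩ := exists_cyclic_vec h hne
  have hchar : ringChar F = 2 := ringChar.eq F 2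
  obtain ⟨s, hs⟩ := FiniteField.isSquare_of_char_two hchar
    (h 1 0 * x ^ 2 + (h 1 1 - h 0 0) * x * y - h 0 1 * y ^ 2)⁻¹
  refine ⟨!![s * x, s * (h 0 0 * x + h 0 1 * y); s * y, s * (h 1 0 * x + h 1 1 * y)], ?_, ?_⟩
  · rw [Matrix.det_fin_two_of]
    have : s * x * (s * (h 1 0 * x + h 1 1 * y)) - s * (h 0 0 * x + h 0 1 * y) * (s * y)
        = (s * s) * (h 1 0 * x ^ 2 + (h 1 1 - h 0 0) * x * y - h 0 1 * y ^ 2) := by ring
    rw [this, ← hs, inv_mul_cancel₀ hxy]
  · ext i j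
    fin_cases i <;> fin_cases j <;>
      simp [comp2, Matrix.mul_apply, Fin.sum_univ_two, Matrix.det_fin_two, Matrix.trace_fin_two] <;>
      ring

/-- (8E) non-scalar 2×2 matrices with the same trace and determinant are `SL₂`-conjugate. -/
theorem sl2_conj [Fintype F] [CharP F 2] (h h' : Matrix (Fin 2) (Fin 2) F)
    (hne : ∀ c : F, h ≠ c • (1 : Matrix (Fin 2) (Fin 2) F))
    (hne' : ∀ c : F, h' ≠ c • (1 : Matrix (Fin 2) (Fin 2) F))
    (htr : h.trace = h'.trace) (hdet : h.det = h'.det) :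
    ∃ p : Matrix (Fin 2) (Fin 2) F, p.det = 1 ∧ p * h * p.adjugate = h' := by
  obtain ⟨Q, hQ1, hQ⟩ := exists_to_comp2 h hne
  obtain ⟨Q', hQ'1, hQ'⟩ := exists_to_comp2 h' hne'
  have hcc : comp2 h = comp2 h' := by simp [comp2, htr, hdet]
  rw [hcc] at hQ
  have hQadj : Q * Q.adjugate = 1 := by rw [Matrix.mul_adjugate, hQ1, one_smul]
  have hQadj' : Q.adjugate * Q = 1 := by rw [Matrix.adjugate_mul, hQ1, one_smul]
  have hQ'adj : Q' * Q'.adjugate = 1 := by rw [Matrix.mul_adjugate, hQ'1, one_smul]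
  have hQ'adj' : Q'.adjugate * Q' = 1 := by rw [Matrix.adjugate_mul, hQ'1, one_smul]
  -- h = Q C adj Q, h' = Q' C adj Q'
  have h1 : h = Q * comp2 h' * Q.adjugate := by
    rw [← hQ, Matrix.mul_assoc, hQadj, Matrix.mul_one]
  have h2 : comp2 h' = Q'.adjugate * h' * Q' := by
    rw [Matrix.mul_assoc, hQ', ← Matrix.mul_assoc, hQ'adj', Matrix.one_mul]
  refine ⟨Q' * Q.adjugate, ?_, ?_⟩
  · rw [Matrix.det_mul, Matrix.det_adjugate, hQ1, hQ'1]; simp
  · rw [Matrix.adjugate_mul_distrib, Matrix.adjugate_adjugate _ (by simp), hQ1]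
    simp only [Fintype.card_fin, one_pow, one_smul]
    calc Q' * Q.adjugate * h * (Q * Q'.adjugate)
        = Q' * (Q.adjugate * (h * Q)) * Q'.adjugate := by simp only [Matrix.mul_assoc]
      _ = Q' * (Q.adjugate * (Q * comp2 h')) * Q'.adjugate := by rw [hQ]
      _ = Q' * ((Q.adjugate * Q) * comp2 h') * Q'.adjugate := by simp only [Matrix.mul_assoc]
      _ = Q' * comp2 h' * Q'.adjugate := by rw [hQadj', Matrix.one_mul]
      _ = h' * Q' * Q'.adjugate := by rw [hQ']
      _ = h' := by rw [Matrix.mul_assoc, hQ'adj, Matrix.mul_one]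

end Cfsg.Agent.Helper89.Cov2.P8
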