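import Mathlib
import Cfsg.Agent.Helper44.TensDefs
import Cfsg.Agent.Helper29.QSimDGb

/-!
# (ES1) of helper44's S5979 plan (#7763): `diag(ζ, ζ⁻¹, 1, …, 1)`
-/

set_option autoImplicit false
open scoped MatrixGroups

namespace Cfsg.Agent.Helper89.Tens

open Matrix Cfsg.Geo Cfsg.Agent.Helper44.QSim Cfsg.Agent.Helper44.Tens Polynomial
open scoped Kronecker

universe u

variable {F : Type u} [Field F] {n a b : ℕ}

/-- (ES1) `diag(ζ, ζ⁻¹, 1, …, 1)` -/
theorem exists_diag_two [Fintype F] {q : ℕ} (hq : Fintype.card F = q) (hn : 3 ≤ n) (r : ℕ)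
    (hr : r.Prime) (hr2 : r ≠ 2) (hrq : r ∣ q - 1) :
    ∃ (x : GL (Fin n) F) (ζ : F), IsPrimeElt r x ∧
      ((x : Matrix (Fin n) (Fin n) F) - 1).rank = 2 ∧
      ((x : Matrix (Fin n) (Fin n) F) - ζ • (1 : Matrix (Fin n) (Fin n) F)).rank = n - 1 := by
  classical
  obtain ⟨ζu, hζu⟩ := Cfsg.Agent.Helper29.QSim.exists_orderOf_eq hq r hr hrq
  set ζ : F := (ζu : F) with hζ
  have hζ0 : ζ ≠ 0 := ζu.ne_zero
  have hζr : ζ ^ r = 1 := by
    have := pow_orderOf_eq_one ζu
    rw [hζu] at this
    have h := congrArg (fun u : Fˣ => (u : F)) this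
    simpa using h
  have hζ1 : ζ ≠ 1 := by
    intro h
    have : ζu = 1 := Units.ext h
    rw [this, orderOf_one] at hζu
    exact hr.one_lt.ne hζu
  have hζ2 : ζ ^ 2 ≠ 1 := by
    intro h
    have h1 : ζu ^ 2 = 1 := by
      apply Units.ext
      rw [Units.val_pow_eq_pow_val, Units.val_one]
      exact h
    have h2 := orderOf_dvd_of_pow_eq_one h1
    rw [hζu] at h2
    exact hr2 ((Nat.prime_dvd_prime_iff_eq hr Nat.prime_two).mp h2)
  have hinv1 : ζ⁻¹ ≠ 1 := by
    intro h
    apply hζ1
    rw [← inv_inv ζ, h, inv_one]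
  have hinvζ : ζ⁻¹ ≠ ζ := by
    intro h
    apply hζ2
    rw [pow_two]
    nth_rewrite 1 [← h]
    exact inv_mul_cancel₀ hζ0
  set j0 : Fin n := ⟨0, by omega⟩ with hj0
  set j1 : Fin n := ⟨1, by omega⟩ with hj1
  have hj01 : j0 ≠ j1 := by
    intro h
    have := congrArg Fin.val h
    simp [hj0, hj1] at this
  set μ : Fin n → F := fun i => if i = j0 then ζ else if i = j1 then ζ⁻¹ else 1 with hμ
  have hμ0' : μ j0 = ζ := by simp [hμ]
  have hμ1' : μ j1 = ζ⁻¹ := by simp [hμ, hj01.symm]
  have hμge : ∀ i : Fin n, i ≠ j0 → i ≠ j1 → μ i = 1 := fun i h0 h1 => by simp [hμ, h0, h1]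
  have hμ0 : ∀ i, μ i ≠ 0 := by
    intro i
    by_cases h0 : i = j0
    · rw [h0, hμ0']; exact hζ0
    · by_cases h1 : i = j1
      · rw [h1, hμ1']; exact inv_ne_zero hζ0
      · rw [hμge i h0 h1]; exact one_ne_zero
  obtain ⟨x, hx⟩ := Cfsg.Agent.Helper29.QSim.exists_gl_diagonal μ hμ0
  refine ⟨x, ζ, ⟨?_, ⟨1, ?_⟩, ?_⟩, ?_, ?_⟩
  · -- determinant
    rw [mem_specialLinear_iff, hx, Matrix.det_diagonal]
    rw [← Finset.mul_prod_erase Finset.univ μ (Finset.mem_univ j0)]
    rw [← Finset.mul_prod_erase (Finset.univ.erase j0) μ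
      (Finset.mem_erase.mpr ⟨hj01.symm, Finset.mem_univ j1⟩)]
    have h2 : ∏ i ∈ (Finset.univ.erase j0).erase j1, μ i = 1 := by
      apply Finset.prod_eq_one
      intro i hi
      have h1 := (Finset.mem_erase.mp hi).1
      have h0 := (Finset.mem_erase.mp (Finset.mem_erase.mp hi).2).1
      exact hμge i h0 h1
    rw [h2, hμ0', hμ1', mul_one, mul_inv_cancel₀ hζ0]
  · rw [Units.val_pow_eq_pow_val, hx, Matrix.diagonal_pow, one_smul, ← Matrix.diagonal_one]
    congr 1
    funext i
    by_cases h0 : i = j0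
    · simp only [Pi.pow_apply, h0, hμ0', hζr, Pi.one_apply]
    · by_cases h1 : i = j1
      · simp only [Pi.pow_apply, h1, hμ1', inv_pow, hζr, inv_one, Pi.one_apply]
      · simp only [Pi.pow_apply, hμge i h0 h1, one_pow, Pi.one_apply]
  · intro z hz
    rw [hx] at hz
    set j2 : Fin n := ⟨2, by omega⟩ with hj2
    have hj20 : j2 ≠ j0 := by
      intro h
      have := congrArg Fin.val h
      simp [hj0, hj2] at this
    have hj21 : j2 ≠ j1 := by
      intro h
      have := congrArg Fin.val h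
      simp [hj1, hj2] at this
    have e0 := congrFun (congrFun hz j0) j0
    have e2 := congrFun (congrFun hz j2) j2
    rw [Matrix.diagonal_apply_eq, Matrix.smul_apply, Matrix.one_apply_eq, smul_eq_mul, mul_one]
      at e0 e2
    rw [hμ0'] at e0
    rw [hμge j2 hj20 hj21] at e2
    exact hζ1 (e0.trans e2.symm)
  · -- rank (x - 1) = 2
    have h1 : (x : Matrix (Fin n) (Fin n) F) - 1 = Matrix.diagonal (fun i => μ i - 1) := by
      rw [hx, ← Matrix.diagonal_one, Matrix.diagonal_sub]
    rw [h1, Matrix.rank_diagonal, Fintype.card_subtype]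
    have h2 : (Finset.univ.filter fun i : Fin n => μ i - 1 ≠ 0) = {j0, j1} := by
      ext i
      simp only [Finset.mem_filter, Finset.mem_univ, true_and, Finset.mem_insert,
        Finset.mem_singleton]
      constructor
      · intro h
        by_contra hcon
        push Not at hcon
        apply h
        rw [hμge i hcon.1 hcon.2, sub_self]
      · rintro (h | h)
        · rw [h, hμ0']; exact sub_ne_zero.mpr hζ1
        · rw [h, hμ1']; exact sub_ne_zero.mpr hinv1
    rw [h2, Finset.card_pair hj01]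
  · -- rank (x - ζ) = n - 1
    have h1 : (x : Matrix (Fin n) (Fin n) F) - ζ • (1 : Matrix (Fin n) (Fin n) F)
        = Matrix.diagonal (fun i => μ i - ζ) := by
      rw [hx]
      ext i j
      by_cases hij : i = j
      · subst hij
        simp
      · simp [hij]
    rw [h1, Matrix.rank_diagonal, Fintype.card_subtype]
    have h2 : (Finset.univ.filter fun i : Fin n => μ i - ζ ≠ 0) = Finset.univ.erase j0 := by
      ext i
      simp only [Finset.mem_filter, Finset.mem_univ, true_and, Finset.mem_erase, and_true]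
      constructor
      · intro h h0
        apply h
        rw [h0, hμ0', sub_self]
      · intro h0
        by_cases h1' : i = j1
        · rw [h1', hμ1']; exact sub_ne_zero.mpr hinvζ
        · rw [hμge i h0 h1']; exact sub_ne_zero.mpr (Ne.symm hζ1)
    rw [h2, Finset.card_erase_of_mem (Finset.mem_univ _), Finset.card_univ, Fintype.card_fin]

end Cfsg.Agent.Helper89.Tens
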