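import Mathlib
import Cfsg.Agent.Helper44.TensDefs
import Cfsg.Agent.Helper43.PGLInv

/-!
# (G2) of helper44's S5979 plan (#7763): an element with nonsquare scalar square is conjugate into
`GL_2 ⊗ GL_b`
-/

set_option autoImplicit false
open scoped MatrixGroups

namespace Cfsg.Agent.Helper89.Tens

open Matrix Cfsg.Geo Cfsg.Agent.Helper44.QSim Cfsg.Agent.Helper44.Tens Polynomial
open scoped Kronecker

universe u

variable {F : Type u} [Field F] {n a b : ℕ}

/-- the companion matrix `!![0, z; 1, 0]` as an element of `GL_2` -/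
def compTwo (z : F) (hz : z ≠ 0) : GL (Fin 2) F :=
  ⟨!![0, z; 1, 0], !![0, 1; z⁻¹, 0],
    by
      ext i j
      fin_cases i <;> fin_cases j <;> simp [Matrix.mul_apply, Fin.sum_univ_two, hz],
    by
      ext i j
      fin_cases i <;> fin_cases j <;> simp [Matrix.mul_apply, Fin.sum_univ_two, hz]⟩

theorem compTwo_sq (z : F) (hz : z ≠ 0) :
    (compTwo z hz : Matrix (Fin 2) (Fin 2) F) * (compTwo z hz : Matrix (Fin 2) (Fin 2) F)
      = z • (1 : Matrix (Fin 2) (Fin 2) F) := by
  ext i j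
  fin_cases i <;> fin_cases j <;> simp [compTwo, Matrix.mul_apply, Fin.sum_univ_two]

/-- (G2) -/
theorem exists_isConj_tens_nonsquare [Fintype F] (hodd : Odd (Fintype.card F)) (hab : n = 2 * b)
    (e : Fin n ≃ Fin 2 × Fin b) (P : GL (Fin n) F) (x : GL (Fin n) F) (z : F)
    (hz : ¬ IsSquare z)
    (hxx : (x : Matrix (Fin n) (Fin n) F) * (x : Matrix (Fin n) (Fin n) F)
      = z • (1 : Matrix (Fin n) (Fin n) F)) :
    ∃ y ∈ tensorProductSubgroup 2 b e P, IsConj x y := by
  classical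
  have hz0 : z ≠ 0 := by
    rintro rfl
    exact hz ⟨0, by simp⟩
  set zu : Fˣ := Units.mk0 z hz0 with hzu
  set y : GL (Fin n) F := tensElt e P (compTwo z hz0) 1 with hy
  refine ⟨y, tensElt_mem e P _ _, ?_⟩
  have hK : ((compTwo z hz0 : Matrix (Fin 2) (Fin 2) F) ⊗ₖ
        ((1 : GL (Fin b) F) : Matrix (Fin b) (Fin b) F))
      * ((compTwo z hz0 : Matrix (Fin 2) (Fin 2) F) ⊗ₖ
        ((1 : GL (Fin b) F) : Matrix (Fin b) (Fin b) F))
      = z • (1 : Matrix (Fin 2 × Fin b) (Fin 2 × Fin b) F) := by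
    rw [← Matrix.mul_kronecker_mul, compTwo_sq, Units.val_one, Matrix.mul_one,
      Matrix.smul_kronecker, Matrix.one_kronecker_one]
  have hPP : ((P⁻¹ : GL (Fin n) F) : Matrix (Fin n) (Fin n) F) * (P : Matrix (Fin n) (Fin n) F)
      = 1 := by
    rw [← Units.val_mul, inv_mul_cancel, Units.val_one]
  have hPP' : (P : Matrix (Fin n) (Fin n) F) * ((P⁻¹ : GL (Fin n) F) : Matrix (Fin n) (Fin n) F)
      = 1 := by
    rw [← Units.val_mul, mul_inv_cancel, Units.val_one]
  have hyy : (y : Matrix (Fin n) (Fin n) F) * (y : Matrix (Fin n) (Fin n) F)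
      = z • (1 : Matrix (Fin n) (Fin n) F) := by
    rw [hy, coe_tensElt]
    set R := Matrix.reindex e.symm e.symm
      ((compTwo z hz0 : Matrix (Fin 2) (Fin 2) F) ⊗ₖ
        ((1 : GL (Fin b) F) : Matrix (Fin b) (Fin b) F)) with hR
    have hRR : R * R = z • (1 : Matrix (Fin n) (Fin n) F) := by
      rw [hR, Matrix.reindex_apply, Matrix.submatrix_mul_equiv, hK]
      ext i j
      simp [Matrix.one_apply]
    calc (P : Matrix (Fin n) (Fin n) F) * R * ((P⁻¹ : GL (Fin n) F) : Matrix (Fin n) (Fin n) F)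
          * ((P : Matrix (Fin n) (Fin n) F) * R * ((P⁻¹ : GL (Fin n) F) : Matrix (Fin n) (Fin n) F))
        = (P : Matrix (Fin n) (Fin n) F) * R
            * (((P⁻¹ : GL (Fin n) F) : Matrix (Fin n) (Fin n) F) * (P : Matrix (Fin n) (Fin n) F))
            * R * ((P⁻¹ : GL (Fin n) F) : Matrix (Fin n) (Fin n) F) := by
          simp only [Matrix.mul_assoc]
      _ = (P : Matrix (Fin n) (Fin n) F) * (R * R)
            * ((P⁻¹ : GL (Fin n) F) : Matrix (Fin n) (Fin n) F) := by
          rw [hPP, Matrix.mul_one, Matrix.mul_assoc (P : Matrix (Fin n) (Fin n) F) R R]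
      _ = z • (1 : Matrix (Fin n) (Fin n) F) := by
          rw [hRR, Matrix.mul_smul, Matrix.mul_one, Matrix.smul_mul, hPP']
  have hsc : ((Cfsg.Agent.Helper43.PGLInv.sc n zu : GL (Fin n) F) : Matrix (Fin n) (Fin n) F)
      = z • (1 : Matrix (Fin n) (Fin n) F) := by
    rw [Matrix.GeneralLinearGroup.coe_scalar]
    ext i j
    simp [hzu, Matrix.one_apply, Matrix.scalar_apply, Matrix.diagonal_apply]
  have hx2 : x * x = Cfsg.Agent.Helper43.PGLInv.sc n zu := by
    apply Units.ext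
    rw [Units.val_mul, hxx, hsc]
  have hy2 : y * y = Cfsg.Agent.Helper43.PGLInv.sc n zu := by
    apply Units.ext
    rw [Units.val_mul, hyy, hsc]
  exact Cfsg.Agent.Helper43.PGLInv.isConj_of_sq_nonsquare hodd x y zu (by simpa [hzu] using hz)
    hx2 hy2

end Cfsg.Agent.Helper89.Tens
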