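import Cfsg.Agent.Helper89.PsuM_PL6a
import Cfsg.Agent.Helper93.PsuM_PL2
import Cfsg.Agent.Helper31.PsuM_PL3

/-!
# S2089 block R piece (PL6) `exists_plift_equiv` — helper89 for helper43
-/

set_option autoImplicit false
set_option linter.unusedSectionVars false
set_option linter.unusedVariables false

namespace Cfsg.Agent.Helper89.PsuM

open scoped commutatorElement
open Cfsg.Agent.Helper96.StLift Cfsg.Agent.Helper43.PsuM

universe u

section plift

variable {Γ G : Type u} [Group Γ] [Group G] [Finite Γ] (τ : Γ →* G) (hτ : Function.Surjective τ)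
  (hc : τ.ker ≤ Subgroup.center Γ) (p : ℕ) [Fact p.Prime] (hcop : (Nat.card τ.ker).Coprime p)

include hτ hc hcop

/-- (PL6) `τ` restricted to `plift τ p X` is an isomorphism onto `X` -/
theorem exists_plift_equiv (X : Subgroup G) (hX : IsPGroup p X) :
    ∃ e : ↥X ≃* ↥(plift τ p X), ∀ x : ↥X, τ (e x : Γ) = x :=
  exists_plift_equiv_core τ p X
    (Cfsg.Agent.Helper93.PsuM.plift_inf_ker τ hτ hc p hcop X hX)
    (Cfsg.Agent.Helper31.PsuM.plift_map τ hτ hc p hcop X hX)

end plift

end Cfsg.Agent.Helper89.PsuM
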