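import Mathlib
import Cfsg.Agent.Helper6.Ovoid

/-!
# S2457 (helper6 architect, board #10128), piece (B0): `1` is not of the form `x^θ + x`
(and the index-two property of the image of `x ↦ x^θ + x`, reproved here with light imports)
-/

set_option autoImplicit false

namespace Cfsg.Agent.Helper89.SzCl

open Cfsg.Agent.Helper6

variable {F : Type*} [Field F] [Fintype F] {m : ℕ}

/-- fixed points of `θ` -/
theorem eq_zero_or_one_of_pow_sigma_eq (hF : Fintype.card F = 2 ^ (2 * m + 1)) (x : F)
    (hx : x ^ (2 ^ (m + 1)) = x) : x = 0 ∨ x = 1 := by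
  have h := pow_sigma_sigma hF x
  rw [hx, hx] at h
  have : x * (x - 1) = 0 := by linear_combination -h
  rcases mul_eq_zero.1 this with h0 | h1
  · exact Or.inl h0
  · exact Or.inr (sub_eq_zero.1 h1)

/-- (B0) `1` is not of the form `x^θ + x` -/
theorem sigma_add_ne_one (hF : Fintype.card F = 2 ^ (2 * m + 1)) (x : F) :
    x ^ (2 ^ (m + 1)) + x ≠ 1 := by
  intro hx
  have h2 : (2 : F) = 0 := two_eq_zero_of_card hF
  have hσ0 : (2 : ℕ) ^ (m + 1) ≠ 0 := by positivity
  -- apply `θ`
  have h1 : (x ^ (2 ^ (m + 1)) + x) ^ (2 ^ (m + 1)) = 1 := by rw [hx, one_pow]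
  rw [add_pow_sigma hF, pow_sigma_sigma hF] at h1
  -- `x ^ 2 + x = 0`
  have h3 : x * (x - 1) = 0 := by
    linear_combination h1 + hx - (x ^ (2 ^ (m + 1)) + x - 1) * h2
  rcases mul_eq_zero.1 h3 with h0 | h0
  · rw [h0, zero_pow hσ0, add_zero] at hx
    exact zero_ne_one hx
  · have hx1 : x = 1 := sub_eq_zero.1 h0
    rw [hx1, one_pow] at hx
    have : (1 : F) = 0 := by linear_combination hx
    exact one_ne_zero this

/-- the image of `l ↦ l^θ + l` has index two, with `1` outside -/
theorem sigma_add_or (hF : Fintype.card F = 2 ^ (2 * m + 1)) (e : F) :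
    (∃ l : F, l ^ (2 ^ (m + 1)) + l = e) ∨ (∃ l : F, l ^ (2 ^ (m + 1)) + l = e + 1) := by
  have h2 : (2 : F) = 0 := two_eq_zero_of_card hF
  have hneg : ∀ x : F, -x = x := by
    intro x
    linear_combination (-x) * h2
  let P : F →+ F :=
    { toFun := fun l => l ^ (2 ^ (m + 1)) + l
      map_zero' := by simp
      map_add' := by
        intro x y
        show (x + y) ^ (2 ^ (m + 1)) + (x + y) = _
        rw [add_pow_sigma hF]
        ring }
  have hP : ∀ l, P l = l ^ (2 ^ (m + 1)) + l := fun l => rfl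
  have hker : ∀ l : F, P l = 0 → l = 0 ∨ l = 1 := by
    intro l hl
    rw [hP] at hl
    have hl' : l ^ (2 ^ (m + 1)) = l := by
      have := eq_neg_of_add_eq_zero_left hl
      rw [this, hneg]
    exact eq_zero_or_one_of_pow_sigma_eq hF l hl'
  have hone : P 1 = 0 := by
    rw [hP, one_pow]
    linear_combination h2
  have hcardker : Nat.card P.ker = 2 := by
    rw [Nat.card_eq_two_iff]
    refine ⟨⟨0, P.ker.zero_mem⟩, ⟨1, (AddMonoidHom.mem_ker).2 hone⟩, ?_, ?_⟩
    · intro h
      have := congrArg Subtype.val h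
      exact zero_ne_one this
    · ext ⟨l, hl⟩
      simp only [Set.mem_insert_iff, Set.mem_singleton_iff, Set.mem_univ, iff_true]
      rcases hker l ((AddMonoidHom.mem_ker).1 hl) with h | h
      · left; exact Subtype.ext h
      · right; exact Subtype.ext h
  have hidx : P.range.index = 2 := by
    have h3 := AddSubgroup.card_mul_index P.ker
    rw [AddSubgroup.index_ker, hcardker] at h3
    have h4 := AddSubgroup.card_mul_index P.range
    rw [← h3] at h4
    have hpos : 0 < Nat.card P.range := Nat.card_pos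
    nlinarith
  have h1not : (1 : F) ∉ P.range := by
    rintro ⟨l, hl⟩
    exact sigma_add_ne_one hF l hl
  obtain ⟨a, ha⟩ := AddSubgroup.index_eq_two_iff.1 hidx
  by_cases he : e ∈ P.range
  · obtain ⟨l, hl⟩ := he
    exact Or.inl ⟨l, hl⟩
  · have h5 : e + a ∈ P.range := by
      rcases ha e with ⟨h, -⟩ | ⟨h, -⟩
      · exact h
      · exact absurd h he
    have h6 : 1 + a ∈ P.range := by
      rcases ha 1 with ⟨h, -⟩ | ⟨h, -⟩
      · exact h
      · exact absurd h h1not
    have h7 : e + 1 ∈ P.range := by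
      have := P.range.sub_mem h5 h6
      have e' : e + a - (1 + a) = e + 1 := by
        linear_combination (-1 : F) * h2
      rwa [e'] at this
    obtain ⟨l, hl⟩ := h7
    exact Or.inr ⟨l, hl⟩

end Cfsg.Agent.Helper89.SzCl
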