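import Mathlib
import Cfsg.Agent.S0107
import Cfsg.Agent.Lib.Cores

/-!
# (CJ8) of helper58's S0508 farm (#11739)

In a finite simple group whose Sylow 2-subgroups are dihedral of order `2 n ≥ 6`, all involutions
are conjugate.  `|S| = 2 n` is a power of `2`, so `n = 2 ^ m` with `m ≥ 2`; a simple group has
`O^2(G) = ⊤` (otherwise it is a simple 2-group, of order 2); conclude with S0107.
-/

set_option autoImplicit false

namespace Cfsg.Agent.Helper89.BSWD

open Subgroup

/-- (CJ8) -/
theorem involutions_conj_of_dihedral {G : Type*} [Group G] [Finite G] [IsSimpleGroup G]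
    (S : Sylow 2 G) (n : ℕ) (hn : 3 ≤ n) (hS : Nonempty (↥(S : Subgroup G) ≃* DihedralGroup n)) :
    ∀ x y : G, orderOf x = 2 → orderOf y = 2 → IsConj x y := by
  have : Fact (Nat.Prime 2) := ⟨Nat.prime_two⟩
  obtain ⟨e⟩ := hS
  have hn0 : NeZero n := ⟨by omega⟩
  have hcard : Nat.card (S : Subgroup G) = 2 * n := by
    rw [Nat.card_congr e.toEquiv, DihedralGroup.nat_card]
  obtain ⟨k, hk⟩ := IsPGroup.iff_card.mp S.2
  have hk1 : 1 ≤ k := by
    rcases Nat.eq_zero_or_pos k with rfl | h
    · rw [pow_zero] at hk; omega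
    · exact h
  obtain ⟨m, rfl⟩ : ∃ m, k = m + 1 := ⟨k - 1, by omega⟩
  have hnm : n = 2 ^ m := by
    rw [hcard, pow_succ] at hk; omega
  have hm : 2 ≤ m := by
    by_contra h
    push Not at h
    interval_cases m <;> omega
  subst hnm
  have h4 : 4 ∣ Nat.card G := by
    have h1 : Nat.card (S : Subgroup G) ∣ Nat.card G := Subgroup.card_subgroup_dvd_card _
    rw [hcard] at h1
    refine dvd_trans ?_ h1
    obtain ⟨j, rfl⟩ : ∃ j, m = j + 2 := ⟨m - 2, by omega⟩
    exact ⟨2 * 2 ^ j, by ring⟩
  have hO : Cfsg.pResidual 2 G = ⊤ := by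
    rcases (Cfsg.Agent.Lib.pResidual_normal (G := G) 2).eq_bot_or_eq_top with h | h
    · exfalso
      have hG : IsPGroup 2 G := by
        have h1 := Cfsg.Agent.Lib.isPGroup_quotient_pResidual (G := G) 2
        have h2 : Function.Injective (QuotientGroup.mk' (Cfsg.pResidual 2 G)) := by
          rw [← MonoidHom.ker_eq_bot_iff, QuotientGroup.ker_mk', h]
        exact h1.of_injective _ h2
      have hZ : Subgroup.center G = ⊤ := by
        rcases (inferInstance : (Subgroup.center G).Normal).eq_bot_or_eq_top with h0 | h0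
        · exfalso
          have := hG.center_nontrivial
          rw [h0] at this
          exact not_nontrivial _ this
        · exact h0
      have hcomm : ∀ a b : G, a * b = b * a := by
        intro a b
        have hb : b ∈ Subgroup.center G := by rw [hZ]; trivial
        exact (Subgroup.mem_center_iff.mp hb a)
      letI : CommGroup G := { (inferInstance : Group G) with mul_comm := hcomm }
      have hp : (Nat.card G).Prime := IsSimpleGroup.prime_card
      rcases (Nat.Prime.eq_one_or_self_of_dvd hp 4 h4) with h' | h'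
      · omega
      · rw [← h'] at hp
        exact absurd hp (by decide)
    · exact h
  intro x y hx hy
  obtain ⟨g, hg⟩ := Cfsg.Agent.S0107.result S m hm ⟨e⟩ hO x y hx hy
  exact isConj_iff.mpr ⟨g, hg⟩

end Cfsg.Agent.Helper89.BSWD
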