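import Cfsg.Agent.Helper56.T2T.Defs

/-!
# S2197 (Tits group has no faithful 2-transitive action) piece (AR1) — helper89 for helper56
-/

set_option autoImplicit false

namespace Cfsg.Agent.Helper89.T2T

open Cfsg.Agent.Helper56.T2T

universe u v
variable {G : Type u} [Group G] {Ω : Type v} [MulAction G Ω]

/-- (AR1) degree condition of a 2-transitive action. -/
theorem card_mul_pred_dvd [Finite G] [Fintype Ω] (h2 : MulAction.IsMultiplyPretransitive G Ω 2)
    (h : 2 ≤ Fintype.card Ω) :
    Fintype.card Ω * (Fintype.card Ω - 1) ∣ Nat.card G := by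
  classical
  have hN : Nat.card Ω = Fintype.card Ω := Nat.card_eq_fintype_card
  obtain ⟨s, hs⟩ : ∃ s : Set Ω, s.ncard = 2 := by
    obtain ⟨t, -, ht⟩ := Finset.exists_subset_card_eq (s := (Finset.univ : Finset Ω)) (n := 2)
      (by simpa using h)
    exact ⟨↑t, by rw [Set.ncard_coe_finset, ht]⟩
  have key := h2.index_of_fixingSubgroup_mul hs
  rw [hN] at key
  have hfac : (Fintype.card Ω).factorial
      = Fintype.card Ω * (Fintype.card Ω - 1) * (Fintype.card Ω - 2).factorial := by
    obtain ⟨k, hk⟩ : ∃ k, Fintype.card Ω = k + 2 := ⟨Fintype.card Ω - 2, by omega⟩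
    rw [hk]
    simp only [Nat.add_sub_cancel, Nat.factorial_succ]
    have : k + 2 - 1 = k + 1 := by omega
    rw [this]; ring
  rw [hfac] at key
  have hidx : (fixingSubgroup G s).index = Fintype.card Ω * (Fintype.card Ω - 1) :=
    Nat.eq_of_mul_eq_mul_right (Nat.factorial_pos _) key
  rw [← hidx]; exact Subgroup.index_dvd_card _

end Cfsg.Agent.Helper89.T2T
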