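import Cfsg.Agent.Helper56.T2T.Defs

/-!
# S2197 (Tits group has no faithful 2-transitive action) piece (J25) — helper89 for helper56

Degree 25: an element of order 13 is a 13-cycle; Jordan's theorem gives 13-fold hence 3-fold transitivity,
so `25 * 24 * 23 ∣ |G|`, but `23 ∤ 17971200`.
-/

set_option autoImplicit false

namespace Cfsg.Agent.Helper89.T2T

open Cfsg.Agent.Helper56.T2T

universe u v
variable {G : Type u} [Group G] {Ω : Type v} [MulAction G Ω]

theorem J25_factorial : Nat.factorial 25 = 13800 * Nat.factorial 22 := by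
  rw [show (25 : ℕ) = 22 + 1 + 1 + 1 from rfl, Nat.factorial_succ, Nat.factorial_succ,
    Nat.factorial_succ]
  ring

/-- (J25) degree 25. -/
theorem case_25 [Finite G] (hG : Nat.card G = 17971200) [Fintype Ω] [FaithfulSMul G Ω]
    (h2 : MulAction.IsMultiplyPretransitive G Ω 2) (hN : Fintype.card Ω = 25)
    (g : G) (hg : g ^ 13 = 1) (hg1 : g ≠ 1) : False := by
  classical
  have h13 : (13 : ℕ).Prime := by norm_num
  have hσ13 : (MulAction.toPermHom G Ω g) ^ 13 = 1 := by rw [← map_pow, hg, map_one]
  have hσ1 : MulAction.toPermHom G Ω g ≠ 1 := by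
    intro h
    apply hg1
    apply MulAction.toPerm_injective (α := G) (β := Ω)
    rw [← MulAction.toPermHom_apply, h]
    ext x; simp
  have : Fact (Nat.Prime 13) := ⟨h13⟩
  have hord : orderOf (MulAction.toPermHom G Ω g) = 13 := orderOf_eq_prime hσ13 hσ1
  obtain ⟨n, hn⟩ := Equiv.Perm.cycleType_prime_order (σ := MulAction.toPermHom G Ω g)
    (by rw [hord]; exact h13)
  have hsum := Equiv.Perm.sum_cycleType (MulAction.toPermHom G Ω g)
  have hle : (MulAction.toPermHom G Ω g).support.card ≤ 25 := by
    rw [← hN]; exact Finset.card_le_univ _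
  rw [hn, hord, Multiset.sum_replicate, smul_eq_mul] at hsum
  have hn0 : n = 0 := by omega
  have hcyc : (MulAction.toPermHom G Ω g).IsCycle := by
    rw [← Equiv.Perm.card_cycleType_eq_one, hn, hn0]; simp
  have hsupp : (MulAction.toPermHom G Ω g).support.card = 13 := by rw [← hsum, hn0]
  -- the image subgroup
  have hσH : MulAction.toPermHom G Ω g ∈ (MulAction.toPermHom G Ω).range := ⟨g, rfl⟩
  have hH2 : MulAction.IsMultiplyPretransitive (MulAction.toPermHom G Ω).range Ω 2 := by
    refine ⟨fun x y => ?_⟩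
    obtain ⟨k, hk⟩ := h2.exists_smul_eq x y
    refine ⟨⟨MulAction.toPermHom G Ω k, k, rfl⟩, ?_⟩
    rw [← hk]; ext i; rfl
  have hprim : MulAction.IsPreprimitive (MulAction.toPermHom G Ω).range Ω :=
    MulAction.isPreprimitive_of_is_two_pretransitive hH2
  have hsc : Set.ncard (((MulAction.toPermHom G Ω g).support : Set Ω)ᶜ) = 11 + 1 := by
    have := Set.ncard_add_ncard_compl (((MulAction.toPermHom G Ω g).support : Set Ω))
    rw [Set.ncard_coe_finset, hsupp, Nat.card_eq_fintype_card, hN] at this
    omega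
  have hmp : MulAction.IsMultiplyPreprimitive (MulAction.toPermHom G Ω).range Ω (11 + 2) := by
    apply hprim.isMultiplyPreprimitive hsc
    · rw [Nat.card_eq_fintype_card, hN]; norm_num
    have := Equiv.Perm.isPretransitive_of_isCycle_mem hcyc hσH
    apply MulAction.IsPreprimitive.of_prime_card
    convert h13
    rw [Nat.card_eq_fintype_card, Fintype.card_subtype, ← hsupp]
    apply congr_arg
    ext x
    simp [SubMulAction.mem_ofFixingSubgroup_iff]
  have hmt : MulAction.IsMultiplyPretransitive (MulAction.toPermHom G Ω).range Ω (11 + 2) :=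
    hmp.isMultiplyPretransitive
  have hmt3 : MulAction.IsMultiplyPretransitive (MulAction.toPermHom G Ω).range Ω 3 :=
    MulAction.isMultiplyPretransitive_of_le (n := 11 + 2) (by norm_num)
      (by rw [Nat.card_eq_fintype_card, hN]; norm_num)
  obtain ⟨s, hs⟩ : ∃ s : Set Ω, s.ncard = 3 := by
    obtain ⟨t, -, ht⟩ := Finset.exists_subset_card_eq (s := (Finset.univ : Finset Ω)) (n := 3)
      (by rw [Finset.card_univ, hN]; norm_num)
    exact ⟨↑t, by rw [Set.ncard_coe_finset, ht]⟩
  have key := hmt3.index_of_fixingSubgroup_mul hs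
  rw [Nat.card_eq_fintype_card, hN, show 25 - 3 = 22 from rfl, J25_factorial] at key
  have hidx : (fixingSubgroup (MulAction.toPermHom G Ω).range s).index = 13800 :=
    Nat.eq_of_mul_eq_mul_right (Nat.factorial_pos _) key
  have h1 : (13800 : ℕ) ∣ Nat.card (MulAction.toPermHom G Ω).range := by
    rw [← hidx]; exact Subgroup.index_dvd_card _
  have h2' : (13800 : ℕ) ∣ 17971200 := by
    rw [← hG]; exact h1.trans (Subgroup.card_range_dvd _)
  revert h2'; decide

end Cfsg.Agent.Helper89.T2T
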