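import Cfsg.Agent.Helper58.PsuIo.AbsDefs
import Cfsg.Agent.Helper30.PsuM_PCRIT
import Cfsg.Agent.Helper89.PsuM_SEC
import Cfsg.Agent.Helper59.PsuM_ASM
import Cfsg.Agent.Helper59.PsuM_CPLG
import Cfsg.Agent.Helper65.PsuM_INV
import Cfsg.Agent.Helper10.PsuM_NRM

/-!
# S2089 block I-odd, piece (AO2): `⁅Q̂, Q̂⁆ ≤ Z̃`
-/

set_option autoImplicit false

namespace Cfsg.Agent.Helper89.PsuIo

open scoped commutatorElement
open Cfsg.Agent.Helper43.PsuM Cfsg.Agent.Helper96.StLift Cfsg.Agent.Helper58.PsuIo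

universe u

section class2

variable {Γ : Type u} [Group Γ] (Qh Zh : Subgroup Γ)
  (hcomm : ∀ x ∈ Qh, ∀ y ∈ Qh, ⁅x, y⁆ ∈ Zh)
  (hcen : ∀ x ∈ Qh, ∀ z ∈ Zh, Commute x z)

omit hcomm in
include hcen in
theorem AO2_comm_of_mem_left {u y : Γ} (hu : u ∈ Zh) (hy : y ∈ Qh) : ⁅u, y⁆ = 1 := by
  have h := (hcen y hy u hu).eq
  rw [commutatorElement_def, ← h, mul_inv_cancel_right, mul_inv_cancel]

omit hcomm in
include hcen in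
theorem AO2_comm_of_mem_right {u y : Γ} (hu : u ∈ Zh) (hy : y ∈ Qh) : ⁅y, u⁆ = 1 := by
  have h := (hcen y hy u hu).eq
  rw [commutatorElement_def, h, mul_inv_cancel_right, mul_inv_cancel]

include hcomm hcen

theorem AO2_comm_mul_left {x x' y : Γ} (hx : x ∈ Qh) (hx' : x' ∈ Qh) (hy : y ∈ Qh) :
    ⁅x * x', y⁆ = ⁅x, y⁆ * ⁅x', y⁆ := by
  have h1 : ⁅x * x', y⁆ = x * ⁅x', y⁆ * x⁻¹ * ⁅x, y⁆ := by
    simp only [commutatorElement_def]; group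
  have h2 : x * ⁅x', y⁆ * x⁻¹ = ⁅x', y⁆ := by
    have := (hcen x hx _ (hcomm x' hx' y hy)).eq
    rw [this, mul_inv_cancel_right]
  have hxy : ⁅x, y⁆ ∈ Qh := by
    rw [commutatorElement_def]
    exact Qh.mul_mem (Qh.mul_mem (Qh.mul_mem hx hy) (Qh.inv_mem hx)) (Qh.inv_mem hy)
  rw [h1, h2]
  exact ((hcen _ hxy _ (hcomm x' hx' y hy)).eq).symm

theorem AO2_comm_mul_right {x y y' : Γ} (hx : x ∈ Qh) (hy : y ∈ Qh) (hy' : y' ∈ Qh) :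
    ⁅x, y * y'⁆ = ⁅x, y⁆ * ⁅x, y'⁆ := by
  have h1 : ⁅x, y * y'⁆ = ⁅x, y⁆ * (y * ⁅x, y'⁆ * y⁻¹) := by
    simp only [commutatorElement_def]; group
  have h2 : y * ⁅x, y'⁆ * y⁻¹ = ⁅x, y'⁆ := by
    have := (hcen y hy _ (hcomm x hx y' hy')).eq
    rw [this, mul_inv_cancel_right]
  rw [h1, h2]

theorem AO2_comm_inv_left {x y : Γ} (hx : x ∈ Qh) (hy : y ∈ Qh) :
    ⁅x⁻¹, y⁆ = ⁅x, y⁆⁻¹ := by
  have h := AO2_comm_mul_left Qh Zh hcomm hcen (Qh.inv_mem hx) hx hy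
  rw [inv_mul_cancel, commutatorElement_one_left] at h
  exact eq_inv_of_mul_eq_one_left h.symm

end class2

section pieces

variable {Γ G : Type u} [Group Γ] [Group G] (τ : Γ →* G) (hτ : Function.Surjective τ)
  (hc : τ.ker ≤ Subgroup.center Γ)

include hτ hc

variable {p : ℕ} (D : SiegelCore G p)

omit hτ in
/-- remark (*), first form -/
theorem AO2_star (Zt : Subgroup Γ) (hZt2 : Zt.map τ = D.Z) (g : Γ)
    (hg : ∀ z ∈ Zt, g * z * g⁻¹ ∈ Zt) (u : Γ) (hu : τ u ∈ D.Z) :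
    g * u * g⁻¹ * u⁻¹ ∈ Zt := by
  rw [← hZt2] at hu
  obtain ⟨z, hz, hzu⟩ := hu
  have ha : z⁻¹ * u ∈ Subgroup.center Γ := by
    apply hc
    rw [MonoidHom.mem_ker, map_mul, map_inv, hzu, inv_mul_cancel]
  have hag : (z⁻¹ * u) * g⁻¹ = g⁻¹ * (z⁻¹ * u) := (Subgroup.mem_center_iff.1 ha g⁻¹).symm
  have e : g * u * g⁻¹ * u⁻¹ = (g * z * g⁻¹) * z⁻¹ := by
    have : g * u * g⁻¹ * u⁻¹ = g * z * ((z⁻¹ * u) * g⁻¹) * u⁻¹ := by group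
    rw [this, hag]; group
  rw [e]
  exact Zt.mul_mem (hg z hz) (Zt.inv_mem hz)

omit hτ in
/-- remark (*), second form -/
theorem AO2_star' (Zt : Subgroup Γ) (hZt2 : Zt.map τ = D.Z) (g : Γ)
    (hg : ∀ z ∈ Zt, g * z * g⁻¹ ∈ Zt) (u : Γ) (hu : τ u ∈ D.Z) :
    u⁻¹ * (g * u * g⁻¹) ∈ Zt := by
  rw [← hZt2] at hu
  obtain ⟨z, hz, hzu⟩ := hu
  have ha : z⁻¹ * u ∈ Subgroup.center Γ := by
    apply hc
    rw [MonoidHom.mem_ker, map_mul, map_inv, hzu, inv_mul_cancel]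
  obtain ⟨a, hac, rfl⟩ : ∃ a ∈ Subgroup.center Γ, u = z * a := ⟨z⁻¹ * u, ha, by group⟩
  have hag : a * g⁻¹ = g⁻¹ * a := (Subgroup.mem_center_iff.1 hac g⁻¹).symm
  have haX : (z⁻¹ * g * z * g⁻¹) * a = a * (z⁻¹ * g * z * g⁻¹) := Subgroup.mem_center_iff.1 hac _
  have e : (z * a)⁻¹ * (g * (z * a) * g⁻¹) = z⁻¹ * (g * z * g⁻¹) := by
    have h1 : (z * a)⁻¹ * (g * (z * a) * g⁻¹) = a⁻¹ * (z⁻¹ * g * z * (a * g⁻¹)) := by group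
    have h2 : a⁻¹ * (z⁻¹ * g * z * (g⁻¹ * a)) = a⁻¹ * ((z⁻¹ * g * z * g⁻¹) * a) := by group
    rw [h1, hag, h2, haX]; group
  rw [e]
  exact Zt.mul_mem (Zt.inv_mem hz) (hg z hz)

omit hτ hc in
theorem AO2_hcomm : ∀ x ∈ D.Q.comap τ, ∀ y ∈ D.Q.comap τ, ⁅x, y⁆ ∈ D.Z.comap τ := by
  intro x hx y hy
  rw [Subgroup.mem_comap, map_commutatorElement]
  exact D.comm_Q (Subgroup.commutator_mem_commutator hx hy)

/-- the key claim, `i ≠ j` -/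
theorem AO2_key_ne (Zt : Subgroup Γ) (hZt2 : Zt.map τ = D.Z)
    (hcent : ∀ x : Γ, τ x ∈ D.Q → ∀ z : Γ, τ z ∈ D.Z → Commute x z)
    (hTZt : ∀ g : Γ, τ g ∈ D.T → ∀ z ∈ Zt, g * z * g⁻¹ ∈ Zt)
    (i j : D.ι) (hij : i ≠ j) (x y : Γ) (hx : τ x ∈ D.Y i) (hy : τ y ∈ D.Y j) :
    ⁅x, y⁆ ∈ Zt := by
  have hcomm := AO2_hcomm τ D
  have hcen : ∀ x ∈ D.Q.comap τ, ∀ z ∈ D.Z.comap τ, Commute x z := fun x hx z hz => hcent x hx z hz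
  obtain ⟨h, hhT, hh1, hh2⟩ := D.hO2a i j hij
  obtain ⟨x', hx'Q, z', hz'Z, hxeq⟩ := hh2 _ hx
  obtain ⟨hh, rfl⟩ := hτ h
  obtain ⟨xh', rfl⟩ := hτ x'
  have hyQ : y ∈ D.Q.comap τ := D.Y_sub j hy
  have hxh' : xh' ∈ D.Q.comap τ := hx'Q
  have hxhi : xh'⁻¹ ∈ D.Q.comap τ := Subgroup.inv_mem _ hxh'
  have hcQ : hh * xh' * hh⁻¹ ∈ D.Q.comap τ := by
    rw [Subgroup.mem_comap, map_mul, map_mul, map_inv]
    exact D.T_Q _ hhT _ hx'Q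
  have hyc : hh * y * hh⁻¹ ∈ D.Q.comap τ := by
    rw [Subgroup.mem_comap, map_mul, map_mul, map_inv]
    exact D.T_Q _ hhT _ hyQ
  have hw : (⁅hh, xh'⁆)⁻¹ * x ∈ D.Z.comap τ := by
    rw [Subgroup.mem_comap, map_mul, map_inv, map_commutatorElement, hxeq, inv_mul_cancel_left]
    exact hz'Z
  have hv : ⁅y, hh⁆ ∈ D.Z.comap τ := by
    rw [Subgroup.mem_comap, map_commutatorElement, ← commutatorElement_inv]
    exact D.Z.inv_mem (hh1 _ hy)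
  have ex : x = hh * xh' * hh⁻¹ * xh'⁻¹ * ((⁅hh, xh'⁆)⁻¹ * x) := by
    rw [commutatorElement_def]; group
  have ey : y = ⁅y, hh⁆ * (hh * y * hh⁻¹) := by
    rw [commutatorElement_def]; group
  have e1 : ⁅x, y⁆ = ⁅hh * xh' * hh⁻¹, y⁆ * (⁅xh', y⁆)⁻¹ := by
    conv_lhs => rw [ex]
    rw [AO2_comm_mul_left _ _ hcomm hcen (Subgroup.mul_mem _ hcQ hxhi)
        (D.Z_le_Q hw) hyQ,
      AO2_comm_of_mem_left _ _ hcen hw hyQ, mul_one,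
      AO2_comm_mul_left _ _ hcomm hcen hcQ hxhi hyQ,
      AO2_comm_inv_left _ _ hcomm hcen hxh' hyQ]
  have e2 : ⁅hh * xh' * hh⁻¹, y⁆ = hh * ⁅xh', y⁆ * hh⁻¹ := by
    conv_lhs => rw [ey]
    rw [AO2_comm_mul_right _ _ hcomm hcen hcQ (D.Z_le_Q hv) hyc,
      AO2_comm_of_mem_right _ _ hcen hv hcQ, one_mul]
    simp only [commutatorElement_def]; group
  rw [e1, e2]
  exact AO2_star τ hc D Zt hZt2 hh (hTZt hh hhT) _ (hcomm _ hxh' _ hyQ)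

/-- the key claim, `i = j` -/
theorem AO2_key_eq (Zt : Subgroup Γ) (hZt2 : Zt.map τ = D.Z)
    (hcent : ∀ x : Γ, τ x ∈ D.Q → ∀ z : Γ, τ z ∈ D.Z → Commute x z)
    (hTZt : ∀ g : Γ, τ g ∈ D.T → ∀ z ∈ Zt, g * z * g⁻¹ ∈ Zt)
    (hLZt : ∀ g : Γ, τ g ∈ D.L → ∀ z ∈ Zt, g * z * g⁻¹ ∈ Zt)
    (j : D.ι) (x y : Γ) (hx : τ x ∈ D.Y j) (hy : τ y ∈ D.Y j) :
    ⁅x, y⁆ ∈ Zt := by
  have hcomm := AO2_hcomm τ D
  have hcen : ∀ x ∈ D.Q.comap τ, ∀ z ∈ D.Z.comap τ, Commute x z := fun x hx z hz => hcent x hx z hz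
  obtain ⟨i, hij, s, hsL, xi, hxi, xi', hxi', z, hz, z', hz', e1, e2⟩ :=
    D.hO2b j (τ x) hx (τ y) hy
  obtain ⟨sh, rfl⟩ := hτ s
  obtain ⟨a, rfl⟩ := hτ xi
  obtain ⟨a', rfl⟩ := hτ xi'
  have hxQ : x ∈ D.Q.comap τ := D.Y_sub j hx
  have hyQ : y ∈ D.Q.comap τ := D.Y_sub j hy
  have haQ : a ∈ D.Q.comap τ := D.Y_sub i hxi
  have ha'Q : a' ∈ D.Q.comap τ := D.Y_sub i hxi'
  have hw : (a * x)⁻¹ * (sh * a * sh⁻¹) ∈ D.Z.comap τ := by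
    rw [Subgroup.mem_comap, map_mul, map_inv, map_mul, map_mul, map_mul, map_inv, e1,
      inv_mul_cancel_left]
    exact hz
  have hw' : (a' * y)⁻¹ * (sh * a' * sh⁻¹) ∈ D.Z.comap τ := by
    rw [Subgroup.mem_comap, map_mul, map_inv, map_mul, map_mul, map_mul, map_inv, e2,
      inv_mul_cancel_left]
    exact hz'
  have ea : sh * a * sh⁻¹ = a * x * ((a * x)⁻¹ * (sh * a * sh⁻¹)) := by group
  have ea' : sh * a' * sh⁻¹ = a' * y * ((a' * y)⁻¹ * (sh * a' * sh⁻¹)) := by group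
  have haxQ : a * x ∈ D.Q.comap τ := Subgroup.mul_mem _ haQ hxQ
  have ha'yQ : a' * y ∈ D.Q.comap τ := Subgroup.mul_mem _ ha'Q hyQ
  have hd : sh * ⁅a, a'⁆ * sh⁻¹ = ⁅a, a'⁆ * ⁅a, y⁆ * (⁅x, a'⁆ * ⁅x, y⁆) := by
    have h0 : sh * ⁅a, a'⁆ * sh⁻¹ = ⁅sh * a * sh⁻¹, sh * a' * sh⁻¹⁆ := by
      simp only [commutatorElement_def]; group
    rw [h0, ea, ea']
    rw [AO2_comm_mul_left _ _ hcomm hcen haxQ (D.Z_le_Q hw)
        (Subgroup.mul_mem _ ha'yQ (D.Z_le_Q hw')),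
      AO2_comm_of_mem_left _ _ hcen hw (Subgroup.mul_mem _ ha'yQ (D.Z_le_Q hw')), mul_one,
      AO2_comm_mul_right _ _ hcomm hcen haxQ ha'yQ (D.Z_le_Q hw'),
      AO2_comm_of_mem_right _ _ hcen hw' haxQ, mul_one,
      AO2_comm_mul_left _ _ hcomm hcen haQ hxQ ha'yQ,
      AO2_comm_mul_right _ _ hcomm hcen haQ ha'Q hyQ,
      AO2_comm_mul_right _ _ hcomm hcen hxQ ha'Q hyQ]
  have h1 : (⁅a, a'⁆)⁻¹ * (sh * ⁅a, a'⁆ * sh⁻¹) ∈ Zt :=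
    AO2_star' τ hc D Zt hZt2 sh (hLZt sh hsL) _ (hcomm _ haQ _ ha'Q)
  have h2 : ⁅a, y⁆ ∈ Zt := AO2_key_ne τ hτ hc D Zt hZt2 hcent hTZt i j hij a y hxi hy
  have h3 : ⁅x, a'⁆ ∈ Zt := AO2_key_ne τ hτ hc D Zt hZt2 hcent hTZt j i (Ne.symm hij) x a' hx hxi'
  have e : ⁅x, y⁆ = (⁅x, a'⁆)⁻¹ * ((⁅a, y⁆)⁻¹ * ((⁅a, a'⁆)⁻¹ * (sh * ⁅a, a'⁆ * sh⁻¹))) := by
    rw [hd]; group
  rw [e]
  exact Zt.mul_mem (Zt.inv_mem h3) (Zt.mul_mem (Zt.inv_mem h2) h1)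

omit hc in
/-- generation of `Q̂` -/
theorem AO2_gen (S : Subgroup Γ) (hZ : ∀ u, τ u ∈ D.Z → u ∈ S)
    (hY : ∀ i, ∀ x, τ x ∈ D.Y i → x ∈ S) : ∀ x, τ x ∈ D.Q → x ∈ S := by
  have hle : D.Q ≤ S.map τ := by
    refine le_trans D.Q_gen (sup_le ?_ ?_)
    · intro z hz
      obtain ⟨u, rfl⟩ := hτ z
      exact ⟨u, hZ u hz, rfl⟩
    · rw [Subgroup.closure_le]
      intro g hg
      rw [Set.mem_iUnion] at hg
      obtain ⟨i, hi⟩ := hg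
      obtain ⟨x, rfl⟩ := hτ g
      exact ⟨x, hY i x hi, rfl⟩
  intro x hx
  obtain ⟨x0, hx0, e⟩ := hle hx
  have h1 : x0⁻¹ * x ∈ S := by
    apply hZ
    rw [map_mul, map_inv, e, inv_mul_cancel]
    exact one_mem _
  have : x = x0 * (x0⁻¹ * x) := by group
  rw [this]
  exact S.mul_mem hx0 h1

/-- (AO2) `⁅Q̂, Q̂⁆ ≤ Z̃`. -/
theorem commutator_comap_Q_le (Zt : Subgroup Γ) (hZt1 : Zt ⊓ τ.ker = ⊥) (hZt2 : Zt.map τ = D.Z)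
    (hcent : ∀ x : Γ, τ x ∈ D.Q → ∀ z : Γ, τ z ∈ D.Z → Commute x z)
    (hTZt : ∀ g : Γ, τ g ∈ D.T → ∀ z ∈ Zt, g * z * g⁻¹ ∈ Zt)
    (hLZt : ∀ g : Γ, τ g ∈ D.L → ∀ z ∈ Zt, g * z * g⁻¹ ∈ Zt) :
    ⁅D.Q.comap τ, D.Q.comap τ⁆ ≤ Zt := by
  have hcomm := AO2_hcomm τ D
  have hcen : ∀ x ∈ D.Q.comap τ, ∀ z ∈ D.Z.comap τ, Commute x z := fun x hx z hz => hcent x hx z hz
  -- stage 1
  have st1 : ∀ j, ∀ y, τ y ∈ D.Y j → ∀ x, τ x ∈ D.Q → ⁅x, y⁆ ∈ Zt := by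
    intro j y hy
    have hyQ : y ∈ D.Q.comap τ := D.Y_sub j hy
    let S : Subgroup Γ :=
      { carrier := {x | x ∈ D.Q.comap τ ∧ ⁅x, y⁆ ∈ Zt}
        one_mem' := ⟨one_mem _, by rw [commutatorElement_one_left]; exact one_mem _⟩
        mul_mem' := by
          rintro a b ⟨ha, ha'⟩ ⟨hb, hb'⟩
          refine ⟨Subgroup.mul_mem _ ha hb, ?_⟩
          rw [AO2_comm_mul_left _ _ hcomm hcen ha hb hyQ]
          exact Zt.mul_mem ha' hb'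
        inv_mem' := by
          rintro a ⟨ha, ha'⟩
          refine ⟨Subgroup.inv_mem _ ha, ?_⟩
          rw [AO2_comm_inv_left _ _ hcomm hcen ha hyQ]
          exact Zt.inv_mem ha' }
    have hS : ∀ x, τ x ∈ D.Q → x ∈ S := by
      apply AO2_gen τ hτ D S
      · intro u hu
        refine ⟨D.Z_le_Q hu, ?_⟩
        have : ⁅u, y⁆ = 1 := AO2_comm_of_mem_left _ _ hcen hu hyQ
        rw [this]; exact one_mem _
      · intro i x hx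
        refine ⟨D.Y_sub i hx, ?_⟩
        by_cases hij : i = j
        · subst hij
          exact AO2_key_eq τ hτ hc D Zt hZt2 hcent hTZt hLZt i x y hx hy
        · exact AO2_key_ne τ hτ hc D Zt hZt2 hcent hTZt i j hij x y hx hy
    intro x hx
    exact (hS x hx).2
  -- stage 2
  have st2 : ∀ x, τ x ∈ D.Q → ∀ y, τ y ∈ D.Q → ⁅x, y⁆ ∈ Zt := by
    intro x hxQ
    let S : Subgroup Γ :=
      { carrier := {y | y ∈ D.Q.comap τ ∧ ⁅x, y⁆ ∈ Zt}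
        one_mem' := ⟨one_mem _, by rw [commutatorElement_one_right]; exact one_mem _⟩
        mul_mem' := by
          rintro a b ⟨ha, ha'⟩ ⟨hb, hb'⟩
          refine ⟨Subgroup.mul_mem _ ha hb, ?_⟩
          rw [AO2_comm_mul_right _ _ hcomm hcen hxQ ha hb]
          exact Zt.mul_mem ha' hb'
        inv_mem' := by
          rintro a ⟨ha, ha'⟩
          refine ⟨Subgroup.inv_mem _ ha, ?_⟩
          have h := AO2_comm_mul_right _ _ hcomm hcen hxQ (Subgroup.inv_mem _ ha) ha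
          rw [inv_mul_cancel, commutatorElement_one_right] at h
          have : ⁅x, a⁻¹⁆ = (⁅x, a⁆)⁻¹ := eq_inv_of_mul_eq_one_left h.symm
          rw [this]
          exact Zt.inv_mem ha' }
    have hS : ∀ y, τ y ∈ D.Q → y ∈ S := by
      apply AO2_gen τ hτ D S
      · intro u hu
        refine ⟨D.Z_le_Q hu, ?_⟩
        have : ⁅x, u⁆ = 1 := AO2_comm_of_mem_right _ _ hcen hu hxQ
        rw [this]; exact one_mem _
      · intro j y hy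
        exact ⟨D.Y_sub j hy, st1 j y hy x hxQ⟩
    intro y hy
    exact (hS y hy).2
  rw [Subgroup.commutator_le]
  intro x hx y hy
  exact st2 x hx y hy

end pieces

end Cfsg.Agent.Helper89.PsuIo
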