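-- helper89: piece [DC] of board post #11435 (for helper6, S4775): the character degree graph of
-- `Sz(q)` from the list of its character degrees.
import Cfsg.Agent.Helper6.SzChar0

set_option autoImplicit false

namespace Cfsg.Agent.Helper89.Szc

open Cfsg Cfsg.Agent.Helper6

universe u

/-- the arithmetic core: `D = {1, Q², Q²+1, N a, N b, N T}` with `a b = Q² + 1` -/
theorem graph_core (T Q N a b : ℕ) (hab : a * b = Q ^ 2 + 1)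
    (hQ2 : ∀ p : ℕ, p.Prime → p ∣ Q ^ 2 → p = 2) (hT2 : ∀ p : ℕ, p.Prime → p ∣ T → p = 2)
    (h2T : 2 ∣ T) (h2Q : 2 ∣ Q ^ 2) (h2N : ¬ 2 ∣ N)
    (D : Set ℕ) (hD : D = {1, Q ^ 2, Q ^ 2 + 1, N * a, N * b, N * T}) :
    {p : ℕ | p.Prime ∧ ∃ d ∈ D, p ∣ d} = {r : ℕ | r.Prime ∧ (r = 2 ∨ r ∣ N * (Q ^ 2 + 1))} ∧
    ∀ r s : ℕ, (r ≠ s ∧ r.Prime ∧ s.Prime ∧ ∃ d ∈ D, r * s ∣ d) ↔ (r ≠ s ∧ r.Prime ∧ s.Prime ∧
      ((r ∣ N * (Q ^ 2 + 1) ∧ s ∣ N * (Q ^ 2 + 1)) ∨ (r = 2 ∧ s ∣ N) ∨ (s = 2 ∧ r ∣ N))) := by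
  have hmem : ∀ d, d ∈ D ↔ d = 1 ∨ d = Q ^ 2 ∨ d = Q ^ 2 + 1 ∨ d = N * a ∨ d = N * b ∨
      d = N * T := by
    intro d
    rw [hD]
    simp only [Set.mem_insert_iff, Set.mem_singleton_iff]
  have haQ : a ∣ Q ^ 2 + 1 := ⟨b, hab.symm⟩
  have hbQ : b ∣ Q ^ 2 + 1 := ⟨a, by rw [mul_comm]; exact hab.symm⟩
  -- a prime dividing a degree is 2 or divides N (Q² + 1)
  have hdeg : ∀ p : ℕ, p.Prime → ∀ d ∈ D, p ∣ d → d ≠ N * T →
      (d = Q ^ 2 ∧ p = 2) ∨ (d ≠ Q ^ 2 ∧ p ∣ N * (Q ^ 2 + 1)) := by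
    intro p hp d hd hpd hne
    rcases (hmem d).1 hd with rfl | rfl | rfl | rfl | rfl | rfl
    · exact absurd (Nat.dvd_one.1 hpd) hp.one_lt.ne'
    · exact Or.inl ⟨rfl, hQ2 p hp hpd⟩
    · refine Or.inr ⟨by omega, dvd_mul_of_dvd_right hpd N⟩
    · by_cases hq : N * a = Q ^ 2
      · exact Or.inl ⟨hq, hQ2 p hp (hq ▸ hpd)⟩
      · exact Or.inr ⟨hq, dvd_trans hpd (mul_dvd_mul_left N haQ)⟩
    · by_cases hq : N * b = Q ^ 2
      · exact Or.inl ⟨hq, hQ2 p hp (hq ▸ hpd)⟩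
      · exact Or.inr ⟨hq, dvd_trans hpd (mul_dvd_mul_left N hbQ)⟩
    · exact absurd rfl hne
  -- a prime dividing `N T` is 2 or divides `N`
  have hNT : ∀ p : ℕ, p.Prime → p ∣ N * T → p ∣ N ∨ p = 2 := by
    intro p hp h
    rcases (Nat.Prime.dvd_mul hp).1 h with h1 | h1
    · exact Or.inl h1
    · exact Or.inr (hT2 p hp h1)
  refine ⟨?_, ?_⟩
  · ext p
    simp only [Set.mem_setOf_eq]
    constructor
    · rintro ⟨hp, d, hd, hpd⟩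
      refine ⟨hp, ?_⟩
      by_cases hne : d = N * T
      · rcases hNT p hp (hne ▸ hpd) with h1 | h1
        · exact Or.inr (dvd_mul_of_dvd_left h1 _)
        · exact Or.inl h1
      · rcases hdeg p hp d hd hpd hne with ⟨-, h1⟩ | ⟨-, h1⟩
        · exact Or.inl h1
        · exact Or.inr h1
    · rintro ⟨hp, h1 | h1⟩
      · exact ⟨hp, Q ^ 2, (hmem _).2 (Or.inr (Or.inl rfl)), h1 ▸ h2Q⟩
      · rcases (Nat.Prime.dvd_mul hp).1 h1 with h2 | h2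
        · exact ⟨hp, N * T, (hmem _).2 (by simp), dvd_mul_of_dvd_left h2 _⟩
        · exact ⟨hp, Q ^ 2 + 1, (hmem _).2 (by simp), h2⟩
  · intro r s
    constructor
    · rintro ⟨hrs, hr, hs, d, hd, hdvd⟩
      refine ⟨hrs, hr, hs, ?_⟩
      have hrd : r ∣ d := dvd_trans (dvd_mul_right r s) hdvd
      have hsd : s ∣ d := dvd_trans (dvd_mul_left s r) hdvd
      by_cases hne : d = N * T
      · rcases hNT r hr (hne ▸ hrd) with h1 | h1 <;> rcases hNT s hs (hne ▸ hsd) with h2 | h2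
        · exact Or.inl ⟨dvd_mul_of_dvd_left h1 _, dvd_mul_of_dvd_left h2 _⟩
        · exact Or.inr (Or.inr ⟨h2, h1⟩)
        · exact Or.inr (Or.inl ⟨h1, h2⟩)
        · exact absurd (h1.trans h2.symm) hrs
      · rcases hdeg r hr d hd hrd hne with ⟨hq1, h1⟩ | ⟨hq1, h1⟩ <;>
          rcases hdeg s hs d hd hsd hne with ⟨hq2, h2⟩ | ⟨hq2, h2⟩
        · exact absurd (h1.trans h2.symm) hrs
        · exact absurd hq1 hq2
        · exact absurd hq2 hq1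
        · exact Or.inl ⟨h1, h2⟩
    · rintro ⟨hrs, hr, hs, hcase⟩
      refine ⟨hrs, hr, hs, ?_⟩
      have hcop : Nat.Coprime r s := (Nat.coprime_primes hr hs).2 hrs
      -- it suffices to find a degree divisible by both
      suffices hex : ∃ d ∈ D, r ∣ d ∧ s ∣ d by
        obtain ⟨d, hd, h1, h2⟩ := hex
        exact ⟨d, hd, hcop.mul_dvd_of_dvd_of_dvd h1 h2⟩
      have hNa : N * a ∈ D := (hmem _).2 (by simp)
      have hNb : N * b ∈ D := (hmem _).2 (by simp)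
      have hQQ : Q ^ 2 + 1 ∈ D := (hmem _).2 (by simp)
      have hNTm : N * T ∈ D := (hmem _).2 (by simp)
      have hsplit : ∀ p : ℕ, p.Prime → p ∣ N * (Q ^ 2 + 1) → p ∣ N ∨ p ∣ a ∨ p ∣ b := by
        intro p hp h
        rcases (Nat.Prime.dvd_mul hp).1 h with h1 | h1
        · exact Or.inl h1
        · rw [← hab] at h1
          rcases (Nat.Prime.dvd_mul hp).1 h1 with h2 | h2
          · exact Or.inr (Or.inl h2)
          · exact Or.inr (Or.inr h2)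
      rcases hcase with ⟨h1, h2⟩ | ⟨h1, h2⟩ | ⟨h1, h2⟩
      · rcases hsplit r hr h1 with r1 | r1 | r1 <;> rcases hsplit s hs h2 with s1 | s1 | s1
        · exact ⟨_, hNa, dvd_mul_of_dvd_left r1 _, dvd_mul_of_dvd_left s1 _⟩
        · exact ⟨_, hNa, dvd_mul_of_dvd_left r1 _, dvd_mul_of_dvd_right s1 _⟩
        · exact ⟨_, hNb, dvd_mul_of_dvd_left r1 _, dvd_mul_of_dvd_right s1 _⟩
        · exact ⟨_, hNa, dvd_mul_of_dvd_right r1 _, dvd_mul_of_dvd_left s1 _⟩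
        · exact ⟨_, hNa, dvd_mul_of_dvd_right r1 _, dvd_mul_of_dvd_right s1 _⟩
        · exact ⟨_, hQQ, hab ▸ dvd_mul_of_dvd_left r1 _, hab ▸ dvd_mul_of_dvd_right s1 _⟩
        · exact ⟨_, hNb, dvd_mul_of_dvd_right r1 _, dvd_mul_of_dvd_left s1 _⟩
        · exact ⟨_, hQQ, hab ▸ dvd_mul_of_dvd_right r1 _, hab ▸ dvd_mul_of_dvd_left s1 _⟩
        · exact ⟨_, hNb, dvd_mul_of_dvd_right r1 _, dvd_mul_of_dvd_right s1 _⟩
      · exact ⟨_, hNTm, h1 ▸ dvd_mul_of_dvd_right h2T _, dvd_mul_of_dvd_left h2 _⟩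
      · exact ⟨_, hNTm, dvd_mul_of_dvd_left h2 _, h1 ▸ dvd_mul_of_dvd_right h2T _⟩

/-- DC: the graph -/
theorem szc_graph {S : Type u} [Group S] (m : ℕ) (hm : 1 ≤ m) (q : ℕ) (hqm : q = 2 ^ (2 * m + 1))
    (h : charDegrees S = szDegreeSet (2 ^ m)) :
    degreePrimes S = {r : ℕ | r.Prime ∧ (r = 2 ∨ r ∣ (q - 1) * (q ^ 2 + 1))} ∧
    ∀ r s : ℕ, (degreeGraph S).Adj r s ↔ (r ≠ s ∧ r.Prime ∧ s.Prime ∧
      ((r ∣ (q - 1) * (q ^ 2 + 1) ∧ s ∣ (q - 1) * (q ^ 2 + 1)) ∨ (r = 2 ∧ s ∣ q - 1) ∨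
        (s = 2 ∧ r ∣ q - 1))) := by
  obtain ⟨T, hT⟩ : ∃ T : ℕ, T = 2 ^ m := ⟨_, rfl⟩
  rw [← hT] at h
  have hq : q = 2 * T ^ 2 := by
    rw [hqm, hT, ← pow_mul, pow_succ, mul_comm m 2, mul_comm]
  have hTge : 2 ≤ T := by
    rw [hT]
    calc 2 = 2 ^ 1 := by norm_num
      _ ≤ 2 ^ m := Nat.pow_le_pow_right (by norm_num) hm
  have h2T : 2 ∣ T := by
    rw [hT]
    exact dvd_pow_self 2 (by omega)
  have hT2 : ∀ p : ℕ, p.Prime → p ∣ T → p = 2 := by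
    intro p hp hpT
    rw [hT] at hpT
    exact (Nat.prime_dvd_prime_iff_eq hp Nat.prime_two).1 (hp.dvd_of_dvd_pow hpT)
  have hQ2 : ∀ p : ℕ, p.Prime → p ∣ q ^ 2 → p = 2 := by
    intro p hp hpq
    rw [hqm, ← pow_mul] at hpq
    exact (Nat.prime_dvd_prime_iff_eq hp Nat.prime_two).1 (hp.dvd_of_dvd_pow hpq)
  have h2q : 2 ∣ q := by rw [hq]; exact dvd_mul_right 2 _
  have h2Q : 2 ∣ q ^ 2 := dvd_pow h2q (by norm_num)
  have hqpos : 1 ≤ q := by rw [hq]; nlinarith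
  have h2N : ¬ 2 ∣ q - 1 := by
    intro hd
    obtain ⟨k, hk⟩ := h2q
    obtain ⟨l, hl⟩ := hd
    omega
  have hle : 2 * T ≤ 2 * T ^ 2 := by nlinarith
  have hab : (2 * T ^ 2 - 2 * T + 1) * (2 * T ^ 2 + 2 * T + 1) = q ^ 2 + 1 := by
    rw [hq]
    zify [hle]
    ring
  have hD : charDegrees S = {1, q ^ 2, q ^ 2 + 1, (q - 1) * (2 * T ^ 2 - 2 * T + 1),
      (q - 1) * (2 * T ^ 2 + 2 * T + 1), (q - 1) * T} := by
    rw [h, szDegreeSet, hq]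
  obtain ⟨hP, hA⟩ := graph_core T q (q - 1) (2 * T ^ 2 - 2 * T + 1) (2 * T ^ 2 + 2 * T + 1) hab
    hQ2 hT2 h2T h2Q h2N (charDegrees S) hD
  refine ⟨?_, ?_⟩
  · rw [← hP]
    rfl
  · intro r s
    rw [← hA r s]
    rfl

end Cfsg.Agent.Helper89.Szc
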