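import Mathlib
import Cfsg.Agent.Helper6.Ovoid
import Cfsg.Agent.Helper89.SzCl_B0

/-!
# S2457 (helper6 architect, board #10128), piece (B1): the Gold form lemma
-/

set_option autoImplicit false

namespace Cfsg.Agent.Helper89.SzCl

open Cfsg.Agent.Helper6

/-- abstract core: `θ` an additive endomorphism-exponent with `θ² = 2`, image of `x ↦ x^θ + x`
of index two not containing `1`. -/
theorem phi_core {F : Type*} [Field F] (θ : ℕ) (h2 : (2 : F) = 0)
    (hadd : ∀ x y : F, (x + y) ^ θ = x ^ θ + y ^ θ) (hss : ∀ x : F, (x ^ θ) ^ θ = x ^ 2)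
    (hroot : ∀ c : F, ∃ y : F, y ^ θ = c) (hone : ∀ x : F, x ^ θ + x ≠ 1)
    (hor : ∀ e : F, (∃ l : F, l ^ θ + l = e) ∨ (∃ l : F, l ^ θ + l = e + 1))
    (hcard : ∃ g : F, g ≠ 0 ∧ g ≠ 1) (δ : F) :
    ∃ a b : F, a ≠ 0 ∧ a * b + b ^ θ + a ^ (θ + 2) + a ^ θ = δ := by
  classical
  let H : F → Prop := fun x => ∃ β : F, β ^ θ + β = x
  have H_add : ∀ x y, H x → H y → H (x + y) := by
    rintro x y ⟨β, hβ⟩ ⟨γ, hγ⟩
    exact ⟨β + γ, by rw [hadd, ← hβ, ← hγ]; ring⟩
  have H_one : ¬ H 1 := fun ⟨β, hβ⟩ => hone β hβ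
  have H_sig : ∀ y, H (y ^ θ + y) := fun y => ⟨y, rfl⟩
  have H_zero : H 0 := by
    have := H_add _ _ (H_sig 1) (H_sig 1)
    have e : (1 : F) ^ θ + 1 + (1 ^ θ + 1) = 0 := by
      rw [one_pow]; linear_combination 2 * h2
    rwa [e] at this
  obtain ⟨δ', hδ'⟩ := hroot δ
  -- main claim
  have hmain : ∃ g : F, ¬ H (δ' * g ^ (θ + 1) + g) := by
    by_contra hcon
    have hall : ∀ g, H (δ' * g ^ (θ + 1) + g) := by
      intro g
      by_contra h
      exact hcon ⟨g, h⟩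
    have hpol : ∀ g g', H (δ' * (g ^ θ * g' + g * g' ^ θ)) := by
      intro g g'
      have h3 := H_add _ _ (H_add _ _ (hall (g + g')) (hall g)) (hall g')
      have e : δ' * (g + g') ^ (θ + 1) + (g + g') + (δ' * g ^ (θ + 1) + g) +
          (δ' * g' ^ (θ + 1) + g') = δ' * (g ^ θ * g' + g * g' ^ θ) := by
        rw [pow_succ (g + g'), hadd, pow_succ g, pow_succ g']
        linear_combination (δ' * (g ^ θ * g + g' ^ θ * g') + g + g') * h2
      rwa [e] at h3
    have hlin : ∀ g : F, δ' * g = δ' ^ θ * g ^ 2 := by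
      intro g
      obtain ⟨u, hu⟩ := hroot (δ' * g)
      have hz : ∀ g', H ((δ' * g ^ θ + u) * g') := by
        intro g'
        have h3 := H_add _ _ (hpol g g') (H_sig (u * g'))
        have e : δ' * (g ^ θ * g' + g * g' ^ θ) + ((u * g') ^ θ + u * g') =
            (δ' * g ^ θ + u) * g' := by
          rw [mul_pow, hu]
          linear_combination (δ' * g * g' ^ θ) * h2
        rwa [e] at h3
      have hz0 : δ' * g ^ θ + u = 0 := by
        by_contra hne
        have := hz (δ' * g ^ θ + u)⁻¹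
        rw [mul_inv_cancel₀ hne] at this
        exact H_one this
      have hu' : u = δ' * g ^ θ := by linear_combination hz0 - (δ' * g ^ θ) * h2
      rw [← hu, hu', mul_pow, hss]
    have hδ1 : δ' = δ' ^ θ := by
      have := hlin 1
      rwa [mul_one, one_pow, mul_one] at this
    obtain ⟨g, hg0, hg1⟩ := hcard
    have hδ0 : δ' = 0 := by
      have h4 := hlin g
      rw [← hδ1] at h4
      have : δ' * (g * (g - 1)) = 0 := by linear_combination -h4
      rcases mul_eq_zero.1 this with h | h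
      · exact h
      · exfalso
        rcases mul_eq_zero.1 h with h | h
        · exact hg0 h
        · exact hg1 (sub_eq_zero.1 h)
    have := hall 1
    rw [hδ0, zero_mul, zero_add] at this
    exact H_one this
  obtain ⟨g, hg⟩ := hmain
  have hg0 : g ≠ 0 := by
    rintro rfl
    apply hg
    rw [zero_pow (Nat.succ_ne_zero θ), mul_zero, add_zero]
    exact H_zero
  obtain ⟨β₀, hβ₀⟩ : H (δ' * g ^ (θ + 1) + g + 1) := (hor _).resolve_left hg
  have hag : g⁻¹ * g = 1 := inv_mul_cancel₀ hg0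
  have hAG : (g⁻¹) ^ θ * g ^ θ = 1 := by rw [← mul_pow, hag, one_pow]
  have hβ : (β₀ ^ θ + g ^ θ) ^ θ + (β₀ ^ θ + g ^ θ) = δ * (g ^ 2 * g ^ θ) + 1 + g ^ 2 := by
    have e1 : (β₀ ^ θ + β₀) ^ θ = (δ' * g ^ (θ + 1) + g + 1) ^ θ := by rw [hβ₀]
    rw [hadd, hadd, hadd, mul_pow, hδ', one_pow, pow_succ, mul_pow] at e1
    simp only [hss] at e1
    rw [hadd]
    simp only [hss]
    linear_combination e1 + (g ^ θ) * h2
  refine ⟨g⁻¹, (g⁻¹) ^ (θ + 1) * (β₀ ^ θ + g ^ θ), inv_ne_zero hg0, ?_⟩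
  have hbθ : ((g⁻¹) ^ (θ + 1) * (β₀ ^ θ + g ^ θ)) ^ θ =
      (g⁻¹) ^ 2 * (g⁻¹) ^ θ * (β₀ ^ θ + g ^ θ) ^ θ := by
    rw [mul_pow, pow_succ, mul_pow, hss]
  rw [hbθ]
  linear_combination ((g⁻¹) ^ 2 * (g⁻¹) ^ θ) * hβ +
    (δ * (g⁻¹ * g + 1) * ((g⁻¹) ^ θ * g ^ θ) + (g⁻¹) ^ θ * (g⁻¹ * g + 1)) * hag + δ * hAG +
    ((g⁻¹) ^ 2 * (g⁻¹) ^ θ + (g⁻¹) ^ θ) * h2

variable {F : Type*} [Field F] [Fintype F] {m : ℕ}

/-- (B1) the Gold form lemma: the function `a b + b^θ + a^(θ+2) + a^θ` takes every value at a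
point with `a ≠ 0` -/
theorem exists_phi_eq (hm : 1 ≤ m) (hF : Fintype.card F = 2 ^ (2 * m + 1)) (δ : F) :
    ∃ a b : F, a ≠ 0 ∧
      a * b + b ^ (2 ^ (m + 1)) + a ^ (2 ^ (m + 1) + 2) + a ^ (2 ^ (m + 1)) = δ := by
  classical
  apply phi_core (2 ^ (m + 1)) (two_eq_zero_of_card hF) (add_pow_sigma hF) (pow_sigma_sigma hF)
    ?_ (sigma_add_ne_one hF) (sigma_add_or hF) ?_ δ
  · intro c
    refine ⟨c ^ (2 ^ m), ?_⟩
    rw [← pow_mul, ← pow_add, show m + (m + 1) = 2 * m + 1 by ring, ← hF, FiniteField.pow_card]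
  · -- an element different from `0` and `1`
    have h8 : 2 < Fintype.card F := by
      rw [hF]
      calc 2 < 2 ^ 3 := by norm_num
        _ ≤ 2 ^ (2 * m + 1) := Nat.pow_le_pow_right (by norm_num) (by omega)
    obtain ⟨x, y, z, hxy, hxz, hyz⟩ := Fintype.two_lt_card_iff.mp h8
    by_cases hx : x ≠ 0 ∧ x ≠ 1
    · exact ⟨x, hx⟩
    by_cases hy : y ≠ 0 ∧ y ≠ 1
    · exact ⟨y, hy⟩
    refine ⟨z, ?_, ?_⟩
    · rintro rfl
      rw [not_and_or, not_not, not_not] at hx hy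
      rcases hx with rfl | rfl
      · exact hxz rfl
      · rcases hy with rfl | rfl
        · exact hyz rfl
        · exact hxy rfl
    · rintro rfl
      rw [not_and_or, not_not, not_not] at hx hy
      rcases hx with rfl | rfl
      · rcases hy with rfl | rfl
        · exact hxy rfl
        · exact hyz rfl
      · exact hxz rfl

end Cfsg.Agent.Helper89.SzCl
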