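import Cfsg.Agent.Helper61.TwoPDefs
import Cfsg.Agent.Helper63.TwoPAB
import Cfsg.Agent.Helper80.CharLevel
import Cfsg.Agent.Helper79.Linear
import Cfsg.Agent.Helper74.FSCount

/-!
# (E1) of helper61's S4707 plan (#6269): the case `δ = ε = 1` with `χ₁` linear is impossible
-/

set_option autoImplicit false
set_option linter.unusedSectionVars false
set_option linter.unusedVariables false

namespace Cfsg.Agent.Helper89.TwoP

open Cfsg MulAction Cfsg.Agent.Helper61.TwoP
open scoped ComplexConjugate

section partIII

variable {G : Type*} [Group G] [Fintype G] {α : Type*} [Fintype α] [DecidableEq α] [MulAction G α]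
  {p : ℕ} [Fact p.Prime] {P : Sylow p G}

/-- a nontrivial normal subgroup of a faithful primitive group of degree `2p` is transitive, so its
order is divisible by `2p` -/
theorem two_mul_dvd_card_of_normal (S : Setup G α p P) (N : Subgroup G) [N.Normal] (hN : N ≠ ⊥) :
    2 * p ∣ Nat.card N := by
  classical
  haveI := S.prim
  have hfix : fixedPoints N α ≠ Set.univ := by
    intro h
    apply hN
    rw [Subgroup.eq_bot_iff_forall]
    intro n hn
    apply S.faithful
    intro a
    have ha : a ∈ fixedPoints N α := by rw [h]; exact Set.mem_univ _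
    exact ha ⟨n, hn⟩
  haveI : IsPretransitive N α := IsQuasiPreprimitive.isPretransitive_of_normal hfix
  have hne : Nonempty α := by
    rw [← Fintype.card_pos_iff, S.hα]
    have := (Fact.out : p.Prime).pos
    omega
  obtain ⟨a⟩ := hne
  have h1 : (stabilizer N a).index = Nat.card α := MulAction.index_stabilizer_of_transitive N a
  rw [Nat.card_eq_fintype_card, S.hα] at h1
  rw [← h1]
  exact Subgroup.index_dvd_card _

/-- (E1) the case `δ = ε = 1` with `χ₁` linear is impossible. -/
theorem caseA_false_of_deg_one (S : Setup G α p P) {χ1 : IrrCharacter G}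
    {Y : Set (IrrCharacter G)} (T : Std G p 1 1 χ1 Y) (hf : (χ1 : G → ℂ) 1 = 1) : False := by
  classical
  have hp : p.Prime := Fact.out
  have hp5 := S.hp5
  have hχ1c : IsCharacter G (χ1 : G → ℂ) := Helper74.irr_isCharacter χ1
  have hpC : (p : ℂ) ≠ 0 := by exact_mod_cast hp.ne_zero
  -- the relations with the integer casts removed
  have hsing1 : ∀ g : G, p ∣ orderOf g → (χ1 : G → ℂ) g = 1 := by
    intro g hg
    have := T.chi_sing g hg
    simpa using this
  have hsum : ∀ g : G, p ∣ orderOf g → ∑ᶠ η ∈ Y, (η : G → ℂ) g = -1 := by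
    intro g hg
    have := T.sum_sing g hg
    simpa using this
  have hrel : ∀ η ∈ Y, ∀ g : G, ¬ p ∣ orderOf g → (η : G → ℂ) g = 1 + (χ1 : G → ℂ) g := by
    intro η hη g hg
    have := T.rel η hη g hg
    simp only [Int.cast_one, neg_mul, one_mul] at this
    linear_combination -this
  have hreg1 : ¬ p ∣ orderOf (1 : G) := by
    rw [orderOf_one]
    exact fun h => hp.one_lt.ne' (Nat.dvd_one.mp h)
  have hdeg : ∀ η ∈ Y, (η : G → ℂ) 1 = 2 := by
    intro η hη
    rw [hrel η hη 1 hreg1, hf]
    norm_num
  -- an element of order p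
  have hpG : p ∣ Nat.card G := by
    rw [← S.cardP]
    exact Subgroup.card_subgroup_dvd_card _
  obtain ⟨y, hy⟩ := exists_prime_orderOf_dvd_card' p hpG
  have hysing : p ∣ orderOf y := by rw [hy]
  -- some member of Y does not vanish at y
  obtain ⟨η0, hη0, hη0y⟩ : ∃ η ∈ Y, (η : G → ℂ) y ≠ 0 := by
    apply exists_ne_zero_of_finsum_mem_ne_zero
    rw [hsum y hysing]
    norm_num
  -- its complex conjugate lies in Y
  have hconjY : Helper74.irrConj η0 ∈ Y := by
    by_contra hnot
    have h1 : Helper74.irrConj η0 ≠ Helper79.principalIrr G := by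
      intro h
      have := congrArg (fun χ : IrrCharacter G => (χ : G → ℂ) 1) h
      simp only [Helper74.irrConj_apply, hdeg η0 hη0, map_ofNat] at this
      have h2 : ((Helper79.principalIrr G : IrrCharacter G) : G → ℂ) 1 = 1 := rfl
      rw [h2] at this
      norm_num at this
    have h2 : Helper74.irrConj η0 ≠ χ1 := by
      intro h
      have := congrArg (fun χ : IrrCharacter G => (χ : G → ℂ) 1) h
      simp only [Helper74.irrConj_apply, hdeg η0 hη0, hf, map_ofNat] at this
      norm_num at this
    have := T.other_sing _ h1 h2 hnot y hysing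
    rw [Helper74.irrConj_apply] at this
    exact hη0y ((map_eq_zero _).mp this)
  -- the values of χ1 are ±1
  have hval : ∀ g : G, (χ1 : G → ℂ) g = 1 ∨ (χ1 : G → ℂ) g = -1 := by
    intro g
    by_cases hg : p ∣ orderOf g
    · exact Or.inl (hsing1 g hg)
    · have h1 := T.reg_eq _ hconjY _ hη0 g hg
      rw [Helper74.irrConj_apply, hrel η0 hη0 g hg] at h1
      have h2 : conj ((χ1 : G → ℂ) g) = (χ1 : G → ℂ) g := by
        simp only [map_add, map_one] at h1
        exact add_left_cancel h1
      have h3 := Helper79.isCharacter_linear_mul_conj hχ1c hf g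
      rw [h2] at h3
      have h4 : ((χ1 : G → ℂ) g - 1) * ((χ1 : G → ℂ) g + 1) = 0 := by
        linear_combination h3
      rcases mul_eq_zero.mp h4 with h | h
      · exact Or.inl (by linear_combination h)
      · exact Or.inr (by linear_combination h)
  -- the kernel of χ1 has index 2
  set K := Helper80.kerChar (χ1 : G → ℂ) hχ1c with hK
  have hmemK : ∀ g : G, g ∈ K ↔ (χ1 : G → ℂ) g = 1 := by
    intro g
    rw [hK, Helper80.mem_kerChar, hf]
  have hval' : ∀ g : G, (χ1 : G → ℂ) g = 2 * (if g ∈ K then 1 else 0) - 1 := by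
    intro g
    by_cases hg : g ∈ K
    · rw [if_pos hg, (hmemK g).mp hg]
      norm_num
    · rw [if_neg hg]
      rcases hval g with h | h
      · exact absurd ((hmemK g).mpr h) hg
      · rw [h]; norm_num
  have horth : ∑ g : G, (χ1 : G → ℂ) g = 0 := by
    have h := Helper74.irr_orthonormal χ1 (Helper79.principalIrr G)
    rw [if_neg T.chi_ne] at h
    unfold classInner at h
    have hcard : (Nat.card G : ℂ)⁻¹ ≠ 0 := by
      apply inv_ne_zero
      exact_mod_cast Nat.card_pos.ne'
    have h2 := (mul_eq_zero.mp h).resolve_left hcard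
    have h3 : ∀ g : G, (χ1 : G → ℂ) g *
        conj (((Helper79.principalIrr G : IrrCharacter G) : G → ℂ) g) = (χ1 : G → ℂ) g := by
      intro g
      have : ((Helper79.principalIrr G : IrrCharacter G) : G → ℂ) g = 1 := rfl
      rw [this, map_one, mul_one]
    simpa [h3] using h2
  have hGK : Nat.card G = 2 * Nat.card K := by
    have h1 : ∑ g : G, (χ1 : G → ℂ) g = 2 * (Nat.card K : ℂ) - (Nat.card G : ℂ) := by
      simp_rw [hval']
      rw [Finset.sum_sub_distrib, ← Finset.mul_sum, Finset.sum_boole]
      simp only [Finset.sum_const, Finset.card_univ, nsmul_eq_mul, mul_one]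
      congr 2
      · rw [Nat.card_eq_fintype_card, Fintype.card_subtype]
      · rw [Nat.card_eq_fintype_card]
    rw [horth] at h1
    have h2 : (Nat.card G : ℂ) = ((2 * Nat.card K : ℕ) : ℂ) := by
      push_cast
      linear_combination h1
    exact_mod_cast h2
  -- the intersection of the kernels of the members of Y is trivial
  have hYfin : Y.Finite := by
    have h0 : Nat.card Y ≠ 0 := by
      intro h0
      have := T.cardY
      rw [h0] at this
      omega
    exact Set.finite_coe_iff.mp (Nat.finite_of_card_ne_zero h0)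
  set N : Subgroup G := ⨅ η : Y, Helper80.kerChar ((η : IrrCharacter G) : G → ℂ)
    (Helper74.irr_isCharacter η.1) with hN
  have hNn : N.Normal := Subgroup.normal_iInf_normal fun η => inferInstance
  have hmemN : ∀ g : G, g ∈ N ↔ ∀ η ∈ Y, (η : G → ℂ) g = 2 := by
    intro g
    rw [hN, Subgroup.mem_iInf]
    constructor
    · intro h η hη
      have := h ⟨η, hη⟩
      rw [Helper80.mem_kerChar, hdeg η hη] at this
      exact this
    · intro h η
      rw [Helper80.mem_kerChar, hdeg η η.2]
      exact h η η.2
  have hNbot : N = ⊥ := by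
    by_contra hne
    have h1 := two_mul_dvd_card_of_normal S N hne
    have h2 : p ∣ Nat.card N := Dvd.dvd.trans (Dvd.intro_left 2 rfl) h1
    obtain ⟨y', hy'⟩ := exists_prime_orderOf_dvd_card' p h2
    have hy'o : orderOf (y' : G) = p := by rw [Subgroup.orderOf_coe, hy']
    have hy's : p ∣ orderOf (y' : G) := by rw [hy'o]
    have h3 := hsum (y' : G) hy's
    have h4 : ∑ᶠ η ∈ Y, (η : G → ℂ) (y' : G) = ∑ᶠ η ∈ Y, (2 : ℂ) := by
      apply finsum_mem_congr rfl
      intro η hη
      exact (hmemN _).mp y'.2 η hη
    rw [h4, finsum_mem_eq_finite_toFinset_sum _ hYfin, Finset.sum_const, nsmul_eq_mul] at h3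
    have h5 : hYfin.toFinset.card = Nat.card Y := by
      rw [Nat.card_coe_set_eq, Set.ncard_eq_toFinset_card Y hYfin]
    rw [h5] at h3
    have h6 : ((Nat.card Y * 2 : ℕ) : ℂ) = ((p - 1 : ℕ) : ℂ) := by rw [T.cardY]
    rw [Nat.cast_sub hp.one_lt.le] at h6
    push_cast at h6
    apply hpC
    linear_combination h3 - h6
  -- K consists of 1 and p-singular elements
  have hKp : IsPGroup p K := by
    intro g
    by_cases hg : p ∣ orderOf (g : G)
    · refine ⟨1, ?_⟩
      have h1 := (Helper63.TwoP.exists_conj_mem_of_dvd P S.cardP S.cent (g : G) hg).2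
      apply Subtype.ext
      rw [Subgroup.coe_pow, pow_one, ← h1, pow_orderOf_eq_one]
      rfl
    · refine ⟨0, ?_⟩
      have h1 : (g : G) ∈ N := by
        rw [hmemN]
        intro η hη
        rw [hrel η hη _ hg, (hmemK _).mp g.2]
        norm_num
      rw [hNbot, Subgroup.mem_bot] at h1
      rw [pow_zero, pow_one]
      exact Subtype.ext h1
  obtain ⟨Q, hQ⟩ := hKp.exists_le_sylow
  have hKle : Nat.card K ≤ p := by
    have h1 : Nat.card K ≤ Nat.card (Q : Subgroup G) := Subgroup.card_le_of_le hQ
    have h2 : Nat.card (Q : Subgroup G) = Nat.card (P : Subgroup G) := by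
      rw [Sylow.card_eq_multiplicity, Sylow.card_eq_multiplicity]
    rw [h2, S.cardP] at h1
    exact h1
  -- final contradiction
  have hG2p : 2 * p ∣ Nat.card G := by
    have h := two_mul_dvd_card_of_normal S (⊤ : Subgroup G) (by
      intro h
      have h1 : Nat.card (⊤ : Subgroup G) = 1 := by rw [h, Subgroup.card_bot]
      rw [Subgroup.card_top] at h1
      have h2 := Nat.le_of_dvd (by omega) hpG
      omega)
    rwa [Subgroup.card_top] at h
  rw [hGK] at hG2p
  have hpK : p ∣ Nat.card K := (Nat.mul_dvd_mul_iff_left (by norm_num)).mp hG2p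
  have hKpos : 0 < Nat.card K := Nat.card_pos
  have hKp' : p ≤ Nat.card K := Nat.le_of_dvd hKpos hpK
  have hKne : K ≠ ⊥ := by
    intro h
    rw [h, Subgroup.card_bot] at hKp'
    omega
  have h2pK := two_mul_dvd_card_of_normal S K hKne
  have := Nat.le_of_dvd hKpos h2pK
  omega

end partIII

end Cfsg.Agent.Helper89.TwoP
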