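import Mathlib
import Cfsg.Agent.Helper62.D8.Defs
import Cfsg.Agent.Helper80.CharLevel
import Cfsg.Agent.Helper89.LS_A7

/-!
# S3716 (helper62 architect, board #9665), piece (G5): restriction sums
-/

set_option autoImplicit false

namespace Cfsg.Agent.Helper89.D8

open Cfsg Cfsg.Agent.Helper62.D8

universe u

/-- restriction of a representation to a subgroup -/
noncomputable def resRep {G : Type u} [Group G] {n : ℕ} (ρ : Representation ℂ G (Fin n → ℂ))
    (H : Subgroup G) : Representation ℂ H (Fin n → ℂ) := ρ.comp H.subtype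

/-- the sum of a character over a subgroup is `|H|` times the dimension of the `H`-invariants -/
theorem sum_subgroup_eq {G : Type u} [Group G] {n : ℕ} (ρ : Representation ℂ G (Fin n → ℂ))
    (H : Subgroup G) [Fintype H] :
    ∑ h : H, ρ.character h =
      (Fintype.card H : ℂ) * (Module.finrank ℂ (resRep ρ H).invariants : ℂ) := by
  have hcard : (Fintype.card H : ℂ) ≠ 0 := Nat.cast_ne_zero.mpr Fintype.card_ne_zero
  rw [Cfsg.Agent.Helper89.LS.finrank_invariants_eq, ← mul_assoc, mul_inv_cancel₀ hcard, one_mul]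
  rfl

section sums
variable {G : Type u} [Group G]

/-- the bijection `Fin 3 × Fin 3 → T` -/
theorem bij_T {T : Subgroup G} {x y t f : G} (hd : NData8 T x y t f) [Fintype T]
    (hcard : Nat.card T = 9) :
    Function.Bijective (fun p : Fin 3 × Fin 3 =>
      (⟨x ^ (p.1 : ℕ) * y ^ (p.2 : ℕ), T.mul_mem (T.pow_mem hd.xT _) (T.pow_mem hd.yT _)⟩ : T)) := by
  rw [Fintype.bijective_iff_surjective_and_card]
  constructor
  · rintro ⟨s, hs⟩
    obtain ⟨i, k, hik⟩ := hd.memT s hs
    refine ⟨(⟨i % 3, Nat.mod_lt _ (by norm_num)⟩, ⟨k % 3, Nat.mod_lt _ (by norm_num)⟩), ?_⟩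
    apply Subtype.ext
    show x ^ (i % 3) * y ^ (k % 3) = s
    rw [hik, ← pow_eq_pow_mod i hd.x3, ← pow_eq_pow_mod k hd.y3]
  · rw [← Nat.card_eq_fintype_card (α := T), hcard]
    simp

/-- sum over `T` of a class function -/
theorem sum_T {T : Subgroup G} {x y t f : G} (hd : NData8 T x y t f) [Fintype T]
    (hcard : Nat.card T = 9) (c : G → ℂ) (hc : ∀ g h : G, c (g * h * g⁻¹) = c h) :
    ∑ u : T, c u = c 1 + 4 * c x + 4 * c (x * y) := by
  have hxy : Commute x y := hd.comm
  have hx2 : x ^ 2 = x⁻¹ := by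
    apply eq_inv_of_mul_eq_one_left
    rw [← pow_succ]; exact hd.x3
  have hy2 : y ^ 2 = y⁻¹ := by
    apply eq_inv_of_mul_eq_one_left
    rw [← pow_succ]; exact hd.y3
  have e1 : c y = c x := by rw [← hd.fx]; exact hc f x
  have e2 : c x⁻¹ = c x := by rw [← hd.fy, hc f y, e1]
  have e3 : c y⁻¹ = c x := by
    have h : f * x⁻¹ * f⁻¹ = y⁻¹ := by rw [← hd.fx]; group
    rw [← h, hc f x⁻¹, e2]
  have e4 : c (x⁻¹ * y) = c (x * y) := by
    have h : f * (x * y) * f⁻¹ = x⁻¹ * y := by
      rw [show f * (x * y) * f⁻¹ = (f * x * f⁻¹) * (f * y * f⁻¹) by group, hd.fx, hd.fy]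
      exact (hxy.inv_left.eq).symm
    rw [← h, hc]
  have e5 : c (x⁻¹ * y⁻¹) = c (x * y) := by
    have h : f * (x⁻¹ * y) * f⁻¹ = x⁻¹ * y⁻¹ := by
      rw [show f * (x⁻¹ * y) * f⁻¹ = (f * x * f⁻¹)⁻¹ * (f * y * f⁻¹) by group, hd.fx, hd.fy]
      exact (hxy.inv_left.inv_right.eq).symm
    rw [← h, hc, e4]
  have e6 : c (x * y⁻¹) = c (x * y) := by
    have h : f * (x⁻¹ * y⁻¹) * f⁻¹ = x * y⁻¹ := by
      rw [show f * (x⁻¹ * y⁻¹) * f⁻¹ = (f * x * f⁻¹)⁻¹ * (f * y * f⁻¹)⁻¹ by group, hd.fx, hd.fy,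
        inv_inv]
      exact (hxy.inv_right.eq).symm
    rw [← h, hc, e5]
  rw [← Fintype.sum_bijective _ (bij_T hd hcard) (fun p => c (x ^ (p.1 : ℕ) * y ^ (p.2 : ℕ)))
    (fun u : T => c u) (fun p => rfl)]
  rw [Fintype.sum_prod_type]
  simp only [Fin.sum_univ_three, Fin.val_zero, Fin.val_one, Fin.val_two, pow_zero, pow_one,
    one_mul, mul_one, hx2, hy2, e1, e2, e3, e4, e5, e6]
  ring

/-- sum over the coset `T t` of a class function -/
theorem sum_Tt {T : Subgroup G} {x y t f : G} (hd : NData8 T x y t f) [Fintype T]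
    (hcard : Nat.card T = 9) (c : G → ℂ) (hc : ∀ g h : G, c (g * h * g⁻¹) = c h) :
    ∑ u : T, c (u * t) = 3 * c t + 6 * c (x * t) := by
  have hxy : Commute x y := hd.comm
  have hx2 : x ^ 2 = x⁻¹ := by
    apply eq_inv_of_mul_eq_one_left
    rw [← pow_succ]; exact hd.x3
  -- conjugating by a power of `y`
  have key : ∀ i k : ℕ, c (x ^ i * y ^ k * t) = c (x ^ i * t) := by
    intro i k
    have hY : t * y ^ k * t⁻¹ = (y ^ k)⁻¹ := by rw [← conj_pow, hd.ty, inv_pow]
    have h1 : t * (y ^ k)⁻¹ = y ^ k * t := by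
      have : t * (y ^ k)⁻¹ * t⁻¹ = y ^ k := by
        rw [show t * (y ^ k)⁻¹ * t⁻¹ = (t * y ^ k * t⁻¹)⁻¹ by group, hY, inv_inv]
      exact mul_inv_eq_iff_eq_mul.mp this
    have hYX : Commute (y ^ k) (x ^ i) := (hxy.pow_pow i k).symm
    have hY3 : y ^ k * y ^ k * y ^ k = 1 := by
      rw [← pow_add, ← pow_add, show k + k + k = 3 * k by ring, pow_mul, hd.y3, one_pow]
    have h : y ^ k * (x ^ i * y ^ k * t) * (y ^ k)⁻¹ = x ^ i * t := by
      calc y ^ k * (x ^ i * y ^ k * t) * (y ^ k)⁻¹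
          = (y ^ k * x ^ i) * (y ^ k * (t * (y ^ k)⁻¹)) := by group
        _ = (x ^ i * y ^ k) * (y ^ k * (y ^ k * t)) := by rw [hYX.eq, h1]
        _ = x ^ i * (y ^ k * y ^ k * y ^ k) * t := by group
        _ = x ^ i * t := by rw [hY3, mul_one]
    rw [← h, hc]
  -- conjugating by `f ^ 2`
  have hF : c (x⁻¹ * t) = c (x * t) := by
    have hFx : f ^ 2 * x * (f ^ 2)⁻¹ = x⁻¹ := by
      rw [show f ^ 2 * x * (f ^ 2)⁻¹ = f * (f * x * f⁻¹) * f⁻¹ by rw [pow_two]; group,
        hd.fx, hd.fy]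
    have hFF : (f ^ 2)⁻¹ = f ^ 2 := by
      apply inv_eq_of_mul_eq_one_left
      rw [← pow_add]; exact hd.f4
    have htF : t * f ^ 2 * t⁻¹ = f ^ 2 := by
      rw [← conj_pow, hd.tf, inv_pow, hFF]
    have htF' : t * f ^ 2 = f ^ 2 * t := mul_inv_eq_iff_eq_mul.mp htF
    have hFt : f ^ 2 * t * (f ^ 2)⁻¹ = t := by
      rw [← htF', mul_assoc, hFF, ← pow_add, show 2 + 2 = 4 by norm_num, hd.f4, mul_one]
    have h : f ^ 2 * (x * t) * (f ^ 2)⁻¹ = x⁻¹ * t := by
      rw [show f ^ 2 * (x * t) * (f ^ 2)⁻¹ = (f ^ 2 * x * (f ^ 2)⁻¹) * (f ^ 2 * t * (f ^ 2)⁻¹) by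
        group, hFx, hFt]
    rw [← h, hc]
  rw [← Fintype.sum_bijective _ (bij_T hd hcard)
    (fun p => c (x ^ (p.1 : ℕ) * y ^ (p.2 : ℕ) * t)) (fun u : T => c (u * t)) (fun p => rfl)]
  rw [Fintype.sum_prod_type]
  simp only [Fin.sum_univ_three, Fin.val_zero, Fin.val_one, Fin.val_two, key]
  simp only [pow_zero, pow_one, one_mul, hx2, hF]
  ring

end sums

section main
variable {G : Type u} [Group G] [Finite G]

/-- (G5) restriction to `T` and to `C_G(x) = T ⋊ ⟨t⟩`. -/
theorem restrict_sums8 (T : Subgroup G) (x y t f : G) (hd : NData8 T x y t f)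
    (hcard : Nat.card T = 9)
    (hloc : ∀ u ∈ T, u ≠ 1 → Subgroup.centralizer ({u} : Set G) ≤ Subgroup.normalizer (T : Set G))
    (χ : G → ℂ) (hχ : IsCharacter G χ) :
    (∃ k : ℕ, χ 1 + 4 * χ x + 4 * χ (x * y) = 9 * (k : ℂ)) ∧
    (∃ k : ℕ, χ 1 + 4 * χ x + 4 * χ (x * y) + 6 * χ (x * t) + 3 * χ t = 18 * (k : ℂ)) ∧
    (∃ k : ℕ, χ 1 + 4 * χ x + 4 * χ (x * y) - 6 * χ (x * t) - 3 * χ t = 18 * (k : ℂ)) := by
  classical
  have hcl : ∀ g h : G, χ (g * h * g⁻¹) = χ h := fun g h =>
    Cfsg.Agent.Helper80.IsCharacter.conj_mem hχ h g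
  obtain ⟨n, ρ, rfl⟩ := hχ
  let _ : Fintype T := Fintype.ofFinite T
  -- `t` normalises `T`
  have htT : ∀ u ∈ T, t * u * t⁻¹ ∈ T := fun u hu =>
    (Subgroup.mem_normalizer_iff.mp hd.tN u).mp hu
  have htinv : t⁻¹ = t := by
    apply inv_eq_of_mul_eq_one_left
    rw [← pow_two]; exact hd.t2
  have htnot : t ∉ T := by
    intro ht
    have h1 : t * y * t⁻¹ = y := by rw [hd.commT t ht y hd.yT, mul_inv_cancel_right]
    rw [hd.ty] at h1
    -- `y⁻¹ = y` and `y ^ 3 = 1` give `y = 1`
    have h2 : y * y = 1 := by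
      nth_rewrite 1 [← h1]
      exact inv_mul_cancel y
    have h3 : y = 1 := by
      have := hd.y3
      rw [pow_succ, pow_two, h2, one_mul] at this
      exact this
    exact hd.y1 h3
  -- the subgroup `H = T ⟨t⟩`
  let H : Subgroup G :=
    { carrier := {g | g ∈ T ∨ g * t ∈ T}
      one_mem' := Or.inl T.one_mem
      mul_mem' := by
        rintro a b (ha | ha) (hb | hb)
        · exact Or.inl (T.mul_mem ha hb)
        · right
          have : a * b * t = a * (b * t) := by group
          rw [this]; exact T.mul_mem ha hb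
        · right
          have : a * b * t = (a * t) * (t * b * t⁻¹) := by
            rw [htinv]
            have ht2 : t * t = 1 := by rw [← pow_two]; exact hd.t2
            calc a * b * t = a * 1 * b * t := by group
              _ = a * (t * t) * b * t := by rw [ht2]
              _ = a * t * (t * b * t) := by group
          rw [this]; exact T.mul_mem ha (htT b hb)
        · left
          have : a * b = (a * t) * (t * (b * t) * t⁻¹) := by
            rw [htinv]
            have ht2 : t * t = 1 := by rw [← pow_two]; exact hd.t2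
            calc a * b = a * 1 * b * 1 := by group
              _ = a * (t * t) * b * (t * t) := by rw [ht2]
              _ = a * t * (t * (b * t) * t) := by group
          rw [this]; exact T.mul_mem ha (htT _ hb)
      inv_mem' := by
        rintro a (ha | ha)
        · exact Or.inl (T.inv_mem ha)
        · right
          have : a⁻¹ * t = t * (a * t)⁻¹ * t⁻¹ := by
            rw [htinv]
            have ht2 : t * t = 1 := by rw [← pow_two]; exact hd.t2
            calc a⁻¹ * t = 1 * a⁻¹ * t := by group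
              _ = (t * t) * a⁻¹ * t := by rw [ht2]
              _ = t * (a * t⁻¹)⁻¹ * t := by group
              _ = t * (a * t)⁻¹ * t := by rw [htinv]
          rw [this]; exact htT _ (T.inv_mem ha) }
  have hTH : ∀ u : T, (u : G) ∈ H := fun u => Or.inl u.2
  have hTtH : ∀ u : T, (u : G) * t ∈ H := fun u => Or.inr (by
    have ht2 : t * t = 1 := by rw [← pow_two]; exact hd.t2
    rw [mul_assoc, ht2, mul_one]; exact u.2)
  let _ : Fintype H := Fintype.ofFinite H
  let ψ : T ⊕ T → H :=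
    Sum.elim (fun u : T => ⟨(u : G), hTH u⟩) (fun u : T => ⟨(u : G) * t, hTtH u⟩)
  have hψ : Function.Bijective ψ := by
    constructor
    · rintro (u | u) (u' | u') h
      · have := congrArg Subtype.val h
        simp only [ψ, Sum.elim_inl] at this
        rw [Subtype.ext this]
      · exfalso
        have := congrArg Subtype.val h
        simp only [ψ, Sum.elim_inl, Sum.elim_inr] at this
        apply htnot
        have h2 : t = (u' : G)⁻¹ * u := by rw [this]; group
        rw [h2]; exact T.mul_mem (T.inv_mem u'.2) u.2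
      · exfalso
        have := congrArg Subtype.val h
        simp only [ψ, Sum.elim_inl, Sum.elim_inr] at this
        apply htnot
        have h2 : t = (u : G)⁻¹ * u' := by rw [← this]; group
        rw [h2]; exact T.mul_mem (T.inv_mem u.2) u'.2
      · have := congrArg Subtype.val h
        simp only [ψ, Sum.elim_inr] at this
        rw [Subtype.ext (mul_right_cancel this)]
    · rintro ⟨g, hg | hg⟩
      · exact ⟨Sum.inl ⟨g, hg⟩, rfl⟩
      · refine ⟨Sum.inr ⟨g * t, hg⟩, ?_⟩
        apply Subtype.ext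
        have ht2 : t * t = 1 := by rw [← pow_two]; exact hd.t2
        show g * t * t = g
        rw [mul_assoc, ht2, mul_one]
  have hcardT : Fintype.card T = 9 := by rw [← Nat.card_eq_fintype_card, hcard]
  have hcardH : Fintype.card H = 18 := by
    rw [← Fintype.card_of_bijective hψ, Fintype.card_sum, hcardT]
  -- the sums
  have hsT := sum_T hd hcard ρ.character hcl
  have hsTt := sum_Tt hd hcard ρ.character hcl
  have hsH : ∑ h : H, ρ.character h = ∑ u : T, ρ.character u + ∑ u : T, ρ.character (u * t) := by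
    rw [← Fintype.sum_bijective ψ hψ (fun s => ρ.character (ψ s)) (fun h : H => ρ.character h)
      (fun s => rfl), Fintype.sum_sum_type]
    rfl
  have h1 := sum_subgroup_eq ρ T
  have h2 := sum_subgroup_eq ρ H
  rw [hcardT, hsT] at h1
  rw [hcardH, hsH, hsT, hsTt] at h2
  push_cast at h1 h2
  -- monotonicity of invariants
  have hle : Module.finrank ℂ (resRep ρ H).invariants ≤
      Module.finrank ℂ (resRep ρ T).invariants := by
    apply Submodule.finrank_mono
    intro v hv
    rw [Representation.mem_invariants] at hv ⊢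
    intro u
    exact hv ⟨(u : G), hTH u⟩
  refine ⟨⟨Module.finrank ℂ (resRep ρ T).invariants, h1⟩,
    ⟨Module.finrank ℂ (resRep ρ H).invariants, ?_⟩, ⟨Module.finrank ℂ (resRep ρ T).invariants -
    Module.finrank ℂ (resRep ρ H).invariants, ?_⟩⟩
  · rw [← h2]; ring
  · rw [Nat.cast_sub hle, mul_sub]
    have h1' : (18 : ℂ) * (Module.finrank ℂ (resRep ρ T).invariants : ℂ) =
        2 * (ρ.character 1 + 4 * ρ.character x + 4 * ρ.character (x * y)) := by
      rw [h1]; ring
    rw [h1', ← h2]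
    ring

end main

end Cfsg.Agent.Helper89.D8
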