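import Mathlib
import Cfsg.Prelude.Def_Transfer

/-!
# Central extensions of an elementary abelian 2-group by `ZMod 2` given by a bilinear cocycle
-/

set_option autoImplicit false

namespace Cfsg.Agent.Helper89

open scoped commutatorElement

/-- The group `ZMod 2 × W` with product `(c, w) (c', w') = (c + c' + β w w', w + w')`. -/
@[ext]
structure HeisTwo {W : Type} [AddCommGroup W] [Module (ZMod 2) W]
    (β : LinearMap.BilinForm (ZMod 2) W) where
  c : ZMod 2
  w : W

namespace HeisTwo

variable {W : Type} [AddCommGroup W] [Module (ZMod 2) W] {β : LinearMap.BilinForm (ZMod 2) W}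

instance : Mul (HeisTwo β) := ⟨fun a b => ⟨a.c + b.c + β a.w b.w, a.w + b.w⟩⟩
instance : One (HeisTwo β) := ⟨⟨0, 0⟩⟩
instance : Inv (HeisTwo β) := ⟨fun a => ⟨a.c + β a.w a.w, a.w⟩⟩

@[simp] theorem mul_c (a b : HeisTwo β) : (a * b).c = a.c + b.c + β a.w b.w := rfl
@[simp] theorem mul_w (a b : HeisTwo β) : (a * b).w = a.w + b.w := rfl
@[simp] theorem one_c : (1 : HeisTwo β).c = 0 := rfl
@[simp] theorem one_w : (1 : HeisTwo β).w = 0 := rfl
@[simp] theorem inv_c (a : HeisTwo β) : (a⁻¹).c = a.c + β a.w a.w := rfl
@[simp] theorem inv_w (a : HeisTwo β) : (a⁻¹).w = a.w := rfl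

instance : Group (HeisTwo β) :=
  Group.ofLeftAxioms
    (by
      intro a b c
      ext
      · simp only [mul_c, mul_w, map_add, LinearMap.add_apply]; ring
      · simp only [mul_w, add_assoc])
    (by
      intro a
      ext
      · simp
      · simp)
    (by
      intro a
      ext
      · simp only [mul_c, inv_c, inv_w, one_c]
        have h := CharTwo.add_self_eq_zero (a.c + β a.w a.w)
        linear_combination h
      · simp only [mul_w, inv_w, one_w]
        exact ZModModule.add_self a.w)

/-- The equivalence with the product type. -/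
def equivProd : HeisTwo β ≃ ZMod 2 × W where
  toFun a := (a.c, a.w)
  invFun p := ⟨p.1, p.2⟩
  left_inv _ := rfl
  right_inv _ := rfl

instance [Finite W] : Finite (HeisTwo β) := Finite.of_equiv _ equivProd.symm

theorem card_eq [Finite W] : Nat.card (HeisTwo β) = 2 * Nat.card W := by
  rw [Nat.card_congr equivProd, Nat.card_prod, Nat.card_zmod]

/-- The polar form `B w w' = β w w' + β w' w`. -/
def polar (β : LinearMap.BilinForm (ZMod 2) W) : LinearMap.BilinForm (ZMod 2) W := β + β.flip

@[simp] theorem polar_apply (w w' : W) : polar β w w' = β w w' + β w' w := rfl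

theorem polar_symm (w w' : W) : polar β w w' = polar β w' w := by
  simp only [polar_apply]; ring

theorem polar_self (w : W) : polar β w w = 0 := by
  simp only [polar_apply]; exact CharTwo.add_self_eq_zero _

theorem mul_comm_iff (a b : HeisTwo β) : a * b = b * a ↔ polar β a.w b.w = 0 := by
  constructor
  · intro h
    have h1 := congrArg HeisTwo.c h
    simp only [mul_c] at h1
    simp only [polar_apply]
    have h2 := CharTwo.add_self_eq_zero (β b.w a.w)
    linear_combination h1 + h2
  · intro h
    simp only [polar_apply] at h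
    ext
    · simp only [mul_c]
      have h2 := CharTwo.add_self_eq_zero (β b.w a.w)
      linear_combination h - h2
    · simp only [mul_w, add_comm]

theorem sq_eq (a : HeisTwo β) : a ^ 2 = ⟨β a.w a.w, 0⟩ := by
  rw [pow_two]
  ext
  · simp only [mul_c]
    have h := CharTwo.add_self_eq_zero a.c
    linear_combination h
  · simp only [mul_w]
    exact ZModModule.add_self a.w

theorem sq_eq_one_iff (a : HeisTwo β) : a ^ 2 = 1 ↔ β a.w a.w = 0 := by
  rw [sq_eq]
  constructor
  · intro h; exact congrArg HeisTwo.c h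
  · intro h; ext <;> simp [h]

/-- The central element `(1, 0)`. -/
def zel : HeisTwo β := ⟨1, 0⟩

/-- The subgroup `{(c, 0)}`. -/
def Zsub : Subgroup (HeisTwo β) where
  carrier := {a | a.w = 0}
  mul_mem' := by
    intro a b ha hb
    simp only [Set.mem_ofPred_eq] at ha hb ⊢
    rw [mul_w, ha, hb, add_zero]
  one_mem' := rfl
  inv_mem' := by
    intro a ha
    simpa using ha

theorem mem_Zsub (a : HeisTwo β) : a ∈ (Zsub : Subgroup (HeisTwo β)) ↔ a.w = 0 := Iff.rfl

theorem mem_Zsub_iff (a : HeisTwo β) : a ∈ (Zsub : Subgroup (HeisTwo β)) ↔ a = 1 ∨ a = zel := by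
  rw [mem_Zsub]
  constructor
  · intro h
    have hc : a.c = 0 ∨ a.c = 1 := by
      generalize a.c = x
      revert x; decide
    rcases hc with hc | hc
    · left; ext <;> simp [hc, h]
    · right; ext <;> simp [hc, h, zel]
  · rintro (rfl | rfl) <;> rfl

theorem zel_ne_one : (zel : HeisTwo β) ≠ 1 := by
  intro h
  have := congrArg HeisTwo.c h
  simp [zel] at this

theorem card_Zsub : Nat.card (Zsub : Subgroup (HeisTwo β)) = 2 := by
  have hset : ((Zsub : Subgroup (HeisTwo β)) : Set (HeisTwo β)) = {1, zel} := by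
    ext a
    simp only [SetLike.mem_coe, mem_Zsub_iff, Set.mem_insert_iff, Set.mem_singleton_iff]
  have : Nat.card (Zsub : Subgroup (HeisTwo β)) =
      ((Zsub : Subgroup (HeisTwo β)) : Set (HeisTwo β)).ncard := (Nat.card_coe_set_eq _)
  rw [this, hset, Set.ncard_pair zel_ne_one.symm]

theorem Zsub_le_center : (Zsub : Subgroup (HeisTwo β)) ≤ Subgroup.center (HeisTwo β) := by
  intro a ha
  rw [Subgroup.mem_center_iff]
  intro g
  rw [mul_comm_iff, (mem_Zsub a).mp ha, map_zero]

theorem center_eq (hnd : ∀ w : W, w ≠ 0 → ∃ w', polar β w w' ≠ 0) :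
    Subgroup.center (HeisTwo β) = Zsub := by
  refine le_antisymm ?_ Zsub_le_center
  intro a ha
  rw [mem_Zsub]
  by_contra hne
  obtain ⟨w', hw'⟩ := hnd a.w hne
  rw [Subgroup.mem_center_iff] at ha
  have := ha ⟨0, w'⟩
  rw [mul_comm_iff] at this
  apply hw'
  rw [polar_symm]
  exact this

theorem commutatorElement_eq (a b : HeisTwo β) : ⁅a, b⁆ = ⟨polar β a.w b.w, 0⟩ := by
  rw [commutatorElement_def]
  ext
  · simp only [mul_c, mul_w, inv_c, inv_w, map_add, LinearMap.add_apply, polar_apply]
    have h1 := CharTwo.add_self_eq_zero a.c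
    have h2 := CharTwo.add_self_eq_zero b.c
    have h3 := CharTwo.add_self_eq_zero (β a.w a.w)
    have h4 := CharTwo.add_self_eq_zero (β b.w b.w)
    have h5 := CharTwo.add_self_eq_zero (β a.w b.w)
    linear_combination h1 + h2 + h3 + h4 + h5
  · simp only [mul_w, inv_w]
    have h1 := ZModModule.add_self a.w
    have h2 := ZModModule.add_self b.w
    calc a.w + b.w + a.w + b.w = (a.w + a.w) + (b.w + b.w) := by abel
      _ = 0 := by rw [h1, h2, add_zero]

theorem commutator_eq (hne : ∃ w w' : W, polar β w w' ≠ 0) :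
    commutator (HeisTwo β) = Zsub := by
  apply le_antisymm
  · rw [commutator_def, Subgroup.commutator_le]
    intro a _ b _
    rw [commutatorElement_eq, mem_Zsub]
  · intro a ha
    rcases (mem_Zsub_iff a).mp ha with rfl | rfl
    · exact one_mem _
    · obtain ⟨w, w', h⟩ := hne
      have h1 : polar β w w' = 1 := by
        generalize polar β w w' = x at h
        revert x; decide
      have : (zel : HeisTwo β) = ⁅(⟨0, w⟩ : HeisTwo β), ⟨0, w'⟩⁆ := by
        rw [commutatorElement_eq, h1]; rfl
      rw [this]
      exact Subgroup.commutator_mem_commutator (Subgroup.mem_top _) (Subgroup.mem_top _)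

end HeisTwo

end Cfsg.Agent.Helper89
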