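import Mathlib
import Cfsg.Prelude.Def_Transfer
import Cfsg.Agent.Helper89.HeisTwo
import Cfsg.Agent.Helper47.Frattini
import Cfsg.Agent.Helper63.Frattini

/-!
# `HeisTwo β` is extraspecial; elementary abelian subgroups and singular subspaces
-/

set_option autoImplicit false

namespace Cfsg.Agent.Helper89

open scoped commutatorElement

theorem zmod2_eq_one_of_ne_zero : ∀ x : ZMod 2, x ≠ 0 → x = 1 := by decide

namespace HeisTwo

variable {W : Type} [AddCommGroup W] [Module (ZMod 2) W] {β : LinearMap.BilinForm (ZMod 2) W}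

theorem isPGroup_two [Finite W] : IsPGroup 2 (HeisTwo β) := by
  have : Fact (Nat.Prime 2) := ⟨Nat.prime_two⟩
  have h1 : Nat.card W = 2 ^ Module.finrank (ZMod 2) W := by
    have := Module.natCard_eq_pow_finrank (K := ZMod 2) (V := W)
    rw [this, Nat.card_zmod]
  apply IsPGroup.of_card (n := Module.finrank (ZMod 2) W + 1)
  rw [card_eq, h1, pow_succ, mul_comm]

theorem isExtraspecial [Finite W] (hnd : ∀ w : W, w ≠ 0 → ∃ w', polar β w w' ≠ 0)
    (hq : ∃ w : W, β w w ≠ 0) : Cfsg.IsExtraspecial 2 (HeisTwo β) := by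
  have : Fact (Nat.Prime 2) := ⟨Nat.prime_two⟩
  have hP : IsPGroup 2 (HeisTwo β) := isPGroup_two
  have hcen := center_eq (β := β) hnd
  obtain ⟨w0, hw0⟩ := hq
  have hw0ne : w0 ≠ 0 := by
    rintro rfl
    simp at hw0
  have hcomm : commutator (HeisTwo β) = Zsub := by
    obtain ⟨w', hw'⟩ := hnd w0 hw0ne
    exact commutator_eq ⟨w0, w', hw'⟩
  have hfr : frattini (HeisTwo β) = Zsub := by
    apply le_antisymm
    · apply Cfsg.Agent.Helper47.frattini_le_of_commutator_pow_mem (p := 2)
      · intro a b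
        rw [commutatorElement_eq, mem_Zsub]
      · intro a
        rw [sq_eq, mem_Zsub]
    · intro a ha
      rcases (mem_Zsub_iff a).mp ha with rfl | rfl
      · exact one_mem _
      · have h1 : β w0 w0 = 1 := zmod2_eq_one_of_ne_zero _ hw0
        have : (zel : HeisTwo β) = (⟨0, w0⟩ : HeisTwo β) ^ 2 := by
          rw [sq_eq, h1]; rfl
        rw [this]
        exact Cfsg.Agent.Helper63.pow_prime_mem_frattini hP _
  refine ⟨⟨hP, ?_, ?_⟩, ?_⟩
  · rw [hfr, hcen]
  · rw [hcomm, hcen]
  · rw [hcen, card_Zsub]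

/-- The image in `W` of a subgroup, as a subspace. -/
def shadow (A : Subgroup (HeisTwo β)) : Submodule (ZMod 2) W :=
  AddSubgroup.toZModSubmodule 2
    { carrier := {w | ∃ c : ZMod 2, (⟨c, w⟩ : HeisTwo β) ∈ A}
      add_mem' := by
        rintro w w' ⟨c, hc⟩ ⟨c', hc'⟩
        exact ⟨c + c' + β w w', A.mul_mem hc hc'⟩
      zero_mem' := ⟨0, A.one_mem⟩
      neg_mem' := by
        rintro w ⟨c, hc⟩
        rw [ZModModule.neg_eq_self]
        exact ⟨c, hc⟩ }

theorem mem_shadow {A : Subgroup (HeisTwo β)} {w : W} :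
    w ∈ shadow A ↔ ∃ c : ZMod 2, (⟨c, w⟩ : HeisTwo β) ∈ A := Iff.rfl

theorem shadow_polar {A : Subgroup (HeisTwo β)} (hA : IsMulCommutative A) {u u' : W}
    (hu : u ∈ shadow A) (hu' : u' ∈ shadow A) : polar β u u' = 0 := by
  obtain ⟨c, hc⟩ := hu
  obtain ⟨c', hc'⟩ := hu'
  have h := hA.is_comm.comm (⟨_, hc⟩ : A) ⟨_, hc'⟩
  have h2 := congrArg Subtype.val h
  exact (mul_comm_iff _ _).mp h2

theorem shadow_sing {A : Subgroup (HeisTwo β)} (hA : ∀ a ∈ A, a ^ 2 = 1) {u : W}
    (hu : u ∈ shadow A) : β u u = 0 := by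
  obtain ⟨c, hc⟩ := hu
  exact (sq_eq_one_iff _).mp (hA _ hc)

theorem card_le_shadow [Finite W] (A : Subgroup (HeisTwo β)) :
    Nat.card A ≤ 2 * Nat.card (shadow A) := by
  have hinj : Function.Injective (fun a : A => ((a.1.c, (⟨a.1.w, ⟨a.1.c, a.2⟩⟩ : shadow A)) :
      ZMod 2 × shadow A)) := by
    intro a b h
    simp only [Prod.mk.injEq] at h
    exact Subtype.ext (HeisTwo.ext h.1 (congrArg Subtype.val h.2))
  have := Nat.card_le_card_of_injective _ hinj
  rwa [Nat.card_prod, Nat.card_zmod] at this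

theorem polar_nondegenerate (hnd : ∀ w : W, w ≠ 0 → ∃ w', polar β w w' ≠ 0) :
    (polar β).Nondegenerate := by
  constructor
  · intro x hx
    by_contra hne
    obtain ⟨w', hw'⟩ := hnd x hne
    exact hw' (hx w')
  · intro y hy
    by_contra hne
    obtain ⟨w', hw'⟩ := hnd y hne
    apply hw'
    rw [polar_symm]
    exact hy w'

/-- A subspace on which the polar form vanishes has at most half the dimension. -/
theorem finrank_isotropic_le [Finite W] (hnd : ∀ w : W, w ≠ 0 → ∃ w', polar β w w' ≠ 0)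
    (U : Submodule (ZMod 2) W) (hU : ∀ u ∈ U, ∀ u' ∈ U, polar β u u' = 0) :
    2 * Module.finrank (ZMod 2) U ≤ Module.finrank (ZMod 2) W := by
  have hB := polar_nondegenerate hnd
  have hle : U ≤ (polar β).orthogonal U := by
    intro u hu
    rw [LinearMap.BilinForm.mem_orthogonal_iff]
    intro n hn
    exact hU n hn u hu
  have h1 : Module.finrank (ZMod 2) U ≤ Module.finrank (ZMod 2) ((polar β).orthogonal U) :=
    Submodule.finrank_mono hle
  have h2 : Module.finrank (ZMod 2) ((polar β).orthogonal U) =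
      Module.finrank (ZMod 2) W - Module.finrank (ZMod 2) U :=
    LinearMap.BilinForm.finrank_orthogonal hB U
  have h3 : Module.finrank (ZMod 2) U ≤ Module.finrank (ZMod 2) W := Submodule.finrank_le U
  omega

theorem card_submodule [Finite W] (U : Submodule (ZMod 2) W) :
    Nat.card U = 2 ^ Module.finrank (ZMod 2) U := by
  have := Module.natCard_eq_pow_finrank (K := ZMod 2) (V := U)
  rw [this, Nat.card_zmod]

/-- The order bound for abelian subgroups. -/
theorem abelian_bound [Finite W] (hnd : ∀ w : W, w ≠ 0 → ∃ w', polar β w w' ≠ 0)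
    (A : Subgroup (HeisTwo β)) (hA : IsMulCommutative A) {k : ℕ} (hk : Nat.card A = 2 ^ k) :
    2 * k ≤ 2 + Module.finrank (ZMod 2) W := by
  have h1 := card_le_shadow A
  rw [hk, card_submodule, ← pow_succ'] at h1
  have h2 : k ≤ Module.finrank (ZMod 2) (shadow A) + 1 :=
    (Nat.pow_le_pow_iff_right (by norm_num)).mp h1
  have h3 := finrank_isotropic_le hnd (shadow A) fun u hu u' hu' => shadow_polar hA hu hu'
  omega

end HeisTwo

end Cfsg.Agent.Helper89
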