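import Cfsg.Agent.Helper71.PsuA.Defs
import Cfsg.Agent.Helper96.StemSLTwoC
import Cfsg.Agent.S0040
import Cfsg.Agent.S0281
import Cfsg.Agent.S0278
import Cfsg.Agent.Helper5.SLn
import Cfsg.Agent.Helper89.PsuA_AC

/-!
# S2089 block A `p'`-part (helper71's farm), piece (TOWER) `good_tower` — helper89
-/

set_option autoImplicit false

namespace Cfsg.Agent.Helper89.PsuA

open scoped commutatorElement
open Matrix Cfsg.Agent.Helper43.PsuM Cfsg.Agent.Helper37.SU3Inv Cfsg.Agent.Helper71.PsuA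

universe u

section central

variable {Γ G : Type*} [Group Γ] [Group G] [Finite Γ] (τ : Γ →* G) (hτ : Function.Surjective τ)
  (hc : τ.ker ≤ Subgroup.center Γ)

include hτ hc

/-- (TOWER) from `L` to `H = L⟨h₀⟩` when `L / ⁅L, L⁆` has exponent prime to `r`. -/
theorem good_tower (r : ℕ) (hr : r.Prime) (hA : Nat.card τ.ker = r) (L H : Subgroup G)
    (hLH : L ≤ H) (hnorm : ∀ h ∈ H, ∀ l ∈ L, h * l * h⁻¹ ∈ L) (h₀ : G) (hh₀ : h₀ ∈ H)
    (hgen : ∀ h ∈ H, ∃ k : ℕ, ∃ l ∈ L, h = l * h₀ ^ k) (m : ℕ) (hm : ¬ r ∣ m)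
    (hab : ∀ l ∈ L, l ^ m ∈ ⁅L, L⁆) (hL : Good τ L) : Good τ H := by
  unfold Good at hL ⊢
  rw [eq_bot_iff]
  rintro z ⟨hzA, hzH⟩
  rw [Subgroup.mem_bot]
  -- notation
  have hLhHh : L.comap τ ≤ H.comap τ := Subgroup.comap_mono hLH
  obtain ⟨x, hx⟩ := hτ h₀
  have hxH : x ∈ H.comap τ := by rw [Subgroup.mem_comap, hx]; exact hh₀
  -- `Le`, normal in `E := ↥Ĥ`
  have hLen : ((L.comap τ).subgroupOf (H.comap τ)).Normal := by
    refine ⟨fun l hl g => ?_⟩
    rw [Subgroup.mem_subgroupOf] at hl ⊢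
    rw [Subgroup.mem_comap] at hl ⊢
    have := hnorm (τ (g : Γ)) g.2 (τ (l : Γ)) hl
    simpa using this
  -- `N := ⁅Le, Le⁆`, with `N.map subtype = D`
  have hNmap : (⁅(L.comap τ).subgroupOf (H.comap τ), (L.comap τ).subgroupOf (H.comap τ)⁆).map
      (H.comap τ).subtype = ⁅L.comap τ, L.comap τ⁆ := by
    rw [Subgroup.map_commutator, Subgroup.map_subgroupOf_eq_of_le hLhHh]
  -- the quotient
  have hAC := exists_of_mem_commutator
    (Q := ↥(H.comap τ) ⧸ ⁅(L.comap τ).subgroupOf (H.comap τ), (L.comap τ).subgroupOf (H.comap τ)⁆)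
    (((L.comap τ).subgroupOf (H.comap τ)).map (QuotientGroup.mk' _))
    (by
      rintro _ ⟨a, ha, rfl⟩ _ ⟨b, hb, rfl⟩
      have h1 : Commute (QuotientGroup.mk' ⁅(L.comap τ).subgroupOf (H.comap τ),
          (L.comap τ).subgroupOf (H.comap τ)⁆ a) (QuotientGroup.mk' _ b) := by
        rw [← commutatorElement_eq_one_iff_commute, ← map_commutatorElement, QuotientGroup.mk'_apply,
          QuotientGroup.eq_one_iff]
        exact Subgroup.commutator_mem_commutator ha hb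
      exact h1.eq)
    (QuotientGroup.mk' _ ⟨x, hxH⟩)
    (by
      rintro _ ⟨a, ha, rfl⟩
      rw [← map_inv, ← map_mul, ← map_mul]
      exact Subgroup.mem_map_of_mem _ (hLen.conj_mem a ha _))
    (by
      rintro _ ⟨a, ha, rfl⟩
      rw [← map_inv, ← map_mul, ← map_mul]
      have := hLen.conj_mem a ha (⟨x, hxH⟩ : ↥(H.comap τ))⁻¹
      rw [inv_inv] at this
      exact Subgroup.mem_map_of_mem _ this)
    (by
      intro q
      obtain ⟨g, rfl⟩ := QuotientGroup.mk'_surjective _ q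
      obtain ⟨k, l, hl, hgl⟩ := hgen (τ (g : Γ)) g.2
      refine ⟨QuotientGroup.mk' _ (g * (⟨x, hxH⟩ : ↥(H.comap τ))⁻¹ ^ k), ?_, (k : ℤ), ?_⟩
      · apply Subgroup.mem_map_of_mem
        rw [Subgroup.mem_subgroupOf, Subgroup.mem_comap]
        have h1 : τ ((g * (⟨x, hxH⟩ : ↥(H.comap τ))⁻¹ ^ k : ↥(H.comap τ)) : Γ) =
            τ (g : Γ) * (h₀ ^ k)⁻¹ := by
          simp [hx]
        rw [h1, hgl, mul_inv_cancel_right]
        exact hl
      · rw [zpow_natCast, ← map_pow, ← map_mul, inv_pow, inv_mul_cancel_right])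
  -- `z` as an element of `commutator E`
  have hzH' : z ∈ (commutator ↥(H.comap τ)).map (H.comap τ).subtype := by
    rw [Subgroup.map_subtype_commutator]
    exact hzH
  obtain ⟨e, he, hez⟩ := hzH'
  have hπe : QuotientGroup.mk' ⁅(L.comap τ).subgroupOf (H.comap τ),
      (L.comap τ).subgroupOf (H.comap τ)⁆ e ∈ commutator _ := by
    have h1 : (commutator ↥(H.comap τ)).map (QuotientGroup.mk' ⁅(L.comap τ).subgroupOf (H.comap τ),
        (L.comap τ).subgroupOf (H.comap τ)⁆) ≤ commutator _ := by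
      rw [commutator_def, Subgroup.map_commutator, commutator_def]
      exact Subgroup.commutator_mono le_top le_top
    exact h1 (Subgroup.mem_map_of_mem _ he)
  obtain ⟨_, ⟨y, hy, rfl⟩, hey⟩ := hAC _ hπe
  -- `(π e) ^ m = 1`
  have hym : ∃ a : ↥(H.comap τ), (a : Γ) ∈ τ.ker ∧
      QuotientGroup.mk' ⁅(L.comap τ).subgroupOf (H.comap τ),
        (L.comap τ).subgroupOf (H.comap τ)⁆ (y ^ m) = QuotientGroup.mk' _ a := by
    have hyL : τ (y : Γ) ∈ L := Subgroup.mem_comap.mp (Subgroup.mem_subgroupOf.mp hy)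
    have h1 : τ ((y : Γ) ^ m) ∈ ⁅L, L⁆ := by rw [map_pow]; exact hab _ hyL
    have h2 : ⁅L, L⁆ = (⁅L.comap τ, L.comap τ⁆).map τ := by
      rw [Subgroup.map_commutator, Subgroup.map_comap_eq_self_of_surjective hτ]
    rw [h2, ← hNmap] at h1
    obtain ⟨_, ⟨n, hn, rfl⟩, hd⟩ := h1
    have hker : ((n⁻¹ * y ^ m : ↥(H.comap τ)) : Γ) ∈ τ.ker := by
      rw [MonoidHom.mem_ker]
      simp only [Subgroup.coe_mul, Subgroup.coe_inv, Subgroup.coe_pow, map_mul, map_inv, map_pow]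
      simp only [Subgroup.coe_subtype, map_pow] at hd
      rw [hd, inv_mul_cancel]
    refine ⟨n⁻¹ * y ^ m, hker, ?_⟩
    rw [map_mul, map_inv]
    have : QuotientGroup.mk' ⁅(L.comap τ).subgroupOf (H.comap τ),
        (L.comap τ).subgroupOf (H.comap τ)⁆ n = 1 := by
      rw [QuotientGroup.mk'_apply, QuotientGroup.eq_one_iff]
      exact hn
    rw [this, inv_one, one_mul]
  obtain ⟨a, haker, hya⟩ := hym
  have hacen : ∀ g : ↥(H.comap τ), g * a = a * g := by
    intro g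
    apply Subtype.ext
    have := Subgroup.mem_center_iff.mp (hc haker) (g : Γ)
    simpa using this
  have hπem : (QuotientGroup.mk' ⁅(L.comap τ).subgroupOf (H.comap τ),
      (L.comap τ).subgroupOf (H.comap τ)⁆ e) ^ m = 1 := by
    rw [hey]
    have hcomm : Commute
        (QuotientGroup.mk' ⁅(L.comap τ).subgroupOf (H.comap τ), (L.comap τ).subgroupOf (H.comap τ)⁆
          ⟨x, hxH⟩ * QuotientGroup.mk' _ y * (QuotientGroup.mk' _ ⟨x, hxH⟩)⁻¹)
        (QuotientGroup.mk' _ y)⁻¹ := by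
      rw [← map_inv, ← map_mul, ← map_mul, ← map_inv]
      rw [← commutatorElement_eq_one_iff_commute, ← map_commutatorElement, QuotientGroup.mk'_apply,
        QuotientGroup.eq_one_iff]
      exact Subgroup.commutator_mem_commutator (hLen.conj_mem y hy _) (inv_mem hy)
    rw [hcomm.mul_pow, conj_pow, inv_pow, ← map_pow, hya]
    simp only [← map_inv, ← map_mul]
    have h1 : (⟨x, hxH⟩ : ↥(H.comap τ)) * a * (⟨x, hxH⟩ : ↥(H.comap τ))⁻¹ * a⁻¹ = 1 := by
      rw [hacen, mul_inv_cancel_right, mul_inv_cancel]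
    rw [h1, map_one]
  -- `z ^ m ∈ D ⊓ A`
  have hzm : z ^ m = 1 := by
    rw [← map_pow, QuotientGroup.mk'_apply, QuotientGroup.eq_one_iff] at hπem
    have h1 : ((e ^ m : ↥(H.comap τ)) : Γ) ∈ ⁅L.comap τ, L.comap τ⁆ := by
      rw [← hNmap]
      exact Subgroup.mem_map_of_mem _ hπem
    have h2 : ((e ^ m : ↥(H.comap τ)) : Γ) = z ^ m := by
      rw [Subgroup.coe_pow]
      congr 1
    rw [h2] at h1
    have h3 : z ^ m ∈ τ.ker ⊓ ⁅L.comap τ, L.comap τ⁆ := ⟨pow_mem hzA m, h1⟩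
    rw [hL] at h3
    exact Subgroup.mem_bot.mp h3
  have hzr : z ^ r = 1 := by
    have h1 : (⟨z, hzA⟩ : τ.ker) ^ Nat.card τ.ker = 1 := pow_card_eq_one'
    rw [hA] at h1
    exact congrArg Subtype.val h1
  have hcop : Nat.Coprime r m := (Nat.Prime.coprime_iff_not_dvd hr).mpr hm
  have h1 : orderOf z ∣ Nat.gcd r m :=
    Nat.dvd_gcd (orderOf_dvd_of_pow_eq_one hzr) (orderOf_dvd_of_pow_eq_one hzm)
  rw [hcop.gcd_eq_one, Nat.dvd_one, orderOf_eq_one_iff] at h1
  exact h1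

end central

end Cfsg.Agent.Helper89.PsuA
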