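import Mathlib
import Cfsg.Agent.Helper77.Blk.Defs

/-!
# S3888 (Blackburn) piece (RK) `mem_of_rank` — helper89 for helper77
-/

set_option autoImplicit false

universe u

namespace Cfsg.Agent.Helper89.Blk

open Subgroup Cfsg.Agent.Helper77.Blk

section setup
variable {G : Type u} [Group G] [Finite G] {p : ℕ} [hp : Fact p.Prime]

/-- (RK) rank `≤ 2`: an element of order `≤ p` centralizing `E` (`|E| = p^2`, exponent `p`) lies in `E`
(`E ⊔ ⟨c⟩` is abelian of exponent `p`, so has order `≤ p^2`). -/
theorem mem_of_rank (hrk : Cfsg.PRankLE p 2 G) (E : Subgroup G) (hEcard : Nat.card E = p ^ 2)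
    (hEexp : ∀ e ∈ E, e ^ p = 1) (c : G) (hc : c ∈ centralizer (E : Set G)) (hcp : c ^ p = 1) : c ∈ E := by
  classical
  -- `E` is commutative (order `p^2`)
  have hEcomm : ∀ a ∈ E, ∀ b ∈ E, a * b = b * a := by
    intro a ha b hb
    have h := (IsPGroup.isMulCommutative_of_card_eq_prime_sq (p := p) (G := E) hEcard).is_comm.comm
      (⟨a, ha⟩ : E) ⟨b, hb⟩
    exact congrArg Subtype.val h
  set S : Set G := (E : Set G) ∪ {c} with hS
  have hScomm : ∀ x ∈ S, ∀ y ∈ S, x * y = y * x := by
    intro x hx y hy
    rcases hx with hx | hx <;> rcases hy with hy | hy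
    · exact hEcomm x hx y hy
    · rw [Set.mem_singleton_iff] at hy
      subst hy
      exact (mem_centralizer_iff.mp hc x hx)
    · rw [Set.mem_singleton_iff] at hx
      subst hx
      exact (mem_centralizer_iff.mp hc y hy).symm
    · rw [Set.mem_singleton_iff] at hx hy
      rw [hx, hy]
  have hAcomm : IsMulCommutative (closure S) := Subgroup.isMulCommutative_closure hScomm
  have hAexp : ∀ a ∈ closure S, a ^ p = 1 := by
    intro a ha
    induction ha using Subgroup.closure_induction with
    | mem x hx =>
      rcases hx with hx | hx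
      · exact hEexp x hx
      · rw [Set.mem_singleton_iff] at hx
        rw [hx]; exact hcp
    | one => exact one_pow p
    | mul x y hx hy ihx ihy =>
      have hxy : Commute x y := by
        have := hAcomm.is_comm.comm (⟨x, hx⟩ : closure S) ⟨y, hy⟩
        exact congrArg Subtype.val this
      rw [hxy.mul_pow, ihx, ihy, one_mul]
    | inv x hx ihx => rw [inv_pow, ihx, inv_one]
  have hle : Nat.card (closure S) ≤ p ^ 2 := hrk (closure S) hAcomm hAexp
  have hEle : E ≤ closure S := by
    intro e he
    exact subset_closure (Or.inl he)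
  have hEeq : E = closure S := by
    apply Subgroup.eq_of_le_of_card_ge hEle
    rw [hEcard]; exact hle
  have : c ∈ closure S := subset_closure (Or.inr rfl)
  rw [hEeq]; exact this

end setup

end Cfsg.Agent.Helper89.Blk
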