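import Mathlib
import Cfsg.Agent.Helper81.RO2
import Cfsg.Agent.Helper81.RealN1
import Cfsg.Agent.Helper74.RestrictIrr
import Cfsg.Agent.Helper82.OddIndexReal

/-!
# WANTED #3363 (K1) (helper81, for S4581): `realOdd_ker`

A real-valued irreducible character of odd degree has every normal subgroup of odd order in its
kernel.
-/

set_option autoImplicit false
set_option linter.unusedSectionVars false

namespace Cfsg.Agent.Helper89.ROK1

open Cfsg Cfsg.Agent.Helper15 Cfsg.Agent.Helper81 Cfsg.Agent.Helper81.RO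
open scoped ComplexConjugate

universe u

/-- If the restriction of an irreducible character `χ` to the normal subgroup `M` contains the
principal character, then `M` is in the kernel of `χ`. -/
theorem ker_of_trivial_constituent {G : Type u} [Group G] [Fintype G] {χ : G → ℂ}
    (hχ : IsIrrCharacter G χ) (M : Subgroup G) [hMn : M.Normal] [Fintype M] {θ : M → ℂ}
    (hθ : IsIrrCharacter M θ) (hθ1 : ∀ m : M, θ m = 1)
    (hcon : classInner (fun m : M => χ m) θ ≠ 0) : ∀ m ∈ M, χ m = χ 1 := by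
  classical
  have hcl := clifford_restrict M hχ hθ hcon
  have hconst : ∀ φ ∈ conjOrbit M θ, ∀ m : M, φ m = 1 := by
    intro φ hφ m
    obtain ⟨g, rfl⟩ := (mem_conjOrbit M).mp hφ
    rw [conjFun_apply]
    exact hθ1 _
  have hval : ∀ m : M, χ m = classInner (fun m : M => χ m) θ * ((conjOrbit M θ).card : ℂ) := by
    intro m
    have h1 := congrFun hcl m
    simp only [Pi.smul_apply, Finset.sum_apply, smul_eq_mul] at h1
    rw [h1]
    congr 1
    rw [Finset.sum_congr rfl (fun φ hφ => hconst φ hφ m)]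
    simp
  intro m hm
  have h1 := hval ⟨m, hm⟩
  have h2 := hval 1
  simp only at h1
  rw [h1]
  exact h2.symm

theorem realOdd_ker {G : Type u} [Group G] [Fintype G] {χ : G → ℂ} (hχ : IsIrrCharacter G χ)
    (hro : RealOdd χ) (M : Subgroup G) [M.Normal] (hM : (Nat.card M).Coprime 2) :
    ∀ m ∈ M, χ m = χ 1 := by
  classical
  haveI : Fintype M := Fintype.ofFinite M
  obtain ⟨hreal, hodd⟩ := hro
  have hχc : IsCharacter G χ := Helper74.isCharacter_of_isIrr hχ
  have hres : IsCharacter M (fun m : M => χ m) := Helper74.isCharacter_restrict M hχc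
  have h1 : (fun m : M => χ m) 1 ≠ 0 := Helper80.IsIrrCharacter.map_one_ne_zero hχ
  obtain ⟨θ₀, hθ₀⟩ := exists_irr_constituent hres h1
  -- the orbit of `θ₀` has odd size
  have hcard : Odd (conjOrbit M (θ₀ : M → ℂ)).card := by
    obtain ⟨e, -, hdeg, -⟩ := Helper74.clifford_degree_data M hχ θ₀.2 hθ₀
    have hθ₀c : IsCharacter M (θ₀ : M → ℂ) := Helper74.irr_isCharacter θ₀
    rw [← Helper74.charDegree_cast hχc, ← Helper74.charDegree_cast hθ₀c] at hdeg
    have hdeg' : charDegree χ
        = (e * (conjOrbit M (θ₀ : M → ℂ)).card) * charDegree (θ₀ : M → ℂ) := by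
      exact_mod_cast hdeg
    have hdvd : (conjOrbit M (θ₀ : M → ℂ)).card ∣ charDegree χ := by
      rw [hdeg']
      exact Dvd.dvd.mul_right (Dvd.intro_left e rfl) _
    exact Odd.of_dvd_nat hodd hdvd
  have hχcf : IsClassFunction G χ := Helper74.isClassFunction_of_isCharacter hχc
  have hover : ∀ φ ∈ conjOrbit M (θ₀ : M → ℂ),
      classInner (fun m : M => χ m) φ ≠ 0 := by
    intro φ hφ
    obtain ⟨g, rfl⟩ := (mem_conjOrbit M).mp hφ
    rw [classInner_restrict_conjFun M hχcf]
    exact hθ₀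
  have hmem : ∀ φ ∈ conjOrbit M (θ₀ : M → ℂ),
      (fun m => conj (φ m)) ∈ conjOrbit M (θ₀ : M → ℂ) := by
    intro φ hφ
    have hφirr := isIrrCharacter_of_mem_conjOrbit M θ₀.2 hφ
    have hcc : classInner (fun m : M => χ m) (fun m => conj (φ m)) ≠ 0 := by
      have h2 := classInner_conj_conj (fun m : M => χ m) φ
      have h3 : (fun m : M => conj (χ m)) = fun m : M => χ m :=
        funext fun m => hreal m
      rw [h3] at h2
      rw [h2]
      intro h0
      exact hover φ hφ ((map_eq_zero _).mp h0)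
    obtain ⟨g, hg⟩ := exists_conj_of_constituents M hχ θ₀.2 (isIrrCharacter_conj hφirr) hθ₀ hcc
    exact (mem_conjOrbit M).mpr ⟨g, hg⟩
  let f : Function.End (conjOrbit M (θ₀ : M → ℂ)) :=
    fun φ => ⟨fun m => conj (φ.1 m), hmem φ.1 φ.2⟩
  have hf : f ^ 2 ^ 1 = 1 := by
    funext φ
    apply Subtype.ext
    funext m
    show conj (conj (φ.1 m)) = φ.1 m
    simp
  have hmod := Equiv.Perm.card_fixedPoints_modEq (p := 2) (n := 1) hf
  rw [Fintype.card_coe] at hmod
  have hne : Fintype.card (Function.fixedPoints f) ≠ 0 := by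
    intro h0
    rw [h0] at hmod
    have h5 : (conjOrbit M (θ₀ : M → ℂ)).card % 2 = 1 := Nat.odd_iff.mp hcard
    have h6 : (conjOrbit M (θ₀ : M → ℂ)).card % 2 = 0 % 2 := hmod
    omega
  obtain ⟨⟨φ, hφfix⟩⟩ := Fintype.card_pos_iff.mp (Nat.pos_of_ne_zero hne)
  have hφirr := isIrrCharacter_of_mem_conjOrbit M θ₀.2 φ.2
  have hφreal : ∀ m : M, conj (φ.1 m) = φ.1 m := by
    intro m
    have h7 : f φ = φ := hφfix
    have h8 := congrArg (fun ψ : conjOrbit M (θ₀ : M → ℂ) => ψ.1 m) h7
    exact h8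
  -- `φ` is principal since `|M|` is odd
  have hModd : Odd (Nat.card M) := by
    rcases Nat.even_or_odd (Nat.card M) with h | h
    · exfalso
      have h2 : 2 ∣ Nat.gcd (Nat.card M) 2 := Nat.dvd_gcd h.two_dvd (dvd_refl 2)
      rw [hM] at h2
      omega
    · exact h
  have hφ1 : ∀ m : M, φ.1 m = 1 := by
    intro m
    refine Helper82.eq_one_of_real_of_odd_card hModd ⟨φ.1, hφirr⟩ (fun q => ?_) m
    exact Complex.conj_eq_iff_im.mp (hφreal q)
  exact ker_of_trivial_constituent hχ M hφirr hφ1 (hover φ.1 φ.2)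

end Cfsg.Agent.Helper89.ROK1
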