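import Mathlib
import Cfsg.Agent.Helper77.Blk.Defs
import Cfsg.Agent.S0126

/-!
# S3888 (Blackburn) piece (BII) `beta_caseII_struct` — helper89 (hedge) for helper77
-/

set_option autoImplicit false

universe u

namespace Cfsg.Agent.Helper89.Blk

open Subgroup Cfsg.Agent.Helper77.Blk

section beta
variable {G : Type u} [Group G] [Finite G] {p : ℕ} [hp : Fact p.Prime]

omit [Finite G] in
/-- `E` of order `p^2` lies in its centralizer -/
theorem BII_le_centralizer (E : Subgroup G) (hEcard : Nat.card E = p ^ 2) :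
    E ≤ centralizer (E : Set G) := by
  intro e he
  rw [mem_centralizer_iff]
  intro a ha
  have h := (IsPGroup.isMulCommutative_of_card_eq_prime_sq (p := p) (G := E) hEcard).is_comm.comm
    (⟨a, ha⟩ : E) ⟨e, he⟩
  exact congrArg Subtype.val h

/-- Step A: `C_G(E)/E` is cyclic. -/
theorem BII_cyclic (hp2 : p ≠ 2) (hG : IsPGroup p G) (E : Subgroup G) [E.Normal]
    (hEcard : Nat.card E = p ^ 2) (hEexp : ∀ e ∈ E, e ^ p = 1)
    (hCE : ∀ c ∈ centralizer (E : Set G), c ^ p = 1 → c ∈ E)
    (hK2 : PropK2.{u} p)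
    (x : G) (hxC : x ∉ centralizer (E : Set G)) (hACT : TransvAct E x)
    (hII : ∀ u ∈ centralizer (E : Set G), u ^ p ∈ E → x⁻¹ * u ^ p * x = u ^ p) :
    IsCyclic (↥(centralizer (E : Set G)) ⧸ E.subgroupOf (centralizer (E : Set G))) := by
  classical
  have hpp : p.Prime := hp.out
  have hEC : E ≤ centralizer (E : Set G) := BII_le_centralizer E hEcard
  have hCp : IsPGroup p ↥(centralizer (E : Set G)) := hG.to_subgroup _
  have hPC : PCentral p ↥(centralizer (E : Set G)) := by
    intro c hc
    have hcE : (c : G) ∈ E := by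
      apply hCE c c.2
      have := congrArg Subtype.val hc
      simpa using this
    rw [Subgroup.mem_center_iff]
    intro d
    apply Subtype.ext
    have := mem_centralizer_iff.mp d.2 (c : G) hcE
    simpa using this.symm
  have hmul : ∀ u v : ↥(centralizer (E : Set G)), (u : G) ^ p ∈ E → (v : G) ^ p ∈ E →
      ((u * v : ↥(centralizer (E : Set G))) : G) ^ p = (u : G) ^ p * (v : G) ^ p := by
    intro u v hu hv
    have h1 : (u ^ p) ^ p = 1 := by
      apply Subtype.ext
      simpa using hEexp _ hu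
    have h2 : (v ^ p) ^ p = 1 := by
      apply Subtype.ext
      simpa using hEexp _ hv
    have := hK2 ↥(centralizer (E : Set G)) hCp hPC u v h1 h2
    have := congrArg Subtype.val this
    simpa using this
  obtain ⟨e2, he2, hne2⟩ : ∃ e2 ∈ E, x⁻¹ * e2 * x ≠ e2 := by
    by_contra hcon
    push Not at hcon
    apply hxC
    rw [mem_centralizer_iff]
    intro e he
    have h := hcon e he
    calc e * x = x * (x⁻¹ * e * x) := by group
      _ = x * e := by rw [h]
  obtain ⟨-, hfix, -⟩ := hACT e2 he2 hne2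
  have he1E : e2⁻¹ * (x⁻¹ * e2 * x) ∈ E := by
    apply E.mul_mem (E.inv_mem he2)
    have := (inferInstance : E.Normal).conj_mem e2 he2 x⁻¹
    simpa using this
  have he1p : (e2⁻¹ * (x⁻¹ * e2 * x)) ^ p = 1 := hEexp _ he1E
  have hZ1 : Nat.card (zpowers (e2⁻¹ * (x⁻¹ * e2 * x))) ≤ p := by
    rw [Nat.card_zpowers]
    exact orderOf_le_of_pow_eq_one hpp.pos he1p
  have hE'card : Nat.card (E.subgroupOf (centralizer (E : Set G))) = p ^ 2 := by
    rw [← hEcard]
    exact Nat.card_congr (Subgroup.subgroupOfEquivOfLe hEC).toEquiv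
  by_contra hnc
  obtain ⟨A, -, ⟨-, hAexp⟩, hAcard⟩ :=
    Cfsg.Agent.S0126.result hp2 (hCp.to_quotient (E.subgroupOf (centralizer (E : Set G)))) hnc
  have hTp : ∀ t ∈ A.comap (QuotientGroup.mk' (E.subgroupOf (centralizer (E : Set G)))),
      ((t : ↥(centralizer (E : Set G))) : G) ^ p ∈ E := by
    intro t ht
    have h1 : (QuotientGroup.mk' (E.subgroupOf (centralizer (E : Set G))) t) ^ p = 1 := hAexp _ ht
    have h2 : (QuotientGroup.mk' (E.subgroupOf (centralizer (E : Set G))) (t ^ p)) = 1 := by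
      rw [map_pow]; exact h1
    have h3 : t ^ p ∈ E.subgroupOf (centralizer (E : Set G)) := by
      rwa [QuotientGroup.mk'_apply, QuotientGroup.eq_one_iff] at h2
    have h4 := Subgroup.mem_subgroupOf.mp h3
    simpa using h4
  let π : ↥(A.comap (QuotientGroup.mk' (E.subgroupOf (centralizer (E : Set G))))) →* G :=
    MonoidHom.mk' (fun t => ((t : ↥(centralizer (E : Set G))) : G) ^ p) (by
      intro a b
      have := hmul (a : ↥(centralizer (E : Set G))) (b : ↥(centralizer (E : Set G)))
        (hTp a a.2) (hTp b b.2)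
      simpa using this)
  have hπ : ∀ t, π t = ((t : ↥(centralizer (E : Set G))) : G) ^ p := fun t => rfl
  have hrange : π.range ≤ zpowers (e2⁻¹ * (x⁻¹ * e2 * x)) := by
    rintro _ ⟨t, rfl⟩
    rw [hπ]
    exact hfix _ (hTp t t.2) (hII _ (t : ↥(centralizer (E : Set G))).2 (hTp t t.2))
  have hker : Nat.card π.ker ≤ p ^ 2 := by
    rw [← hEcard]
    have hmem : ∀ k : π.ker, ((((k : ↥(A.comap (QuotientGroup.mk'
        (E.subgroupOf (centralizer (E : Set G)))))) : ↥(centralizer (E : Set G))) : G)) ∈ E := by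
      intro k
      apply hCE _ ((k : ↥(A.comap (QuotientGroup.mk'
        (E.subgroupOf (centralizer (E : Set G)))))) : ↥(centralizer (E : Set G))).2
      have := MonoidHom.mem_ker.mp k.2
      rwa [hπ] at this
    apply Nat.card_le_card_of_injective (fun k : π.ker => (⟨_, hmem k⟩ : E))
    intro a b hab
    have this := Subtype.mk.inj hab
    exact Subtype.ext (Subtype.ext (Subtype.ext this))
  have hTidx : (A.comap (QuotientGroup.mk' (E.subgroupOf (centralizer (E : Set G))))).index
      = A.index :=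
    Subgroup.index_comap_of_surjective A (QuotientGroup.mk'_surjective _)
  have h1 := Subgroup.card_mul_index (A.comap (QuotientGroup.mk' (E.subgroupOf (centralizer (E : Set G)))))
  have h2 := Subgroup.card_mul_index A
  have h3 := Subgroup.card_eq_card_quotient_mul_card_subgroup (E.subgroupOf (centralizer (E : Set G)))
  have hAi : A.index ≠ 0 := Subgroup.index_ne_zero_of_finite
  have hTcard : Nat.card (A.comap (QuotientGroup.mk' (E.subgroupOf (centralizer (E : Set G)))))
      = p ^ 2 * p ^ 2 := by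
    have : Nat.card (A.comap (QuotientGroup.mk' (E.subgroupOf (centralizer (E : Set G)))))
        * A.index = (p ^ 2 * p ^ 2) * A.index := by
      rw [← hTidx, h1, h3, ← h2, hAcard, hE'card, hTidx]; ring
    exact Nat.eq_of_mul_eq_mul_right (Nat.pos_of_ne_zero hAi) this
  have h4 := Subgroup.card_mul_index π.ker
  have h5 : π.ker.index = Nat.card π.range := Subgroup.index_ker π
  have h6 : Nat.card π.range ≤ p := le_trans (Subgroup.card_le_of_le hrange) hZ1
  have h7 : p ^ 2 * p ^ 2 ≤ p ^ 2 * p := by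
    rw [← hTcard, ← h4, h5]
    exact Nat.mul_le_mul hker h6
  have h8 : p ^ 2 ≤ p := Nat.le_of_mul_le_mul_left h7 (by have := hpp.pos; positivity)
  have hp2' : 2 ≤ p := hpp.two_le
  nlinarith

/-- Step B: structure of `C = C_G(E)` from cyclicity of `C/E`. -/
theorem BII_of_cyclic (hG : IsPGroup p G) (E : Subgroup G) [E.Normal]
    (hEcard : Nat.card E = p ^ 2) (hEexp : ∀ e ∈ E, e ^ p = 1)
    (hCE : ∀ c ∈ centralizer (E : Set G), c ^ p = 1 → c ∈ E)
    (hcyc : IsCyclic (↥(centralizer (E : Set G)) ⧸ E.subgroupOf (centralizer (E : Set G)))) :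
    ∃ (m : ℕ) (z y : G), 1 ≤ m ∧ z * y = y * z ∧ orderOf z = p ^ m ∧ y ^ p = 1 ∧ y ∉ zpowers z ∧
      centralizer (E : Set G) = closure {z, y} ∧ Nat.card (centralizer (E : Set G)) = p ^ (m + 1) := by
  classical
  have hpp : p.Prime := hp.out
  have hEC : E ≤ centralizer (E : Set G) := BII_le_centralizer E hEcard
  have hE'card : Nat.card (E.subgroupOf (centralizer (E : Set G))) = p ^ 2 := by
    rw [← hEcard]
    exact Nat.card_congr (Subgroup.subgroupOfEquivOfLe hEC).toEquiv
  obtain ⟨gq, hgq⟩ := hcyc.exists_generator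
  obtain ⟨z1, rfl⟩ := QuotientGroup.mk'_surjective (E.subgroupOf (centralizer (E : Set G))) gq
  -- choose `z ≠ 1` whose image generates the quotient
  obtain ⟨z, hzne, hzgen⟩ : ∃ z : ↥(centralizer (E : Set G)), z ≠ 1 ∧
      ∀ q : ↥(centralizer (E : Set G)) ⧸ E.subgroupOf (centralizer (E : Set G)),
        q ∈ zpowers (QuotientGroup.mk' (E.subgroupOf (centralizer (E : Set G))) z) := by
    by_cases h1 : z1 ∈ E.subgroupOf (centralizer (E : Set G))
    · have hq1 : QuotientGroup.mk' (E.subgroupOf (centralizer (E : Set G))) z1 = 1 := by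
        rwa [QuotientGroup.mk'_apply, QuotientGroup.eq_one_iff]
      have hnt : Nontrivial (E.subgroupOf (centralizer (E : Set G))) := by
        have : 1 < Nat.card (E.subgroupOf (centralizer (E : Set G))) := by
          rw [hE'card]; exact Nat.one_lt_pow (by norm_num) hpp.one_lt
        exact (Finite.one_lt_card_iff_nontrivial).mp this
      obtain ⟨e, he⟩ := exists_ne (1 : E.subgroupOf (centralizer (E : Set G)))
      refine ⟨(e : ↥(centralizer (E : Set G))), ?_, ?_⟩
      · intro h; apply he; exact Subtype.ext h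
      · intro q
        have hq := hgq q
        rw [hq1, zpowers_one_eq_bot, mem_bot] at hq
        rw [hq]; exact one_mem _
    · refine ⟨z1, ?_, hgq⟩
      rintro rfl; exact h1 (one_mem _)
  obtain ⟨m, hm⟩ := IsPGroup.iff_orderOf.mp hG (z : G)
  have hm1 : 1 ≤ m := by
    rcases Nat.eq_zero_or_pos m with h0 | h0
    · exfalso
      rw [h0, pow_zero, orderOf_eq_one_iff] at hm
      exact hzne (Subtype.ext hm)
    · exact h0
  have hmm : m = (m - 1) + 1 := by omega
  -- `z0 = z^(p^(m-1))` has order `p` and lies in `E`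
  have hz0p : ((z : G) ^ p ^ (m - 1)) ^ p = 1 := by
    rw [← pow_mul, ← pow_succ, ← hmm, ← hm]; exact pow_orderOf_eq_one _
  have hz0C : (z : G) ^ p ^ (m - 1) ∈ centralizer (E : Set G) := pow_mem z.2 _
  have hz0E : (z : G) ^ p ^ (m - 1) ∈ E := hCE _ hz0C hz0p
  have hz0ord : orderOf ((z : G) ^ p ^ (m - 1)) = p := by
    rw [orderOf_pow_of_dvd (pow_ne_zero _ hpp.ne_zero) (by rw [hm]; exact pow_dvd_pow p (Nat.sub_le m 1)),
      hm, Nat.pow_div (Nat.sub_le m 1) hpp.pos]
    have : m - (m - 1) = 1 := by omega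
    rw [this, pow_one]
  -- key equivalence
  have hkey : ∀ k : ℕ, (z : G) ^ k ∈ E → p ^ (m - 1) ∣ k := by
    intro k hk
    have h1 : ((z : G) ^ k) ^ p = 1 := hEexp _ hk
    rw [← pow_mul] at h1
    have h2 : p ^ m ∣ k * p := by rw [← hm]; exact orderOf_dvd_of_pow_eq_one h1
    rw [hmm, pow_succ] at h2
    exact Nat.dvd_of_mul_dvd_mul_right hpp.pos h2
  -- order of the image of `z`
  have hordq : orderOf (QuotientGroup.mk' (E.subgroupOf (centralizer (E : Set G))) z) = p ^ (m - 1) := by
    apply Nat.dvd_antisymm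
    · apply orderOf_dvd_of_pow_eq_one
      rw [← map_pow, QuotientGroup.mk'_apply, QuotientGroup.eq_one_iff, Subgroup.mem_subgroupOf]
      simpa using hz0E
    · apply hkey
      have h1 := pow_orderOf_eq_one (QuotientGroup.mk' (E.subgroupOf (centralizer (E : Set G))) z)
      rw [← map_pow, QuotientGroup.mk'_apply, QuotientGroup.eq_one_iff, Subgroup.mem_subgroupOf] at h1
      simpa using h1
  have hQcard : Nat.card (↥(centralizer (E : Set G)) ⧸ E.subgroupOf (centralizer (E : Set G)))
      = p ^ (m - 1) := by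
    rw [← hordq]; exact (orderOf_eq_card_of_forall_mem_zpowers hzgen).symm
  have hCcard : Nat.card (centralizer (E : Set G)) = p ^ (m + 1) := by
    rw [Subgroup.card_eq_card_quotient_mul_card_subgroup (E.subgroupOf (centralizer (E : Set G))),
      hQcard, hE'card, ← pow_add]
    congr 1; omega
  -- choose `y`
  have hZ0card : Nat.card (zpowers ((z : G) ^ p ^ (m - 1))) = p := by
    rw [Nat.card_zpowers, hz0ord]
  obtain ⟨y, hyE, hyz0⟩ : ∃ y ∈ E, y ∉ zpowers ((z : G) ^ p ^ (m - 1)) := by
    by_contra hcon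
    push Not at hcon
    have hle : E ≤ zpowers ((z : G) ^ p ^ (m - 1)) := hcon
    have := Subgroup.card_le_of_le hle
    rw [hEcard, hZ0card] at this
    have hp2' : 2 ≤ p := hpp.two_le
    nlinarith
  have hyz : y ∉ zpowers (z : G) := by
    intro hy
    rw [← mem_powers_iff_mem_zpowers, Submonoid.mem_powers_iff] at hy
    obtain ⟨k, hk⟩ := hy
    have hkE : (z : G) ^ k ∈ E := by rw [hk]; exact hyE
    obtain ⟨j, rfl⟩ := hkey k hkE
    apply hyz0
    rw [← hk, pow_mul]
    exact pow_mem (mem_zpowers _) _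
  have hzy : (z : G) * y = y * (z : G) := (mem_centralizer_iff.mp z.2 y hyE).symm
  -- `E ≤ closure {z, y}`
  have hEK : E ≤ closure ({(z : G), y} : Set G) := by
    have hz0K : (z : G) ^ p ^ (m - 1) ∈ closure ({(z : G), y} : Set G) :=
      pow_mem (subset_closure (by simp)) _
    have hyK : y ∈ closure ({(z : G), y} : Set G) := subset_closure (by simp)
    have hdvd : Nat.card ↥(closure ({(z : G), y} : Set G) ⊓ E) ∣ p ^ 2 := by
      rw [← hEcard]; exact Subgroup.card_dvd_of_le inf_le_right
    obtain ⟨k, hk2, hk⟩ := (Nat.dvd_prime_pow hpp).mp hdvd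
    have hZle : zpowers ((z : G) ^ p ^ (m - 1)) ≤ closure ({(z : G), y} : Set G) ⊓ E := by
      rw [zpowers_le]; exact ⟨hz0K, hz0E⟩
    have hk1 : k ≠ 0 ∧ k ≠ 1 := by
      constructor
      · rintro rfl
        have := Subgroup.card_le_of_le hZle
        rw [hZ0card, hk, pow_zero] at this
        have := hpp.two_le; omega
      · rintro rfl
        have heq : zpowers ((z : G) ^ p ^ (m - 1)) = closure ({(z : G), y} : Set G) ⊓ E := by
          apply Subgroup.eq_of_le_of_card_ge hZle
          rw [hZ0card, hk, pow_one]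
        apply hyz0
        rw [heq]; exact ⟨hyK, hyE⟩
    have hk2' : k = 2 := by omega
    have heq : closure ({(z : G), y} : Set G) ⊓ E = E := by
      apply Subgroup.eq_of_le_of_card_ge inf_le_right
      rw [hk, hk2', hEcard]
    intro e he
    have h : e ∈ closure ({(z : G), y} : Set G) ⊓ E := by rw [heq]; exact he
    exact h.1
  have hCK : centralizer (E : Set G) = closure ({(z : G), y} : Set G) := by
    apply le_antisymm
    · intro c hc
      obtain ⟨k, hk⟩ := Subgroup.mem_zpowers_iff.mp (hzgen (QuotientGroup.mk'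
        (E.subgroupOf (centralizer (E : Set G))) ⟨c, hc⟩))
      rw [← map_zpow, QuotientGroup.mk'_apply, QuotientGroup.mk'_apply, QuotientGroup.eq,
        Subgroup.mem_subgroupOf] at hk
      have hk' : ((z : G) ^ k)⁻¹ * c ∈ E := by simpa using hk
      have : c = (z : G) ^ k * (((z : G) ^ k)⁻¹ * c) := by group
      rw [this]
      exact mul_mem (zpow_mem (subset_closure (by simp)) _) (hEK hk')
    · rw [closure_le]
      intro g hg
      rcases hg with rfl | hg
      · exact z.2
      · rw [Set.mem_singleton_iff] at hg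
        rw [hg]; exact hEC hyE
  exact ⟨m, (z : G), y, hm1, hzy, hm, hEexp y hyE, hyz, hCK, hCcard⟩

/-- (BII) Case II, structure of `C = C_G(E)`. -/
theorem beta_caseII_struct (hp2 : p ≠ 2) (hG : IsPGroup p G) (E : Subgroup G) [E.Normal]
    (hEcard : Nat.card E = p ^ 2) (hEexp : ∀ e ∈ E, e ^ p = 1)
    (hCE : ∀ c ∈ centralizer (E : Set G), c ^ p = 1 → c ∈ E)
    (hK2 : PropK2.{u} p)
    (x : G) (hxC : x ∉ centralizer (E : Set G)) (hACT : TransvAct E x)
    (hII : ∀ u ∈ centralizer (E : Set G), u ^ p ∈ E → x⁻¹ * u ^ p * x = u ^ p) :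
    ∃ (m : ℕ) (z y : G), 1 ≤ m ∧ z * y = y * z ∧ orderOf z = p ^ m ∧ y ^ p = 1 ∧ y ∉ zpowers z ∧
      centralizer (E : Set G) = closure {z, y} ∧ Nat.card (centralizer (E : Set G)) = p ^ (m + 1) :=
  BII_of_cyclic hG E hEcard hEexp hCE (BII_cyclic hp2 hG E hEcard hEexp hCE hK2 x hxC hACT hII)

end beta

end Cfsg.Agent.Helper89.Blk
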