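import Cfsg.Agent.Helper8.Sims3Defs

/-!
# (T4G) of helper8's SIMS3 farm (#12989, S3385 + S3685): generators of the chain
`U y a m = E P g (a + m - s) (s - m)`.
-/

set_option autoImplicit false

namespace Cfsg.Agent.Helper89.Sims3

open Cfsg.Agent.Helper8.Sims3 Pointwise

variable {G : Type*} [Group G]

theorem T4G_mem_conj_smul {P : Subgroup G} {c x : G} :
    x ∈ MulAut.conj c • P ↔ c⁻¹ * x * c ∈ P := by
  rw [Subgroup.mem_pointwise_smul_iff_inv_smul_mem]
  simp [MulAut.smul_def, MulAut.conj_inv_apply]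

theorem T4G_E_conj (P : Subgroup G) (g : G) (i t : ℤ) (m : ℕ) :
    MulAut.conj (g ^ t) • E P g i m = E P g (i + t) m := by
  ext x
  rw [T4G_mem_conj_smul, mem_E, mem_E]
  constructor
  · intro h k hk1 hk2
    have := h (k - t) (by omega) (by omega)
    rw [T4G_mem_conj_smul] at this ⊢
    have e : (g ^ (k - t))⁻¹ * ((g ^ t)⁻¹ * x * g ^ t) * g ^ (k - t) = (g ^ k)⁻¹ * x * g ^ k := by
      rw [zpow_sub]; group
    rwa [e] at this
  · intro h k hk1 hk2
    have := h (k + t) (by omega) (by omega)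
    rw [T4G_mem_conj_smul] at this ⊢
    have e : (g ^ (k + t))⁻¹ * x * g ^ (k + t) = (g ^ k)⁻¹ * ((g ^ t)⁻¹ * x * g ^ t) * g ^ k := by
      rw [zpow_add]; group
    rwa [e] at this

theorem T4G_card_E (P : Subgroup G) (g : G) (i : ℤ) (m : ℕ) :
    Nat.card ↥(E P g i m) = Nat.card ↥(E P g 0 m) := by
  have h := T4G_E_conj P g 0 i m
  rw [zero_add] at h
  rw [← h]
  exact (Nat.card_congr (Subgroup.equivSMul (MulAut.conj (g ^ i)) (E P g 0 m)).toEquiv).symm

theorem T4G_E_anti (P : Subgroup G) (g : G) {i i' : ℤ} {m m' : ℕ} (h1 : i ≤ i')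
    (h2 : i' + m' ≤ i + m) : E P g i m ≤ E P g i' m' := by
  intro x hx
  rw [mem_E] at hx ⊢
  intro k hk1 hk2
  exact hx k (by omega) (by omega)

theorem T4G_squeeze [Finite G] {A J C : Subgroup G} (q : ℕ) (hq : q.Prime) (hAJ : A ≤ J)
    (hJC : J ≤ C) (hcard : Nat.card ↥C = q * Nat.card ↥A) (hne : J ≠ A) : J = C := by
  have hA := Subgroup.card_dvd_of_le hAJ
  have hJ := Subgroup.card_dvd_of_le hJC
  obtain ⟨d, hd⟩ := hA
  have hApos : 0 < Nat.card ↥A := Nat.card_pos
  rw [hcard, hd, mul_comm q] at hJ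
  have hdq : d ∣ q := Nat.dvd_of_mul_dvd_mul_left hApos hJ
  rcases (Nat.dvd_prime hq).mp hdq with rfl | rfl
  · exfalso
    apply hne
    exact (Subgroup.eq_of_le_of_card_ge hAJ (by rw [hd, mul_one])).symm
  · apply Subgroup.eq_of_le_of_card_ge hJC
    rw [hcard, hd, mul_comm]

theorem T4G_U_one (y : ℤ → G) (a : ℤ) : U y a 1 = Subgroup.zpowers (y a) := by
  unfold U
  have : Set.Ico a (a + ((1 : ℕ) : ℤ)) = {a} := by
    ext k
    simp only [Set.mem_Ico, Set.mem_singleton_iff, Nat.cast_one]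
    omega
  rw [this, Set.image_singleton, Subgroup.zpowers_eq_closure]

theorem T4G_U_succ (y : ℤ → G) (a : ℤ) (m : ℕ) :
    U y a (m + 1) = U y a m ⊔ Subgroup.zpowers (y (a + m)) := by
  unfold U
  have : Set.Ico a (a + ((m + 1 : ℕ) : ℤ)) = Set.Ico a (a + m) ∪ {a + (m : ℤ)} := by
    ext k
    simp only [Set.mem_Ico, Set.mem_union, Set.mem_singleton_iff, Nat.cast_add, Nat.cast_one]
    omega
  rw [this, Set.image_union, Subgroup.closure_union, Set.image_singleton,
    Subgroup.zpowers_eq_closure]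

theorem T4G_U_le (y : ℤ → G) (a : ℤ) (m : ℕ) (K : Subgroup G)
    (h : ∀ k : ℤ, a ≤ k → k < a + m → y k ∈ K) : U y a m ≤ K := by
  unfold U
  rw [Subgroup.closure_le]
  rintro _ ⟨k, hk, rfl⟩
  exact h k hk.1 hk.2

theorem T4G_mem_U (y : ℤ → G) (a : ℤ) (m : ℕ) (k : ℤ) (h1 : a ≤ k) (h2 : k < a + m) :
    y k ∈ U y a m :=
  Subgroup.subset_closure ⟨k, ⟨h1, h2⟩, rfl⟩

/-- (T4G) generators. -/
theorem tower_G1 [Finite G] {P : Subgroup G} {g : G} (h : Setup P g) (s : ℕ) (hs : 2 ≤ s)
    (hE : ∀ j, 1 ≤ j → j ≤ s → Nat.card ↥(E P g 0 j) = 2 ^ (s - j))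
    (y0 : G) (hy0 : y0 ≠ 1) (hy0E : y0 ∈ E P g 0 (s - 1))
    (y : ℤ → G) (hy : ∀ k : ℤ, y k = g ^ (k + 1 - s) * y0 * (g ^ (k + 1 - s))⁻¹) :
    ∀ (a : ℤ) (m : ℕ), 1 ≤ m → m ≤ s → U y a m = E P g (a + m - s) (s - m) := by
  -- cardinalities of all `E P g i j`
  have hcE : ∀ (i : ℤ) (j : ℕ), 1 ≤ j → j ≤ s → Nat.card ↥(E P g i j) = 2 ^ (s - j) := by
    intro i j h1 h2
    rw [T4G_card_E, hE j h1 h2]
  have hbot : ∀ i : ℤ, E P g i s = ⊥ := by
    intro i
    rw [← Subgroup.card_eq_one, hcE i s (by omega) le_rfl, Nat.sub_self, pow_zero]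
  -- the `y k`
  have hyk : ∀ k : ℤ, y k ∈ E P g (k + 1 - s) (s - 1) := by
    intro k
    have h1 := T4G_E_conj P g 0 (k + 1 - s) (s - 1)
    rw [zero_add] at h1
    rw [← h1, T4G_mem_conj_smul, hy k]
    have e : (g ^ (k + 1 - (s : ℤ)))⁻¹ * (g ^ (k + 1 - (s : ℤ)) * y0 * (g ^ (k + 1 - (s : ℤ)))⁻¹) *
        g ^ (k + 1 - (s : ℤ)) = y0 := by group
    rw [e]
    exact hy0E
  have hyk1 : ∀ k : ℤ, y k ≠ 1 := by
    intro k hk
    apply hy0
    rw [hy k] at hk
    have e : y0 = (g ^ (k + 1 - (s : ℤ)))⁻¹ * (g ^ (k + 1 - (s : ℤ)) * y0 *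
        (g ^ (k + 1 - (s : ℤ)))⁻¹) * g ^ (k + 1 - (s : ℤ)) := by group
    rw [e, hk]
    group
  -- `|P| = 3 * 2 ^ (s - 1)`
  have hE00 : E P g 0 0 = P := by
    ext x
    rw [mem_E]
    constructor
    · intro hx
      have := hx 0 le_rfl (by simp)
      rwa [zpow_zero, map_one, one_smul] at this
    · intro hx k hk1 hk2
      have : k = 0 := by
        simp only [Nat.cast_zero, add_zero] at hk2
        omega
      rw [this, zpow_zero, map_one, one_smul]
      exact hx
  have hE01 : E P g 0 1 = P ⊓ MulAut.conj g • P := by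
    ext x
    rw [mem_E, Subgroup.mem_inf]
    constructor
    · intro hx
      refine ⟨?_, ?_⟩
      · have := hx 0 le_rfl (by simp)
        rwa [zpow_zero, map_one, one_smul] at this
      · have := hx 1 (by norm_num) (by simp)
        rwa [zpow_one] at this
    · rintro ⟨hx0, hx1⟩ k hk1 hk2
      have : k = 0 ∨ k = 1 := by
        simp only [Nat.cast_one, zero_add] at hk2
        omega
      rcases this with rfl | rfl
      · rw [zpow_zero, map_one, one_smul]
        exact hx0
      · rw [zpow_one]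
        exact hx1
  have hcP : Nat.card ↥P = 3 * 2 ^ (s - 1) := by
    have h1 := Subgroup.relIndex_mul_relIndex (⊥ : Subgroup G) (P ⊓ MulAut.conj g • P) P bot_le
      inf_le_left
    rw [Subgroup.relIndex_bot_left, Subgroup.relIndex_bot_left, h.idx, ← hE01,
      hE 1 le_rfl (by omega)] at h1
    rw [← h1, mul_comm]
  have hcE0 : ∀ i : ℤ, Nat.card ↥(E P g i 0) = 3 * 2 ^ (s - 1) := by
    intro i
    rw [T4G_card_E, hE00, hcP]
  -- the induction
  intro a m hm1
  revert a
  induction m, hm1 using Nat.le_induction with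
  | base =>
    intro a hms
    rw [T4G_U_one]
    have hle : Subgroup.zpowers (y a) ≤ E P g (a + ((1 : ℕ) : ℤ) - s) (s - 1) := by
      rw [Subgroup.zpowers_le, Nat.cast_one]
      exact hyk a
    apply Subgroup.eq_of_le_of_card_ge hle
    rw [hcE _ (s - 1) (by omega) (by omega), Nat.card_zpowers]
    have h2 : orderOf (y a) ≠ 1 := fun h1 => hyk1 a (orderOf_eq_one_iff.mp h1)
    have h3 : 0 < orderOf (y a) := orderOf_pos (y a)
    have h4 : s - (s - 1) = 1 := by omega
    rw [h4, pow_one]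
    omega
  | succ m hm1 ih =>
    intro a hms
    rw [T4G_U_succ, ih a (by omega)]
    rcases Nat.lt_or_ge (m + 1) s with hlt | hge
    · -- `m + 1 < s`
      have hy_le : E P g (a + (m : ℤ) + 1 - s) (s - 1) ≤
          E P g (a + ((m + 1 : ℕ) : ℤ) - s) (s - (m + 1)) :=
        T4G_E_anti P g (by push_cast; omega) (by push_cast; omega)
      have hy_mem : y (a + m) ∈ E P g (a + ((m + 1 : ℕ) : ℤ) - s) (s - (m + 1)) :=
        hy_le (hyk (a + m))
      have hA : E P g (a + (m : ℤ) - s) (s - m) ≤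
          E P g (a + (m : ℤ) - s) (s - m) ⊔ Subgroup.zpowers (y (a + m)) := le_sup_left
      have hJ : E P g (a + (m : ℤ) - s) (s - m) ⊔ Subgroup.zpowers (y (a + m)) ≤
          E P g (a + ((m + 1 : ℕ) : ℤ) - s) (s - (m + 1)) := by
        have h1 : E P g (a + (m : ℤ) - s) (s - m) ≤
            E P g (a + ((m + 1 : ℕ) : ℤ) - s) (s - (m + 1)) :=
          T4G_E_anti P g (by push_cast; omega) (by push_cast; omega)
        apply sup_le h1
        rw [Subgroup.zpowers_le]
        exact hy_mem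
      apply T4G_squeeze 2 Nat.prime_two hA hJ
      · rw [hcE _ (s - (m + 1)) (by omega) (by omega), hcE _ (s - m) (by omega) (by omega)]
        have e1 : s - (s - (m + 1)) = m + 1 := by omega
        have e2 : s - (s - m) = m := by omega
        rw [e1, e2, pow_succ, mul_comm]
      · intro heq
        have hmem : y (a + m) ∈ E P g (a + (m : ℤ) - s) (s - m) := by
          rw [← heq]
          exact le_sup_right (α := Subgroup G) (Subgroup.mem_zpowers _)
        have hall : y (a + m) ∈ E P g (a + (m : ℤ) - s) s := by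
          rw [mem_E]
          intro k hk1 hk2
          by_cases hka : k ≤ a
          · exact (mem_E.mp hmem) k hk1 (by push_cast; omega)
          · exact (mem_E.mp (hyk (a + m))) k (by omega) (by push_cast; omega)
        rw [hbot, Subgroup.mem_bot] at hall
        exact hyk1 _ hall
    · -- `m + 1 = s`
      have hsm : s = m + 1 := by omega
      subst hsm
      have ea : a + ((m + 1 : ℕ) : ℤ) - ((m + 1 : ℕ) : ℤ) = a := by ring
      have e0 : m + 1 - (m + 1) = 0 := Nat.sub_self _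
      rw [ea, e0]
      have e1 : m + 1 - m = 1 := by omega
      have ea1 : a + (m : ℤ) - ((m + 1 : ℕ) : ℤ) = a - 1 := by push_cast; ring
      rw [e1, ea1]
      -- `B₂ = U y (a+1) m = E P g a 1`
      have hB2 : U y (a + 1) m = E P g a 1 := by
        rw [ih (a + 1) (by omega), e1]
        congr 1
        push_cast
        ring
      have hB1 : U y a m = E P g (a - 1) 1 := by
        rw [ih a (by omega), e1, ea1]
      have hA : E P g (a - 1) 1 ≤ E P g (a - 1) 1 ⊔ Subgroup.zpowers (y (a + m)) := le_sup_left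
      have hJ : E P g (a - 1) 1 ⊔ Subgroup.zpowers (y (a + m)) ≤ E P g a 0 := by
        have h1 : E P g (a - 1) 1 ≤ E P g a 0 :=
          T4G_E_anti P g (by omega) (by push_cast; omega)
        have h2 : E P g (a + (m : ℤ) + 1 - ((m + 1 : ℕ) : ℤ)) (m + 1 - 1) ≤ E P g a 0 :=
          T4G_E_anti P g (by push_cast; omega) (by push_cast; omega)
        apply sup_le h1
        rw [Subgroup.zpowers_le]
        exact h2 (hyk (a + m))
      apply T4G_squeeze 3 Nat.prime_three hA hJ
      · rw [hcE0, hcE _ 1 le_rfl (by omega)]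
      · intro heq
        -- then `E P g a 1 ≤ E P g (a-1) 1`
        have hB2le : E P g a 1 ≤ E P g (a - 1) 1 := by
          rw [← hB2, ← heq, ← hB1, ← T4G_U_succ]
          apply T4G_U_le
          intro k hk1 hk2
          exact T4G_mem_U y a (m + 1) k (by omega) (by push_cast; omega)
        have hle2 : E P g a 1 ≤ E P g (a - 1) 2 := by
          intro x hx
          have hx' := hB2le hx
          rw [mem_E] at hx hx' ⊢
          intro k hk1 hk2
          by_cases hka : k ≤ a
          · exact hx' k hk1 (by push_cast; omega)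
          · exact hx k (by omega) (by push_cast at hk2 ⊢; omega)
        have hc := Subgroup.card_le_of_le hle2
        rw [hcE _ 1 le_rfl (by omega), hcE _ 2 (by omega) (by omega)] at hc
        have : m + 1 - 2 < m + 1 - 1 := by omega
        have := Nat.pow_lt_pow_right (a := 2) (by norm_num) this
        omega

end Cfsg.Agent.Helper89.Sims3
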