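-- helper89: piece (EXT) of board post #4790 (for helper82, S4892): an invariant character of a normal
-- subgroup that extends to `N R` for a Sylow subgroup `R` of every prime extends to `G` (S0888),
-- the Sylow-wise extensions being supplied as hypotheses (`exists_extension_of`).
import Mathlib
import Cfsg.Agent.Helper82.PRat.Defs
import Cfsg.Agent.S0888

set_option autoImplicit false

namespace Cfsg.Agent.Helper89.PRatEXT

open Cfsg Cfsg.Agent.Helper82.PRat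

variable {G : Type*} [Group G] [Finite G] (p : ℕ) [Fact p.Prime] (N : Subgroup G) [N.Normal]

/-- Sylow-wise extension: if `θ` extends to every `S ≥ N` with `[S : N]` prime to `p` and to every
`S ≥ N` with `[S : N]` a power of `p`, then `θ` extends to `G`. -/
theorem exists_extension_of (θ : IrrCharacter ↥N)
    (hinv : ∀ g : G, ∀ n n' : ↥N, (n' : G) = g * (n : G) * g⁻¹ → (θ : ↥N → ℂ) n' = (θ : ↥N → ℂ) n)
    (hADS : ∀ (S : Subgroup G) (hNS : N ≤ S), ¬ p ∣ N.relIndex S →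
      ∃ η : IrrCharacter ↥S, ∀ n : ↥N, (η : ↥S → ℂ) ⟨(n : G), hNS n.2⟩ = (θ : ↥N → ℂ) n)
    (hEP : ∀ (S : Subgroup G) (hNS : N ≤ S), (∃ c : ℕ, N.relIndex S = p ^ c) →
      ∃ η : IrrCharacter ↥S, ∀ n : ↥N, (η : ↥S → ℂ) ⟨(n : G), hNS n.2⟩ = (θ : ↥N → ℂ) n) :
    ∃ ψ : IrrCharacter G, ∀ x : ↥N, (ψ : G → ℂ) x = (θ : ↥N → ℂ) x := by
  classical
  have hp : p.Prime := Fact.out
  obtain ⟨χ, hχ, hχN⟩ := Cfsg.Agent.S0888.result N (θ : ↥N → ℂ) θ.2
    (fun g n => hinv g n ⟨g * n * g⁻¹, _⟩ rfl) (by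
      intro q hq
      have : Fact q.Prime := ⟨hq⟩
      obtain ⟨R⟩ : Nonempty (Sylow q G) := inferInstance
      have hNS : N ≤ N ⊔ (R : Subgroup G) := le_sup_left
      have hcop : Nat.Coprime (N ⊔ (R : Subgroup G)).index q := by
        have h1 : (N ⊔ (R : Subgroup G)).index ∣ (R : Subgroup G).index :=
          Subgroup.index_dvd_of_le le_sup_right
        have h2 : ¬ q ∣ (R : Subgroup G).index := R.not_dvd_index
        exact Nat.Coprime.symm ((Nat.Prime.coprime_iff_not_dvd hq).2 fun h => h2 (dvd_trans h h1))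
      have hpow : ∃ k : ℕ, N.relIndex (N ⊔ (R : Subgroup G)) = q ^ k := by
        rw [Subgroup.relIndex_sup_left]
        have h1 : N.relIndex (R : Subgroup G) ∣ Nat.card (R : Subgroup G) :=
          Subgroup.index_dvd_card _
        obtain ⟨m, hm⟩ := R.isPGroup'.exists_card_eq
        rw [hm] at h1
        obtain ⟨k, -, hk⟩ := (Nat.dvd_prime_pow hq).1 h1
        exact ⟨k, hk⟩
      by_cases hqp : q = p
      · subst hqp
        obtain ⟨η, hη⟩ := hEP _ hNS hpow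
        exact ⟨_, hNS, (η : _ → ℂ), hcop, hpow, η.2, hη⟩
      · have hnd : ¬ p ∣ N.relIndex (N ⊔ (R : Subgroup G)) := by
          obtain ⟨k, hk⟩ := hpow
          rw [hk]
          intro hd
          have := (Nat.prime_dvd_prime_iff_eq hp hq).1 (hp.dvd_of_dvd_pow hd)
          exact hqp this.symm
        obtain ⟨η, hη⟩ := hADS _ hNS hnd
        exact ⟨_, hNS, (η : _ → ℂ), hcop, hpow, η.2, hη⟩)
  exact ⟨⟨χ, hχ⟩, hχN⟩

/-- The same with the three pieces (ADS), (EP), (DET) of #4790 in the shape of their skeleton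
signatures (after applying the common arguments). -/
theorem exists_extension_of_pieces (M : Ideal AlgInt) (θ : IrrCharacter ↥N)
    (hinv : ∀ g : G, ∀ n n' : ↥N, (n' : G) = g * (n : G) * g⁻¹ → (θ : ↥N → ℂ) n' = (θ : ↥N → ℂ) n)
    (hdet : ¬ p ∣ detOrder (θ : ↥N → ℂ))
    (had : ∀ (S : Subgroup G) (hNS : N ≤ S), ¬ p ∣ N.relIndex S →
      ∃! η : IrrCharacter ↥S, η ∈ principalBlock M ↥S ∧
        ∀ n : ↥N, (η : ↥S → ℂ) ⟨(n : G), hNS n.2⟩ = (θ : ↥N → ℂ) n)
    (hep : ∀ (S : Subgroup G) (hNS : N ≤ S), (∃ c : ℕ, N.relIndex S = p ^ c) →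
      ¬ p ∣ detOrder (θ : ↥N → ℂ) →
      ∃ η : IrrCharacter ↥S, ∀ n : ↥N, (η : ↥S → ℂ) ⟨(n : G), hNS n.2⟩ = (θ : ↥N → ℂ) n) :
    ∃ ψ : IrrCharacter G, ∀ x : ↥N, (ψ : G → ℂ) x = (θ : ↥N → ℂ) x := by
  refine exists_extension_of p N θ hinv ?_ ?_
  · intro S hNS hidx
    obtain ⟨η, ⟨-, hη⟩, -⟩ := had S hNS hidx
    exact ⟨η, hη⟩
  · intro S hNS hidx
    exact hep S hNS hidx hdet

end Cfsg.Agent.Helper89.PRatEXT
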