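-- helper89: piece (AUT-QD) of board post #4706 (for helper84, S5319): an automorphism of odd order of a
-- quasi-dihedral 2-group is trivial.
import Mathlib
import Cfsg.Prelude.Def_CaseTheorems

set_option autoImplicit false

namespace Cfsg.Agent.Helper89.SU3F

/-- the unit group modulo `2^n` is a 2-group: an odd power congruent to `1` forces the base to be `1`. -/
theorem modEq_one_of_odd_pow (n s k : ℕ) (hk : Odd k) (h : s ^ k ≡ 1 [MOD 2 ^ n]) :
    s ≡ 1 [MOD 2 ^ n] := by
  rcases Nat.eq_zero_or_pos n with rfl | hn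
  · rw [pow_zero]; exact Nat.modEq_one
  have hk0 : k ≠ 0 := by rintro rfl; simp at hk
  have h1 : ((s : ZMod (2 ^ n))) ^ k = 1 := by
    have := (ZMod.natCast_eq_natCast_iff _ _ _).2 h
    push_cast at this
    exact this
  obtain ⟨w, hw⟩ := IsUnit.of_pow_eq_one h1 hk0
  have hwk : w ^ k = 1 := by
    apply Units.ext
    rw [Units.val_pow_eq_pow_val, hw, h1, Units.val_one]
  have hd1 : orderOf w ∣ k := orderOf_dvd_of_pow_eq_one hwk
  have hd2 : orderOf w ∣ 2 ^ (n - 1) := by
    have := orderOf_dvd_of_pow_eq_one (ZMod.pow_totient w)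
    rwa [Nat.totient_prime_pow Nat.prime_two hn, show 2 - 1 = 1 from rfl, mul_one] at this
  have hcop : Nat.Coprime k (2 ^ (n - 1)) :=
    Nat.Coprime.pow_right _ (Nat.Coprime.symm (Nat.coprime_two_left.mpr hk))
  have ho : orderOf w = 1 := Nat.eq_one_of_dvd_coprimes hcop hd1 hd2
  have hw1 : w = 1 := orderOf_eq_one_iff.1 ho
  have hs1 : (s : ZMod (2 ^ n)) = ((1 : ℕ) : ZMod (2 ^ n)) := by
    rw [← hw, hw1, Units.val_one, Nat.cast_one]
  exact (ZMod.natCast_eq_natCast_iff _ _ _).1 hs1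

theorem aut_eq_one_of_quasiDihedral {S : Type*} [Group S] (h : Cfsg.IsQuasiDihedral S)
    (α : MulAut S) (k : ℕ) (hk : Odd k) (hα : α ^ k = 1) : α = 1 := by
  obtain ⟨n, hn, hcard, x, y, hx, hy, hyx⟩ := h
  have hfin : Finite S := Nat.finite_of_card_ne_zero (by rw [hcard]; positivity)
  have hCcard : Nat.card (Subgroup.zpowers x) = 2 ^ n := by rw [Nat.card_zpowers, hx]
  have hidx : (Subgroup.zpowers x).index = 2 := by
    have := (Subgroup.zpowers x).card_mul_index
    rw [hCcard, hcard, pow_succ] at this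
    exact Nat.eq_of_mul_eq_mul_left (by positivity) this
  have hpow4 : 4 ≤ 2 ^ (n - 1) := by
    calc 4 = 2 ^ 2 := by norm_num
      _ ≤ 2 ^ (n - 1) := Nat.pow_le_pow_right (by norm_num) (by omega)
  have hpn : 2 ^ n = 2 * 2 ^ (n - 1) := by
    rw [← pow_succ']; congr 1; omega
  have hx2n : x ^ (2 ^ n) = 1 := by rw [← hx]; exact pow_orderOf_eq_one x
  have hC2n : ∀ c ∈ Subgroup.zpowers x, c ^ (2 ^ n) = 1 := by
    intro c hc
    obtain ⟨i, rfl⟩ := Subgroup.mem_zpowers_iff.1 hc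
    rw [← zpow_natCast, ← zpow_mul, mul_comm, zpow_mul, zpow_natCast, hx2n, one_zpow]
  have hy2 : y * y = 1 := by
    have := pow_orderOf_eq_one y
    rwa [hy, pow_two] at this
  have hyinv : y⁻¹ = y := inv_eq_of_mul_eq_one_right hy2
  -- `y ∉ ⟨x⟩`
  have hyC : y ∉ Subgroup.zpowers x := by
    intro hyc
    obtain ⟨j, hj⟩ := Subgroup.mem_zpowers_iff.1 hyc
    have hcomm : y * x * y⁻¹ = x := by rw [← hj]; group
    rw [hcomm] at hyx
    have h1 : x ^ 1 = x ^ (2 ^ (n - 1) - 1) := by rw [pow_one]; exact hyx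
    rw [pow_eq_pow_iff_modEq, hx] at h1
    have h2 : 1 % 2 ^ n = (2 ^ (n - 1) - 1) % 2 ^ n := h1
    rw [Nat.mod_eq_of_lt (by omega), Nat.mod_eq_of_lt (by omega)] at h2
    omega
  -- every element outside `⟨x⟩` is `c * y`
  have hdecomp : ∀ g : S, g ∉ Subgroup.zpowers x → ∃ c ∈ Subgroup.zpowers x, g = c * y := by
    intro g hg
    refine ⟨g * y⁻¹, ?_, by group⟩
    rw [Subgroup.mul_mem_iff_of_index_two hidx, inv_mem_iff]
    exact ⟨fun h => absurd h hg, fun h => absurd h hyC⟩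
  -- elements outside `⟨x⟩` have order dividing 4
  have hfour : ∀ g : S, g ∉ Subgroup.zpowers x → g ^ 4 = 1 := by
    intro g hg
    obtain ⟨c, hc, rfl⟩ := hdecomp g hg
    obtain ⟨i, rfl⟩ := Subgroup.mem_zpowers_iff.1 hc
    have hconj : y * x ^ i * y⁻¹ = (x ^ i) ^ (2 ^ (n - 1) - 1) := by
      rw [← conj_zpow, hyx, ← zpow_natCast, ← zpow_natCast, ← zpow_mul, ← zpow_mul, mul_comm]
    have hsq : (x ^ i * y) ^ 2 = (x ^ i) ^ (2 ^ (n - 1)) := by
      have e1 : (x ^ i * y) ^ 2 = x ^ i * (y * x ^ i * y⁻¹) * (y * y) := by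
        rw [pow_two]; group
      rw [e1, hconj, hy2, mul_one, ← pow_succ']
      congr 1; omega
    have : (x ^ i * y) ^ 4 = ((x ^ i * y) ^ 2) ^ 2 := by rw [← pow_mul]
    have h22 : 2 ^ (n - 1) * 2 = 2 ^ n := by rw [hpn]; ring
    rw [this, hsq, ← pow_mul, h22]
    exact hC2n _ hc
  -- `α x ∈ ⟨x⟩`
  have hαxC : α x ∈ Subgroup.zpowers x := by
    by_contra hcon
    have h4 := hfour _ hcon
    have ho : orderOf (α x) = 2 ^ n := by rw [MulEquiv.orderOf_eq, hx]
    have hd : 2 ^ n ∣ 4 := by rw [← ho]; exact orderOf_dvd_of_pow_eq_one h4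
    have := Nat.le_of_dvd (by norm_num) hd
    omega
  -- `α x = x`
  have hαx : α x = x := by
    obtain ⟨s, hs⟩ : ∃ s : ℕ, x ^ s = α x := by
      have := (mem_powers_iff_mem_zpowers).2 hαxC
      exact Submonoid.mem_powers_iff _ _ |>.1 this
    have hpowα : ∀ j : ℕ, (α ^ j) x = x ^ (s ^ j) := by
      intro j
      induction j with
      | zero => simp
      | succ j ih =>
        rw [pow_succ', MulAut.mul_apply, ih, map_pow, ← hs, ← pow_mul, ← pow_succ']
    have h1 := hpowα k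
    rw [hα, MulAut.one_apply] at h1
    have h2 : x ^ (s ^ k) = x ^ 1 := by rw [pow_one]; exact h1.symm
    rw [pow_eq_pow_iff_modEq, hx] at h2
    have h3 := modEq_one_of_odd_pow n s k hk h2
    have h4 : x ^ s = x ^ 1 := by rw [pow_eq_pow_iff_modEq, hx]; exact h3
    rw [← hs, h4, pow_one]
  have hfixC : ∀ c ∈ Subgroup.zpowers x, α c = c := by
    intro c hc
    obtain ⟨i, rfl⟩ := Subgroup.mem_zpowers_iff.1 hc
    rw [map_zpow, hαx]
  -- `α y = y`
  have hαy : α y = y := by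
    have hαyC : α y ∉ Subgroup.zpowers x := by
      intro hcon
      have := hfixC _ hcon
      have h1 : α y = y := α.injective this
      rw [h1] at hcon
      exact hyC hcon
    obtain ⟨c, hc, hcy⟩ := hdecomp _ hαyC
    have hpowy : ∀ j : ℕ, (α ^ j) y = c ^ j * y := by
      intro j
      induction j with
      | zero => simp
      | succ j ih =>
        rw [pow_succ', MulAut.mul_apply, ih, map_mul, map_pow, hfixC c hc, hcy, pow_succ, mul_assoc]
    have h1 := hpowy k
    rw [hα, MulAut.one_apply] at h1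
    have hck : c ^ k = 1 := by
      have h2 : c ^ k * y = 1 * y := by rw [one_mul]; exact h1.symm
      exact mul_right_cancel h2
    have hd1 : orderOf c ∣ k := orderOf_dvd_of_pow_eq_one hck
    have hd2 : orderOf c ∣ 2 ^ n := orderOf_dvd_of_pow_eq_one (hC2n c hc)
    have hcop : Nat.Coprime k (2 ^ n) :=
      Nat.Coprime.pow_right _ (Nat.Coprime.symm (Nat.coprime_two_left.mpr hk))
    have ho : orderOf c = 1 := Nat.eq_one_of_dvd_coprimes hcop hd1 hd2
    rw [hcy, orderOf_eq_one_iff.1 ho, one_mul]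
  ext g
  rw [MulAut.one_apply]
  by_cases hg : g ∈ Subgroup.zpowers x
  · exact hfixC g hg
  · obtain ⟨c, hc, rfl⟩ := hdecomp g hg
    rw [map_mul, hfixC c hc, hαy]

end Cfsg.Agent.Helper89.SU3F
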