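-- helper89: piece (LOC) of board post #4706 (for helper84, S5319): a Sylow 2-subgroup all of whose
-- odd-order automorphisms are trivial is "self-normalizing modulo its centralizer".
import Mathlib
import Cfsg.Agent.Helper85.SimpleCrit

set_option autoImplicit false

namespace Cfsg.Agent.Helper89.SU3F

/-- an element of 2-power order normalizing a Sylow 2-subgroup lies in it -/
theorem mem_sylow_of_pow_two_normalizer {G : Type*} [Group G] (S : Sylow 2 G) {a : G} {e : ℕ}
    (ha : a ^ (2 ^ e) = 1) (hn : a ∈ Subgroup.normalizer ((S : Subgroup G) : Set G)) :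
    a ∈ (S : Subgroup G) := by
  have hz : IsPGroup 2 (Subgroup.zpowers a) := by
    rintro ⟨g, hg⟩
    obtain ⟨j, rfl⟩ := Subgroup.mem_zpowers_iff.1 hg
    refine ⟨e, ?_⟩
    apply Subtype.ext
    simp only [Subgroup.coe_pow, Subgroup.coe_one]
    rw [← zpow_natCast, ← zpow_mul, mul_comm, zpow_mul, zpow_natCast, ha, one_zpow]
  have hsup : IsPGroup 2 (Subgroup.zpowers a ⊔ (S : Subgroup G) : Subgroup G) :=
    IsPGroup.to_sup_of_normal_right' hz S.isPGroup' (by rwa [Subgroup.zpowers_le])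
  have h1 : Subgroup.zpowers a ⊔ (S : Subgroup G) = S := S.is_maximal' hsup le_sup_right
  rw [← h1]
  exact Subgroup.mem_sup_left (Subgroup.mem_zpowers a)

/-- conjugation by a normalizing element, as an automorphism of the subgroup -/
def conjAut {G : Type*} [Group G] (S : Subgroup G) (b : G)
    (hb : b ∈ Subgroup.normalizer (S : Set G)) : MulAut S where
  toFun x := ⟨b * x * b⁻¹, (Subgroup.mem_normalizer_iff.1 hb x).1 x.2⟩
  invFun x := ⟨b⁻¹ * x * b, by
    have := (Subgroup.mem_normalizer_iff.1 hb (b⁻¹ * x * b)).2 (by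
      have : b * (b⁻¹ * (x : G) * b) * b⁻¹ = x := by group
      rw [this]; exact x.2)
    exact this⟩
  left_inv x := by apply Subtype.ext; simp only; group
  right_inv x := by apply Subtype.ext; simp only; group
  map_mul' x y := by apply Subtype.ext; simp only [Subgroup.coe_mul]; group

theorem conjAut_pow {G : Type*} [Group G] (S : Subgroup G) (b : G)
    (hb : b ∈ Subgroup.normalizer (S : Set G)) (j : ℕ) (x : S) :
    (((conjAut S b hb) ^ j) x : G) = b ^ j * x * (b ^ j)⁻¹ := by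
  induction j generalizing x with
  | zero => simp
  | succ j ih =>
    rw [pow_succ, MulAut.mul_apply, ih]
    show b ^ j * (b * x * b⁻¹) * (b ^ j)⁻¹ = _
    rw [pow_succ]; group

theorem selfNorm_of_aut {G : Type*} [Group G] [Finite G] (S : Sylow 2 G)
    (haut : ∀ (α : MulAut ↥(S : Subgroup G)) (k : ℕ), Odd k → α ^ k = 1 → α = 1) :
    Cfsg.Agent.Helper85.SelfNorm (S : Subgroup G) := by
  intro g hg
  have hn0 : orderOf g ≠ 0 := (orderOf_pos g).ne'
  obtain ⟨e, k, hk, hek⟩ := Nat.exists_eq_two_pow_mul_odd hn0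
  have hcop : Nat.Coprime k (2 ^ e) :=
    Nat.Coprime.pow_right e (Nat.Coprime.symm (Nat.coprime_two_left.mpr hk))
  obtain ⟨u, v, huv⟩ : ∃ u v : ℤ, (k : ℤ) * u + ((2 ^ e : ℕ) : ℤ) * v = 1 := by
    refine ⟨Nat.gcdA k (2 ^ e), Nat.gcdB k (2 ^ e), ?_⟩
    have := Nat.gcd_eq_gcd_ab k (2 ^ e)
    rw [hcop.gcd_eq_one] at this
    exact_mod_cast this.symm
  have ha2 : (g ^ ((k : ℤ) * u)) ^ (2 ^ e) = 1 := by
    rw [← zpow_natCast, ← zpow_mul]
    have : (k : ℤ) * u * ((2 ^ e : ℕ) : ℤ) = ((orderOf g : ℕ) : ℤ) * u := by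
      rw [hek]; push_cast; ring
    rw [this, zpow_mul, zpow_natCast, pow_orderOf_eq_one, one_zpow]
  have hbk : (g ^ (((2 ^ e : ℕ) : ℤ) * v)) ^ k = 1 := by
    rw [← zpow_natCast, ← zpow_mul]
    have : ((2 ^ e : ℕ) : ℤ) * v * (k : ℤ) = ((orderOf g : ℕ) : ℤ) * v := by
      rw [hek]; push_cast; ring
    rw [this, zpow_mul, zpow_natCast, pow_orderOf_eq_one, one_zpow]
  have hab : g = g ^ ((k : ℤ) * u) * g ^ (((2 ^ e : ℕ) : ℤ) * v) := by
    rw [← zpow_add, huv, zpow_one]
  have haN : g ^ ((k : ℤ) * u) ∈ Subgroup.normalizer ((S : Subgroup G) : Set G) :=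
    Subgroup.zpow_mem _ hg _
  have hbN : g ^ (((2 ^ e : ℕ) : ℤ) * v) ∈ Subgroup.normalizer ((S : Subgroup G) : Set G) :=
    Subgroup.zpow_mem _ hg _
  have haS := mem_sylow_of_pow_two_normalizer S ha2 haN
  set a := g ^ ((k : ℤ) * u) with ha
  set b := g ^ (((2 ^ e : ℕ) : ℤ) * v) with hb
  have hα : (conjAut (S : Subgroup G) b hbN) ^ k = 1 := by
    ext x
    rw [conjAut_pow, hbk]
    simp
  have h1 := haut _ k hk hα
  refine ⟨a, haS, ?_⟩
  intro x hx
  have h2 : b * x * b⁻¹ = x := by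
    have := congrArg (fun (α : MulAut (S : Subgroup G)) => ((α ⟨x, hx⟩ : (S : Subgroup G)) : G)) h1
    simpa [conjAut] using this
  rw [hab]
  calc a * b * x * (a * b)⁻¹ = a * (b * x * b⁻¹) * a⁻¹ := by group
    _ = a * x * a⁻¹ := by rw [h2]

end Cfsg.Agent.Helper89.SU3F
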