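import Cfsg.Agent.Helper85.A7Defs
import Cfsg.Agent.Helper37.A7G2

/-!
# S0984 sub-tree LOC, piece (G4) (helper89 for helper85, board #8843)

`G` simple of order 2520 with self-centralizing elements of order 7: a subgroup of index 7 exists,
or `|N_G(R)| = 36` for a Sylow 3-subgroup `R` (`n_3 ∈ {7, 70}`).
-/

set_option autoImplicit false

namespace Cfsg.Agent.Helper89.A7

open Cfsg Cfsg.Agent.Helper85.A7
open scoped ComplexConjugate

universe u

variable {G : Type u} [Group G]

/-- the conjugation by an element normalizing `R`, as an endomorphism of the set `R` -/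
def g4conj (R : Subgroup G) (x : G) (hx : ∀ r ∈ R, x * r * x⁻¹ ∈ R) : Function.End R :=
  fun r => ⟨x * r * x⁻¹, hx r r.2⟩

theorem g4conj_pow (R : Subgroup G) (x : G) (hx : ∀ r ∈ R, x * r * x⁻¹ ∈ R) (k : ℕ) (r : R) :
    (((g4conj R x hx) ^ k) r : G) = x ^ k * r * (x ^ k)⁻¹ := by
  induction k generalizing r with
  | zero =>
    have h0 : (g4conj R x hx ^ 0) r = r := by rw [pow_zero]; rfl
    rw [h0]; simp
  | succ k ih =>
    have h1 : (g4conj R x hx ^ (k + 1)) r = (g4conj R x hx ^ k) (g4conj R x hx r) := by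
      rw [pow_succ]; rfl
    rw [h1, ih]
    simp only [g4conj, pow_succ]
    group

/-- an element of prime order `q` normalizing `R` fixes at least `|R| mod q` elements; if this
residue is at least 2 there is a nontrivial fixed point -/
theorem g4_exists_fixed [Finite G] (R : Subgroup G) (x : G) (hx : ∀ r ∈ R, x * r * x⁻¹ ∈ R)
    (q : ℕ) [Fact q.Prime] (hxq : x ^ q = 1) (hmod : 2 ≤ Nat.card R % q) :
    ∃ r ∈ R, r ≠ 1 ∧ x * r = r * x := by
  classical
  have : Fintype R := Fintype.ofFinite _
  have hf : (g4conj R x hx) ^ q ^ 1 = 1 := by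
    funext r
    apply Subtype.ext
    rw [pow_one, g4conj_pow, hxq]
    show (1 : G) * r * (1 : G)⁻¹ = ((r : R) : G)
    simp
  have hmodeq := Equiv.Perm.card_fixedPoints_modEq (p := q) (n := 1) hf
  rw [Fintype.card_eq_nat_card, Fintype.card_eq_nat_card] at hmodeq
  have hcardfix : 2 ≤ Nat.card (Function.fixedPoints (g4conj R x hx)) := by
    have h1 : Nat.card R % q = Nat.card (Function.fixedPoints (g4conj R x hx)) % q := hmodeq
    calc 2 ≤ Nat.card R % q := hmod
      _ = Nat.card (Function.fixedPoints (g4conj R x hx)) % q := h1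
      _ ≤ _ := Nat.mod_le _ _
  have hlt : 1 < Nat.card (Function.fixedPoints (g4conj R x hx)) := hcardfix
  have hnt : Nontrivial (Function.fixedPoints (g4conj R x hx)) :=
    Finite.one_lt_card_iff_nontrivial.mp hlt
  obtain ⟨a, b, hab⟩ := exists_pair_ne (Function.fixedPoints (g4conj R x hx))
  have key : ∀ c : Function.fixedPoints (g4conj R x hx), x * ((c : R) : G) = ((c : R) : G) * x := by
    intro c
    have hc : g4conj R x hx (c : R) = (c : R) := c.2
    have hc' : x * ((c : R) : G) * x⁻¹ = ((c : R) : G) := congrArg Subtype.val hc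
    calc x * ((c : R) : G) = (x * ((c : R) : G) * x⁻¹) * x := by group
      _ = ((c : R) : G) * x := by rw [hc']
  by_cases ha : ((a : R) : G) = 1
  · refine ⟨((b : R) : G), (b : R).2, ?_, key b⟩
    intro hb
    apply hab
    apply Subtype.ext
    apply Subtype.ext
    rw [ha, hb]
  · exact ⟨((a : R) : G), (a : R).2, ha, key a⟩

theorem g4_fact3 : (2520 : ℕ).factorization 3 = 2 := by
  have h : (2520 : ℕ) = 3 ^ 2 * 280 := by norm_num
  rw [h, Nat.factorization_mul (by norm_num) (by norm_num),
    Nat.Prime.factorization_pow (by norm_num)]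
  simp
  exact Nat.factorization_eq_zero_of_not_dvd (by norm_num)

theorem g4_fact5 : (2520 : ℕ).factorization 5 = 1 := by
  have h : (2520 : ℕ) = 5 ^ 1 * 504 := by norm_num
  rw [h, Nat.factorization_mul (by norm_num) (by norm_num),
    Nat.Prime.factorization_pow (by norm_num)]
  simp
  exact Nat.factorization_eq_zero_of_not_dvd (by norm_num)

/-- Burnside's normal `p`-complement theorem contradicts simplicity -/
theorem g4_burnside_false [Finite G] [IsSimpleGroup G] {p : ℕ} [Fact p.Prime] (P : Sylow p G)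
    (hP : Subgroup.normalizer ((P : Subgroup G) : Set G) ≤ Subgroup.centralizer (P : Set G))
    (h1 : 1 < Nat.card P) (h2 : Nat.card P < Nat.card G) : False := by
  have hc := MonoidHom.ker_transferSylow_isComplement' P hP
  have hmul := Subgroup.IsComplement.card_mul_card hc
  rcases (MonoidHom.normal_ker (MonoidHom.transferSylow P hP)).eq_bot_or_eq_top with h | h
  · rw [h] at hmul
    simp only [Subgroup.coe_bot, Set.card_singleton, Nat.card_eq_fintype_card, Fintype.card_unique,
      one_mul] at hmul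
    have : Nat.card P = Nat.card G := by
      rw [← hmul]; rfl
    omega
  · rw [h] at hmul
    have hG : Nat.card ((⊤ : Subgroup G) : Set G) = Nat.card G := by
      rw [Subgroup.coe_top]; exact Nat.card_congr (Equiv.Set.univ G)
    rw [hG] at hmul
    have hpos : 0 < Nat.card G := Nat.card_pos
    have : Nat.card ((P : Subgroup G) : Set G) = 1 := by
      have : Nat.card G * Nat.card ((P : Subgroup G) : Set G) = Nat.card G * 1 := by
        rw [hmul, mul_one]
      exact Nat.eq_of_mul_eq_mul_left hpos this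
    have h3 : Nat.card P = 1 := this
    omega

/-- a Sylow subgroup of a simple group which is neither trivial nor everything is not normal -/
theorem g4_normalizer_ne_top [Finite G] [IsSimpleGroup G] {p : ℕ} [Fact p.Prime] (P : Sylow p G)
    (h1 : 1 < Nat.card P) (h2 : Nat.card P < Nat.card G) :
    Subgroup.normalizer ((P : Subgroup G) : Set G) ≠ ⊤ := by
  intro h
  have hn : (P : Subgroup G).Normal := Subgroup.normalizer_eq_top_iff.mp h
  rcases hn.eq_bot_or_eq_top with hb | ht
  · have : Nat.card (P : Subgroup G) = 1 := by rw [hb]; exact Subgroup.card_bot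
    omega
  · have : Nat.card (P : Subgroup G) = Nat.card G := by rw [ht]; exact Subgroup.card_top
    omega

theorem g4_seven_le [Finite G] [IsSimpleGroup G] (hcard : Nat.card G = 2520) (H : Subgroup G)
    (hH : H ≠ ⊤) : 7 ≤ H.index := by
  have hfact : 2520 ∣ (H.index).factorial :=
    hcard ▸ Cfsg.Agent.Helper37.A7.card_dvd_index_factorial_aux H hH
  by_contra hlt
  push_neg at hlt
  have h6 : (H.index).factorial ∣ (6 : ℕ).factorial := Nat.factorial_dvd_factorial (by omega)
  have : 2520 ∣ (6 : ℕ).factorial := hfact.trans h6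
  exact absurd this (by decide)

/-- the number of fixed points of `x` (of prime order `q`, normalizing `R`) on `R` is congruent to
`|R|` mod `q` -/
theorem g4_card_fixed [Finite G] (R : Subgroup G) (x : G) (hx : ∀ r ∈ R, x * r * x⁻¹ ∈ R)
    (q : ℕ) [Fact q.Prime] (hxq : x ^ q = 1) :
    Nat.card (R ⊓ Subgroup.centralizer {x} : Subgroup G) % q = Nat.card R % q := by
  classical
  have : Fintype R := Fintype.ofFinite _
  have hf : (g4conj R x hx) ^ q ^ 1 = 1 := by
    funext r
    apply Subtype.ext
    rw [pow_one, g4conj_pow, hxq]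
    show (1 : G) * r * (1 : G)⁻¹ = ((r : R) : G)
    simp
  have hmodeq := Equiv.Perm.card_fixedPoints_modEq (p := q) (n := 1) hf
  rw [Fintype.card_eq_nat_card, Fintype.card_eq_nat_card] at hmodeq
  have h1 : Nat.card R % q = Nat.card (Function.fixedPoints (g4conj R x hx)) % q := hmodeq
  rw [h1]
  congr 1
  refine Nat.card_congr ⟨fun c => ⟨⟨(c : G), c.2.1⟩, ?_⟩, fun c => ⟨((c : R) : G), ⟨(c : R).2, ?_⟩⟩,
    fun c => rfl, fun c => rfl⟩
  · -- a commuting element is fixed
    have hc : (c : G) ∈ Subgroup.centralizer {x} := c.2.2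
    rw [Subgroup.mem_centralizer_iff] at hc
    have hc' : x * (c : G) = (c : G) * x := hc x rfl
    show g4conj R x hx ⟨(c : G), c.2.1⟩ = ⟨(c : G), c.2.1⟩
    apply Subtype.ext
    show x * (c : G) * x⁻¹ = (c : G)
    rw [hc']; group
  · have hc : g4conj R x hx (c : R) = (c : R) := c.2
    have hc' : x * ((c : R) : G) * x⁻¹ = ((c : R) : G) := congrArg Subtype.val hc
    show ((c : R) : G) ∈ Subgroup.centralizer {x}
    rw [Subgroup.mem_centralizer_iff]
    intro h hh
    rw [Set.mem_singleton_iff] at hh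
    subst hh
    calc h * ((c : R) : G) = (h * ((c : R) : G) * h⁻¹) * h := by group
      _ = ((c : R) : G) * h := by rw [hc']

/-- an element of order 7 cannot normalize a subgroup of order 9 -/
theorem g4_seven_false [Finite G]
    (h7 : ∀ x : G, orderOf x = 7 → ∀ c : G, c * x = x * c → c ∈ Subgroup.zpowers x)
    (R : Subgroup G) (hR : Nat.card R = 9)
    (h7N : 7 ∣ Nat.card (Subgroup.normalizer ((R : Subgroup G) : Set G))) : False := by
  haveI : Fact (Nat.Prime 7) := ⟨by norm_num⟩
  obtain ⟨x, hx⟩ := exists_prime_orderOf_dvd_card' 7 h7N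
  have hx7 : orderOf (x : G) = 7 := by rw [Subgroup.orderOf_coe]; exact hx
  have hxn : ∀ r ∈ R, (x : G) * r * (x : G)⁻¹ ∈ R := fun r hr =>
    (Subgroup.mem_normalizer_iff.mp x.2 r).mp hr
  have hpow : (x : G) ^ 7 = 1 := by rw [← hx7]; exact pow_orderOf_eq_one _
  obtain ⟨r, hrR, hr1, hcomm⟩ := g4_exists_fixed R (x : G) hxn 7 hpow (by rw [hR])
  have hmem := h7 (x : G) hx7 r hcomm.symm
  have hd7 : orderOf r ∣ 7 := hx7 ▸ orderOf_dvd_of_mem_zpowers hmem
  have hd9 : orderOf r ∣ 9 := hR ▸ Subgroup.orderOf_dvd_natCard R hrR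
  have : orderOf r ∣ Nat.gcd 7 9 := Nat.dvd_gcd hd7 hd9
  have h1 : orderOf r = 1 := Nat.eq_one_of_dvd_one (by simpa using this)
  exact hr1 (orderOf_eq_one_iff.mp h1)

/-- a subgroup `R` of order 9 normalized by an element `y` of order 5 is centralized by it -/
theorem g4_five_centralizes [Finite G] (R : Subgroup G) (hR : Nat.card R = 9) (y : G)
    (hy : y ^ 5 = 1) (hyn : ∀ r ∈ R, y * r * y⁻¹ ∈ R) : ∀ r ∈ R, y * r = r * y := by
  haveI : Fact (Nat.Prime 5) := ⟨by norm_num⟩
  have hmod := g4_card_fixed R y hyn 5 hy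
  rw [hR] at hmod
  have hdvd : Nat.card (R ⊓ Subgroup.centralizer {y} : Subgroup G) ∣ 9 :=
    hR ▸ Subgroup.card_dvd_of_le inf_le_left
  have hle : Nat.card (R ⊓ Subgroup.centralizer {y} : Subgroup G) ≤ 9 :=
    Nat.le_of_dvd (by norm_num) hdvd
  have h9 : Nat.card (R ⊓ Subgroup.centralizer {y} : Subgroup G) = 9 := by
    generalize Nat.card (R ⊓ Subgroup.centralizer {y} : Subgroup G) = k at hmod hdvd hle
    interval_cases k <;> simp_all
  have heq : R ⊓ Subgroup.centralizer {y} = R :=
    Subgroup.eq_of_le_of_card_ge inf_le_left (by rw [h9, hR])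
  intro r hr
  have hr' : r ∈ R ⊓ Subgroup.centralizer {y} := by rw [heq]; exact hr
  have := Subgroup.mem_centralizer_iff.mp hr'.2 y rfl
  exact this

/-- if the normalizer of a Sylow 5-subgroup has odd order 45 it centralizes the Sylow subgroup -/
theorem g4_normalizer_le_centralizer_five [Finite G] (P : Sylow 5 G) (hP : Nat.card P = 5)
    (hN : Nat.card (Subgroup.normalizer ((P : Subgroup G) : Set G)) = 45) :
    Subgroup.normalizer ((P : Subgroup G) : Set G) ≤ Subgroup.centralizer (P : Set G) := by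
  haveI : Fact (Nat.Prime 5) := ⟨by norm_num⟩
  have hcyc : IsCyclic P := isCyclic_of_prime_card hP
  have key := Subgroup.card_dvd_of_injective _
    (QuotientGroup.kerLift_injective (P : Subgroup G).normalizerMonoidHom)
  rw [Subgroup.normalizerMonoidHom_ker, ← Subgroup.index, ← Subgroup.relIndex] at key
  rw [IsCyclic.card_mulAut, hP] at key
  have h4 : Nat.totient 5 = 4 := by decide
  rw [h4] at key
  have h45 : (Subgroup.centralizer ((P : Subgroup G) : Set G)).relIndex
      (Subgroup.normalizer ((P : Subgroup G) : Set G)) ∣ 45 := by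
    rw [← hN]
    exact Subgroup.relIndex_dvd_card _ _
  have h1 : (Subgroup.centralizer ((P : Subgroup G) : Set G)).relIndex
      (Subgroup.normalizer ((P : Subgroup G) : Set G)) ∣ Nat.gcd 4 45 := Nat.dvd_gcd key h45
  have h1' : (Subgroup.centralizer ((P : Subgroup G) : Set G)).relIndex
      (Subgroup.normalizer ((P : Subgroup G) : Set G)) = 1 :=
    Nat.eq_one_of_dvd_one (by simpa using h1)
  exact Subgroup.relIndex_eq_one.mp h1'

/-- the case `n_3 = 28` (`|N(R)| = 90`) is impossible -/
theorem g4_case28_false [Finite G] [IsSimpleGroup G] (hcard : Nat.card G = 2520) (R : Sylow 3 G)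
    (hR9 : Nat.card R = 9)
    (hN : Nat.card (Subgroup.normalizer ((R : Subgroup G) : Set G)) = 90) : False := by
  classical
  haveI : Fact (Nat.Prime 5) := ⟨by norm_num⟩
  have h5N : 5 ∣ Nat.card (Subgroup.normalizer ((R : Subgroup G) : Set G)) := by
    rw [hN]; norm_num
  obtain ⟨y, hy⟩ := exists_prime_orderOf_dvd_card' 5 h5N
  have hy5 : orderOf (y : G) = 5 := by rw [Subgroup.orderOf_coe]; exact hy
  have hyn : ∀ r ∈ (R : Subgroup G), (y : G) * r * (y : G)⁻¹ ∈ (R : Subgroup G) := fun r hr =>
    (Subgroup.mem_normalizer_iff.mp y.2 r).mp hr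
  have hpow : (y : G) ^ 5 = 1 := by rw [← hy5]; exact pow_orderOf_eq_one _
  have hcent := g4_five_centralizes (R : Subgroup G) hR9 (y : G) hpow hyn
  -- the Sylow 5-subgroup generated by `y`
  have hzp : IsPGroup 5 (Subgroup.zpowers (y : G)) := by
    apply IsPGroup.of_card (n := 1)
    rw [Nat.card_zpowers, hy5, pow_one]
  obtain ⟨P, hP⟩ := hzp.exists_le_sylow
  have hP5 : Nat.card P = 5 := by
    rw [Sylow.card_eq_multiplicity, hcard, g4_fact5]; norm_num
  have hPeq : Subgroup.zpowers (y : G) = (P : Subgroup G) :=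
    Subgroup.eq_of_le_of_card_ge hP (by rw [Nat.card_zpowers, hy5, hP5])
  set N5 := Subgroup.normalizer ((P : Subgroup G) : Set G) with hN5def
  have hRle : (R : Subgroup G) ≤ N5 := by
    intro r hr
    apply Subgroup.centralizer_le_normalizer
    rw [Subgroup.mem_centralizer_iff]
    intro h hh
    have hh' : h ∈ Subgroup.zpowers (y : G) := by rw [hPeq]; exact hh
    obtain ⟨k, rfl⟩ := Subgroup.mem_zpowers_iff.mp hh'
    have hc : Commute (y : G) r := hcent r hr
    exact (hc.zpow_left k).eq
  have hPle : (P : Subgroup G) ≤ N5 := Subgroup.le_normalizer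
  have h9 : 9 ∣ Nat.card N5 := hR9 ▸ Subgroup.card_dvd_of_le hRle
  have h5 : 5 ∣ Nat.card N5 := hP5 ▸ Subgroup.card_dvd_of_le hPle
  have h45 : 45 ∣ Nat.card N5 := by
    have : Nat.Coprime 9 5 := by norm_num
    exact this.mul_dvd_of_dvd_of_dvd h9 h5
  have hmul : Nat.card N5 * N5.index = 2520 := hcard ▸ N5.card_mul_index
  have hmod : N5.index % 5 = 1 := by
    have h := card_sylow_modEq_one 5 G
    rw [Sylow.card_eq_index_normalizer P] at h
    exact h
  have hNtop : N5 ≠ ⊤ := g4_normalizer_ne_top P (by omega) (by omega)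
  have h7le : 7 ≤ N5.index := g4_seven_le hcard N5 hNtop
  obtain ⟨m, hm⟩ := h45
  have hmn : m * N5.index = 56 := by
    rw [hm] at hmul
    have : 45 * (m * N5.index) = 45 * 56 := by rw [← mul_assoc]; exact hmul
    exact Nat.eq_of_mul_eq_mul_left (by norm_num) this
  have hm1 : m = 1 := by
    generalize N5.index = i at hmn hmod h7le
    have hm8 : m ≤ 8 := by nlinarith
    interval_cases m <;> omega
  have hN45 : Nat.card N5 = 45 := by rw [hm, hm1]
  have hle := g4_normalizer_le_centralizer_five P hP5 hN45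
  exact g4_burnside_false P hle (by omega) (by omega)

/-- (G4) `n_3 ∈ {7, 70}` -/
theorem exists_index_seven_or_normalizer_sylow_three [Finite G] [IsSimpleGroup G]
    (hcard : Nat.card G = 2520)
    (h7 : ∀ x : G, orderOf x = 7 → ∀ c : G, c * x = x * c → c ∈ Subgroup.zpowers x) :
    (∃ H : Subgroup G, H.index = 7) ∨
      ∃ R : Sylow 3 G, Nat.card (Subgroup.normalizer ((R : Subgroup G) : Set G)) = 36 := by
  classical
  haveI : Fact (Nat.Prime 3) := ⟨by norm_num⟩
  obtain ⟨R⟩ : Nonempty (Sylow 3 G) := inferInstance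
  have hR9 : Nat.card R = 9 := by
    rw [Sylow.card_eq_multiplicity, hcard, g4_fact3]; norm_num
  set N := Subgroup.normalizer ((R : Subgroup G) : Set G) with hNdef
  have hRN : (R : Subgroup G) ≤ N := Subgroup.le_normalizer
  have h9N : 9 ∣ Nat.card N := hR9 ▸ Subgroup.card_dvd_of_le hRN
  have hmul : Nat.card N * N.index = 2520 := hcard ▸ N.card_mul_index
  have hmod : N.index % 3 = 1 := by
    have h := card_sylow_modEq_one 3 G
    rw [Sylow.card_eq_index_normalizer R] at h
    exact h
  have hNtop : N ≠ ⊤ := g4_normalizer_ne_top R (by omega) (by omega)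
  have h7le : 7 ≤ N.index := g4_seven_le hcard N hNtop
  obtain ⟨m, hm⟩ := h9N
  have hmn : m * N.index = 280 := by
    rw [hm] at hmul
    have : 9 * (m * N.index) = 9 * 280 := by rw [← mul_assoc]; exact hmul
    exact Nat.eq_of_mul_eq_mul_left (by norm_num) this
  have hcases : (m = 40 ∧ N.index = 7) ∨ (m = 28 ∧ N.index = 10) ∨ (m = 10 ∧ N.index = 28) ∨
      (m = 7 ∧ N.index = 40) ∨ (m = 4 ∧ N.index = 70) ∨ (m = 1 ∧ N.index = 280) := by
    generalize N.index = i at hmn hmod h7le
    have hm40 : m ≤ 40 := by nlinarith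
    interval_cases m <;> omega
  rcases hcases with ⟨hm', h⟩ | ⟨hm', h⟩ | ⟨hm', h⟩ | ⟨hm', h⟩ | ⟨hm', h⟩ | ⟨hm', h⟩
  · exact Or.inl ⟨N, h⟩
  · exfalso
    exact g4_seven_false h7 (R : Subgroup G) hR9 (by rw [← hNdef, hm, hm']; norm_num)
  · exfalso
    exact g4_case28_false hcard R hR9 (by rw [← hNdef, hm, hm'])
  · exfalso
    exact g4_seven_false h7 (R : Subgroup G) hR9 (by rw [← hNdef, hm, hm']; norm_num)
  · exact Or.inr ⟨R, by rw [← hNdef, hm, hm']⟩
  · exfalso
    have hN9 : Nat.card N = 9 := by rw [hm, hm']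
    have hNR : (R : Subgroup G) = N := Subgroup.eq_of_le_of_card_ge hRN (by rw [hN9, hR9])
    have hcomm := IsPGroup.commutative_of_card_eq_prime_sq (p := 3) (G := R) (by rw [hR9]; norm_num)
    have hle : N ≤ Subgroup.centralizer ((R : Subgroup G) : Set G) := by
      intro g hg
      rw [← hNR] at hg
      rw [Subgroup.mem_centralizer_iff]
      intro h hh
      have := hcomm ⟨h, hh⟩ ⟨g, hg⟩
      exact congrArg Subtype.val this
    exact g4_burnside_false R hle (by omega) (by omega)

end Cfsg.Agent.Helper89.A7
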