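import Cfsg.Agent.Helper88.PSp4Hyp

/-! (G4b) of helper88's S5320 plan (#5347): two elements of `SL₂(F)` (`F` finite of odd order)
of square `-1` are conjugate in `SL₂(F)`. -/

set_option autoImplicit false

namespace Cfsg.Agent.Helper89.PSp4G4b

open Matrix Equiv Polynomial Cfsg.Agent.Helper42 Cfsg.Agent.Helper88.PSp4F

variable {F : Type*} [Field F]

/-- the standard element of square `-1` -/
def J0 (F : Type*) [Field F] : SL2 F := ⟨!![0, -1; 1, 0], by simp [Matrix.det_fin_two_of]⟩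

theorem two_ne_zero_of_card [Fintype F] (hF : Fintype.card F % 2 = 1) : (2 : F) ≠ 0 := by
  intro h
  have h2 : ringChar F = 2 :=
    CharP.ringChar_of_prime_eq_zero Nat.prime_two (by exact_mod_cast h)
  have := FiniteField.even_card_of_char_two h2
  omega

theorem exists_sq_add_sq [Fintype F] (hF : Fintype.card F % 2 = 1) (e : F) :
    ∃ α β : F, α ^ 2 + β ^ 2 = e := by
  obtain ⟨a, b, h⟩ := FiniteField.exists_root_sum_quadratic (f := (X : F[X]) ^ 2)
    (g := (X : F[X]) ^ 2 - C e) (degree_X_pow 2) (degree_X_pow_sub_C (by norm_num) e) hF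
  refine ⟨a, b, ?_⟩
  simp only [eval_pow, eval_X, eval_sub, eval_C] at h
  linear_combination h

/-- the relations between the entries of an element of square `-1` -/
theorem entries (A : SL2 F) (hA : A * A = negOneSL F) :
    A.1 0 0 * A.1 1 1 - A.1 0 1 * A.1 1 0 = 1 ∧
    A.1 0 0 * A.1 0 0 + A.1 0 1 * A.1 1 0 = -1 ∧
    A.1 0 0 * A.1 0 1 + A.1 0 1 * A.1 1 1 = 0 ∧
    A.1 1 0 * A.1 0 0 + A.1 1 1 * A.1 1 0 = 0 ∧
    A.1 1 0 * A.1 0 1 + A.1 1 1 * A.1 1 1 = -1 := by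
  have hdet : A.1 0 0 * A.1 1 1 - A.1 0 1 * A.1 1 0 = 1 := by
    have := A.2
    rw [Matrix.det_fin_two] at this
    exact this
  have hAA : A.1 * A.1 = Matrix.scalar (Fin 2) (-1 : F) := congrArg Subtype.val hA
  have e00 := congrFun (congrFun hAA 0) 0
  have e01 := congrFun (congrFun hAA 0) 1
  have e10 := congrFun (congrFun hAA 1) 0
  have e11 := congrFun (congrFun hAA 1) 1
  simp only [Matrix.mul_apply, Fin.sum_univ_two, Matrix.scalar_apply, Matrix.diagonal_apply_eq,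
    Matrix.diagonal_apply_ne, ne_eq, zero_ne_one, one_ne_zero, not_false_eq_true] at e00 e01 e10 e11
  exact ⟨hdet, e00, e01, e10, e11⟩

theorem conj_of_vec (A : SL2 F) (hA : A * A = negOneSL F) (w1 w2 : F)
    (hq : w1 * (A.1 1 0 * w1 + A.1 1 1 * w2) - w2 * (A.1 0 0 * w1 + A.1 0 1 * w2) = 1) :
    ∃ k : SL2 F, A * k = k * J0 F := by
  obtain ⟨-, e00, e01, e10, e11⟩ := entries A hA
  refine ⟨⟨!![w1, A.1 0 0 * w1 + A.1 0 1 * w2; w2, A.1 1 0 * w1 + A.1 1 1 * w2], ?_⟩,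
    Subtype.ext ?_⟩
  · rw [Matrix.det_fin_two_of]
    linear_combination hq
  · show A.1 * !![w1, A.1 0 0 * w1 + A.1 0 1 * w2; w2, A.1 1 0 * w1 + A.1 1 1 * w2] =
      !![w1, A.1 0 0 * w1 + A.1 0 1 * w2; w2, A.1 1 0 * w1 + A.1 1 1 * w2] * !![0, -1; 1, 0]
    ext i j
    fin_cases i <;> fin_cases j <;>
      simp [Matrix.mul_apply, Fin.sum_univ_two]
    · linear_combination w1 * e00 + w2 * e01
    · linear_combination w1 * e10 + w2 * e11

theorem exists_conj_J0 [Fintype F] (hF : Fintype.card F % 2 = 1) (A : SL2 F)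
    (hA : A * A = negOneSL F) : ∃ k : SL2 F, A * k = k * J0 F := by
  have h2 := two_ne_zero_of_card hF
  obtain ⟨hdet, e00, e01, e10, e11⟩ := entries A hA
  -- trace zero
  have hd : A.1 1 1 = - A.1 0 0 := by
    by_contra hne
    have hs : A.1 0 0 + A.1 1 1 ≠ 0 := fun h => hne (by linear_combination h)
    have hb : A.1 0 1 = 0 := by
      have h3 : (A.1 0 0 + A.1 1 1) * A.1 0 1 = 0 := by linear_combination e01
      exact (mul_eq_zero.1 h3).resolve_left hs
    have h4 : (A.1 0 0 - A.1 1 1) * (A.1 0 0 + A.1 1 1) = 0 := by linear_combination e00 - e11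
    have had : A.1 0 0 = A.1 1 1 := by
      rcases mul_eq_zero.1 h4 with h | h
      · linear_combination h
      · exact absurd h hs
    apply h2
    rw [hb] at e00 hdet
    rw [← had] at hdet
    linear_combination e00 - hdet
  by_cases hc : A.1 1 0 = 0
  · by_cases hb : A.1 0 1 = 0
    · -- `b = c = 0`, `a ^ 2 = -1`
      have ha : A.1 0 0 ≠ 0 := by
        intro h
        rw [h, hb] at e00
        simp at e00
      obtain ⟨α, β, hαβ⟩ := exists_sq_add_sq hF (-2 * A.1 0 0)⁻¹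
      refine conj_of_vec A hA (α + β * A.1 0 0) (α - β * A.1 0 0) ?_
      rw [hc, hb, hd]
      have h5 : -2 * A.1 0 0 ≠ 0 := mul_ne_zero (neg_ne_zero.mpr h2) ha
      have h6 : (-2 * A.1 0 0) * (α ^ 2 + β ^ 2) = 1 := by
        rw [hαβ]
        exact mul_inv_cancel₀ h5
      rw [hb] at e00
      linear_combination h6 + 2 * A.1 0 0 * β ^ 2 * e00
    · obtain ⟨α, β, hαβ⟩ := exists_sq_add_sq hF (- A.1 0 1)⁻¹
      refine conj_of_vec A hA (β * A.1 0 1) (α - β * A.1 0 0) ?_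
      rw [hd]
      have h5 : - A.1 0 1 ≠ 0 := neg_ne_zero.mpr hb
      have h6 : (- A.1 0 1) * (α ^ 2 + β ^ 2) = 1 := by
        rw [hαβ]
        exact mul_inv_cancel₀ h5
      linear_combination h6 + A.1 0 1 * β ^ 2 * e00
  · obtain ⟨α, β, hαβ⟩ := exists_sq_add_sq hF (A.1 1 0)⁻¹
    refine conj_of_vec A hA (α + β * A.1 0 0) (β * A.1 1 0) ?_
    rw [hd]
    have h6 : A.1 1 0 * (α ^ 2 + β ^ 2) = 1 := by
      rw [hαβ]
      exact mul_inv_cancel₀ hc
    linear_combination h6 - A.1 1 0 * β ^ 2 * e00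

/-- (G4b) -/
theorem exists_conj_SL2_of_sq [Fintype F] (hF : Fintype.card F % 2 = 1) (A B : SL2 F)
    (hA : A * A = negOneSL F) (hB : B * B = negOneSL F) : ∃ k : SL2 F, k * A * k⁻¹ = B := by
  obtain ⟨kA, hkA⟩ := exists_conj_J0 hF A hA
  obtain ⟨kB, hkB⟩ := exists_conj_J0 hF B hB
  refine ⟨kB * kA⁻¹, ?_⟩
  calc kB * kA⁻¹ * A * (kB * kA⁻¹)⁻¹ = kB * (kA⁻¹ * (A * kA)) * kB⁻¹ := by group
    _ = kB * (kA⁻¹ * (kA * J0 F)) * kB⁻¹ := by rw [hkA]
    _ = (kB * J0 F) * kB⁻¹ := by group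
    _ = (B * kB) * kB⁻¹ := by rw [hkB]
    _ = B := by group

end Cfsg.Agent.Helper89.PSp4G4b
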