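import Cfsg.Agent.Helper88.PSp4Hyp

/-! (G5) of helper88's S5320 plan (#5347): the centralizer of `t₀` in `Sp₄(F)` is
`ι(SL₂ × SL₂)`. -/

set_option autoImplicit false

namespace Cfsg.Agent.Helper89.PSp4G5

open Matrix Equiv Cfsg.Agent.Helper42 Cfsg.Agent.Helper85 Cfsg.Agent.Helper84
  Cfsg.Agent.Helper88.PSp4F

variable {F : Type*} [Field F]

/-- the diagonal of `t₀` -/
def dT (F : Type*) [Field F] : Fin 2 ⊕ Fin 2 → F := Sum.elim ![(-1 : F), 1] ![(-1 : F), 1]

theorem t0_val : (t0 F).1 = Matrix.diagonal (dT F) := by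
  show bMat ![negOneSL F, 1] = _
  unfold bMat dT
  ext i j
  rcases i with i | i <;> rcases j with j | j <;> fin_cases i <;> fin_cases j <;>
    simp [negOneSL]

theorem entry_zero (g : Sp4 F) (hg : g * t0 F = t0 F * g) (i j : Fin 2 ⊕ Fin 2)
    (hij : dT F i ≠ dT F j) : g.1 i j = 0 := by
  have hcomm : g.1 * (t0 F).1 = (t0 F).1 * g.1 := congrArg Subtype.val hg
  rw [t0_val] at hcomm
  have h1 := congrFun (congrFun hcomm i) j
  rw [Matrix.mul_diagonal, Matrix.diagonal_mul] at h1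
  have h3 : (dT F j - dT F i) * g.1 i j = 0 := by linear_combination h1
  rcases mul_eq_zero.1 h3 with h | h
  · exact absurd (sub_eq_zero.1 h).symm hij
  · exact h

/-- (G5) -/
theorem hG5 (h2 : (2 : F) ≠ 0) : HG5 F := by
  intro g hg
  have hne : (-1 : F) ≠ 1 := by
    intro h
    apply h2
    linear_combination -h
  have hne' : (1 : F) ≠ -1 := fun h => hne h.symm
  have z1 : g.1 (Sum.inl 0) (Sum.inl 1) = 0 := entry_zero g hg _ _ (by simpa [dT] using hne)
  have z2 : g.1 (Sum.inl 1) (Sum.inl 0) = 0 := entry_zero g hg _ _ (by simpa [dT] using hne')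
  have z3 : g.1 (Sum.inl 0) (Sum.inr 1) = 0 := entry_zero g hg _ _ (by simpa [dT] using hne)
  have z4 : g.1 (Sum.inl 1) (Sum.inr 0) = 0 := entry_zero g hg _ _ (by simpa [dT] using hne')
  have z5 : g.1 (Sum.inr 0) (Sum.inl 1) = 0 := entry_zero g hg _ _ (by simpa [dT] using hne)
  have z6 : g.1 (Sum.inr 1) (Sum.inl 0) = 0 := entry_zero g hg _ _ (by simpa [dT] using hne')
  have z7 : g.1 (Sum.inr 0) (Sum.inr 1) = 0 := entry_zero g hg _ _ (by simpa [dT] using hne)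
  have z8 : g.1 (Sum.inr 1) (Sum.inr 0) = 0 := entry_zero g hg _ _ (by simpa [dT] using hne')
  have hmem : fromBlocks g.1.toBlocks₁₁ g.1.toBlocks₁₂ g.1.toBlocks₂₁ g.1.toBlocks₂₂ ∈
      symplecticGroup (Fin 2) F := by
    rw [Matrix.fromBlocks_toBlocks]
    exact g.2
  obtain ⟨-, -, h3⟩ := SymplecticGroup.fromBlocks_mem_iff.1 hmem
  have d0 := congrFun (congrFun h3 0) 0
  have d1 := congrFun (congrFun h3 1) 1
  simp only [Matrix.sub_apply, Matrix.mul_apply, Fin.sum_univ_two, Matrix.transpose_apply,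
    Matrix.toBlocks₁₁, Matrix.toBlocks₁₂, Matrix.toBlocks₂₁, Matrix.toBlocks₂₂, Matrix.of_apply,
    Matrix.one_apply_eq, z1, z2, z3, z4, z5, z6, z7, z8, mul_zero, zero_mul, add_zero,
    zero_add] at d0 d1
  let a : SL2 F := ⟨!![g.1 (Sum.inl 0) (Sum.inl 0), g.1 (Sum.inl 0) (Sum.inr 0);
    g.1 (Sum.inr 0) (Sum.inl 0), g.1 (Sum.inr 0) (Sum.inr 0)], by
      rw [Matrix.det_fin_two_of]
      linear_combination d0⟩
  let b : SL2 F := ⟨!![g.1 (Sum.inl 1) (Sum.inl 1), g.1 (Sum.inl 1) (Sum.inr 1);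
    g.1 (Sum.inr 1) (Sum.inl 1), g.1 (Sum.inr 1) (Sum.inr 1)], by
      rw [Matrix.det_fin_two_of]
      linear_combination d1⟩
  refine ⟨a, b, Subtype.ext ?_⟩
  show g.1 = bMat ![a, b]
  unfold bMat
  ext i j
  rcases i with i | i <;> rcases j with j | j <;> fin_cases i <;> fin_cases j <;>
    simp [a, b, z1, z2, z3, z4, z5, z6, z7, z8]

end Cfsg.Agent.Helper89.PSp4G5
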