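import Cfsg.Agent.Helper85.A7Defs
import Cfsg.Agent.S0074

/-!
# S0984 sub-tree LOC, piece (G3b) (helper89 for helper85, board #8843)

`G` simple of order 2520 with an elementary abelian Sylow 2-subgroup `S` (order 8): all involutions
of `S` are conjugate in `G` (in fact under `N_G(S)`).
-/

set_option autoImplicit false

namespace Cfsg.Agent.Helper89.A7

open Cfsg Cfsg.Agent.Helper85.A7
open scoped ComplexConjugate commutatorElement

universe u

variable {G : Type u} [Group G]

/-- a simple group of order 2520 is perfect -/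
theorem g3b_commutator_eq_top [Finite G] [IsSimpleGroup G] (hcard : Nat.card G = 2520) :
    commutator G = ⊤ := by
  rcases (inferInstance : (commutator G).Normal).eq_bot_or_eq_top with h | h
  · exfalso
    have hcomm : ∀ a b : G, a * b = b * a := by
      intro a b
      have hm : ⁅a, b⁆ ∈ commutator G :=
        Subgroup.commutator_mem_commutator (Subgroup.mem_top a) (Subgroup.mem_top b)
      rw [h, Subgroup.mem_bot, commutatorElement_eq_one_iff_mul_comm] at hm
      exact hm
    letI : CommGroup G := { ‹Group G› with mul_comm := hcomm }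
    have hp := IsSimpleGroup.prime_card (α := G)
    rw [hcard] at hp
    norm_num at hp
  · exact h

theorem g3b_card_sylow_two [Finite G] (hcard : Nat.card G = 2520) (S : Sylow 2 G) :
    Nat.card (S : Subgroup G) = 8 := by
  have h := S.card_eq_multiplicity
  rw [hcard] at h
  have h3 : (2520 : ℕ).factorization 2 = 3 := by
    have : (2520 : ℕ) = 2 ^ 3 * 315 := by norm_num
    rw [this, Nat.factorization_mul (by norm_num) (by norm_num), Nat.Prime.factorization_pow
      Nat.prime_two]
    simp [Nat.factorization_eq_zero_of_not_dvd (show ¬ 2 ∣ 315 by norm_num)]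
  rw [h3] at h
  simpa using h

/-- the conjugation action of the normalizer of `S` on `S` -/
@[reducible] def g3bAct (S : Subgroup G) : MulAction (Subgroup.normalizer (S : Set G)) S where
  smul n s := ⟨(n : G) * s * (n : G)⁻¹, (Subgroup.mem_normalizer_iff.mp n.2 s).mp s.2⟩
  one_smul s := Subtype.ext (by
    show ((1 : Subgroup.normalizer (S : Set G)) : G) * s *
      ((1 : Subgroup.normalizer (S : Set G)) : G)⁻¹ = s
    simp)
  mul_smul a b s := Subtype.ext (by
    show ((a * b : Subgroup.normalizer (S : Set G)) : G) * s *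
      ((a * b : Subgroup.normalizer (S : Set G)) : G)⁻¹ = (a : G) * ((b : G) * s * (b : G)⁻¹) * (a : G)⁻¹
    simp [mul_assoc])

attribute [local instance] g3bAct

/-- the index of `S` in its normalizer is odd -/
theorem g3b_relIndex_odd [Finite G] (S : Sylow 2 G) :
    ¬ 2 ∣ ((S : Subgroup G).subgroupOf (Subgroup.normalizer ((S : Subgroup G) : Set G))).index := by
  haveI : Fact (Nat.Prime 2) := ⟨Nat.prime_two⟩
  intro h
  have h4 : ((S : Subgroup G).subgroupOf (Subgroup.normalizer ((S : Subgroup G) : Set G))).index ∣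
      (S : Subgroup G).index := Subgroup.relIndex_dvd_index_of_le Subgroup.le_normalizer
  exact S.not_dvd_index (h.trans h4)

/-- orbits of `N(S)` on an abelian Sylow 2-subgroup `S` have odd size -/
theorem g3b_orbit_odd [Finite G] (S : Sylow 2 G)
    (hS : ∀ a ∈ (S : Subgroup G), ∀ b ∈ (S : Subgroup G), a * b = b * a)
    (s : (S : Subgroup G)) :
    ¬ 2 ∣ (MulAction.orbit (Subgroup.normalizer ((S : Subgroup G) : Set G)) s).ncard := by
  rw [← MulAction.index_stabilizer]
  have hle : ((S : Subgroup G).subgroupOf (Subgroup.normalizer ((S : Subgroup G) : Set G))) ≤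
      MulAction.stabilizer (Subgroup.normalizer ((S : Subgroup G) : Set G)) s := by
    intro n hn
    rw [MulAction.mem_stabilizer_iff]
    apply Subtype.ext
    show (n : G) * s * (n : G)⁻¹ = s
    have := hS n (Subgroup.mem_subgroupOf.mp hn) s s.2
    rw [this]; group
  have h1 := Subgroup.index_dvd_of_le hle
  intro h2
  exact g3b_relIndex_odd S (h2.trans h1)

open scoped IsMulCommutative in
/-- no nonidentity element of `S` is centralized by `N(S)` -/
theorem g3b_no_fixed [Finite G] [IsSimpleGroup G] (hcard : Nat.card G = 2520)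
    (S : Sylow 2 G) (hexp : ∀ s ∈ (S : Subgroup G), s ^ 2 = 1)
    (hS : ∀ a ∈ (S : Subgroup G), ∀ b ∈ (S : Subgroup G), a * b = b * a)
    (z : G) (hz : z ∈ (S : Subgroup G)) (hz1 : z ≠ 1)
    (hfix : ∀ n ∈ Subgroup.normalizer ((S : Subgroup G) : Set G), n * z * n⁻¹ = z) : False := by
  haveI : Fact (Nat.Prime 2) := ⟨Nat.prime_two⟩
  set N := Subgroup.normalizer ((S : Subgroup G) : Set G) with hNdef
  have hcommS : IsMulCommutative (S : Subgroup G) :=
    ⟨⟨fun a b => Subtype.ext (hS a a.2 b b.2)⟩⟩
  have h74 := Cfsg.Agent.S0074.result S hcommS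
  rw [g3b_commutator_eq_top hcard, top_inf_eq] at h74
  have hz' := hz
  rw [h74] at hz'
  have hzNN : z ∈ ⁅N, N⁆ := hz'.1
  rw [← Subgroup.map_subtype_commutator] at hzNN
  obtain ⟨w, hw, hwz⟩ := hzNN
  have hwz' : (w : G) = z := hwz
  -- the transfer into `H = S ∩ N`
  set H := (S : Subgroup G).subgroupOf N with hHdef
  haveI : IsMulCommutative H := ⟨⟨fun a b => Subtype.ext (Subtype.ext (hS a a.2 b b.2))⟩⟩
  have hker : w ∈ (MonoidHom.transfer (MonoidHom.id H)).ker :=
    Abelianization.commutator_subset_ker _ hw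
  rw [MonoidHom.mem_ker] at hker
  have hcent : ∀ g₀ : N, g₀⁻¹ * w * g₀ = w := by
    intro g₀
    apply Subtype.ext
    have := hfix ((g₀ : G)⁻¹) (inv_mem g₀.2)
    rw [inv_inv] at this
    show (g₀ : G)⁻¹ * (w : G) * (g₀ : G) = (w : G)
    rw [hwz']; exact this
  have key : ∀ (k : ℕ) (g₀ : N), g₀⁻¹ * w ^ k * g₀ ∈ H → g₀⁻¹ * w ^ k * g₀ = w ^ k := by
    intro k g₀ _
    have hc : Commute w g₀ := by
      have := hcent g₀
      calc w * g₀ = g₀ * (g₀⁻¹ * w * g₀) := by group
        _ = g₀ * w := by rw [this]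
    have hck : Commute (w ^ k) g₀ := hc.pow_left k
    calc g₀⁻¹ * w ^ k * g₀ = g₀⁻¹ * (w ^ k * g₀) := by group
      _ = g₀⁻¹ * (g₀ * w ^ k) := by rw [hck.eq]
      _ = w ^ k := by group
  have hpow := MonoidHom.transfer_eq_pow (MonoidHom.id H) w key
  rw [hker] at hpow
  have hpow' : w ^ H.index = 1 := by
    have := congrArg Subtype.val hpow.symm
    simpa using this
  have hzpow : z ^ H.index = 1 := by
    have := congrArg Subtype.val hpow'
    rw [← hwz']
    simpa using this
  have hodd : ¬ 2 ∣ H.index := g3b_relIndex_odd S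
  have hz2 : z ^ 2 = 1 := hexp z hz
  obtain ⟨m, hm⟩ : ∃ m, H.index = 2 * m + 1 := by
    rcases Nat.even_or_odd' H.index with ⟨m, hm | hm⟩
    · exact absurd ⟨m, hm⟩ hodd
    · exact ⟨m, hm⟩
  rw [hm, pow_succ, pow_mul, hz2, one_pow, one_mul] at hzpow
  exact hz1 hzpow

/-- three pairwise disjoint subsets of a finite type -/
theorem g3b_three_disjoint {X : Type*} [Finite X] (A B C : Set X) (hAB : Disjoint A B)
    (hAC : Disjoint A C) (hBC : Disjoint B C) : A.ncard + B.ncard + C.ncard ≤ Nat.card X := by
  have h1 : (A ∪ B).ncard = A.ncard + B.ncard := Set.ncard_union_eq hAB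
  have h2 : Disjoint (A ∪ B) C := Set.disjoint_union_left.mpr ⟨hAC, hBC⟩
  have h3 : ((A ∪ B) ∪ C).ncard = (A ∪ B).ncard + C.ncard := Set.ncard_union_eq h2
  have h4 := Set.ncard_le_card ((A ∪ B) ∪ C)
  omega

/-- (G3b) elementary abelian Sylow 2-subgroup of order 8: all its involutions are conjugate in `G`
(Burnside + transfer) -/
theorem invol_conj_of_exponent_two [Finite G] [IsSimpleGroup G] (hcard : Nat.card G = 2520)
    (S : Sylow 2 G) (hexp : ∀ s ∈ (S : Subgroup G), s ^ 2 = 1) :
    ∀ s ∈ (S : Subgroup G), ∀ t ∈ (S : Subgroup G), orderOf s = 2 → orderOf t = 2 →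
      IsConj s t := by
  classical
  -- `S` is abelian
  have hS : ∀ a ∈ (S : Subgroup G), ∀ b ∈ (S : Subgroup G), a * b = b * a := by
    intro a ha b hb
    have h1 := hexp a ha
    have h2 := hexp b hb
    have h3 := hexp (a * b) (mul_mem ha hb)
    have ha' : a⁻¹ = a := inv_eq_of_mul_eq_one_left (by rw [← sq]; exact h1)
    have hb' : b⁻¹ = b := inv_eq_of_mul_eq_one_left (by rw [← sq]; exact h2)
    have hab' : (a * b)⁻¹ = a * b := inv_eq_of_mul_eq_one_left (by rw [← sq]; exact h3)
    calc a * b = (a * b)⁻¹ := hab'.symm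
      _ = b⁻¹ * a⁻¹ := mul_inv_rev a b
      _ = b * a := by rw [ha', hb']
  set N := Subgroup.normalizer ((S : Subgroup G) : Set G) with hNdef
  have hX : Nat.card (S : Subgroup G) = 8 := g3b_card_sylow_two hcard S
  -- facts on orbits
  have h1mem : ∀ z : (S : Subgroup G), z ≠ 1 → (1 : (S : Subgroup G)) ∉ MulAction.orbit N z := by
    intro z hz h
    obtain ⟨n, hn⟩ := MulAction.mem_orbit_iff.mp h
    apply hz
    have h' : (n : G) * (z : G) * (n : G)⁻¹ = 1 := congrArg Subtype.val hn
    apply Subtype.ext
    have : (z : G) = (n : G)⁻¹ * ((n : G) * (z : G) * (n : G)⁻¹) * (n : G) := by group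
    rw [this, h']; simp
  have hge : ∀ z : (S : Subgroup G), z ≠ 1 → 3 ≤ (MulAction.orbit N z).ncard := by
    intro z hz
    have hodd : ¬ 2 ∣ (MulAction.orbit N z).ncard := g3b_orbit_odd S hS z
    have h0 : (MulAction.orbit N z).ncard ≠ 0 :=
      Set.ncard_ne_zero_of_mem (MulAction.mem_orbit_self z)
    have h1 : (MulAction.orbit N z).ncard ≠ 1 := by
      intro h
      obtain ⟨a, ha⟩ := Set.ncard_eq_one.mp h
      have hza : z = a := by
        have : z ∈ MulAction.orbit N z := MulAction.mem_orbit_self z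
        rw [ha] at this
        exact this
      apply g3b_no_fixed hcard S hexp hS (z : G) z.2 (fun h => hz (Subtype.ext h))
      intro n hn
      have : (⟨n, hn⟩ : N) • z ∈ MulAction.orbit N z :=
        MulAction.mem_orbit_iff.mpr ⟨⟨n, hn⟩, rfl⟩
      rw [ha, Set.mem_singleton_iff, ← hza] at this
      exact congrArg Subtype.val this
    have h2 : (MulAction.orbit N z).ncard ≠ 2 := fun h => hodd (by rw [h])
    omega
  -- transitivity
  have htrans : ∀ s t : (S : Subgroup G), s ≠ 1 → t ≠ 1 → t ∈ MulAction.orbit N s := by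
    intro s t hs ht
    by_contra hnot
    have hdisj : Disjoint (MulAction.orbit N s) (MulAction.orbit N t) := by
      rcases MulAction.orbit.eq_or_disjoint (G := N) s t with h | h
      · exfalso
        apply hnot
        rw [h]
        exact MulAction.mem_orbit_self t
      · exact h
    have hd1s : Disjoint ({1} : Set (S : Subgroup G)) (MulAction.orbit N s) :=
      Set.disjoint_singleton_left.mpr (h1mem s hs)
    have hd1t : Disjoint ({1} : Set (S : Subgroup G)) (MulAction.orbit N t) :=
      Set.disjoint_singleton_left.mpr (h1mem t ht)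
    have hcount := g3b_three_disjoint _ _ _ hd1s hd1t hdisj
    rw [Set.ncard_singleton, hX] at hcount
    have hs3 := hge s hs
    have ht3 := hge t ht
    have hsodd : ¬ 2 ∣ (MulAction.orbit N s).ncard := g3b_orbit_odd S hS s
    have htodd : ¬ 2 ∣ (MulAction.orbit N t).ncard := g3b_orbit_odd S hS t
    have hs3' : (MulAction.orbit N s).ncard = 3 := by omega
    have ht3' : (MulAction.orbit N t).ncard = 3 := by omega
    -- a further element
    set U : Set (S : Subgroup G) := ({1} ∪ MulAction.orbit N s) ∪ MulAction.orbit N t with hU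
    have hUcard : U.ncard = 7 := by
      have h1 : (({1} : Set (S : Subgroup G)) ∪ MulAction.orbit N s).ncard = 1 + 3 := by
        rw [Set.ncard_union_eq hd1s, Set.ncard_singleton, hs3']
      have h2 : Disjoint (({1} : Set (S : Subgroup G)) ∪ MulAction.orbit N s)
          (MulAction.orbit N t) := Set.disjoint_union_left.mpr ⟨hd1t, hdisj⟩
      rw [hU, Set.ncard_union_eq h2, h1, ht3']
    have hUne : U ≠ Set.univ := by
      intro h
      rw [h, Set.ncard_univ, hX] at hUcard
      omega
    obtain ⟨w, hw⟩ := (Set.ne_univ_iff_exists_notMem U).mp hUne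
    have hw1 : w ≠ 1 := by
      intro h
      apply hw
      rw [h]
      exact Or.inl (Or.inl rfl)
    have hws : Disjoint (MulAction.orbit N s) (MulAction.orbit N w) := by
      rcases MulAction.orbit.eq_or_disjoint (G := N) s w with h | h
      · exfalso
        apply hw
        refine Or.inl (Or.inr ?_)
        rw [h]
        exact MulAction.mem_orbit_self w
      · exact h
    have hwt : Disjoint (MulAction.orbit N t) (MulAction.orbit N w) := by
      rcases MulAction.orbit.eq_or_disjoint (G := N) t w with h | h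
      · exfalso
        apply hw
        refine Or.inr ?_
        rw [h]
        exact MulAction.mem_orbit_self w
      · exact h
    have hd1w : Disjoint ({1} : Set (S : Subgroup G)) (MulAction.orbit N w) :=
      Set.disjoint_singleton_left.mpr (h1mem w hw1)
    have hd2 : Disjoint (({1} : Set (S : Subgroup G)) ∪ MulAction.orbit N s)
        (MulAction.orbit N w) := Set.disjoint_union_left.mpr ⟨hd1w, hws⟩
    have hd3 : Disjoint (({1} : Set (S : Subgroup G)) ∪ MulAction.orbit N s)
        (MulAction.orbit N t) := Set.disjoint_union_left.mpr ⟨hd1t, hdisj⟩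
    have hcount2 := g3b_three_disjoint _ _ _ hd3 hd2 hwt
    have h14 : (({1} : Set (S : Subgroup G)) ∪ MulAction.orbit N s).ncard = 1 + 3 := by
      rw [Set.ncard_union_eq hd1s, Set.ncard_singleton, hs3']
    rw [h14, ht3', hX] at hcount2
    have hw3 := hge w hw1
    omega
  -- conclusion
  intro s hs t ht hs2 ht2
  have hs1 : (⟨s, hs⟩ : (S : Subgroup G)) ≠ 1 := by
    intro h
    have : s = 1 := congrArg Subtype.val h
    rw [this, orderOf_one] at hs2
    omega
  have ht1 : (⟨t, ht⟩ : (S : Subgroup G)) ≠ 1 := by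
    intro h
    have : t = 1 := congrArg Subtype.val h
    rw [this, orderOf_one] at ht2
    omega
  obtain ⟨n, hn⟩ := MulAction.mem_orbit_iff.mp (htrans ⟨s, hs⟩ ⟨t, ht⟩ hs1 ht1)
  have h' : (n : G) * s * (n : G)⁻¹ = t := congrArg Subtype.val hn
  exact isConj_iff.mpr ⟨(n : G), h'⟩

end Cfsg.Agent.Helper89.A7
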