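import Mathlib
import Cfsg.Prelude.Def_FischerSpaces

/-!
# Fischer spaces: the involutions t(x)

Relational description of the "third point" of a line system, the maps `lineMap L x`,
their transport along isomorphisms and restriction to subspaces, and the verification
that in the two model planes the maps t(x) send lines to lines.
-/

set_option autoImplicit false

namespace Cfsg.Agent.Helper89

open Cfsg Cfsg.LineSystem

universe u v
variable {X : Type u} {Y : Type v}

/-- `z` is the third point of a line `{x, y, z}` through the different points `x`, `y`. -/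
def IsThird (L : Set (Set X)) (x y z : X) : Prop :=
  z ≠ x ∧ z ≠ y ∧ x ≠ y ∧ ({x, y, z} : Set X) ∈ L

theorem IsThird.swap23 {L : Set (Set X)} {x y z : X} (h : IsThird L x y z) : IsThird L x z y := by
  obtain ⟨h1, h2, h3, h4⟩ := h
  refine ⟨h3.symm, h2.symm, h1.symm, ?_⟩
  have : ({x, z, y} : Set X) = {x, y, z} := by
    ext p; simp only [Set.mem_insert_iff, Set.mem_singleton_iff]; tauto
  rw [this]; exact h4

theorem IsThird.swap12 {L : Set (Set X)} {x y z : X} (h : IsThird L x y z) : IsThird L y x z := by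
  obtain ⟨h1, h2, h3, h4⟩ := h
  refine ⟨h2, h1, h3.symm, ?_⟩
  have : ({y, x, z} : Set X) = {x, y, z} := by
    ext p; simp only [Set.mem_insert_iff, Set.mem_singleton_iff]; tauto
  rw [this]; exact h4

theorem IsThird.unique {L : Set (Set X)} (hpl : IsPartialLinear L) {x y z z' : X}
    (h : IsThird L x y z) (h' : IsThird L x y z') : z = z' := by
  have heq := hpl _ h.2.2.2 _ h'.2.2.2 x y h.2.2.1 (by simp) (by simp) (by simp) (by simp)
  have hz : z ∈ ({x, y, z'} : Set X) := heq ▸ (by simp)
  simp only [Set.mem_insert_iff, Set.mem_singleton_iff] at hz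
  rcases hz with hz | hz | hz
  · exact absurd hz h.1
  · exact absurd hz h.2.1
  · exact hz

theorem lineMap_eq_of_isThird {L : Set (Set X)} (hpl : IsPartialLinear L) {x y z : X}
    (h : IsThird L x y z) : lineMap L x y = z := by
  unfold lineMap
  have hex : ∃ z : X, z ≠ x ∧ z ≠ y ∧ x ≠ y ∧ ({x, y, z} : Set X) ∈ L := ⟨z, h⟩
  rw [dif_pos hex]
  exact (IsThird.unique hpl h hex.choose_spec).symm

theorem lineMap_eq_self_of_forall_not {L : Set (Set X)} {x y : X}
    (h : ∀ z, ¬ IsThird L x y z) : lineMap L x y = y := by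
  unfold lineMap
  rw [dif_neg]
  rintro ⟨z, hz⟩
  exact h z hz

theorem lineMap_self {L : Set (Set X)} (x : X) : lineMap L x x = x :=
  lineMap_eq_self_of_forall_not fun _ hz => hz.2.2.1 rfl

theorem exists_isThird_of_mem_line {L : Set (Set X)} (h3 : ∀ l ∈ L, l.ncard = 3) {l : Set X}
    (hl : l ∈ L) {x y : X} (hx : x ∈ l) (hy : y ∈ l) (hxy : x ≠ y) :
    ∃ z, IsThird L x y z ∧ l = {x, y, z} := by
  have hcard := h3 l hl
  have hfin : l.Finite := Set.finite_of_ncard_ne_zero (by omega)
  obtain ⟨z, hzl, hzx, hzy⟩ : ∃ z ∈ l, z ≠ x ∧ z ≠ y := by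
    by_contra hcon
    push Not at hcon
    have hsub : l ⊆ {x, y} := fun p hp => by
      by_cases hpx : p = x
      · simp [hpx]
      · simp [hcon p hp hpx]
    have h1 := Set.ncard_le_ncard hsub (Set.toFinite _)
    have h2 : ({x, y} : Set X).ncard = 2 := Set.ncard_pair hxy
    omega
  have hsub : ({x, y, z} : Set X) ⊆ l := by
    intro p hp
    simp only [Set.mem_insert_iff, Set.mem_singleton_iff] at hp
    rcases hp with rfl | rfl | rfl <;> assumption
  have hc3 : ({x, y, z} : Set X).ncard = 3 :=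
    Set.ncard_eq_three.mpr ⟨x, y, z, hxy, hzx.symm, hzy.symm, rfl⟩
  have heq : ({x, y, z} : Set X) = l := Set.eq_of_subset_of_ncard_le hsub (by omega) hfin
  exact ⟨z, ⟨hzx, hzy, hxy, heq ▸ hl⟩, heq.symm⟩

theorem lineMap_involutive {L : Set (Set X)} (hpl : IsPartialLinear L) (x : X) :
    Function.Involutive (lineMap L x) := by
  intro y
  by_cases h : ∃ z, IsThird L x y z
  · obtain ⟨z, hz⟩ := h
    rw [lineMap_eq_of_isThird hpl hz, lineMap_eq_of_isThird hpl hz.swap23]
  · push Not at h
    rw [lineMap_eq_self_of_forall_not h, lineMap_eq_self_of_forall_not h]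

theorem isThird_map_iff {L : Set (Set X)} {M : Set (Set Y)} {e : X ≃ Y} (he : IsIso L M e)
    {x y z : X} : IsThird M (e x) (e y) (e z) ↔ IsThird L x y z := by
  unfold IsThird
  rw [he {x, y, z}]
  simp only [Set.image_insert_eq, Set.image_singleton, ne_eq, EmbeddingLike.apply_eq_iff_eq]

theorem lineMap_map {L : Set (Set X)} (hpl : IsPartialLinear L) {σ : X ≃ X} (hσ : IsIso L L σ)
    (x y : X) : lineMap L (σ x) (σ y) = σ (lineMap L x y) := by
  by_cases h : ∃ z, IsThird L x y z
  · obtain ⟨z, hz⟩ := h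
    rw [lineMap_eq_of_isThird hpl hz, lineMap_eq_of_isThird hpl ((isThird_map_iff hσ).mpr hz)]
  · push Not at h
    rw [lineMap_eq_self_of_forall_not h, lineMap_eq_self_of_forall_not]
    intro w hw
    have hw' : IsThird L (σ x) (σ y) (σ (σ.symm w)) := by simpa using hw
    exact h _ ((isThird_map_iff hσ).mp hw')

theorem isSubspace_span (L : Set (Set X)) (S : Set X) : IsSubspace L (span L S) := by
  intro l hl x hx y hy hxy hxl hyl p hp
  unfold span at *
  rw [Set.mem_sInter] at *
  intro T hT
  exact hT.2 l hl x (hx T hT) y (hy T hT) hxy hxl hyl hp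

theorem subset_span (L : Set (Set X)) (S : Set X) : S ⊆ span L S := fun _ hp =>
  Set.mem_sInter.mpr fun _ hT => hT.1 hp

theorem isThird_restrict_iff {L : Set (Set X)} {S : Set X} {x y z : S} :
    IsThird (restrict L S) x y z ↔ IsThird L x.1 y.1 z.1 := by
  unfold IsThird
  constructor
  · rintro ⟨h1, h2, h3, l, hl, hlS, heq⟩
    refine ⟨fun h => h1 (Subtype.ext h), fun h => h2 (Subtype.ext h),
      fun h => h3 (Subtype.ext h), ?_⟩
    have hxl : x.1 ∈ l := by
      have : x ∈ ({x, y, z} : Set S) := by simp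
      rw [heq] at this; exact this
    have hyl : y.1 ∈ l := by
      have : y ∈ ({x, y, z} : Set S) := by simp
      rw [heq] at this; exact this
    have hzl : z.1 ∈ l := by
      have : z ∈ ({x, y, z} : Set S) := by simp
      rw [heq] at this; exact this
    have hleq : l = {x.1, y.1, z.1} := by
      ext p
      constructor
      · intro hp
        have hmem : (⟨p, hlS hp⟩ : S) ∈ ({x, y, z} : Set S) := by rw [heq]; exact hp
        simp only [Set.mem_insert_iff, Set.mem_singleton_iff] at hmem ⊢
        rcases hmem with h | h | h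
        · left; exact congrArg Subtype.val h
        · right; left; exact congrArg Subtype.val h
        · right; right; exact congrArg Subtype.val h
      · intro hp
        simp only [Set.mem_insert_iff, Set.mem_singleton_iff] at hp
        rcases hp with rfl | rfl | rfl <;> assumption
    rw [← hleq]; exact hl
  · rintro ⟨h1, h2, h3, hl⟩
    refine ⟨fun h => h1 (congrArg Subtype.val h), fun h => h2 (congrArg Subtype.val h),
      fun h => h3 (congrArg Subtype.val h), ⟨{x.1, y.1, z.1}, hl, ?_, ?_⟩⟩
    · intro p hp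
      simp only [Set.mem_insert_iff, Set.mem_singleton_iff] at hp
      rcases hp with rfl | rfl | rfl <;> exact Subtype.property _
    · ext p
      simp [Subtype.ext_iff]

/-- The maps t(x) of the line system `M` send lines into lines (relational form). -/
def MapsLines (M : Set (Set Y)) : Prop :=
  ∀ x : Y, ∀ l ∈ M, ∃ l' ∈ M, ∀ y ∈ l,
    (∀ z, IsThird M x y z → z ∈ l') ∧ ((∀ z, ¬ IsThird M x y z) → y ∈ l')

theorem MapsLines.of_iso {L : Set (Set X)} {M : Set (Set Y)} {e : X ≃ Y} (he : IsIso L M e)
    (hM : MapsLines M) : MapsLines L := by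
  intro x l hl
  obtain ⟨l', hl', h⟩ := hM (e x) (e '' l) ((he l).mp hl)
  refine ⟨e.symm '' l', ?_, ?_⟩
  · rw [he]
    have : e '' (e.symm '' l') = l' := by
      rw [Set.image_image]; simp
    rw [this]; exact hl'
  · intro y hy
    obtain ⟨h1, h2⟩ := h (e y) (Set.mem_image_of_mem e hy)
    constructor
    · intro z hz
      exact ⟨e z, h1 _ ((isThird_map_iff he).mpr hz), by simp⟩
    · intro hno
      refine ⟨e y, h2 ?_, by simp⟩
      intro w hw
      have hw' : IsThird M (e x) (e y) (e (e.symm w)) := by simpa using hw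
      exact hno _ ((isThird_map_iff he).mp hw')

/-! ### The affine plane of order three -/

private theorem h3zero : (3 : ZMod 3) = 0 := by decide

theorem isThird_affine_iff {x y z : Fin 2 → ZMod 3} :
    IsThird affinePlaneThree x y z ↔ x ≠ y ∧ z = -x - y := by
  constructor
  · rintro ⟨hzx, hzy, hxy, v, w, hw, heq⟩
    refine ⟨hxy, ?_⟩
    have hx : x ∈ ({x, y, z} : Set _) := by simp
    have hy : y ∈ ({x, y, z} : Set _) := by simp
    have hz : z ∈ ({x, y, z} : Set _) := by simp
    rw [heq] at hx hy hz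
    obtain ⟨a, rfl⟩ := hx
    obtain ⟨b, rfl⟩ := hy
    obtain ⟨c, rfl⟩ := hz
    have hab : a ≠ b := fun h => hxy (by rw [h])
    have hca : c ≠ a := fun h => hzx (by rw [h])
    have hcb : c ≠ b := fun h => hzy (by rw [h])
    have key : ∀ a b c : ZMod 3, a ≠ b → c ≠ a → c ≠ b → c = -(a + b) := by decide
    have hc : c = -(a + b) := key a b c hab hca hcb
    subst hc
    ext i
    simp only [Pi.add_apply, Pi.smul_apply, smul_eq_mul, Pi.sub_apply, Pi.neg_apply]
    linear_combination (v i) * h3zero
  · rintro ⟨hxy, rfl⟩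
    refine ⟨?_, ?_, hxy, x, y - x, sub_ne_zero.mpr hxy.symm, ?_⟩
    · revert x y; decide
    · revert x y; decide
    · have h2 : ∀ x y : Fin 2 → ZMod 3, -x - y = x + (2 : ZMod 3) • (y - x) := by decide
      ext p
      constructor
      · rintro (rfl | rfl | rfl)
        · exact ⟨0, by simp⟩
        · exact ⟨1, by simp⟩
        · exact ⟨2, h2 x y⟩
      · rintro ⟨c, rfl⟩
        have hc : c = 0 ∨ c = 1 ∨ c = 2 := by revert c; decide
        rcases hc with rfl | rfl | rfl
        · left; simp
        · right; left; simp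
        · right; right; exact (h2 x y).symm

theorem mapsLines_affinePlaneThree : MapsLines affinePlaneThree := by
  rintro x l ⟨v, w, hw, rfl⟩
  refine ⟨{p | ∃ c : ZMod 3, p = (-x - v) + c • w}, ⟨-x - v, w, hw, rfl⟩, ?_⟩
  rintro y ⟨c, rfl⟩
  constructor
  · intro z hz
    rw [isThird_affine_iff] at hz
    obtain ⟨-, rfl⟩ := hz
    refine ⟨-c, ?_⟩
    rw [neg_smul]; abel
  · intro hno
    have hx : x = v + c • w := by
      by_contra hne
      exact hno (-x - (v + c • w)) (isThird_affine_iff.mpr ⟨hne, rfl⟩)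
    subst hx
    have key : ∀ (v w : Fin 2 → ZMod 3) (c : ZMod 3),
        v + c • w = -(v + c • w) - v + (-c) • w := by decide
    exact ⟨-c, key v w c⟩

/-! ### The dual affine plane of order two -/

/-- Decidable form of the third-point relation of the dual affine plane. -/
def DualThird (x y z : DualAffinePoint) : Prop :=
  z ≠ x ∧ z ≠ y ∧ x ≠ y ∧ ∃ i : Fin 4, i ∉ x.val ∧ i ∉ y.val ∧ i ∉ z.val

instance : ∀ x y z, Decidable (DualThird x y z) := fun x y z => by
  unfold DualThird; infer_instance

set_option synthInstance.maxSize 2000 in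
set_option synthInstance.maxHeartbeats 200000 in
set_option maxRecDepth 100000 in
theorem dual_line_three : ∀ x y z : DualAffinePoint, ∀ i : Fin 4,
    (z ≠ x ∧ z ≠ y ∧ x ≠ y ∧ i ∉ x.val ∧ i ∉ y.val ∧ i ∉ z.val) →
    ∀ s : DualAffinePoint, i ∉ s.val → s = x ∨ s = y ∨ s = z := by
  decide

set_option maxRecDepth 100000 in
theorem dual_mapsLines_aux : ∀ x : DualAffinePoint, ∀ i : Fin 4, ∃ j : Fin 4,
    ∀ y : DualAffinePoint, i ∉ y.val →
      (∀ z, DualThird x y z → j ∉ z.val) ∧ ((∀ z, ¬ DualThird x y z) → j ∉ y.val) := by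
  decide

theorem isThird_dual_iff {x y z : DualAffinePoint} :
    IsThird dualAffinePlaneTwo x y z ↔ DualThird x y z := by
  constructor
  · rintro ⟨h1, h2, h3, i, heq⟩
    have hx : x ∈ ({x, y, z} : Set _) := by simp
    have hy : y ∈ ({x, y, z} : Set _) := by simp
    have hz : z ∈ ({x, y, z} : Set _) := by simp
    rw [heq] at hx hy hz
    exact ⟨h1, h2, h3, i, hx, hy, hz⟩
  · rintro ⟨h1, h2, h3, i, hx, hy, hz⟩
    refine ⟨h1, h2, h3, i, ?_⟩
    ext s
    constructor
    · rintro (rfl | rfl | rfl) <;> assumption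
    · intro hs
      exact dual_line_three x y z i ⟨h1, h2, h3, hx, hy, hz⟩ s hs

theorem mapsLines_dualAffinePlaneTwo : MapsLines dualAffinePlaneTwo := by
  rintro x l ⟨i, rfl⟩
  obtain ⟨j, hj⟩ := dual_mapsLines_aux x i
  refine ⟨{s | j ∉ s.val}, ⟨j, rfl⟩, ?_⟩
  intro y hy
  obtain ⟨h1, h2⟩ := hj y hy
  exact ⟨fun z hz => h1 z (isThird_dual_iff.mp hz),
    fun hno => h2 fun z hz => hno z (isThird_dual_iff.mpr hz)⟩

/-! ### The maps t(x) of a Fischer space are automorphisms -/

theorem isPartialLinear_of_fischer {L : Set (Set X)} (hL : IsFischerSpace L) :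
    IsPartialLinear L := hL.1

theorem lineMap_image_mem {L : Set (Set X)} (hL : IsFischerSpace L) (x : X) {l : Set X}
    (hl : l ∈ L) : lineMap L x '' l ∈ L := by
  have hpl := hL.1
  have h3 := hL.2.1
  by_cases hxl : x ∈ l
  · -- the line passes through `x`: it is mapped onto itself
    obtain ⟨y, hyl, hyx⟩ := Set.exists_ne_of_one_lt_ncard (by rw [h3 l hl]; omega) x
    obtain ⟨z, hz, rfl⟩ := exists_isThird_of_mem_line h3 hl hxl hyl hyx.symm
    rw [Set.image_insert_eq, Set.image_insert_eq, Set.image_singleton, lineMap_self,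
      lineMap_eq_of_isThird hpl hz, lineMap_eq_of_isThird hpl hz.swap23]
    have : ({x, z, y} : Set X) = {x, y, z} := by
      ext p; simp only [Set.mem_insert_iff, Set.mem_singleton_iff]; tauto
    rw [this]; exact hl
  by_cases hcol : ∃ y ∈ l, ∃ z, IsThird L x y z
  · obtain ⟨y, hyl, z, hz⟩ := hcol
    have hm : ({x, y, z} : Set X) ∈ L := hz.2.2.2
    have hne : l ≠ {x, y, z} := fun h => hxl (h ▸ (by simp))
    have hmeet : (l ∩ {x, y, z}).Nonempty := ⟨y, hyl, by simp⟩
    have hR : MapsLines (restrict L (span L (l ∪ {x, y, z}))) := by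
      rcases hL.2.2 l hl _ hm hne hmeet with ⟨e, he⟩ | ⟨e, he⟩
      · exact MapsLines.of_iso he mapsLines_dualAffinePlaneTwo
      · exact MapsLines.of_iso he mapsLines_affinePlaneThree
    set P := span L (l ∪ {x, y, z}) with hP
    have hsubP : l ∪ {x, y, z} ⊆ P := subset_span L _
    have hPsub : IsSubspace L P := isSubspace_span L _
    have hxP : x ∈ P := hsubP (Or.inr (by simp))
    have hlP : l ⊆ P := fun p hp => hsubP (Or.inl hp)
    obtain ⟨l'R, ⟨l', hl', hl'P, rfl⟩, h⟩ :=
      hR ⟨x, hxP⟩ {p : P | (p : X) ∈ l} ⟨l, hl, hlP, rfl⟩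
    have himg : lineMap L x '' l ⊆ l' := by
      rintro _ ⟨p, hp, rfl⟩
      obtain ⟨h1, h2⟩ := h ⟨p, hlP hp⟩ hp
      by_cases hex : ∃ q, IsThird L x p q
      · obtain ⟨q, hq⟩ := hex
        have hqP : q ∈ P :=
          hPsub _ hq.2.2.2 x hxP p (hlP hp) hq.2.2.1 (by simp) (by simp) (by simp)
        rw [lineMap_eq_of_isThird hpl hq]
        exact h1 ⟨q, hqP⟩ (isThird_restrict_iff.mpr hq)
      · push Not at hex
        rw [lineMap_eq_self_of_forall_not hex]
        exact h2 fun w hw => hex w.1 (isThird_restrict_iff.mp hw)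
    have hc1 : (lineMap L x '' l).ncard = 3 := by
      rw [Set.ncard_image_of_injective _ (lineMap_involutive hpl x).injective, h3 l hl]
    have hc2 := h3 l' hl'
    have hfin : l'.Finite := Set.finite_of_ncard_ne_zero (by omega)
    rw [Set.eq_of_subset_of_ncard_le himg (by omega) hfin]
    exact hl'
  · push Not at hcol
    have : lineMap L x '' l = l := by
      ext p
      constructor
      · rintro ⟨q, hq, rfl⟩
        rw [lineMap_eq_self_of_forall_not (hcol q hq)]; exact hq
      · intro hp
        exact ⟨p, hp, lineMap_eq_self_of_forall_not (hcol p hp)⟩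
    rw [this]; exact hl

end Cfsg.Agent.Helper89
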