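import Mathlib
import Cfsg.Prelude.Def_FischerSpaces
import Cfsg.Agent.Helper89.ThreeTransp
import Cfsg.Agent.Helper89.FischerSpace
import Cfsg.Agent.S5344

/-!
# The line system of a set of 3-transpositions

Conjugation calculus (`cj x y = x y x⁻¹`) for 3-transpositions, the third-point relation of
`threeTranspositionLines D`, partial linearity, three points per line, and a general lemma
identifying the line system induced on the image of a model plane.
-/

set_option autoImplicit false

namespace Cfsg.Agent.Helper89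

open Cfsg Cfsg.LineSystem

variable {G : Type*} [Group G]

/-- Conjugation `x ▷ y = x y x⁻¹`. -/
def cj (x y : G) : G := x * y * x⁻¹

theorem cj_self (x : G) : cj x x = x := by simp [cj]

theorem cj_cj_self {x : G} (hx : x * x = 1) (y : G) : cj x (cj x y) = y := by
  have hinv : x⁻¹ = x := inv_eq_of_mul_eq_one_left hx
  simp only [cj, hinv]
  calc x * (x * y * x) * x = (x * x) * y * (x * x) := by simp only [mul_assoc]
    _ = y := by rw [hx]; simp

theorem cj_distrib (x y z : G) : cj x (cj y z) = cj (cj x y) (cj x z) := by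
  simp only [cj]; group

theorem not_commute_cj {x y : G} (g : G) (h : ¬ Commute x y) : ¬ Commute (cj g x) (cj g y) :=
  fun hc => h ((Commute.conj_iff g).mp hc)

theorem not_commute_cj_right {x y : G} (h : ¬ Commute x y) : ¬ Commute x (cj x y) := by
  have := not_commute_cj x h
  rwa [cj_self] at this

section ThreeT

variable {D : Set G}

theorem sq_of_mem (hD : IsThreeTranspositionSet D) {x : G} (hx : x ∈ D) : x * x = 1 :=
  mul_self_of_orderOf_two (hD.1 x hx)

theorem cube_of_not_commute (hD : IsThreeTranspositionSet D) {x y : G} (hx : x ∈ D) (hy : y ∈ D)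
    (h : ¬ Commute x y) : (x * y) ^ 3 = 1 := by
  rcases hD.2 x hx y hy with h2 | h3
  · exact absurd (commute_of_mul_sq_eq_one (sq_of_mem hD hx) (sq_of_mem hD hy) h2) h
  · exact h3

theorem cj_comm_of_not_commute (hD : IsThreeTranspositionSet D) {x y : G} (hx : x ∈ D)
    (hy : y ∈ D) (h : ¬ Commute x y) : cj x y = cj y x := by
  have hxx := sq_of_mem hD hx
  have hyy := sq_of_mem hD hy
  have hb := Cfsg.Agent.S5344.braid_of_cube hxx hyy (cube_of_not_commute hD hx hy h)
  simp only [cj, inv_eq_of_mul_eq_one_left hxx, inv_eq_of_mul_eq_one_left hyy, mul_assoc]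
  exact hb.symm

/-- `x`, `y` do not commute and `z` is the conjugate `y x y⁻¹`. -/
def Tri (x y z : G) : Prop := ¬ Commute x y ∧ z = cj y x

theorem Tri.swap12 (hD : IsThreeTranspositionSet D) {x y z : G} (hx : x ∈ D) (hy : y ∈ D)
    (h : Tri x y z) : Tri y x z :=
  ⟨fun c => h.1 c.symm, h.2.trans (cj_comm_of_not_commute hD hy hx fun c => h.1 c.symm)⟩

theorem Tri.swap23 (hD : IsThreeTranspositionSet D) {x y z : G} (hx : x ∈ D) (hy : y ∈ D)
    (h : Tri x y z) : Tri x z y := by
  obtain ⟨hnc, rfl⟩ := h
  have hc : cj y x = cj x y := cj_comm_of_not_commute hD hy hx fun c => hnc c.symm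
  refine ⟨?_, ?_⟩
  · rw [hc]; exact not_commute_cj_right hnc
  · -- y = cj (cj y x) x
    have h1 : cj (cj x y) x = cj x (cj y x) := by
      conv_lhs => rw [← cj_self x]
      rw [cj_self x, show cj (cj x y) x = cj (cj x y) (cj x x) by rw [cj_self], ← cj_distrib]
    rw [hc, h1, hc, cj_cj_self (sq_of_mem hD hx)]

end ThreeT

end Cfsg.Agent.Helper89
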