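import Mathlib
import Cfsg.Prelude.Def_FischerSpaces
import Cfsg.Agent.Helper89.Kei

/-!
# The line system of a conjugation-invariant set of 3-transpositions
-/

set_option autoImplicit false

namespace Cfsg.Agent.Helper89

open Cfsg Cfsg.LineSystem

variable {G : Type*} [Group G] {D : Set G}

/-- The third point `y x y⁻¹` of the line through `x` and `y`, as a member of `D`. -/
def thirdPt (hconj : ∀ g : G, ∀ d ∈ D, g * d * g⁻¹ ∈ D) (x y : D) : D :=
  ⟨cj y.1 x.1, hconj y.1 x.1 x.2⟩

theorem thirdPt_val (hconj : ∀ g : G, ∀ d ∈ D, g * d * g⁻¹ ∈ D) (x y : D) :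
    (thirdPt hconj x y).1 = cj y.1 x.1 := rfl

theorem line_eq (hconj : ∀ g : G, ∀ d ∈ D, g * d * g⁻¹ ∈ D) (x y : D) :
    {z : D | (z : G) = x ∨ (z : G) = y ∨ (z : G) = (y : G) * (x : G) * (y : G)⁻¹} =
      {x, y, thirdPt hconj x y} := by
  ext z
  simp [thirdPt, cj, Subtype.ext_iff]

theorem line_mem (hconj : ∀ g : G, ∀ d ∈ D, g * d * g⁻¹ ∈ D) {x y : D}
    (h : ¬ Commute x.1 y.1) : ({x, y, thirdPt hconj x y} : Set D) ∈ threeTranspositionLines D :=
  ⟨x, y, h, (line_eq hconj x y).symm⟩

theorem isThird_of_tri (hD : IsThreeTranspositionSet D)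
    (hconj : ∀ g : G, ∀ d ∈ D, g * d * g⁻¹ ∈ D) {x y z : D} (h : Tri x.1 y.1 z.1) :
    IsThird (threeTranspositionLines D) x y z := by
  obtain ⟨hnc, hz⟩ := h
  have hzt : z = thirdPt hconj x y := Subtype.ext hz
  have hxy : x ≠ y := fun e => hnc (by rw [e])
  refine ⟨?_, ?_, hxy, ?_⟩
  · intro e
    apply hnc
    have h1 : cj y.1 x.1 = x.1 := by rw [← hz, e]
    have h2 : y.1 * x.1 = x.1 * y.1 := by
      have := congrArg (· * y.1) h1
      simpa [cj] using this
    exact h2.symm
  · intro e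
    apply hnc
    have h1 : cj y.1 x.1 = y.1 := by rw [← hz, e]
    have h2 : x.1 = y.1 := by
      have : y.1 * x.1 * y.1⁻¹ = y.1 * y.1 * y.1⁻¹ := by simpa [cj] using h1
      exact mul_left_cancel (mul_right_cancel this)
    rw [h2]
  · rw [hzt]; exact line_mem hconj hnc

theorem tri_of_isThird (hD : IsThreeTranspositionSet D)
    (hconj : ∀ g : G, ∀ d ∈ D, g * d * g⁻¹ ∈ D) {x y z : D}
    (h : IsThird (threeTranspositionLines D) x y z) : Tri x.1 y.1 z.1 := by
  obtain ⟨hzx, hzy, hxy, u, v, hnc, heq⟩ := h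
  have hx : x ∈ ({x, y, z} : Set D) := by simp
  have hy : y ∈ ({x, y, z} : Set D) := by simp
  have hz : z ∈ ({x, y, z} : Set D) := by simp
  rw [heq] at hx hy hz
  have hzx' : z.1 ≠ x.1 := fun e => hzx (Subtype.ext e)
  have hzy' : z.1 ≠ y.1 := fun e => hzy (Subtype.ext e)
  have hxy' : x.1 ≠ y.1 := fun e => hxy (Subtype.ext e)
  have h0 : Tri u.1 v.1 (cj v.1 u.1) := ⟨hnc, rfl⟩
  have hw : cj v.1 u.1 ∈ D := hconj v.1 u.1 u.2
  change (x : G) = u ∨ (x : G) = v ∨ (x : G) = cj v.1 u.1 at hx
  change (y : G) = u ∨ (y : G) = v ∨ (y : G) = cj v.1 u.1 at hy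
  change (z : G) = u ∨ (z : G) = v ∨ (z : G) = cj v.1 u.1 at hz
  rcases hx with hx | hx | hx <;> rcases hy with hy | hy | hy <;> rcases hz with hz | hz | hz <;>
    first
    | exact absurd (hx.trans hy.symm) hxy'
    | exact absurd (hz.trans hx.symm) hzx'
    | exact absurd (hz.trans hy.symm) hzy'
    | (rw [hx, hy, hz]; exact h0)
    | (rw [hx, hy, hz]; exact h0.swap12 hD u.2 v.2)
    | (rw [hx, hy, hz]; exact h0.swap23 hD u.2 v.2)
    | (rw [hx, hy, hz]; exact (h0.swap23 hD u.2 v.2).swap12 hD u.2 hw)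
    | (rw [hx, hy, hz]; exact (h0.swap12 hD u.2 v.2).swap23 hD v.2 u.2)
    | (rw [hx, hy, hz]; exact ((h0.swap12 hD u.2 v.2).swap23 hD v.2 u.2).swap12 hD v.2 hw)

theorem isThird_lines_iff (hD : IsThreeTranspositionSet D)
    (hconj : ∀ g : G, ∀ d ∈ D, g * d * g⁻¹ ∈ D) {x y z : D} :
    IsThird (threeTranspositionLines D) x y z ↔ Tri x.1 y.1 z.1 :=
  ⟨tri_of_isThird hD hconj, isThird_of_tri hD hconj⟩

theorem lines_ncard (hD : IsThreeTranspositionSet D)
    (hconj : ∀ g : G, ∀ d ∈ D, g * d * g⁻¹ ∈ D) :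
    ∀ l ∈ threeTranspositionLines D, l.ncard = 3 := by
  rintro l ⟨x, y, hnc, rfl⟩
  rw [line_eq hconj x y]
  have h := isThird_of_tri hD hconj (x := x) (y := y) (z := thirdPt hconj x y) ⟨hnc, rfl⟩
  exact Set.ncard_eq_three.mpr ⟨x, y, _, h.2.2.1, h.1.symm, h.2.1.symm, rfl⟩

theorem lines_partialLinear (hD : IsThreeTranspositionSet D)
    (hconj : ∀ g : G, ∀ d ∈ D, g * d * g⁻¹ ∈ D) :
    IsPartialLinear (threeTranspositionLines D) := by
  intro l hl m hm x y hxy hxl hyl hxm hym
  obtain ⟨z, hz, rfl⟩ := exists_isThird_of_mem_line (lines_ncard hD hconj) hl hxl hyl hxy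
  obtain ⟨z', hz', rfl⟩ := exists_isThird_of_mem_line (lines_ncard hD hconj) hm hxm hym hxy
  have h1 := (tri_of_isThird hD hconj hz).2
  have h2 := (tri_of_isThird hD hconj hz').2
  have : z = z' := Subtype.ext (h1.trans h2.symm)
  rw [this]

/-- A subspace containing two non-commuting points contains the third point of their line. -/
theorem thirdPt_mem_of_subspace (hD : IsThreeTranspositionSet D)
    (hconj : ∀ g : G, ∀ d ∈ D, g * d * g⁻¹ ∈ D) {T : Set D}
    (hT : IsSubspace (threeTranspositionLines D) T) {x y : D} (hx : x ∈ T) (hy : y ∈ T)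
    (hnc : ¬ Commute x.1 y.1) : thirdPt hconj x y ∈ T := by
  have hxy : x ≠ y := fun e => hnc (by rw [e])
  exact hT _ (line_mem hconj hnc) x hx y hy hxy (by simp) (by simp) (by simp)

theorem mem_of_subspace_of_tri (hD : IsThreeTranspositionSet D)
    (hconj : ∀ g : G, ∀ d ∈ D, g * d * g⁻¹ ∈ D) {T : Set D}
    (hT : IsSubspace (threeTranspositionLines D) T) {x y z : D} (hx : x ∈ T) (hy : y ∈ T)
    (h : Tri x.1 y.1 z.1) : z ∈ T := by
  have : z = thirdPt hconj x y := Subtype.ext h.2
  rw [this]; exact thirdPt_mem_of_subspace hD hconj hT hx hy h.1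

theorem span_eq_of_subspace {X : Type*} {L : Set (Set X)} {S T : Set X} (hT : IsSubspace L T)
    (hST : S ⊆ T) (hTS : T ⊆ span L S) : span L S = T :=
  Set.Subset.antisymm (Set.sInter_subset_of_mem ⟨hST, hT⟩) hTS

/-- A model plane mapped injectively into `D`, compatibly with third points and commuting,
has as image a subspace whose induced line system is isomorphic to the model. -/
theorem model_iso (hD : IsThreeTranspositionSet D)
    (hconj : ∀ g : G, ∀ d ∈ D, g * d * g⁻¹ ∈ D) {Y : Type*} (M : Set (Set Y)) (q : Y → D)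
    (hq : Function.Injective q)
    (hM3 : ∀ l ∈ M, ∃ v w u, IsThird M v w u ∧ l = {v, w, u})
    (ha : ∀ v w u, IsThird M v w u → Tri (q v).1 (q w).1 (q u).1)
    (hb : ∀ v w, (∀ u, ¬ IsThird M v w u) → Commute (q v).1 (q w).1) :
    IsSubspace (threeTranspositionLines D) (Set.range q) ∧
      Isomorphic (restrict (threeTranspositionLines D) (Set.range q)) M := by
  have key : ∀ v w : Y, ¬ Commute (q v).1 (q w).1 → ∃ u, IsThird M v w u := by
    intro v w hnc
    by_contra hcon
    push Not at hcon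
    exact hnc (hb v w hcon)
  have hsub : IsSubspace (threeTranspositionLines D) (Set.range q) := by
    rintro l hl x ⟨v, rfl⟩ y ⟨w, rfl⟩ hxy hxl hyl p hp
    obtain ⟨z, hz, rfl⟩ := exists_isThird_of_mem_line (lines_ncard hD hconj) hl hxl hyl hxy
    have htri := tri_of_isThird hD hconj hz
    obtain ⟨u, hu⟩ := key v w htri.1
    have hzu : z = q u := Subtype.ext (htri.2.trans (ha v w u hu).2.symm)
    simp only [Set.mem_insert_iff, Set.mem_singleton_iff] at hp
    rcases hp with rfl | rfl | rfl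
    · exact ⟨v, rfl⟩
    · exact ⟨w, rfl⟩
    · exact ⟨u, hzu.symm⟩
  refine ⟨hsub, ?_⟩
  let e : Y ≃ ↥(Set.range q) := Equiv.ofInjective q hq
  have he : ∀ t : Y, ((e t : ↥(Set.range q)) : D) = q t := fun t => rfl
  refine ⟨e.symm, ?_⟩
  intro m
  have himg : e.symm '' m = e ⁻¹' m := by
    rw [Equiv.image_eq_preimage_symm]; rfl
  rw [himg]
  constructor
  · rintro ⟨l0, ⟨x, y, hnc, rfl⟩, hl0, rfl⟩
    have hxr : x ∈ Set.range q := hl0 (Or.inl rfl)
    have hyr : y ∈ Set.range q := hl0 (Or.inr (Or.inl rfl))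
    obtain ⟨v, rfl⟩ := hxr
    obtain ⟨w, rfl⟩ := hyr
    obtain ⟨u, hu⟩ := key v w hnc
    have htri := ha v w u hu
    have hset : e ⁻¹' {p : ↥(Set.range q) | (p : D) ∈
        {z : D | (z : G) = q v ∨ (z : G) = q w ∨ (z : G) = (q w : G) * (q v : G) * (q w : G)⁻¹}} =
        {v, w, u} := by
      ext t
      simp only [Set.mem_preimage, Set.mem_ofPred_eq, he, Set.mem_insert_iff,
        Set.mem_singleton_iff]
      constructor
      · rintro (h | h | h)
        · left; exact hq (Subtype.ext h)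
        · right; left; exact hq (Subtype.ext h)
        · right; right
          exact hq (Subtype.ext (h.trans htri.2.symm))
      · rintro (rfl | rfl | rfl)
        · left; rfl
        · right; left; rfl
        · right; right; exact htri.2
    rw [hset]
    exact hu.2.2.2
  · intro hm
    obtain ⟨v, w, u, hu, hset⟩ := hM3 _ hm
    have htri := ha v w u hu
    refine ⟨{z : D | (z : G) = q v ∨ (z : G) = q w ∨ (z : G) = (q w : G) * (q v : G) * (q w : G)⁻¹},
      ⟨q v, q w, htri.1, rfl⟩, ?_, ?_⟩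
    · rintro z (h | h | h)
      · exact ⟨v, (Subtype.ext h).symm⟩
      · exact ⟨w, (Subtype.ext h).symm⟩
      · exact ⟨u, (Subtype.ext (h.trans htri.2.symm)).symm⟩
    · ext p
      have hp : p ∈ m ↔ e.symm p ∈ e ⁻¹' m := by simp
      rw [hp, hset]
      simp only [Set.mem_insert_iff, Set.mem_singleton_iff, Set.mem_ofPred_eq]
      constructor
      · rintro (h | h | h)
        · left
          have : p = e v := by rw [← h]; simp
          rw [this]; rfl
        · right; left
          have : p = e w := by rw [← h]; simp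
          rw [this]; rfl
        · right; right
          have : p = e u := by rw [← h]; simp
          rw [this]; exact htri.2
      · rintro (h | h | h)
        · left
          have : p = e v := Subtype.ext (Subtype.ext h)
          rw [this]; simp
        · right; left
          have : p = e w := Subtype.ext (Subtype.ext h)
          rw [this]; simp
        · right; right
          have : p = e u := Subtype.ext (Subtype.ext (h.trans htri.2.symm))
          rw [this]; simp

end Cfsg.Agent.Helper89
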