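import Mathlib
import Cfsg.Prelude.Def_FischerSpaces
import Cfsg.Agent.Helper89.TranspLines

/-!
# Three pairwise non-commuting 3-transpositions `a, b, d` with `a`, `b d b⁻¹` non-commuting
span an affine plane of order three
-/

set_option autoImplicit false

namespace Cfsg.Agent.Helper89

open Cfsg Cfsg.LineSystem

/-- Look up a 3 × 3 table at a vector of the coordinate plane over `ZMod 3`. -/
def tab9 {α : Type*} (t : Fin 3 → Fin 3 → α) (v : Fin 2 → ZMod 3) : α := t (v 0) (v 1)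

/-- The twelve lines of the affine plane of order 3, each with a chosen ordering. -/
def lines12 : List ((Fin 2 → ZMod 3) × (Fin 2 → ZMod 3) × (Fin 2 → ZMod 3)) :=
  [(![0,0], ![1,0], ![2,0]), (![0,0], ![0,1], ![0,2]), (![1,0], ![0,1], ![2,2]),
   (![0,0], ![2,2], ![1,1]), (![2,0], ![0,2], ![1,1]), (![2,0], ![0,1], ![1,2]),
   (![0,2], ![2,2], ![1,2]), (![1,0], ![0,2], ![2,1]), (![2,0], ![2,2], ![2,1]),
   (![0,0], ![1,2], ![2,1]), (![1,0], ![1,1], ![1,2]), (![0,1], ![1,1], ![2,1])]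

theorem lines12_cover : ∀ v w : Fin 2 → ZMod 3, v ≠ w → ∃ t ∈ lines12,
    (v = t.1 ∧ w = t.2.1 ∧ -v - w = t.2.2) ∨ (v = t.2.1 ∧ w = t.1 ∧ -v - w = t.2.2) ∨
    (v = t.1 ∧ w = t.2.2 ∧ -v - w = t.2.1) ∨ (v = t.2.2 ∧ w = t.1 ∧ -v - w = t.2.1) ∨
    (v = t.2.1 ∧ w = t.2.2 ∧ -v - w = t.1) ∨ (v = t.2.2 ∧ w = t.2.1 ∧ -v - w = t.1) := by
  decide

theorem vec9_cases : ∀ v : Fin 2 → ZMod 3,
    v = ![0,0] ∨ v = ![0,1] ∨ v = ![0,2] ∨ v = ![1,0] ∨ v = ![1,1] ∨ v = ![1,2] ∨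
      v = ![2,0] ∨ v = ![2,1] ∨ v = ![2,2] := by
  decide

theorem affine_line_set (x y : Fin 2 → ZMod 3) :
    ({x, y, -x - y} : Set (Fin 2 → ZMod 3)) = {p | ∃ c : ZMod 3, p = x + c • (y - x)} := by
  have h2 : ∀ x y : Fin 2 → ZMod 3, -x - y = x + (2 : ZMod 3) • (y - x) := by decide
  ext p
  constructor
  · rintro (rfl | rfl | rfl)
    · exact ⟨0, by simp⟩
    · exact ⟨1, by simp⟩
    · exact ⟨2, h2 x y⟩
  · rintro ⟨c, rfl⟩
    have hc : c = 0 ∨ c = 1 ∨ c = 2 := by revert c; decide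
    rcases hc with rfl | rfl | rfl
    · left; simp
    · right; left; simp
    · right; right; exact (h2 x y).symm

theorem affine_lines_three : ∀ l ∈ affinePlaneThree, ∃ v w u : Fin 2 → ZMod 3,
    IsThird affinePlaneThree v w u ∧ l = {v, w, u} := by
  rintro l ⟨v, w, hw, rfl⟩
  have hne : v ≠ v + w := fun h => hw (by simpa using h.symm)
  refine ⟨v, v + w, -v - (v + w), isThird_affine_iff.mpr ⟨hne, rfl⟩, ?_⟩
  rw [affine_line_set, add_sub_cancel_left]

variable {G : Type*} [Group G] {D : Set G}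

theorem tri_mk (hD : IsThreeTranspositionSet D) {x y : G} (hx : x ∈ D) (hy : y ∈ D)
    (h : ¬ Commute x y) : Tri x y (cj x y) :=
  ⟨h, cj_comm_of_not_commute hD hx hy h⟩

/-- The affine plane spanned by `a, b, d`. -/
theorem ag_plane (hD : IsThreeTranspositionSet D)
    (hconj : ∀ g : G, ∀ d ∈ D, g * d * g⁻¹ ∈ D) {a b d : D} (hab : ¬ Commute a.1 b.1)
    (had : ¬ Commute a.1 d.1) (hbd : ¬ Commute b.1 d.1) (haf : ¬ Commute a.1 (cj b.1 d.1)) :
    ∃ S : Set D, IsSubspace (threeTranspositionLines D) S ∧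
      Isomorphic (restrict (threeTranspositionLines D) S) affinePlaneThree ∧
      a ∈ S ∧ b ∈ S ∧ d ∈ S ∧
      ∀ T : Set D, IsSubspace (threeTranspositionLines D) T → a ∈ T → b ∈ T → d ∈ T → S ⊆ T := by
  have hcm : ∀ (x y : G), y ∈ D → cj x y ∈ D := fun x y hy => hconj x y hy
  have hsq : ∀ x : G, x ∈ D → x * x = 1 := fun x hx => sq_of_mem hD hx
  -- the nine points
  let c : D := ⟨cj a.1 b.1, hcm _ _ b.2⟩
  let e : D := ⟨cj a.1 d.1, hcm _ _ d.2⟩
  let f : D := ⟨cj b.1 d.1, hcm _ _ d.2⟩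
  let g1 : D := ⟨cj a.1 f.1, hcm _ _ f.2⟩
  let g2 : D := ⟨cj c.1 d.1, hcm _ _ d.2⟩
  let g3 : D := ⟨cj b.1 e.1, hcm _ _ e.2⟩
  have hcv : c.1 = cj a.1 b.1 := rfl
  have hev : e.1 = cj a.1 d.1 := rfl
  have hfv : f.1 = cj b.1 d.1 := rfl
  have hg1v : g1.1 = cj a.1 f.1 := rfl
  have hg2v : g2.1 = cj c.1 d.1 := rfl
  have hg3v : g3.1 = cj b.1 e.1 := rfl
  have hba : ¬ Commute b.1 a.1 := fun h => hab h.symm
  have hda : ¬ Commute d.1 a.1 := fun h => had h.symm
  have hdb : ¬ Commute d.1 b.1 := fun h => hbd h.symm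
  have hfa : ¬ Commute f.1 a.1 := fun h => haf h.symm
  -- the first four lines
  have L1 : Tri a.1 b.1 c.1 := tri_mk hD a.2 b.2 hab
  have L2 : Tri a.1 d.1 e.1 := tri_mk hD a.2 d.2 had
  have L3 : Tri b.1 d.1 f.1 := tri_mk hD b.2 d.2 hbd
  have L4 : Tri a.1 f.1 g1.1 := tri_mk hD a.2 f.2 haf
  -- conjugation identities
  have e_ac : cj a.1 c.1 = b.1 := cj_cj_self (hsq _ a.2) _
  have e_ae : cj a.1 e.1 = d.1 := cj_cj_self (hsq _ a.2) _
  have e_bf : cj b.1 f.1 = d.1 := cj_cj_self (hsq _ b.2) _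
  have e_ba : cj b.1 a.1 = c.1 := (L1.2).symm
  have e_da : cj d.1 a.1 = e.1 := (L2.2).symm
  have e_db : cj d.1 b.1 = f.1 := (L3.2).symm
  have e_fa : cj f.1 a.1 = g1.1 := (L4.2).symm
  have e_df : cj d.1 f.1 = b.1 := by rw [← e_db]; exact cj_cj_self (hsq _ d.2) _
  have e_cb : cj c.1 b.1 = a.1 := ((L1.swap12 hD a.2 b.2).swap23 hD b.2 a.2).2.symm
  have e_fd : cj f.1 d.1 = b.1 := ((L3.swap12 hD b.2 d.2).swap23 hD d.2 b.2).2.symm
  have e_fb : cj f.1 b.1 = d.1 := (L3.swap23 hD b.2 d.2).2.symm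
  -- further non-commuting pairs
  have hce : ¬ Commute c.1 e.1 := not_commute_cj a.1 hbd
  have hbe : ¬ Commute b.1 e.1 := by
    have := not_commute_cj d.1 hfa
    rwa [e_df, e_da] at this
  have hcd : ¬ Commute c.1 d.1 := by
    have := not_commute_cj a.1 hbe
    rwa [e_ae] at this
  have hef : ¬ Commute e.1 f.1 := by
    have := not_commute_cj d.1 hab
    rwa [e_da, e_db] at this
  have hcf : ¬ Commute c.1 f.1 := by
    have := not_commute_cj b.1 had
    rwa [e_ba] at this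
  have hag2 : ¬ Commute a.1 g2.1 := by
    have := not_commute_cj c.1 hbd
    rwa [e_cb] at this
  have hbg1 : ¬ Commute b.1 g1.1 := by
    have := not_commute_cj f.1 hda
    rwa [e_fd, e_fa] at this
  have hdg1 : ¬ Commute d.1 g1.1 := by
    have := not_commute_cj f.1 hba
    rwa [e_fb, e_fa] at this
  -- the remaining eight lines
  have L5 : Tri c.1 e.1 g1.1 := by
    have h := tri_mk hD c.2 e.2 hce
    have : cj c.1 e.1 = g1.1 := by rw [hcv, hev, ← cj_distrib]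
    rwa [this] at h
  have L6 : Tri c.1 d.1 g2.1 := tri_mk hD c.2 d.2 hcd
  have L7 : Tri e.1 f.1 g2.1 := by
    have h := tri_mk hD e.2 f.2 hef
    have : cj e.1 f.1 = g2.1 := by
      rw [← e_da, ← e_db, ← cj_distrib, ← hcv, hg2v]
      exact cj_comm_of_not_commute hD d.2 c.2 fun h => hcd h.symm
    rwa [this] at h
  have L8 : Tri b.1 e.1 g3.1 := tri_mk hD b.2 e.2 hbe
  have L9 : Tri c.1 f.1 g3.1 := by
    have h := tri_mk hD c.2 f.2 hcf
    have : cj c.1 f.1 = g3.1 := by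
      rw [← e_ba, hfv, ← cj_distrib, cj_comm_of_not_commute hD a.2 d.2 had, e_da]
    rwa [this] at h
  have L10 : Tri a.1 g2.1 g3.1 := by
    have h := tri_mk hD a.2 g2.2 hag2
    have : cj a.1 g2.1 = g3.1 := by
      rw [hg2v, cj_distrib, e_ac, ← hev]
    rwa [this] at h
  have L11 : Tri b.1 g1.1 g2.1 := by
    have h := tri_mk hD b.2 g1.2 hbg1
    have : cj b.1 g1.1 = g2.1 := by
      rw [hg1v, cj_distrib, e_ba, e_bf]
    rwa [this] at h
  have L12 : Tri d.1 g1.1 g3.1 := by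
    have h := tri_mk hD d.2 g1.2 hdg1
    have : cj d.1 g1.1 = g3.1 := by
      rw [hg1v, cj_distrib, e_da, e_df, hg3v]
      exact cj_comm_of_not_commute hD e.2 b.2 fun h => hbe h.symm
    rwa [this] at h
  -- the table
  let q : (Fin 2 → ZMod 3) → D := tab9 ![![a, d, e], ![b, g1, g2], ![c, g3, f]]
  have base : ∀ t ∈ lines12, Tri (q t.1).1 (q t.2.1).1 (q t.2.2).1 := by
    intro t ht
    simp only [lines12, List.mem_cons, List.mem_nil_iff, or_false] at ht
    rcases ht with rfl | rfl | rfl | rfl | rfl | rfl | rfl | rfl | rfl | rfl | rfl | rfl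
    · exact L1
    · exact L2
    · exact L3
    · exact L4
    · exact L5
    · exact L6
    · exact L7
    · exact L8
    · exact L9
    · exact L10
    · exact L11
    · exact L12
  have hQ : ∀ v w : Fin 2 → ZMod 3, v ≠ w → Tri (q v).1 (q w).1 (q (-v - w)).1 := by
    intro v w hvw
    obtain ⟨t, ht, hcase⟩ := lines12_cover v w hvw
    have h0 := base t ht
    have m1 := (q t.1).2
    have m2 := (q t.2.1).2
    have m3 := (q t.2.2).2
    rcases hcase with ⟨h1, h2, h3⟩ | ⟨h1, h2, h3⟩ | ⟨h1, h2, h3⟩ | ⟨h1, h2, h3⟩ | ⟨h1, h2, h3⟩ |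
      ⟨h1, h2, h3⟩ <;> rw [h3, h1, h2]
    · exact h0
    · exact h0.swap12 hD m1 m2
    · exact h0.swap23 hD m1 m2
    · exact (h0.swap23 hD m1 m2).swap12 hD m1 m3
    · exact (h0.swap12 hD m1 m2).swap23 hD m2 m1
    · exact ((h0.swap12 hD m1 m2).swap23 hD m2 m1).swap12 hD m2 m3
  have hq : Function.Injective q := by
    intro v w hvw
    by_contra hne
    exact (hQ v w hne).1 (by rw [hvw])
  have ha : ∀ v w u, IsThird affinePlaneThree v w u → Tri (q v).1 (q w).1 (q u).1 := by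
    intro v w u h
    obtain ⟨hvw, rfl⟩ := isThird_affine_iff.mp h
    exact hQ v w hvw
  have hb : ∀ v w, (∀ u, ¬ IsThird affinePlaneThree v w u) → Commute (q v).1 (q w).1 := by
    intro v w h
    have : v = w := by
      by_contra hne
      exact h _ (isThird_affine_iff.mpr ⟨hne, rfl⟩)
    rw [this]
  obtain ⟨hsub, hiso⟩ := model_iso hD hconj affinePlaneThree q hq affine_lines_three ha hb
  refine ⟨Set.range q, hsub, hiso, ⟨![0,0], rfl⟩, ⟨![1,0], rfl⟩, ⟨![0,1], rfl⟩, ?_⟩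
  intro T hT haT hbT hdT
  have hcT : c ∈ T := mem_of_subspace_of_tri hD hconj hT haT hbT L1
  have heT : e ∈ T := mem_of_subspace_of_tri hD hconj hT haT hdT L2
  have hfT : f ∈ T := mem_of_subspace_of_tri hD hconj hT hbT hdT L3
  have hg1T : g1 ∈ T := mem_of_subspace_of_tri hD hconj hT haT hfT L4
  have hg2T : g2 ∈ T := mem_of_subspace_of_tri hD hconj hT hcT hdT L6
  have hg3T : g3 ∈ T := mem_of_subspace_of_tri hD hconj hT hbT heT L8
  rintro _ ⟨v, rfl⟩
  rcases vec9_cases v with rfl | rfl | rfl | rfl | rfl | rfl | rfl | rfl | rfl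
  · exact haT
  · exact hdT
  · exact heT
  · exact hbT
  · exact hg1T
  · exact hg2T
  · exact hcT
  · exact hg3T
  · exact hfT

end Cfsg.Agent.Helper89
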