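import Mathlib
import Cfsg.Prelude.Def_OddOrderLocal
import Cfsg.Agent.Helper46.SylowIn

/-!
# WANTED #3503 (R1) (helper32, sigma-partition): `exists_compl_le`

Frattini argument + Schur–Zassenhaus: if `Ms` is a normal Hall subgroup of `M`, `S` a Sylow
`q`-subgroup of `Ms` and `N_M(S) ≤ L`, then `Ms` has a complement in `M` contained in `M ⊓ L`.
-/

set_option autoImplicit false
set_option linter.unusedSectionVars false

namespace Cfsg.Agent.Helper89.BGComplLe

open Subgroup

variable {G : Type*} [Group G] [Finite G]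

theorem exists_compl_le {q : ℕ} [Fact q.Prime] (M L Ms S : Subgroup G) (hMsM : Ms ≤ M)
    (hn : M ≤ Subgroup.normalizer (Ms : Set G))
    (hcop : (Nat.card Ms).Coprime (Ms.relIndex M)) (hSMs : S ≤ Ms) (hSq : IsPGroup q S)
    (hSyl : ¬ q ∣ S.relIndex Ms) (hNS : M ⊓ Subgroup.normalizer (S : Set G) ≤ L) :
    ∃ E : Subgroup G, E ≤ M ⊓ L ∧ Cfsg.IsComplIn E Ms M := by
  classical
  -- `S` is a Sylow subgroup of `Ms`
  have hS' : IsPGroup q (S.subgroupOf Ms) := hSq.comap_subtype
  have hSylIn : Helper46.IsSylIn q S Ms :=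
    ⟨hS'.toSylow hSyl, by
      show (S.subgroupOf Ms).map Ms.subtype = S
      exact Subgroup.map_subgroupOf_eq_of_le hSMs⟩
  set N : Subgroup G := M ⊓ Subgroup.normalizer (S : Set G) with hN
  have hNM : N ≤ M := inf_le_left
  have hNL : N ≤ L := hNS
  -- Frattini
  have hfrat : ∀ g ∈ M, ∃ r ∈ Ms, ∃ n ∈ N, g = r * n := fun g hg =>
    hSylIn.frattini hMsM hn hg
  -- `K = Ms ∩ N` is a normal Hall subgroup of `N`
  haveI hKn : (Ms.subgroupOf N).Normal := by
    refine ⟨fun x hx g => ?_⟩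
    rw [mem_subgroupOf] at hx ⊢
    have hg : (g : G) ∈ Subgroup.normalizer (Ms : Set G) := hn (hNM g.2)
    have := (Subgroup.mem_normalizer_iff.1 hg (x : G)).1 hx
    simpa using this
  have hKcop : (Nat.card (Ms.subgroupOf N)).Coprime (Ms.subgroupOf N).index := by
    have h1 : Nat.card (Ms.subgroupOf N) ∣ Nat.card Ms := by
      have e : Nat.card (Ms.subgroupOf N) = Nat.card (Ms ⊓ N : Subgroup G) := by
        rw [← Subgroup.card_map_of_injective N.subtype_injective, Subgroup.subgroupOf_map_subtype]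
      rw [e]
      exact Subgroup.card_dvd_of_le inf_le_left
    have h2 : (Ms.subgroupOf N).index ∣ Ms.relIndex M := by
      haveI : (Ms.subgroupOf M).Normal := by
        refine ⟨fun x hx g => ?_⟩
        rw [mem_subgroupOf] at hx ⊢
        have hg : (g : G) ∈ Subgroup.normalizer (Ms : Set G) := hn g.2
        have := (Subgroup.mem_normalizer_iff.1 hg (x : G)).1 hx
        simpa using this
      have h3 := Subgroup.relIndex_dvd_index_of_normal (Ms.subgroupOf M) (N.subgroupOf M)
      rw [Subgroup.relIndex_subgroupOf hNM] at h3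
      exact h3
    exact Nat.Coprime.coprime_dvd_left h1 (Nat.Coprime.coprime_dvd_right h2 hcop)
  obtain ⟨E', hE'⟩ := Subgroup.exists_right_complement'_of_coprime hKcop
  refine ⟨E'.map N.subtype, ?_, ?_, hMsM, ?_, ?_⟩
  · exact le_inf ((Subgroup.map_subtype_le _).trans hNM) ((Subgroup.map_subtype_le _).trans hNL)
  · exact (Subgroup.map_subtype_le _).trans hNM
  · -- trivial intersection
    rw [eq_bot_iff]
    rintro x ⟨⟨e, he, rfl⟩, hx2⟩
    have hx2' : (N.subtype e) ∈ Ms := hx2
    have h1 : e ∈ Ms.subgroupOf N := by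
      rw [mem_subgroupOf]; exact hx2'
    have h2 : e ∈ (Ms.subgroupOf N) ⊓ E' := ⟨h1, he⟩
    rw [hE'.disjoint.eq_bot, mem_bot] at h2
    rw [mem_bot, h2, map_one]
  · -- factorization
    intro m hm
    obtain ⟨r, hr, n, hnN, rfl⟩ := hfrat m hm
    obtain ⟨⟨⟨k, hk⟩, ⟨e, he⟩⟩, hke, -⟩ :=
      (Subgroup.isComplement'_def.mp hE').existsUnique (⟨n, hnN⟩ : N)
    simp only at hke
    have hke' : (k : G) * (e : G) = n := by
      have := congrArg (fun z : N => (z : G)) hke
      simpa using this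
    have hkMs : (k : G) ∈ Ms := by
      have : k ∈ Ms.subgroupOf N := hk
      rwa [mem_subgroupOf] at this
    have heN : (e : G) ∈ Subgroup.normalizer (Ms : Set G) := hn (hNM e.2)
    have heN' : (e : G)⁻¹ ∈ Subgroup.normalizer (Ms : Set G) := inv_mem heN
    refine ⟨(e : G), ⟨e, he, rfl⟩, (e : G)⁻¹ * (r * k) * ((e : G)⁻¹)⁻¹, ?_, ?_⟩
    · exact (Subgroup.mem_normalizer_iff.1 heN' _).1 (Ms.mul_mem hr hkMs)
    · rw [← hke']
      group

end Cfsg.Agent.Helper89.BGComplLe
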