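import Mathlib
import Cfsg.Agent.Helper77.Blk.Defs
import Cfsg.Agent.Helper73.BlkACT

/-!
# S3888 (Blackburn) piece (C0) `class_m_one` — helper89 (hedge) for helper77
-/

set_option autoImplicit false

universe u

namespace Cfsg.Agent.Helper89.Blk

open Subgroup Cfsg.Agent.Helper77.Blk

section beta
variable {G : Type u} [Group G] [Finite G] {p : ℕ} [hp : Fact p.Prime]

/-- a group of order `p^k`, `k ≤ 2`, is commutative -/
theorem C0_comm_of_card_le {H : Type*} [Group H] (k : ℕ) (hk : k ≤ 2) (hH : Nat.card H = p ^ k)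
    (a b : H) : a * b = b * a := by
  have hpp : p.Prime := hp.out
  interval_cases k
  · rw [pow_zero] at hH
    have : Subsingleton H := (Nat.card_eq_one_iff_unique.mp hH).1
    rw [Subsingleton.elim a b]
  · rw [pow_one] at hH
    have : IsCyclic H := isCyclic_of_prime_card hH
    exact (IsCyclic.commGroup).mul_comm a b
  · exact (IsPGroup.isMulCommutative_of_card_eq_prime_sq (p := p) hH).is_comm.comm a b

/-- (C0) `m = 1`. -/
theorem class_m_one (hp2 : p ≠ 2) (hG : Nat.card G = p ^ 3) (x z y : G) (hzy : z * y = y * z)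
    (hz : orderOf z = p ^ 1) (hy : y ^ p = 1) (hyz : y ∉ zpowers z) (hx : x ^ p = 1)
    (hxC : x ∉ closure ({z, y} : Set G)) (hnz : x⁻¹ * z * x ∈ closure ({z, y} : Set G))
    (hny : x⁻¹ * y * x ∈ closure ({z, y} : Set G))
    (hact : ∃ e ∈ closure ({z, y} : Set G), x⁻¹ * e * x ≠ e) : Fam2 p 3 G := by
  classical
  have hpp : p.Prime := hp.out
  have hGp : IsPGroup p G := IsPGroup.of_card hG
  have hzp : z ^ p = 1 := by
    rw [pow_one] at hz; rw [← hz]; exact pow_orderOf_eq_one z
  -- `E = closure {z, y}` is commutative of exponent `p`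
  have hScomm : ∀ a ∈ ({z, y} : Set G), ∀ b ∈ ({z, y} : Set G), a * b = b * a := by
    intro a ha b hb
    rcases ha with rfl | ha <;> rcases hb with rfl | hb
    · rfl
    · rw [Set.mem_singleton_iff] at hb; rw [hb]; exact hzy
    · rw [Set.mem_singleton_iff] at ha; rw [ha]; exact hzy.symm
    · rw [Set.mem_singleton_iff] at ha hb; rw [ha, hb]
  have hEcomm : IsMulCommutative (closure ({z, y} : Set G)) := Subgroup.isMulCommutative_closure hScomm
  have hEc : ∀ a ∈ closure ({z, y} : Set G), ∀ b ∈ closure ({z, y} : Set G), a * b = b * a := by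
    intro a ha b hb
    exact congrArg Subtype.val (hEcomm.is_comm.comm (⟨a, ha⟩ : closure ({z, y} : Set G)) ⟨b, hb⟩)
  have hEexp : ∀ a ∈ closure ({z, y} : Set G), a ^ p = 1 := by
    intro a ha
    induction ha using Subgroup.closure_induction with
    | mem g hg =>
      rcases hg with rfl | hg
      · exact hzp
      · rw [Set.mem_singleton_iff] at hg; rw [hg]; exact hy
    | one => exact one_pow p
    | mul a b ha hb iha ihb =>
      have hab : Commute a b := hEc a ha b hb
      rw [hab.mul_pow, iha, ihb, one_mul]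
    | inv a ha iha => rw [inv_pow, iha, inv_one]
  -- `|E| = p^2`
  have hzE : z ∈ closure ({z, y} : Set G) := subset_closure (by simp)
  have hyE : y ∈ closure ({z, y} : Set G) := subset_closure (by simp)
  have hEcard : Nat.card (closure ({z, y} : Set G)) = p ^ 2 := by
    have hdvd : Nat.card (closure ({z, y} : Set G)) ∣ p ^ 3 := by
      rw [← hG]; exact Subgroup.card_subgroup_dvd_card _
    obtain ⟨k, hk3, hk⟩ := (Nat.dvd_prime_pow hpp).mp hdvd
    have hZcard : Nat.card (zpowers z) = p := by rw [Nat.card_zpowers, hz, pow_one]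
    have hZle : zpowers z ≤ closure ({z, y} : Set G) := by rw [zpowers_le]; exact hzE
    have hk3' : k ≠ 3 := by
      rintro rfl
      apply hxC
      have : closure ({z, y} : Set G) = ⊤ := by
        apply Subgroup.eq_top_of_card_eq
        rw [hk, hG]
      rw [this]; exact mem_top x
    have hk0 : k ≠ 0 := by
      rintro rfl
      have := Subgroup.card_le_of_le hZle
      rw [hZcard, hk, pow_zero] at this
      have := hpp.two_le; omega
    have hk1 : k ≠ 1 := by
      rintro rfl
      have heq : zpowers z = closure ({z, y} : Set G) := by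
        apply Subgroup.eq_of_le_of_card_ge hZle
        rw [hZcard, hk, pow_one]
      apply hyz; rw [heq]; exact hyE
    have : k = 2 := by omega
    rw [hk, this]
  -- `E` is normal (index `p`)
  have hEnormal : (closure ({z, y} : Set G)).Normal := by
    apply Subgroup.normal_of_index_eq_minFac_card
    have h1 := Subgroup.card_mul_index (closure ({z, y} : Set G))
    rw [hEcard, hG] at h1
    have h2 : (closure ({z, y} : Set G)).index = p := by
      have : p ^ 2 * (closure ({z, y} : Set G)).index = p ^ 2 * p := by rw [h1]; ring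
      exact Nat.eq_of_mul_eq_mul_left (by have := hpp.pos; positivity) this
    rw [h2, hG, Nat.Prime.pow_minFac hpp (by norm_num)]
  obtain ⟨e2, he2, hne2⟩ := hact
  have hACT := Cfsg.Agent.Helper73.Blk.transvAct hGp (closure ({z, y} : Set G)) hEcard hEexp x
  obtain ⟨he1fix, -, -⟩ := hACT e2 he2 hne2
  have he1E : e2⁻¹ * (x⁻¹ * e2 * x) ∈ closure ({z, y} : Set G) := by
    apply mul_mem (inv_mem he2)
    have := hEnormal.conj_mem e2 he2 x⁻¹
    simpa using this
  refine ⟨le_refl 3, x, e2, e2⁻¹ * (x⁻¹ * e2 * x), ?_, hx, hEexp e2 he2, ?_, ?_, ?_, ?_⟩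
  · -- generation: the closure is nonabelian, so has order `p^3`
    have hdvd : Nat.card (closure ({x, e2, e2⁻¹ * (x⁻¹ * e2 * x)} : Set G)) ∣ p ^ 3 := by
      rw [← hG]; exact Subgroup.card_subgroup_dvd_card _
    obtain ⟨k, hk3, hk⟩ := (Nat.dvd_prime_pow hpp).mp hdvd
    have hk2 : ¬ k ≤ 2 := by
      intro hk2
      have hxK : x ∈ closure ({x, e2, e2⁻¹ * (x⁻¹ * e2 * x)} : Set G) := subset_closure (by simp)
      have heK : e2 ∈ closure ({x, e2, e2⁻¹ * (x⁻¹ * e2 * x)} : Set G) := subset_closure (by simp)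
      have hc := C0_comm_of_card_le (p := p) k hk2 hk
        (⟨x, hxK⟩ : closure ({x, e2, e2⁻¹ * (x⁻¹ * e2 * x)} : Set G)) ⟨e2, heK⟩
      have hc' : x * e2 = e2 * x := congrArg Subtype.val hc
      apply hne2
      calc x⁻¹ * e2 * x = x⁻¹ * (e2 * x) := by group
        _ = x⁻¹ * (x * e2) := by rw [hc']
        _ = e2 := by group
    have hk3' : k = 3 := by omega
    apply Subgroup.eq_top_of_card_eq
    rw [hk, hk3', hG]
  · -- Z ^ p ^ (3 - 2) = 1
    have : (3 : ℕ) - 2 = 1 := rfl
    rw [this, pow_one]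
    exact hEexp _ he1E
  · -- x * e1 = e1 * x
    calc x * (e2⁻¹ * (x⁻¹ * e2 * x)) = x * (x⁻¹ * (e2⁻¹ * (x⁻¹ * e2 * x)) * x) := by rw [he1fix]
      _ = (e2⁻¹ * (x⁻¹ * e2 * x)) * x := by group
  · exact hEc e2 he2 _ he1E
  · have : (3 : ℕ) - 3 = 0 := rfl
    rw [this, pow_zero, pow_one]
    group

end beta

end Cfsg.Agent.Helper89.Blk
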