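import Mathlib
import Cfsg.Agent.S5344

/-!
# The Coxeter presentation of `Perm (Fin 5)` (helper89)

Four elements `a, b, c, e` of a group satisfying the Coxeter relations of type `A₄`
(`Rel4 a b c e`) give a homomorphism `Perm (Fin 5) →* G` sending the adjacent transpositions
`(0 1), (1 2), (2 3), (3 4)` to `a, b, c, e` (`CoxS5.exists_hom`).  The proof uses the homomorphism
from `Perm (Fin 4)` of `S5344` and the decomposition of `Perm (Fin 5)` into the five cosets
`Perm (Fin 4) · s₃ s₂ ⋯ s_{4-j}`.  A homomorphism from `Perm (Fin 5)` separating `(0 1)` and `(2 3)`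
is injective (`CoxS5.injective_of_ne`).
-/

set_option autoImplicit false

namespace Cfsg.Agent.Helper89.CoxS5

open Equiv Cfsg.Agent.S5344

/-- Coxeter generators of `Perm (Fin 5)`. -/
def sS (i : Fin 4) : Perm (Fin 5) := swap i.castSucc i.succ

section Rel

variable {G : Type*} [Group G]

/-- Coxeter relations of type `A₄`. -/
structure Rel4 (a b c e : G) : Prop where
  haa : a * a = 1
  hbb : b * b = 1
  hcc : c * c = 1
  hee : e * e = 1
  hca : c * a = a * c
  hea : e * a = a * e
  heb : e * b = b * e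
  hbab : b * (a * b) = a * (b * a)
  hcbc : c * (b * c) = b * (c * b)
  hece : e * (c * e) = c * (e * c)

/-- The four generators. -/
def gG (a b c e : G) : Fin 4 → G
  | 0 => a
  | 1 => b
  | 2 => c
  | 3 => e

/-- Coset representatives `1, e, ec, ecb, ecba`. -/
def CG (a b c e : G) : Fin 5 → G
  | 0 => 1
  | 1 => e
  | 2 => e * c
  | 3 => e * (c * b)
  | 4 => e * (c * (b * a))

/-- The `Perm (Fin 4)`-part of `C j * g i`. -/
def Tt : Fin 5 → Fin 4 → Option (Fin 3)
  | 0, 0 => some 0
  | 0, 1 => some 1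
  | 0, 2 => some 2
  | 0, 3 => none
  | 1, 0 => some 0
  | 1, 1 => some 1
  | 1, 2 => none
  | 1, 3 => none
  | 2, 0 => some 0
  | 2, 1 => none
  | 2, 2 => none
  | 2, 3 => some 2
  | 3, 0 => none
  | 3, 1 => none
  | 3, 2 => some 1
  | 3, 3 => some 2
  | 4, 0 => none
  | 4, 1 => some 0
  | 4, 2 => some 1
  | 4, 3 => some 2

/-- The coset of `C j * g i`. -/
def Jt : Fin 5 → Fin 4 → Fin 5
  | 0, 0 => 0
  | 0, 1 => 0
  | 0, 2 => 0
  | 0, 3 => 1
  | 1, 0 => 1
  | 1, 1 => 1
  | 1, 2 => 2
  | 1, 3 => 0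
  | 2, 0 => 2
  | 2, 1 => 3
  | 2, 2 => 1
  | 2, 3 => 2
  | 3, 0 => 4
  | 3, 1 => 2
  | 3, 2 => 3
  | 3, 3 => 3
  | 4, 0 => 3
  | 4, 1 => 4
  | 4, 2 => 4
  | 4, 3 => 4

/-- Value of an optional generator of `Perm (Fin 4)` in `G`. -/
def tG (a b c : G) : Option (Fin 3) → G
  | none => 1
  | some k => pick a b c k

/-- An optional generator as a permutation. -/
def tP : Option (Fin 3) → Perm (Fin 4)
  | none => 1
  | some k => gen k

theorem rule_G {a b c e : G} (r : Rel4 a b c e) (j : Fin 5) (i : Fin 4) :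
    CG a b c e j * gG a b c e i = tG a b c (Tt j i) * CG a b c e (Jt j i) := by
  obtain ⟨haa, hbb, hcc, hee, hca, hea, heb, hbab, hcbc, hece⟩ := r
  have haa' : ∀ x : G, a * (a * x) = x := fun x => by rw [← mul_assoc, haa, one_mul]
  have hbb' : ∀ x : G, b * (b * x) = x := fun x => by rw [← mul_assoc, hbb, one_mul]
  have hcc' : ∀ x : G, c * (c * x) = x := fun x => by rw [← mul_assoc, hcc, one_mul]
  have hee' : ∀ x : G, e * (e * x) = x := fun x => by rw [← mul_assoc, hee, one_mul]
  have hca' : ∀ x : G, c * (a * x) = a * (c * x) := fun x => by rw [← mul_assoc, hca, mul_assoc]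
  have hea' : ∀ x : G, e * (a * x) = a * (e * x) := fun x => by rw [← mul_assoc, hea, mul_assoc]
  have heb' : ∀ x : G, e * (b * x) = b * (e * x) := fun x => by rw [← mul_assoc, heb, mul_assoc]
  have hbab' : ∀ x : G, b * (a * (b * x)) = a * (b * (a * x)) := fun x => by
    rw [← mul_assoc a b, ← mul_assoc b, hbab]; simp only [mul_assoc]
  have hcbc' : ∀ x : G, c * (b * (c * x)) = b * (c * (b * x)) := fun x => by
    rw [← mul_assoc b c, ← mul_assoc c, hcbc]; simp only [mul_assoc]
  have hece' : ∀ x : G, e * (c * (e * x)) = c * (e * (c * x)) := fun x => by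
    rw [← mul_assoc c e, ← mul_assoc e, hece]; simp only [mul_assoc]
  have h5 : c * (b * (a * c)) = b * (c * (b * a)) := by rw [← hca, hcbc']
  have h5' : ∀ x : G, c * (b * (a * (c * x))) = b * (c * (b * (a * x))) := fun x => by
    rw [← hca', hcbc']
  have h6 : e * (c * (b * e)) = c * (e * (c * b)) := by rw [← heb, hece']
  have h6' : ∀ x : G, e * (c * (b * (e * x))) = c * (e * (c * (b * x))) := fun x => by
    rw [← heb', hece']
  have h7 : e * (c * (b * (a * e))) = c * (e * (c * (b * a))) := by rw [← hea, h6']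
  have h7' : ∀ x : G, e * (c * (b * (a * (e * x)))) = c * (e * (c * (b * (a * x)))) := fun x => by
    rw [← hea', h6']
  fin_cases j <;> fin_cases i <;>
    simp only [CG, gG, Tt, Jt, tG, pick, mul_one, one_mul, mul_assoc, haa, hbb, hcc, hee, hca, hea, heb,
      hbab, hcbc, hece, hca', hea', heb', h5, h6, h7]

/-- The homomorphism from `Perm (Fin 4)` attached to `a, b, c`. -/
noncomputable def phi4 {a b c e : G} (r : Rel4 a b c e) : Perm (Fin 4) →* G :=
  coxeterHom a b c r.haa r.hbb r.hcc r.hca r.hbab r.hcbc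

theorem phi4_tP {a b c e : G} (r : Rel4 a b c e) (o : Option (Fin 3)) :
    phi4 r (tP o) = tG a b c o := by
  cases o with
  | none => simp [tP, tG]
  | some k =>
    have h := coxeterHom_evalS a b c r.haa r.hbb r.hcc r.hca r.hbab r.hcbc [k]
    simpa [evalS, evalG, tP, tG, phi4] using h

end Rel

/-- The relations hold in `Perm (Fin 5)`. -/
theorem relS : Rel4 (sS 0) (sS 1) (sS 2) (sS 3) where
  haa := by decide
  hbb := by decide
  hcc := by decide
  hee := by decide
  hca := by decide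
  hea := by decide
  heb := by decide
  hbab := by decide
  hcbc := by decide
  hece := by decide

/-- The embedding of `Perm (Fin 4)`. -/
noncomputable def iota : Perm (Fin 4) →* Perm (Fin 5) := phi4 relS

/-- Coset representatives in `Perm (Fin 5)`. -/
def CS : Fin 5 → Perm (Fin 5) := CG (sS 0) (sS 1) (sS 2) (sS 3)

theorem evalG_apply_four (l : List (Fin 3)) : (evalG (sS 0) (sS 1) (sS 2) l) 4 = 4 := by
  induction l with
  | nil => simp [evalG]
  | cons i l ih =>
    simp only [evalG, Perm.mul_apply, ih]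
    fin_cases i <;> decide

theorem iota_apply_four (h : Perm (Fin 4)) : iota h 4 = 4 :=
  evalG_apply_four (nf h)

theorem iota_injective : Function.Injective iota := by
  rw [injective_iff_map_eq_one]
  intro σ hσ
  by_contra hne
  have hkey : iota (swap 0 1 * swap 2 3) = 1 := by
    obtain ⟨τ, ρ, h | h⟩ := exists_conj_mul σ hne
    · rw [← h]; simp [hσ]
    · rw [← h]; simp [hσ]
  have e0 : (swap 0 1 : Perm (Fin 4)) = tP (some 0) := by decide
  have e2 : (swap 2 3 : Perm (Fin 4)) = tP (some 2) := by decide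
  rw [map_mul, e0, e2] at hkey
  unfold iota at hkey
  rw [phi4_tP, phi4_tP] at hkey
  revert hkey
  simp only [tG, pick]
  decide

/-- The decomposition map. -/
noncomputable def F (p : Perm (Fin 4) × Fin 5) : Perm (Fin 5) := iota p.1 * CS p.2

theorem CS_inv_four : ∀ j : Fin 5, (CS j)⁻¹ 4 = Fin.rev j := by decide

theorem F_injective : Function.Injective F := by
  rintro ⟨h, j⟩ ⟨h', j'⟩ heq
  simp only [F] at heq
  have h1 : (iota h * CS j)⁻¹ 4 = (iota h' * CS j')⁻¹ 4 := by rw [heq]
  have h4 : ∀ h : Perm (Fin 4), (iota h)⁻¹ 4 = 4 := fun h => by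
    rw [Perm.inv_eq_iff_eq, iota_apply_four]
  simp only [mul_inv_rev, Perm.mul_apply, h4, CS_inv_four] at h1
  have hj : j = j' := Fin.rev_injective h1
  subst hj
  have h2 : iota h = iota h' := mul_right_cancel heq
  rw [iota_injective h2]

theorem F_bijective : Function.Bijective F := by
  rw [Fintype.bijective_iff_injective_and_card]
  refine ⟨F_injective, ?_⟩
  simp [Fintype.card_perm]
  decide

/-- The decomposition as an equivalence. -/
noncomputable def Fe : Perm (Fin 4) × Fin 5 ≃ Perm (Fin 5) := Equiv.ofBijective F F_bijective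

theorem F_mul_sS (h : Perm (Fin 4)) (j : Fin 5) (i : Fin 4) :
    F (h, j) * sS i = F (h * tP (Tt j i), Jt j i) := by
  have hr := rule_G relS j i
  have hg : gG (sS 0) (sS 1) (sS 2) (sS 3) i = sS i := by fin_cases i <;> rfl
  rw [hg] at hr
  simp only [F, CS, map_mul, mul_assoc]
  rw [hr]
  unfold iota
  rw [phi4_tP]

section Hom

variable {G : Type*} [Group G] {a b c e : G}

/-- The underlying map of the homomorphism. -/
noncomputable def Phi (r : Rel4 a b c e) (σ : Perm (Fin 5)) : G :=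
  phi4 r (Fe.symm σ).1 * CG a b c e (Fe.symm σ).2

theorem Phi_F (r : Rel4 a b c e) (h : Perm (Fin 4)) (j : Fin 5) :
    Phi r (F (h, j)) = phi4 r h * CG a b c e j := by
  have : Fe.symm (F (h, j)) = (h, j) := by
    rw [Equiv.symm_apply_eq]; rfl
  simp [Phi, this]

theorem Phi_one (r : Rel4 a b c e) : Phi r 1 = 1 := by
  have : (1 : Perm (Fin 5)) = F (1, 0) := by simp [F, CS, CG]
  rw [this, Phi_F]
  simp [CG]

theorem Phi_mul_sS (r : Rel4 a b c e) (σ : Perm (Fin 5)) (i : Fin 4) :
    Phi r (σ * sS i) = Phi r σ * gG a b c e i := by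
  obtain ⟨⟨h, j⟩, rfl⟩ := F_bijective.2 σ
  rw [F_mul_sS, Phi_F, Phi_F, map_mul, phi4_tP, mul_assoc, mul_assoc, rule_G r]

theorem Phi_mul (r : Rel4 a b c e) (σ τ : Perm (Fin 5)) : Phi r (σ * τ) = Phi r σ * Phi r τ := by
  let M : Submonoid (Perm (Fin 5)) :=
    { carrier := {τ | ∀ σ, Phi r (σ * τ) = Phi r σ * Phi r τ}
      one_mem' := fun σ => by simp [Phi_one]
      mul_mem' := fun {τ₁ τ₂} h1 h2 σ => by
        rw [← mul_assoc, h2, h1, h2 τ₁, mul_assoc] }
  have hM : M = ⊤ := by
    rw [eq_top_iff, ← Equiv.Perm.mclosure_swap_castSucc_succ 4, Submonoid.closure_le]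
    rintro _ ⟨i, rfl⟩
    intro σ
    have h1 := Phi_mul_sS r σ i
    have h2 := Phi_mul_sS r 1 i
    rw [one_mul, Phi_one, one_mul] at h2
    show Phi r (σ * sS i) = Phi r σ * Phi r (sS i)
    rw [h1, h2]
  have : τ ∈ M := hM ▸ Submonoid.mem_top τ
  exact this σ

/-- The homomorphism `Perm (Fin 5) →* G` attached to a quadruple satisfying the `A₄` relations. -/
noncomputable def hom (r : Rel4 a b c e) : Perm (Fin 5) →* G where
  toFun := Phi r
  map_one' := Phi_one r
  map_mul' := Phi_mul r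

theorem hom_sS (r : Rel4 a b c e) (i : Fin 4) : hom r (sS i) = gG a b c e i := by
  have h2 := Phi_mul_sS r 1 i
  rw [one_mul, Phi_one, one_mul] at h2
  exact h2

theorem exists_hom (r : Rel4 a b c e) : ∃ φ : Perm (Fin 5) →* G,
    φ (swap 0 1) = a ∧ φ (swap 1 2) = b ∧ φ (swap 2 3) = c ∧ φ (swap 3 4) = e :=
  ⟨hom r, hom_sS r 0, hom_sS r 1, hom_sS r 2, hom_sS r 3⟩

/-- A homomorphism from `Perm (Fin 5)` separating `(0 1)` and `(2 3)` is injective. -/
theorem injective_of_ne (φ : Perm (Fin 5) →* G) (h : φ (swap 0 1) ≠ φ (swap 2 3)) :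
    Function.Injective φ := by
  rw [← MonoidHom.ker_eq_bot_iff]
  by_contra hne
  have hnt : Nontrivial φ.ker := (Subgroup.nontrivial_iff_ne_bot _).2 hne
  have hle := Equiv.Perm.alternatingGroup_le_of_normal (α := Fin 5) (by simp) hnt
  have hmem : (swap 0 1 * swap 2 3 : Perm (Fin 5)) ∈ alternatingGroup (Fin 5) := by
    rw [Equiv.Perm.mem_alternatingGroup]; decide
  have h1 := hle hmem
  rw [MonoidHom.mem_ker, map_mul] at h1
  apply h
  have h2 : φ (swap 2 3) * φ (swap 2 3) = 1 := by
    rw [← map_mul]; simp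
  calc φ (swap 0 1) = φ (swap 0 1) * (φ (swap 2 3) * φ (swap 2 3)) := by rw [h2, mul_one]
    _ = φ (swap 2 3) := by rw [← mul_assoc, h1, one_mul]

end Hom

end Cfsg.Agent.Helper89.CoxS5
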