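-- Subgroups generated by two involutions (helper89).
import Mathlib
import Cfsg.Agent.Helper89.ThreeTransp

set_option autoImplicit false

namespace Cfsg.Agent.Helper89

variable {G : Type*} [Group G]

/-- An involution `s` inverts `s * t` when `t` is an involution as well. -/
theorem involution_mul_zpow {s t : G} (hs : s * s = 1) (ht : t * t = 1) (i : ℤ) :
    s * (s * t) ^ i = (s * t) ^ (-i) * s := by
  have hsinv : s⁻¹ = s := inv_eq_of_mul_eq_one_left hs
  have htinv : t⁻¹ = t := inv_eq_of_mul_eq_one_left ht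
  have h1 : s * (s * t) * s⁻¹ = (s * t)⁻¹ := by
    rw [mul_inv_rev, hsinv, htinv, ← mul_assoc, hs, one_mul]
  have h2 : s * (s * t) ^ i * s⁻¹ = (s * t) ^ (-i) := by
    rw [← conj_zpow, h1, inv_zpow, zpow_neg]
  calc s * (s * t) ^ i = (s * (s * t) ^ i * s⁻¹) * s := by group
    _ = (s * t) ^ (-i) * s := by rw [h2]

/-- Elements of the subgroup generated by two involutions `s, t` are of the form `r ^ i` or `r ^ i * s`
with `r = s * t`. -/
theorem mem_closure_pair_involutions {s t : G} (hs : s * s = 1) (ht : t * t = 1) {g : G}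
    (hg : g ∈ Subgroup.closure ({s, t} : Set G)) :
    (∃ i : ℤ, g = (s * t) ^ i) ∨ (∃ i : ℤ, g = (s * t) ^ i * s) := by
  have hc := involution_mul_zpow hs ht
  induction hg using Subgroup.closure_induction with
  | mem x hx =>
    rcases hx with rfl | hx
    · right; exact ⟨0, by simp⟩
    · rw [Set.mem_singleton_iff] at hx
      subst hx
      right
      refine ⟨-1, ?_⟩
      have := hc 1
      rw [zpow_one, ← mul_assoc, hs, one_mul] at this
      exact this
  | one => left; exact ⟨0, by simp⟩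
  | mul x y _ _ ihx ihy =>
    rcases ihx with ⟨i, rfl⟩ | ⟨i, rfl⟩ <;> rcases ihy with ⟨j, rfl⟩ | ⟨j, rfl⟩
    · left; exact ⟨i + j, by rw [zpow_add]⟩
    · right; exact ⟨i + j, by rw [zpow_add, mul_assoc]⟩
    · right
      refine ⟨i + -j, ?_⟩
      rw [mul_assoc, hc j, ← mul_assoc, ← zpow_add]
    · left
      refine ⟨i + -j, ?_⟩
      rw [mul_assoc, ← mul_assoc s, hc j, mul_assoc ((s * t) ^ (-j)), hs, mul_one, ← zpow_add]
  | inv x _ ih =>
    rcases ih with ⟨i, rfl⟩ | ⟨i, rfl⟩
    · left; exact ⟨-i, by rw [zpow_neg]⟩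
    · right
      refine ⟨i, ?_⟩
      rw [mul_inv_rev, inv_eq_of_mul_eq_one_left hs, ← zpow_neg, hc (-i), neg_neg]

/-- Two involutions whose product has 2-power order generate a 2-group. -/
theorem isPGroup_two_closure_pair {s t : G} (hs : s * s = 1) (ht : t * t = 1) {k : ℕ}
    (hk : (s * t) ^ (2 ^ k) = 1) : IsPGroup 2 (Subgroup.closure ({s, t} : Set G)) := by
  intro g
  rcases mem_closure_pair_involutions hs ht g.2 with ⟨i, hi⟩ | ⟨i, hi⟩
  · refine ⟨k, Subtype.ext ?_⟩
    rw [Subgroup.coe_pow, hi, Subgroup.coe_one, ← zpow_natCast, ← zpow_mul, mul_comm, zpow_mul, zpow_natCast, hk,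
      one_zpow]
  · refine ⟨1, Subtype.ext ?_⟩
    rw [Subgroup.coe_pow, hi, Subgroup.coe_one, pow_one, pow_two, mul_assoc, ← mul_assoc s,
      involution_mul_zpow hs ht i, mul_assoc ((s * t) ^ (-i)), hs, mul_one, ← zpow_add, add_neg_cancel, zpow_zero]

end Cfsg.Agent.Helper89
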