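import Mathlib
import Cfsg.Agent.Helper43.EF.Defs
import Cfsg.Agent.Helper45.GUCard

/-!
# (EMB) of helper43's S5976 plan (#7932): `GU_d(q)` embeds in `C_{Sp_{2d}(q)}(Y0)`

`E = F(√δ)` is realised as Mathlib's `QuadraticAlgebra F δ 0`; restriction of scalars
`E^d → F^{2d}` turns a `d × d` matrix over `E` into a `2d × 2d` matrix over `F` commuting with
`Y0` (multiplication by `√δ`), and the imaginary part of the hermitian form is the symplectic form.
-/

set_option autoImplicit false
set_option linter.unusedSectionVars false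
set_option linter.unusedVariables false

namespace Cfsg.Agent.Helper89.EF

open Matrix Cfsg Cfsg.Geo Cfsg.Agent.Helper13 Cfsg.Agent.Helper43.EF

variable {F : Type*} [Field F] {d : ℕ}

/-- the order of `GU_d(q)` (same body as `Cfsg.Agent.Helper43.EF.guOrd` of the skeleton) -/
def guOrd (q d : ℕ) : ℕ :=
  q ^ (d * (d - 1) / 2) * ∏ i ∈ Finset.range d, (if Even i then q ^ (i + 1) + 1 else q ^ (i + 1) - 1)

section emb

variable (δ : F)

/-- restriction of scalars on vectors -/
def phi (c : Fin d → QuadraticAlgebra F δ 0) : Fin d ⊕ Fin d → F :=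
  Sum.elim (fun i => (c i).re) (fun i => (c i).im)

/-- restriction of scalars on matrices -/
def psi (M : Matrix (Fin d) (Fin d) (QuadraticAlgebra F δ 0)) :
    Matrix (Fin d ⊕ Fin d) (Fin d ⊕ Fin d) F :=
  Matrix.fromBlocks (M.map (fun z => z.re)) (δ • M.map (fun z => z.im))
    (M.map (fun z => z.im)) (M.map (fun z => z.re))

theorem re_sum' {ι : Type*} (s : Finset ι) (f : ι → QuadraticAlgebra F δ 0) :
    (∑ i ∈ s, f i).re = ∑ i ∈ s, (f i).re :=
  map_sum (QuadraticAlgebra.reₗ δ 0) f s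

theorem im_sum' {ι : Type*} (s : Finset ι) (f : ι → QuadraticAlgebra F δ 0) :
    (∑ i ∈ s, f i).im = ∑ i ∈ s, (f i).im :=
  map_sum (QuadraticAlgebra.imₗ δ 0) f s

theorem phi_injective : Function.Injective (phi δ : (Fin d → QuadraticAlgebra F δ 0) → _) := by
  intro a c h
  funext i
  have h1 := congrFun h (Sum.inl i)
  have h2 := congrFun h (Sum.inr i)
  exact QuadraticAlgebra.ext h1 h2

theorem phi_surjective : Function.Surjective (phi δ : (Fin d → QuadraticAlgebra F δ 0) → _) := by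
  intro v
  refine ⟨fun i => ⟨v (Sum.inl i), v (Sum.inr i)⟩, ?_⟩
  funext j
  rcases j with j | j <;> rfl

theorem psi_mulVec_phi (M : Matrix (Fin d) (Fin d) (QuadraticAlgebra F δ 0))
    (c : Fin d → QuadraticAlgebra F δ 0) : psi δ M *ᵥ phi δ c = phi δ (M *ᵥ c) := by
  funext j
  rcases j with j | j
  · simp only [psi, phi, Matrix.mulVec, dotProduct, Fintype.sum_sum_type, Matrix.fromBlocks_apply₁₁,
      Matrix.fromBlocks_apply₁₂, Sum.elim_inl, Sum.elim_inr, Matrix.map_apply, Matrix.smul_apply,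
      smul_eq_mul, re_sum', QuadraticAlgebra.re_mul]
    all_goals
      (rw [← Finset.sum_add_distrib]
       first
         | done
         | (apply Finset.sum_congr rfl; intro i _; ring))
  · simp only [psi, phi, Matrix.mulVec, dotProduct, Fintype.sum_sum_type, Matrix.fromBlocks_apply₂₁,
      Matrix.fromBlocks_apply₂₂, Sum.elim_inl, Sum.elim_inr, Matrix.map_apply, im_sum',
      QuadraticAlgebra.im_mul]
    all_goals
      (rw [← Finset.sum_add_distrib]
       first
         | done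
         | (apply Finset.sum_congr rfl; intro i _; ring))

theorem mat_ext_of_mulVec {A B : Matrix (Fin d ⊕ Fin d) (Fin d ⊕ Fin d) F}
    (h : ∀ v, A *ᵥ v = B *ᵥ v) : A = B := by
  apply Matrix.toLin'.injective
  apply LinearMap.ext
  intro v
  rw [Matrix.toLin'_apply, Matrix.toLin'_apply, h]

theorem mat_ext_of_mulVec' {A B : Matrix (Fin d) (Fin d) (QuadraticAlgebra F δ 0)}
    (h : ∀ v, A *ᵥ v = B *ᵥ v) : A = B := by
  apply Matrix.toLin'.injective
  apply LinearMap.ext
  intro v
  rw [Matrix.toLin'_apply, Matrix.toLin'_apply, h]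

theorem psi_one : psi δ (1 : Matrix (Fin d) (Fin d) (QuadraticAlgebra F δ 0)) = 1 := by
  apply mat_ext_of_mulVec
  intro v
  obtain ⟨c, rfl⟩ := phi_surjective δ v
  rw [psi_mulVec_phi, Matrix.one_mulVec, Matrix.one_mulVec]

theorem psi_mul (M N : Matrix (Fin d) (Fin d) (QuadraticAlgebra F δ 0)) :
    psi δ (M * N) = psi δ M * psi δ N := by
  apply mat_ext_of_mulVec
  intro v
  obtain ⟨c, rfl⟩ := phi_surjective δ v
  rw [psi_mulVec_phi, ← Matrix.mulVec_mulVec, ← Matrix.mulVec_mulVec (phi δ c) (psi δ M) (psi δ N),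
    psi_mulVec_phi, psi_mulVec_phi]

theorem psi_injective :
    Function.Injective (psi δ : Matrix (Fin d) (Fin d) (QuadraticAlgebra F δ 0) → _) := by
  intro M N h
  apply mat_ext_of_mulVec' δ
  intro c
  apply phi_injective δ
  rw [← psi_mulVec_phi, ← psi_mulVec_phi, h]

/-- `psi` as a monoid homomorphism -/
def psiHom : Matrix (Fin d) (Fin d) (QuadraticAlgebra F δ 0) →*
    Matrix (Fin d ⊕ Fin d) (Fin d ⊕ Fin d) F where
  toFun := psi δ
  map_one' := psi_one δ
  map_mul' := psi_mul δ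

/-- `Y0` is multiplication by `ω` -/
theorem Y0_mulVec_phi (c : Fin d → QuadraticAlgebra F δ 0) :
    Y0 d δ *ᵥ phi δ c = phi δ (fun i => QuadraticAlgebra.omega * c i) := by
  funext j
  rcases j with j | j
  · simp only [Y0, phi, Matrix.mulVec, dotProduct, Fintype.sum_sum_type, Matrix.fromBlocks_apply₁₁,
      Matrix.fromBlocks_apply₁₂, Sum.elim_inl, Sum.elim_inr, Matrix.zero_apply, zero_mul,
      Finset.sum_const_zero, zero_add, Matrix.smul_apply, Matrix.one_apply, smul_eq_mul,
      QuadraticAlgebra.re_mul, QuadraticAlgebra.omega_re, QuadraticAlgebra.omega_im]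
    simp [Finset.sum_ite_eq]
  · simp only [Y0, phi, Matrix.mulVec, dotProduct, Fintype.sum_sum_type, Matrix.fromBlocks_apply₂₁,
      Matrix.fromBlocks_apply₂₂, Sum.elim_inl, Sum.elim_inr, Matrix.zero_apply, zero_mul,
      Finset.sum_const_zero, add_zero, Matrix.one_apply,
      QuadraticAlgebra.im_mul, QuadraticAlgebra.omega_re, QuadraticAlgebra.omega_im]
    simp [Finset.sum_ite_eq]

theorem psi_comm_Y0 (M : Matrix (Fin d) (Fin d) (QuadraticAlgebra F δ 0)) :
    psi δ M * Y0 d δ = Y0 d δ * psi δ M := by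
  apply mat_ext_of_mulVec
  intro v
  obtain ⟨c, rfl⟩ := phi_surjective δ v
  rw [← Matrix.mulVec_mulVec, ← Matrix.mulVec_mulVec, Y0_mulVec_phi, psi_mulVec_phi, psi_mulVec_phi,
    Y0_mulVec_phi]
  congr 1
  funext i
  simp only [Matrix.mulVec, dotProduct, Finset.mul_sum]
  apply Finset.sum_congr rfl
  intro j _
  ring


/-! ### the field `E = F(√δ)` -/

/-- the `Fintype` structure on `E` -/
noncomputable def fintypeE [Fintype F] : Fintype (QuadraticAlgebra F δ 0) :=
  Fintype.ofEquiv (F × F) (QuadraticAlgebra.equivProd δ 0).symm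

theorem card_E [Fintype F] :
    @Fintype.card (QuadraticAlgebra F δ 0) (fintypeE δ) = Fintype.card F ^ 2 := by
  rw [@Fintype.card_congr _ _ (fintypeE δ) _ (QuadraticAlgebra.equivProd δ 0), Fintype.card_prod, sq]

theorem omega_sq : (QuadraticAlgebra.omega : QuadraticAlgebra F δ 0) * QuadraticAlgebra.omega
    = QuadraticAlgebra.C δ := by
  ext <;> simp

theorem omega_pow_two_mul (m : ℕ) :
    (QuadraticAlgebra.omega : QuadraticAlgebra F δ 0) ^ (2 * m) = QuadraticAlgebra.C (δ ^ m) := by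
  rw [pow_mul, pow_two, omega_sq, QuadraticAlgebra.C_pow]

/-- the Frobenius of `E` over `F` is the conjugation -/
theorem frob_eq_star [Fintype F] (h2 : (2 : F) ≠ 0) (hirr : ∀ γ : F, γ * γ ≠ δ)
    (z : QuadraticAlgebra F δ 0) : z ^ Fintype.card F = star z := by
  classical
  have hδ0 : δ ≠ 0 := by
    rintro rfl
    exact hirr 0 (by simp)
  have hchar2 : ringChar F ≠ 2 := by
    intro h
    haveI : CharP F 2 := h ▸ ringChar.charP F
    exact h2 (CharP.cast_eq_zero F 2 ▸ (by norm_num : ((2 : ℕ) : F) = 2).symm ▸ rfl)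
  obtain ⟨p, hp⟩ := CharP.exists F
  haveI := hp
  haveI hpp : Fact p.Prime := ⟨CharP.char_is_prime F p⟩
  obtain ⟨n, hpn, hcard⟩ := FiniteField.card F p
  haveI : CharP (QuadraticAlgebra F δ 0) p :=
    charP_of_injective_algebraMap (QuadraticAlgebra.algebraMap_injective) p
  have hodd : Fintype.card F % 2 = 1 := FiniteField.odd_card_of_char_ne_two hchar2
  have hδpow : δ ^ (Fintype.card F / 2) = -1 := by
    rcases FiniteField.pow_dichotomy hchar2 hδ0 with h | h
    · exfalso
      obtain ⟨γ, hγ⟩ := (FiniteField.isSquare_iff hchar2 hδ0).mpr h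
      exact hirr γ hγ.symm
    · exact h
  have hω : (QuadraticAlgebra.omega : QuadraticAlgebra F δ 0) ^ Fintype.card F
      = - QuadraticAlgebra.omega := by
    have hq : Fintype.card F = 2 * (Fintype.card F / 2) + 1 := by omega
    rw [hq, pow_succ, omega_pow_two_mul, hδpow]
    ext <;> simp
  have hz : z = QuadraticAlgebra.C z.re + QuadraticAlgebra.C z.im * QuadraticAlgebra.omega := by
    ext <;> simp
  have hC : ∀ a : F, (QuadraticAlgebra.C a : QuadraticAlgebra F δ 0) ^ Fintype.card F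
      = QuadraticAlgebra.C a := by
    intro a
    rw [← QuadraticAlgebra.C_pow, FiniteField.pow_card]
  conv_lhs => rw [hz]
  have hcard' : Fintype.card F = p ^ (n : ℕ) := hcard
  rw [hcard', add_pow_char_pow, ← hcard', mul_pow, hC, hC, hω]
  ext <;> simp

/-- the imaginary part of the hermitian form is the symplectic form -/
theorem im_hermForm [Fintype F] [Fact (∀ r : F, r ^ 2 ≠ δ + 0 * r)] (h2 : (2 : F) ≠ 0)
    (hirr : ∀ γ : F, γ * γ ≠ δ) (a c : Fin d → QuadraticAlgebra F δ 0) :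
    (Cfsg.hermForm d (QuadraticAlgebra F δ 0) (Fintype.card F) a c).im
      = Cfsg.sympForm d F (phi δ a) (phi δ c) := by
  rw [sympForm_eq_sum]
  unfold Cfsg.hermForm
  rw [im_sum']
  apply Finset.sum_congr rfl
  intro i _
  rw [frob_eq_star δ h2 hirr]
  simp only [phi, Sum.elim_inl, Sum.elim_inr, QuadraticAlgebra.im_mul, QuadraticAlgebra.re_star,
    QuadraticAlgebra.im_star]
  ring


end emb

/-- (EMB) `GU_d(q)` embeds in the centraliser of the standard `Y0` in `Sp` -/
theorem guOrd_dvd_card_comm_Y0 [Fintype F] {q : ℕ} (hq : Fintype.card F = q) (h2 : (2 : F) ≠ 0)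
    {δ : F} (hirr : ∀ γ : F, γ * γ ≠ δ) :
    guOrd q d ∣ Nat.card ↥(commGL (Y0 d δ) ⊓ Cfsg.spGL d F) := by
  classical
  subst hq
  haveI : Fact (∀ r : F, r ^ 2 ≠ δ + 0 * r) :=
    ⟨fun r h => hirr r (by rw [← sq, h]; ring)⟩
  letI : Fintype (QuadraticAlgebra F δ 0) := fintypeE δ
  have hcardE : Fintype.card (QuadraticAlgebra F δ 0) = Fintype.card F ^ 2 := card_E δ
  have hGU := Cfsg.Agent.Helper45.GU.card_GU hcardE d
  let f0 : GL (Fin d) (QuadraticAlgebra F δ 0) →* GL (Fin d ⊕ Fin d) F := Units.map (psiHom δ)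
  have hf0 : ∀ g : GL (Fin d) (QuadraticAlgebra F δ 0),
      ((f0 g : GL (Fin d ⊕ Fin d) F) : Matrix (Fin d ⊕ Fin d) (Fin d ⊕ Fin d) F)
        = psi δ (g : Matrix (Fin d) (Fin d) (QuadraticAlgebra F δ 0)) := fun g => rfl
  have hmem : ∀ g : ↥(Cfsg.GU d (QuadraticAlgebra F δ 0) (Fintype.card F)),
      f0 (g : GL (Fin d) (QuadraticAlgebra F δ 0)) ∈ commGL (Y0 d δ) ⊓ Cfsg.spGL d F := by
    intro g
    refine Subgroup.mem_inf.mpr ⟨?_, ?_⟩
    · rw [mem_commGL, hf0]
      exact psi_comm_Y0 δ _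
    · rw [mem_spGL_iff]
      intro u v
      obtain ⟨a, rfl⟩ := phi_surjective δ u
      obtain ⟨c, rfl⟩ := phi_surjective δ v
      rw [hf0, psi_mulVec_phi, psi_mulVec_phi, ← im_hermForm δ h2 hirr, ← im_hermForm δ h2 hirr]
      congr 1
      exact g.2 a c
  let f : ↥(Cfsg.GU d (QuadraticAlgebra F δ 0) (Fintype.card F)) →*
      ↥(commGL (Y0 d δ) ⊓ Cfsg.spGL d F) :=
    (f0.comp (Cfsg.GU d (QuadraticAlgebra F δ 0) (Fintype.card F)).subtype).codRestrict _ hmem
  have hf : Function.Injective f := by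
    intro g g' h
    have h1 : f0 (g : GL (Fin d) (QuadraticAlgebra F δ 0)) = f0 (g' : GL (Fin d) _) :=
      congrArg Subtype.val h
    have h2' := congrArg (fun x : GL (Fin d ⊕ Fin d) F =>
      (x : Matrix (Fin d ⊕ Fin d) (Fin d ⊕ Fin d) F)) h1
    simp only [hf0] at h2'
    exact Subtype.ext (Units.ext (psi_injective δ h2'))
  have hdvd := Subgroup.card_dvd_of_injective f hf
  unfold guOrd
  rw [← hGU]
  exact hdvd


end Cfsg.Agent.Helper89.EF
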