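import Mathlib
import Cfsg.Prelude.Def_FischerSpaces
import Cfsg.Prelude.Def_Solvable
import Cfsg.Agent.Helper89.Kei
import Cfsg.Agent.S5344

/-!
# 3-transposition sets in which the commuting partners of each member form a line (helper89)

Basic lemmas for `S5365`: if `⟨D_d⟩ ≅ Sym(3)` for each `d ∈ D`, then `D_d = {a, b, aba}` is a set of
three pairwise non-commuting members.
-/

set_option autoImplicit false

namespace Cfsg.Agent.Helper89.LocS3

open Cfsg Equiv Cfsg.Agent.Helper89

variable {G : Type*} [Group G] {D : Set G}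

/-- The commuting partners of `d` in `D`. -/
def Dd (D : Set G) (d : G) : Set G := {y | y ∈ D ∧ y ≠ d ∧ Commute d y}

theorem mem_Dd_symm {d y : G} (hd : d ∈ D) (h : y ∈ Dd D d) : d ∈ Dd D y :=
  ⟨hd, h.2.1.symm, h.2.2.symm⟩

/-- An involution `x` conjugates by `x * y * x`. -/
theorem conj_inv_mem (hD : IsThreeTranspositionSet D) (hconj : ∀ g : G, ∀ d ∈ D, g * d * g⁻¹ ∈ D)
    {x y : G} (hx : x ∈ D) (hy : y ∈ D) : x * y * x ∈ D := by
  have := hconj x y hy
  rwa [inv_eq_of_mul_eq_one_left (sq_of_mem hD hx)] at this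

/-- Braid relation for non-commuting members. -/
theorem braid (hD : IsThreeTranspositionSet D) {x y : G} (hx : x ∈ D) (hy : y ∈ D)
    (h : ¬ Commute x y) : x * y * x = y * x * y := by
  have := cj_comm_of_not_commute hD hx hy h
  simpa [cj, inv_eq_of_mul_eq_one_left (sq_of_mem hD hx), inv_eq_of_mul_eq_one_left (sq_of_mem hD hy)]
    using this

/-- A member not commuting with `a ≠ b` does not centralize `a * b`. -/
theorem not_commute_mul (hD : IsThreeTranspositionSet D) {y a b : G} (hy : y ∈ D) (ha : a ∈ D)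
    (hb : b ∈ D) (hya : ¬ Commute y a) (hyb : ¬ Commute y b) (hab : a ≠ b) : ¬ Commute y (a * b) := by
  intro hc
  have haa := sq_of_mem hD ha
  have hbb := sq_of_mem hD hb
  have hyy := sq_of_mem hD hy
  have h1 : a * y * a = b * y * b := by
    have e : y * (a * b) = a * b * y := hc.eq
    calc a * y * a = a * (y * (a * b)) * b := by
          simp only [mul_assoc, hbb, mul_one]
      _ = a * (a * b * y) * b := by rw [e]
      _ = (a * a) * b * y * b := by simp only [mul_assoc]
      _ = b * y * b := by rw [haa, one_mul]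
  rw [braid hD ha hy (fun c => hya c.symm), braid hD hb hy (fun c => hyb c.symm)] at h1
  exact hab (mul_left_cancel (mul_right_cancel h1))

/-- The S₄ lemma: if `d, a` commute and `y` commutes with neither, then `y ^ (d a)` is a commuting
partner of `y`. -/
theorem s4_lemma (hD : IsThreeTranspositionSet D) (hconj : ∀ g : G, ∀ d ∈ D, g * d * g⁻¹ ∈ D)
    {d a y : G} (hd : d ∈ D) (ha : a ∈ D) (hy : y ∈ D) (hda : Commute d a) (hne : d ≠ a)
    (hyd : ¬ Commute y d) (hya : ¬ Commute y a) : (d * a) * y * (d * a) ∈ Dd D y := by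
  obtain ⟨φ, hinj, h0, h1, h2⟩ := Cfsg.Agent.S5344.result hD hd hy ha hne hda
    (fun c => hyd c.symm) hya
  have hdd := sq_of_mem hD hd
  have haa := sq_of_mem hD ha
  have hinv : (d * a)⁻¹ = d * a := by
    rw [mul_inv_rev, inv_eq_of_mul_eq_one_left hdd, inv_eq_of_mul_eq_one_left haa, hda.eq]
  have hp : (d * a) * y * (d * a) = φ ((swap 0 1 * swap 2 3) * swap 1 2 * (swap 0 1 * swap 2 3)) := by
    simp only [map_mul, h0, h1, h2]
  refine ⟨?_, ?_, ?_⟩
  · have := hconj (d * a) y hy
    rwa [hinv] at this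
  · rw [hp, ← h1]
    intro h
    have := hinj h
    revert this
    decide
  · rw [hp]
    nth_rewrite 1 [← h1]
    show φ _ * φ _ = φ _ * φ _
    rw [← map_mul, ← map_mul]
    congr 1
    decide

set_option synthInstance.maxSize 1024 in
set_option synthInstance.maxHeartbeats 200000 in
theorem perm3_involutions_aux : ∀ p q r s : Perm (Fin 3),
    ((p * p = 1 ∧ p ≠ 1) ∧ (q * q = 1 ∧ q ≠ 1) ∧ (r * r = 1 ∧ r ≠ 1) ∧ (s * s = 1 ∧ s ≠ 1) ∧
      (p ≠ q ∧ p ≠ r ∧ q ≠ r)) → s = p ∨ s = q ∨ s = r := by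
  decide

theorem perm3_involutions (p q r s : Perm (Fin 3)) (hp : p * p = 1) (hp1 : p ≠ 1) (hq : q * q = 1)
    (hq1 : q ≠ 1) (hr : r * r = 1) (hr1 : r ≠ 1) (hs : s * s = 1) (hs1 : s ≠ 1) (hpq : p ≠ q)
    (hpr : p ≠ r) (hqr : q ≠ r) : s = p ∨ s = q ∨ s = r :=
  perm3_involutions_aux p q r s ⟨⟨hp, hp1⟩, ⟨hq, hq1⟩, ⟨hr, hr1⟩, ⟨hs, hs1⟩, hpq, hpr, hqr⟩

/-- A set of involutions closed under conjugation by its members and generating a copy of `Sym(3)`
is a line. -/
theorem exists_line {S : Set G} (hinv : ∀ x ∈ S, x * x = 1) (hne1 : ∀ x ∈ S, x ≠ 1)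
    (hcl : ∀ x ∈ S, ∀ y ∈ S, x * y * x ∈ S)
    (e : Subgroup.closure S ≃* Perm (Fin 3)) :
    ∃ a b, a ∈ S ∧ b ∈ S ∧ ¬ Commute a b ∧ S = {a, b, a * b * a} := by
  have hnc : ∃ a ∈ S, ∃ b ∈ S, ¬ Commute a b := by
    by_contra hcon
    push Not at hcon
    have hc : IsMulCommutative (Subgroup.closure S) :=
      Subgroup.isMulCommutative_closure (fun x hx y hy => hcon x hx y hy)
    have h := hc.is_comm.comm (e.symm (swap 0 1)) (e.symm (swap 1 2))
    have h2 := congrArg e h
    simp only [map_mul, MulEquiv.apply_symm_apply] at h2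
    revert h2
    decide
  obtain ⟨a, ha, b, hb, hab⟩ := hnc
  refine ⟨a, b, ha, hb, hab, ?_⟩
  have hc := hcl a ha b hb
  have hab' : a ≠ b := fun h => hab (h ▸ Commute.refl a)
  have hac : a ≠ a * b * a := by
    intro h
    apply hab
    have h1 : b * a = 1 := by
      have : a * 1 = a * (b * a) := by rw [mul_one, ← mul_assoc]; exact h
      exact (mul_left_cancel this).symm
    have h2 : b = a⁻¹ := eq_inv_of_mul_eq_one_left h1
    rw [h2]
    exact (Commute.refl a).inv_right
  have hbc : b ≠ a * b * a := by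
    intro h
    apply hab
    show a * b = b * a
    have : b * a = a * b * a * a := by rw [← h]
    rw [this, mul_assoc, hinv a ha, mul_one]
  ext y
  constructor
  · intro hy
    have key : ∀ x (hx : x ∈ S), let X : Subgroup.closure S := ⟨x, Subgroup.subset_closure hx⟩
        e X * e X = 1 ∧ e X ≠ 1 := by
      intro x hx X
      constructor
      · rw [← map_mul]
        have : X * X = 1 := Subtype.ext (hinv x hx)
        rw [this, map_one]
      · intro h
        have h1 : X = 1 := (MulEquiv.map_eq_one_iff e).1 h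
        exact hne1 x hx (congrArg Subtype.val h1)
    have inj : ∀ x (hx : x ∈ S) z (hz : z ∈ S),
        e ⟨x, Subgroup.subset_closure hx⟩ = e ⟨z, Subgroup.subset_closure hz⟩ → x = z := by
      intro x hx z hz h
      exact congrArg Subtype.val (e.injective h)
    have := perm3_involutions _ _ _ _ (key a ha).1 (key a ha).2 (key b hb).1 (key b hb).2
      (key _ hc).1 (key _ hc).2 (key y hy).1 (key y hy).2
      (fun h => hab' (inj a ha b hb h)) (fun h => hac (inj a ha _ hc h))
      (fun h => hbc (inj b hb _ hc h))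
    rcases this with h | h | h
    · left; exact inj y hy a ha h
    · right; left; exact inj y hy b hb h
    · right; right; exact inj y hy _ hc h
  · rintro (rfl | rfl | rfl)
    · exact ha
    · exact hb
    · exact hc

section Loc

variable (hD : IsThreeTranspositionSet D) (hconj : ∀ g : G, ∀ d ∈ D, g * d * g⁻¹ ∈ D)
  (hloc : ∀ d ∈ D, Nonempty (↥(Subgroup.closure (Dd D d)) ≃* Perm (Fin 3)))

include hD hconj in
theorem mem_Dd_conj {d x y : G} (hx : x ∈ Dd D d) (hy : y ∈ Dd D d) : x * y * x ∈ Dd D d := by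
  refine ⟨conj_inv_mem hD hconj hx.1 hy.1, ?_, ?_⟩
  · intro h
    apply hy.2.1
    have hxx := sq_of_mem hD hx.1
    have hxd : x * d = d * x := hx.2.2.eq.symm
    calc y = x * (x * y * x) * x := by
          simp only [mul_assoc, hxx, mul_one]; rw [← mul_assoc, hxx, one_mul]
      _ = x * d * x := by rw [h]
      _ = d := by rw [hxd, mul_assoc, hxx, mul_one]
  · exact (hx.2.2.mul_right hy.2.2).mul_right hx.2.2

include hD hconj hloc in
theorem Dd_line {d : G} (hd : d ∈ D) :
    ∃ a b, a ∈ Dd D d ∧ b ∈ Dd D d ∧ ¬ Commute a b ∧ Dd D d = {a, b, a * b * a} := by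
  obtain ⟨e⟩ := hloc d hd
  exact exists_line (fun x hx => sq_of_mem hD hx.1) (fun x hx => ne_one_of_orderOf_two (hD.1 x hx.1))
    (fun x hx y hy => mem_Dd_conj hD hconj hx hy) e

include hD in
theorem ne_conj_of_not_commute {a b : G} (ha : a ∈ D) (hab : ¬ Commute a b) :
    a ≠ b ∧ a ≠ a * b * a ∧ b ≠ a * b * a := by
  have haa := sq_of_mem hD ha
  refine ⟨fun h => hab (h ▸ Commute.refl a), ?_, ?_⟩
  · intro h
    apply hab
    have h1 : b * a = 1 := by
      have : a * 1 = a * (b * a) := by rw [mul_one, ← mul_assoc]; exact h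
      exact (mul_left_cancel this).symm
    have h2 : b = a⁻¹ := eq_inv_of_mul_eq_one_left h1
    rw [h2]
    exact (Commute.refl a).inv_right
  · intro h
    apply hab
    show a * b = b * a
    have : b * a = a * b * a * a := by rw [← h]
    rw [this, mul_assoc, haa, mul_one]

include hD hconj hloc in
theorem Dd_ncard {d : G} (hd : d ∈ D) : (Dd D d).ncard = 3 := by
  obtain ⟨a, b, ha, hb, hab, heq⟩ := Dd_line hD hconj hloc hd
  obtain ⟨h1, h2, h3⟩ := ne_conj_of_not_commute hD ha.1 hab
  rw [heq]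
  exact Set.ncard_eq_three.2 ⟨a, b, a * b * a, h1, h2, h3, rfl⟩

include hD hconj hloc in
theorem Dd_eq_of_three {d x y z : G} (hd : d ∈ D) (hx : x ∈ Dd D d) (hy : y ∈ Dd D d)
    (hz : z ∈ Dd D d) (hxy : x ≠ y) (hxz : x ≠ z) (hyz : y ≠ z) : Dd D d = {x, y, z} := by
  have hn := Dd_ncard hD hconj hloc hd
  have hfin : (Dd D d).Finite := Set.finite_of_ncard_ne_zero (by omega)
  symm
  apply Set.eq_of_subset_of_ncard_le _ _ hfin
  · intro w hw
    rcases hw with rfl | rfl | rfl
    · exact hx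
    · exact hy
    · exact hz
  · rw [hn, Set.ncard_eq_three.2 ⟨x, y, z, hxy, hxz, hyz, rfl⟩]

include hD hconj hloc in
theorem not_commute_of_mem_Dd {d x y : G} (hd : d ∈ D) (hx : x ∈ Dd D d) (hy : y ∈ Dd D d)
    (hxy : x ≠ y) : ¬ Commute x y := by
  obtain ⟨a, b, ha, hb, hab, heq⟩ := Dd_line hD hconj hloc hd
  have hba : ¬ Commute b a := fun c => hab c.symm
  have h1 : ¬ Commute a (a * b * a) := by
    have := not_commute_cj_right hab
    rwa [cj, inv_eq_of_mul_eq_one_left (sq_of_mem hD ha.1)] at this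
  have h2 : ¬ Commute b (a * b * a) := by
    have := not_commute_cj_right hba
    rwa [cj, inv_eq_of_mul_eq_one_left (sq_of_mem hD hb.1), ← braid hD ha.1 hb.1 hab] at this
  rw [heq] at hx hy
  rcases hx with rfl | rfl | rfl <;> rcases hy with rfl | rfl | rfl
  · exact absurd rfl hxy
  · exact hab
  · exact h1
  · exact hba
  · exact absurd rfl hxy
  · exact h2
  · exact fun c => h1 c.symm
  · exact fun c => h2 c.symm
  · exact absurd rfl hxy

include hD hconj hloc in
theorem Dd_eq_pair {d x y : G} (hd : d ∈ D) (hx : x ∈ Dd D d) (hy : y ∈ Dd D d) (hxy : x ≠ y) :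
    Dd D d = {x, y, x * y * x} := by
  have hnc := not_commute_of_mem_Dd hD hconj hloc hd hx hy hxy
  obtain ⟨h1, h2, h3⟩ := ne_conj_of_not_commute hD hx.1 hnc
  exact Dd_eq_of_three hD hconj hloc hd hx hy (mem_Dd_conj hD hconj hx hy) h1 h2 h3

include hconj in
theorem conj_mem_Dd {d y : G} (g : G) (h : y ∈ Dd D d) : g * y * g⁻¹ ∈ Dd D (g * d * g⁻¹) := by
  refine ⟨hconj g y h.1, ?_, ?_⟩
  · intro heq
    apply h.2.1
    exact mul_left_cancel (mul_right_cancel heq)
  · exact (Commute.conj_iff g).2 h.2.2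

include hconj in
theorem conj_mem_Dd_iff {d y : G} (g : G) : g * y * g⁻¹ ∈ Dd D (g * d * g⁻¹) ↔ y ∈ Dd D d := by
  constructor
  · intro h
    have := conj_mem_Dd hconj g⁻¹ h
    simpa [mul_assoc] using this
  · exact conj_mem_Dd hconj g

/-- `x` and `y` are distinct members with the same commuting partners. -/
def Twin (D : Set G) (x y : G) : Prop := x ∈ D ∧ y ∈ D ∧ x ≠ y ∧ Dd D x = Dd D y

theorem Twin.symm {x y : G} (h : Twin D x y) : Twin D y x := ⟨h.2.1, h.1, h.2.2.1.symm, h.2.2.2.symm⟩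

include hconj in
theorem Twin.conj {x y : G} (h : Twin D x y) (g : G) : Twin D (g * x * g⁻¹) (g * y * g⁻¹) := by
  refine ⟨hconj g x h.1, hconj g y h.2.1, ?_, ?_⟩
  · intro heq
    exact h.2.2.1 (mul_left_cancel (mul_right_cancel heq))
  · ext z
    have hz : z = g * (g⁻¹ * z * g) * g⁻¹ := by group
    rw [hz, conj_mem_Dd_iff hconj, conj_mem_Dd_iff hconj, h.2.2.2]

theorem Twin.not_commute {x y : G} (h : Twin D x y) : ¬ Commute x y := by
  intro c
  have : y ∈ Dd D x := ⟨h.2.1, h.2.2.1.symm, c⟩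
  rw [h.2.2.2] at this
  exact this.2.1 rfl

/-- Non-commuting members are conjugate. -/
theorem conj_of_not_commute_eq (hD : IsThreeTranspositionSet D) {d y : G} (hd : d ∈ D) (hy : y ∈ D)
    (h : ¬ Commute y d) : d = (y * d) * y * (y * d)⁻¹ := by
  have hdd := sq_of_mem hD hd
  have hyy := sq_of_mem hD hy
  have hb := braid hD hy hd h
  rw [mul_inv_rev, inv_eq_of_mul_eq_one_left hdd, inv_eq_of_mul_eq_one_left hyy]
  calc d = y * (y * d * y) * y := by
        simp only [mul_assoc, hyy, mul_one]; rw [← mul_assoc, hyy, one_mul]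
    _ = y * (d * y * d) * y := by rw [hb]
    _ = y * d * y * (d * y) := by simp only [mul_assoc]

end Loc

end Cfsg.Agent.Helper89.LocS3
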