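import Mathlib
import Cfsg.Prelude.Def_FischerSpaces
import Cfsg.Agent.Helper89.LocS3Basic

/-!
# Local twins in a class of 3-transpositions (helper89)

For `x ∈ D` two non-commuting members `a, b` of `D_x` (the commuting partners of `x`) are *local
twins* when they have the same commuting partners inside `D_x`.

* `commute_of_local_twin`: if `a, b` are local twins in `D_x`, `e ∈ D` commutes with `a` but not with
  `b`, then every `y ∈ D_x` commuting with `a` commutes with `e`  (a `W(D₅)` computation).
* `local_twin_of_odd`: an element `u` of an odd-order subgroup `O` normalized by `D_x`, centralizing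
  `x` and not commuting with `a ∈ D_x`, produces the local twin `u a u⁻¹` of `a`.
-/

set_option autoImplicit false

namespace Cfsg.Agent.Helper89.FTwin

open Cfsg Equiv Cfsg.Agent.Helper89 Cfsg.Agent.Helper89.LocS3

variable {G : Type*} [Group G] {D : Set G}

/-- **The `W(D₅)` lemma.**  Let `a, b ∈ D_x` be non-commuting with the same commuting partners in
`D_x`.  If `e ∈ D` commutes with `a` and not with `b`, then every `y ∈ D_x` commuting with `a`
commutes with `e`. -/
theorem commute_of_local_twin (hT : IsThreeTranspositionSet D)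
    (hconj : ∀ g : G, ∀ d ∈ D, g * d * g⁻¹ ∈ D) {x a b e y : G} (hx : x ∈ D)
    (ha : a ∈ Dd D x) (hb : b ∈ Dd D x) (hab : ¬ Commute a b)
    (htw : Dd D x ∩ Dd D a = Dd D x ∩ Dd D b) (he : e ∈ D) (hea : Commute e a)
    (heb : ¬ Commute e b) (hy : y ∈ Dd D x) (hya : Commute y a) : Commute y e := by
  by_contra hye
  have hxx := sq_of_mem hT hx
  have hyy := sq_of_mem hT hy.1
  have hee := sq_of_mem hT he
  have haa := sq_of_mem hT ha.1
  have hbb := sq_of_mem hT hb.1
  have hyne : y ≠ a := by
    rintro rfl
    exact hye hea.symm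
  have hea' : e ≠ a := by
    rintro rfl
    exact hye hya
  -- `y` commutes with `b`
  have hyb : Commute y b := by
    have : y ∈ Dd D x ∩ Dd D b := by
      rw [← htw]
      exact ⟨hy, hy.1, hyne, hya.symm⟩
    exact this.2.2.2.symm
  -- `e` does not commute with `x`
  have hxe : ¬ Commute x e := by
    intro hc
    have hex : e ≠ x := by
      rintro rfl
      exact heb hb.2.2
    have : e ∈ Dd D x ∩ Dd D b := by
      rw [← htw]
      exact ⟨⟨he, hex, hc⟩, he, hea', hea.symm⟩
    exact heb this.2.2.2.symm
  have hxy : Commute x y := hy.2.2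
  have hxney : x ≠ y := hy.2.1.symm
  -- the `S₄` generated by `x, e, y`
  obtain ⟨φ, hinj, h0, h1, h2⟩ := Cfsg.Agent.S5344.result hT hx he hy.1 hxney hxy hxe
    (fun c => hye c.symm)
  -- `e'`
  have he' := s4_lemma hT hconj hx hy.1 he hxy hxney (fun c => hxe c.symm) (fun c => hye c.symm)
  set e' := (x * y) * e * (x * y) with he'def
  have he'φ : e' = φ (swap 0 3) := by
    rw [he'def, ← h0, ← h1, ← h2, ← map_mul, ← map_mul, ← map_mul]
    congr 1
    decide
  have heφ : e * e' = φ (swap 1 2 * swap 0 3) := by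
    rw [map_mul, ← he'φ, h1]
  -- `x V x = (x y) V`, `y V y = (x y) V` where `V = e e'`
  have hxV : x * (e * e') * x = (x * y) * (e * e') := by
    rw [heφ, ← h0, ← h2, ← map_mul, ← map_mul, ← map_mul, ← map_mul]
    congr 1
    decide
  have hyV : y * (e * e') * y = (x * y) * (e * e') := by
    rw [heφ, ← h0, ← h2, ← map_mul, ← map_mul, ← map_mul, ← map_mul]
    congr 1
    decide
  have hVV : (e * e') * (e * e') = 1 := by
    rw [heφ, ← map_mul]
    have : (swap 1 2 * swap 0 3 * (swap 1 2 * swap 0 3) : Perm (Fin 4)) = 1 := by decide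
    rw [this, map_one]
  have hwV : (x * y) * (e * e') = (e * e') * (x * y) := by
    rw [heφ, ← h0, ← h2, ← map_mul, ← map_mul, ← map_mul]
    congr 1
    decide
  have hww : (x * y) * (x * y) = 1 := by
    calc (x * y) * (x * y) = x * (y * x) * y := by simp only [mul_assoc]
      _ = x * (x * y) * y := by rw [hxy.eq]
      _ = (x * x) * (y * y) := by simp only [mul_assoc]
      _ = 1 := by rw [hxx, hyy, one_mul]
  -- `a` commutes with `x, y, e`, hence with `e'`
  have hax : Commute a x := ha.2.2.symm
  have hae' : Commute a e' := by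
    rw [he'def]
    exact ((hax.mul_right hya.symm).mul_right hea.symm).mul_right (hax.mul_right hya.symm)
  -- `b` commutes with `x, y`, not with `e` or `e'`
  have hbx : Commute b x := hb.2.2.symm
  have hbw : Commute b (x * y) := hbx.mul_right hyb.symm
  have hbe' : ¬ Commute b e' := by
    intro hc
    apply heb
    have h3 : (x * y) * e' * (x * y) = e := by
      rw [he'def]
      calc x * y * (x * y * e * (x * y)) * (x * y)
          = ((x * y) * (x * y)) * e * ((x * y) * (x * y)) := by simp only [mul_assoc]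
        _ = e := by rw [hww, one_mul, mul_one]
    have : Commute b ((x * y) * e' * (x * y)) := (hbw.mul_right hc).mul_right hbw
    rw [h3] at this
    exact this.symm
  -- `b'`
  have hb' := s4_lemma hT hconj he he'.1 hb.1 he'.2.2 he'.2.1.symm (fun c => heb c.symm) hbe'
  set b' := (e * e') * b * (e * e') with hb'def
  -- `b'` commutes with `x` and `y`
  have hxb' : x * b' * x = (x * y) * b' * (x * y) := by
    have h4 : x * b' * x = (x * (e * e') * x) * (x * b * x) * (x * (e * e') * x) := by
      rw [hb'def]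
      have : ∀ p q r : G, x * p * x * (x * q * x) * (x * r * x) = x * (p * q * r) * x := by
        intro p q r
        calc x * p * x * (x * q * x) * (x * r * x)
            = x * p * (x * x) * q * (x * x) * r * x := by simp only [mul_assoc]
          _ = x * (p * q * r) * x := by rw [hxx]; simp only [mul_assoc, mul_one]
      rw [this]
    have h5 : x * b * x = b := by
      rw [← hbx.eq, mul_assoc, hxx, mul_one]
    rw [h4, hxV, h5]
    have h6 : x * y * (e * e') * b * (x * y * (e * e')) = x * y * ((e * e') * b * (e * e')) * (x * y) := by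
      nth_rewrite 2 [hwV]
      simp only [mul_assoc]
    rw [h6]
  have hyb' : y * b' * y = (x * y) * b' * (x * y) := by
    have h4 : y * b' * y = (y * (e * e') * y) * (y * b * y) * (y * (e * e') * y) := by
      rw [hb'def]
      have : ∀ p q r : G, y * p * y * (y * q * y) * (y * r * y) = y * (p * q * r) * y := by
        intro p q r
        calc y * p * y * (y * q * y) * (y * r * y)
            = y * p * (y * y) * q * (y * y) * r * y := by simp only [mul_assoc]
          _ = y * (p * q * r) * y := by rw [hyy]; simp only [mul_assoc, mul_one]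
      rw [this]
    have h5 : y * b * y = b := by
      rw [hyb.eq, mul_assoc, hyy, mul_one]
    rw [h4, hyV, h5]
    have h6 : x * y * (e * e') * b * (x * y * (e * e')) = x * y * ((e * e') * b * (e * e')) * (x * y) := by
      nth_rewrite 2 [hwV]
      simp only [mul_assoc]
    rw [h6]
  have hcxb' : Commute x b' := by
    -- from `y b' y = x y b' y x`
    show x * b' = b' * x
    have h7 : y * b' * y = x * (y * b' * y) * x := by
      rw [hyb']
      calc x * y * b' * (x * y) = x * y * b' * (y * x) := by rw [hxy.eq]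
        _ = x * (y * b' * y) * x := by simp only [mul_assoc]
      rw [← hyb']
    -- so `y b' y` commutes with `x`; conjugating by `y` (which commutes with `x`) gives the claim
    have h8 : x * (y * b' * y) = (y * b' * y) * x := by
      calc x * (y * b' * y) = x * (x * (y * b' * y) * x) := by rw [← h7]
        _ = (x * x) * (y * b' * y) * x := by simp only [mul_assoc]
        _ = (y * b' * y) * x := by rw [hxx, one_mul]
    have h9 : y * (x * b') * y = y * (b' * x) * y := by
      calc y * (x * b') * y = x * (y * b' * y) := by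
            rw [← mul_assoc y x, ← hxy.eq]; simp only [mul_assoc]
        _ = (y * b' * y) * x := h8
        _ = y * (b' * x) * y := by
            rw [mul_assoc (y * b') y x, ← hxy.eq]; simp only [mul_assoc]
    exact mul_left_cancel (mul_right_cancel h9)
  -- `b'` does not commute with `a`
  have haV : Commute a (e * e') := hea.symm.mul_right hae'
  have hab' : ¬ Commute a b' := by
    intro hc
    apply hab
    have h3 : (e * e') * b' * (e * e') = b := by
      rw [hb'def]
      calc e * e' * (e * e' * b * (e * e')) * (e * e')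
          = ((e * e') * (e * e')) * b * ((e * e') * (e * e')) := by simp only [mul_assoc]
        _ = b := by rw [hVV, one_mul, mul_one]
    have : Commute a ((e * e') * b' * (e * e')) := (haV.mul_right hc).mul_right haV
    rwa [h3] at this
  -- `b' ∈ D_x ∩ D_b = D_x ∩ D_a`
  have hb'x : b' ≠ x := by
    intro h
    apply hab'
    rw [h]
    exact hax
  have : b' ∈ Dd D x ∩ Dd D a := by
    rw [htw]
    exact ⟨⟨hb'.1, hb'x, hcxb'⟩, hb'⟩
  exact hab' this.2.2.2

/-- An involution in a subgroup of odd order is trivial. -/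
theorem eq_one_of_mem_odd {O : Subgroup G} (hOodd : Odd (Nat.card O)) {t : G} (ht : t ∈ O)
    (htt : t * t = 1) : t = 1 := by
  have h1 : orderOf t ∣ Nat.card O := Subgroup.orderOf_dvd_natCard O ht
  have h2 : orderOf t ∣ 2 := orderOf_dvd_of_pow_eq_one (by rw [pow_two]; exact htt)
  have h3 : orderOf t ∣ Nat.gcd (Nat.card O) 2 := Nat.dvd_gcd h1 h2
  have h4 : Nat.gcd (Nat.card O) 2 = 1 := by
    have := Nat.coprime_two_left.mpr hOodd
    rw [Nat.gcd_comm]
    exact this
  rw [h4, Nat.dvd_one] at h3
  exact orderOf_eq_one_iff.mp h3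

/-- If `t` is an involution normalizing `O ∋ w` and `(w t) ^ 3 = 1`, then `t ∈ O`. -/
theorem mem_of_cube {O : Subgroup G} {w t : G} (htt : t * t = 1) (hw : w ∈ O)
    (hOt : t * w * t⁻¹ ∈ O) (h3 : (w * t) ^ 3 = 1) : t ∈ O := by
  have htinv : t⁻¹ = t := inv_eq_of_mul_eq_one_left htt
  have h1 : (w * (t * w * t⁻¹) * w) * t = 1 := by
    rw [htinv]
    rw [pow_three] at h3
    calc w * (t * w * t) * w * t = w * t * (w * t * (w * t)) := by simp only [mul_assoc]
      _ = 1 := h3
  have h2 : t = (w * (t * w * t⁻¹) * w)⁻¹ := eq_inv_of_mul_eq_one_right h1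
  rw [h2]
  exact O.inv_mem (O.mul_mem (O.mul_mem hw hOt) hw)

/-- If `c ≠ a` commute and `u` lies in a subgroup `O` of odd order normalized by `a` and `c`, then
`c` commutes with `u a u⁻¹`. -/
theorem commute_conj_of_odd (hT : IsThreeTranspositionSet D) {O : Subgroup G}
    (hOodd : Odd (Nat.card O)) {a c u : G} (ha : a ∈ D) (hc : c ∈ D) (hb : u * a * u⁻¹ ∈ D)
    (hca : Commute c a) (hne : c ≠ a) (hu : u ∈ O) (hOc : ∀ v ∈ O, c * v * c⁻¹ ∈ O)
    (hOa : ∀ v ∈ O, a * v * a⁻¹ ∈ O) : Commute c (u * a * u⁻¹) := by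
  by_contra hcb
  have haa := sq_of_mem hT ha
  have hcc := sq_of_mem hT hc
  have hainv : a⁻¹ = a := inv_eq_of_mul_eq_one_left haa
  have hcinv : c⁻¹ = c := inv_eq_of_mul_eq_one_left hcc
  have h3 := cube_of_not_commute hT hc hb hcb
  have htt : (c * a) * (c * a) = 1 := by
    calc (c * a) * (c * a) = c * (a * c) * a := by simp only [mul_assoc]
      _ = c * (c * a) * a := by rw [hca.eq]
      _ = (c * c) * (a * a) := by simp only [mul_assoc]
      _ = 1 := by rw [hcc, haa, one_mul]
  have htinv : (c * a)⁻¹ = c * a := inv_eq_of_mul_eq_one_left htt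
  have hOt : ∀ v ∈ O, (c * a) * v * (c * a)⁻¹ ∈ O := by
    intro v hv
    have := hOc _ (hOa v hv)
    have e : c * a * v * (c * a)⁻¹ = c * (a * v * a⁻¹) * c⁻¹ := by
      rw [mul_inv_rev]; simp only [mul_assoc]
    rw [e]; exact this
  set w := (c * u * c⁻¹) * ((c * a) * u⁻¹ * (c * a)⁻¹) with hw
  have hwO : w ∈ O := O.mul_mem (hOc u hu) (hOt _ (O.inv_mem hu))
  have hcb' : c * (u * a * u⁻¹) = w * (c * a) := by
    rw [hw]
    simp only [mul_assoc, inv_mul_cancel_left, inv_mul_cancel, mul_one]
  rw [hcb', pow_three] at h3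
  -- `t ∈ O`
  have htO : c * a ∈ O := mem_of_cube htt hwO (hOt w hwO) (by rw [pow_three]; exact h3)
  have := eq_one_of_mem_odd hOodd htO htt
  apply hne
  calc c = c * (a * a) := by rw [haa, mul_one]
    _ = (c * a) * a := by rw [mul_assoc]
    _ = a := by rw [this, one_mul]

/-- **Local twins from an odd normal subgroup.**  Let `O` be a subgroup of odd order normalized by
the members of `D_x`, and `u ∈ O` centralizing `x` but not `a ∈ D_x`.  Then `b = u a u⁻¹` is a local
twin of `a` in `D_x`. -/
theorem local_twin_of_odd (hT : IsThreeTranspositionSet D)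
    (hconj : ∀ g : G, ∀ d ∈ D, g * d * g⁻¹ ∈ D) {O : Subgroup G} (hOodd : Odd (Nat.card O))
    {x a u : G} (ha : a ∈ Dd D x) (hu : u ∈ O) (hux : Commute u x)
    (hau : ¬ Commute u a) (hOn : ∀ c ∈ Dd D x, ∀ v ∈ O, c * v * c⁻¹ ∈ O) :
    u * a * u⁻¹ ∈ Dd D x ∧ ¬ Commute a (u * a * u⁻¹) ∧
      Dd D x ∩ Dd D a = Dd D x ∩ Dd D (u * a * u⁻¹) := by
  have haa := sq_of_mem hT ha.1
  have hainv : a⁻¹ = a := inv_eq_of_mul_eq_one_left haa
  have hbD : u * a * u⁻¹ ∈ D := hconj u a ha.1
  have hbb := sq_of_mem hT hbD
  have huxu : u * x * u⁻¹ = x := by rw [hux.eq]; group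
  have hb : u * a * u⁻¹ ∈ Dd D x := by
    refine ⟨hbD, ?_, ?_⟩
    · intro h
      apply ha.2.1
      rw [← huxu] at h
      exact mul_left_cancel (mul_right_cancel h)
    · have : Commute (u * x * u⁻¹) (u * a * u⁻¹) := (Commute.conj_iff u).mpr ha.2.2
      rwa [huxu] at this
  have hne : a ≠ u * a * u⁻¹ := by
    intro h
    apply hau
    show u * a = a * u
    calc u * a = (u * a * u⁻¹) * u := by group
      _ = a * u := by rw [← h]
  have hnc : ¬ Commute a (u * a * u⁻¹) := by
    intro hc
    have hmem : a * (u * a * u⁻¹) ∈ O := by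
      have h1 : a * u * a⁻¹ ∈ O := hOn a ha u hu
      have h2 : a * (u * a * u⁻¹) = (a * u * a⁻¹) * u⁻¹ := by rw [hainv]; group
      rw [h2]
      exact O.mul_mem h1 (O.inv_mem hu)
    have hsq : (a * (u * a * u⁻¹)) * (a * (u * a * u⁻¹)) = 1 := by
      have := mul_sq_eq_one_of_commute haa hbb hc
      rwa [pow_two] at this
    have h1 := eq_one_of_mem_odd hOodd hmem hsq
    apply hne
    have h3 : u * a * u⁻¹ = a := by
      have := eq_inv_of_mul_eq_one_right h1
      rw [this, hainv]
    exact h3.symm
  refine ⟨hb, hnc, ?_⟩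
  ext c
  constructor
  · rintro ⟨hcx, hcD, hca, hac⟩
    refine ⟨hcx, hcD, ?_, ?_⟩
    · rintro rfl
      exact hnc hac
    · exact (commute_conj_of_odd hT hOodd ha.1 hcD hbD hac.symm hca hu (hOn c hcx)
        (hOn a ha)).symm
  · rintro ⟨hcx, hcD, hcb, hbc⟩
    refine ⟨hcx, hcD, ?_, ?_⟩
    · rintro rfl
      exact hnc hbc.symm
    · have hback : u⁻¹ * (u * a * u⁻¹) * u⁻¹⁻¹ = a := by group
      have := commute_conj_of_odd hT hOodd hbD hcD (by rw [hback]; exact ha.1) hbc.symm hcb
        (O.inv_mem hu) (hOn c hcx) (hOn _ hb)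
      rw [hback] at this
      exact this.symm

end Cfsg.Agent.Helper89.FTwin
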