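import Mathlib
import Cfsg.Prelude.Def_FischerSpaces
import Cfsg.Agent.Helper89.Kei
import Cfsg.Agent.Lib.Cores
import Cfsg.Agent.Helper21.Components
import Cfsg.Agent.S1265

/-!
# Blocks of imprimitivity for the conjugation action on a class of 3-transpositions

The kernel of the action on a system of blocks contains the product of any two members of a block;
elements of prime order in abelian normal subgroups lie in the corresponding core.
-/

set_option autoImplicit false

namespace Cfsg.Agent.Helper89

open Cfsg

variable {G : Type*} [Group G]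

/-- The conjugate `g S g⁻¹` of a set. -/
def conjSet (g : G) (S : Set G) : Set G := (fun x => g * x * g⁻¹) '' S

theorem mem_conjSet {g : G} {S : Set G} {y : G} : y ∈ conjSet g S ↔ g⁻¹ * y * g ∈ S := by
  constructor
  · rintro ⟨x, hx, rfl⟩
    have : g⁻¹ * (g * x * g⁻¹) * g = x := by group
    rw [this]; exact hx
  · intro h
    exact ⟨g⁻¹ * y * g, h, by group⟩

theorem conj_mem_conjSet {g x : G} {S : Set G} (hx : x ∈ S) : g * x * g⁻¹ ∈ conjSet g S :=
  ⟨x, hx, rfl⟩

theorem conjSet_mul (g h : G) (S : Set G) : conjSet (g * h) S = conjSet g (conjSet h S) := by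
  ext y
  simp only [mem_conjSet]
  have : (g * h)⁻¹ * y * (g * h) = h⁻¹ * (g⁻¹ * y * g) * h := by group
  rw [this]

theorem conjSet_one (S : Set G) : conjSet 1 S = S := by
  ext y
  simp [mem_conjSet]

theorem conjSet_disjoint_iff (g : G) (S T : Set G) :
    Disjoint (conjSet g S) (conjSet g T) ↔ Disjoint S T := by
  apply Set.disjoint_image_iff
  intro x y h
  simpa using h

/-- The block condition for the conjugation action. -/
def IsConjBlock (B : Set G) : Prop := ∀ g : G, conjSet g B = B ∨ Disjoint (conjSet g B) B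

namespace IsConjBlock

variable {D B : Set G}

theorem eq_or_disjoint (hB : IsConjBlock B) (g h : G) :
    conjSet g B = conjSet h B ∨ Disjoint (conjSet g B) (conjSet h B) := by
  rcases hB (h⁻¹ * g) with h1 | h1
  · left
    have := congrArg (conjSet h) h1
    rwa [← conjSet_mul, mul_inv_cancel_left] at this
  · right
    rw [← conjSet_disjoint_iff h] at h1
    rwa [← conjSet_mul, mul_inv_cancel_left] at h1

theorem eq_of_mem (hB : IsConjBlock B) {g h x : G} (hx1 : x ∈ conjSet g B)
    (hx2 : x ∈ conjSet h B) : conjSet g B = conjSet h B := by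
  rcases hB.eq_or_disjoint g h with h1 | h1
  · exact h1
  · exact absurd hx2 (Set.disjoint_left.mp h1 hx1)

theorem conj (hB : IsConjBlock B) (g : G) : IsConjBlock (conjSet g B) := by
  intro h
  rw [← conjSet_mul]
  exact hB.eq_or_disjoint (h * g) g

/-- A set conjugating one member of the block into the block stabilizes the block. -/
theorem conjSet_eq_of_mem (hB : IsConjBlock B) {c x : G} (hx : x ∈ B) (hcx : c * x * c⁻¹ ∈ B) :
    conjSet c B = B := by
  have h1 : c * x * c⁻¹ ∈ conjSet c B := conj_mem_conjSet hx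
  have := hB.eq_of_mem (g := c) (h := 1) h1 (by rw [conjSet_one]; exact hcx)
  rwa [conjSet_one] at this

/-- A member of a block stabilizes it. -/
theorem conjSet_self (hB : IsConjBlock B) {a : G} (ha : a ∈ B) : conjSet a B = B := by
  apply hB.conjSet_eq_of_mem ha
  have : a * a * a⁻¹ = a := by group
  rw [this]; exact ha

/-- An element of `D` outside the block commuting with one member of the block commutes with
all of them. -/
theorem commute_all_of_commute (hD : IsThreeTranspositionSet D) (hBD : B ⊆ D)
    (hB : IsConjBlock B) {e : G} (heD : e ∈ D) (heB : e ∉ B) {c1 c2 : G} (h1 : c1 ∈ B)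
    (h2 : c2 ∈ B) (hc : Commute e c1) : Commute e c2 := by
  by_contra hn
  have hE : conjSet e B = B := by
    apply hB.conjSet_eq_of_mem h1
    have : e * c1 * e⁻¹ = c1 := by rw [hc.eq, mul_inv_cancel_right]
    rw [this]; exact h1
  have h3 : cj e c2 ∈ B := by rw [← hE]; exact conj_mem_conjSet h2
  rw [cj_comm_of_not_commute hD heD (hBD h2) hn] at h3
  have hc2 : c2⁻¹ = c2 := inv_eq_of_mul_eq_one_left (sq_of_mem hD (hBD h2))
  have : e ∈ conjSet c2 B := by
    rw [mem_conjSet, hc2]
    have h4 : cj c2 e = c2 * e * c2 := by rw [cj, hc2]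
    rw [← h4]; exact h3
  rw [hB.conjSet_self h2] at this
  exact heB this

/-- The product of two members of a block stabilizes every conjugate of the block. -/
theorem mul_stabilizes (hD : IsThreeTranspositionSet D)
    (hconj : ∀ g : G, ∀ d ∈ D, g * d * g⁻¹ ∈ D) (hBD : B ⊆ D) (hB : IsConjBlock B) {a b : G}
    (ha : a ∈ B) (hb : b ∈ B) (h : G) : conjSet (a * b) (conjSet h B) = conjSet h B := by
  have hT : IsConjBlock (conjSet h B) := hB.conj h
  have hTD : conjSet h B ⊆ D := by
    rintro _ ⟨x, hx, rfl⟩
    exact hconj h x (hBD hx)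
  rcases hB.eq_or_disjoint h 1 with h1 | h1
  · rw [conjSet_one] at h1
    rw [h1, conjSet_mul, hB.conjSet_self hb, hB.conjSet_self ha]
  · rw [conjSet_one] at h1
    have heT : h * a * h⁻¹ ∈ conjSet h B := conj_mem_conjSet ha
    set e := h * a * h⁻¹ with he
    have heD : e ∈ D := hTD heT
    have heB : e ∉ B := Set.disjoint_left.mp h1 heT
    by_cases hea : Commute e a
    · have heb : Commute e b := hB.commute_all_of_commute hD hBD heD heB ha hb hea
      have hfix : ∀ c, Commute e c → conjSet c (conjSet h B) = conjSet h B := by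
        intro c hc
        apply hT.conjSet_eq_of_mem heT
        have : c * e * c⁻¹ = e := by rw [← hc.eq, mul_inv_cancel_right]
        rw [this]; exact heT
      rw [conjSet_mul, hfix b heb, hfix a hea]
    · have heb : ¬ Commute e b :=
        fun hc => hea (hB.commute_all_of_commute hD hBD heD heB hb ha hc)
      have key : ∀ c ∈ B, ¬ Commute e c → conjSet c (conjSet h B) = conjSet e B := by
        intro c hc hec
        have h2 : cj c e ∈ conjSet c (conjSet h B) := conj_mem_conjSet heT
        have h3 : cj c e ∈ conjSet e B := by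
          rw [← cj_comm_of_not_commute hD heD (hBD hc) hec]
          exact conj_mem_conjSet hc
        rw [← conjSet_mul] at h2 ⊢
        exact hB.eq_of_mem h2 h3
      rw [conjSet_mul, key b hb heb, ← key a ha hea, ← conjSet_mul, sq_of_mem hD (hBD ha),
        conjSet_one]

end IsConjBlock

/-- The kernel of the conjugation action on the conjugates of `B`. -/
def blockKernel (B : Set G) : Subgroup G where
  carrier := {k | ∀ h, conjSet k (conjSet h B) = conjSet h B}
  one_mem' := fun h => conjSet_one _
  mul_mem' := fun {x y} hx hy h => by rw [conjSet_mul, hy h, hx h]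
  inv_mem' := fun {x} hx h => by
    have := congrArg (conjSet x⁻¹) (hx h)
    rw [← conjSet_mul, inv_mul_cancel, conjSet_one] at this
    exact this.symm

theorem mem_blockKernel {B : Set G} {k : G} :
    k ∈ blockKernel B ↔ ∀ h, conjSet k (conjSet h B) = conjSet h B := Iff.rfl

instance blockKernel_normal (B : Set G) : (blockKernel B).Normal :=
  ⟨fun k hk g h => by
    have := hk (g⁻¹ * h)
    rw [conjSet_mul, conjSet_mul, ← conjSet_mul g⁻¹ h, this, ← conjSet_mul, mul_inv_cancel_left]⟩

theorem conjSet_eq_of_mem_blockKernel {B : Set G} {k : G} (hk : k ∈ blockKernel B) :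
    conjSet k B = B := by
  have := hk 1
  rwa [conjSet_one] at this

/-- A non-empty conjugation-invariant subset of a conjugacy class is the whole class. -/
theorem eq_of_conjSet_invariant {D B : Set G} (hBD : B ⊆ D)
    (htrans : ∀ a ∈ D, ∀ b ∈ D, ∃ g : G, g * a * g⁻¹ = b) (hne : B.Nonempty)
    (hinv : ∀ g, conjSet g B = B) : B = D := by
  apply Set.Subset.antisymm hBD
  intro d hd
  obtain ⟨a, ha⟩ := hne
  obtain ⟨g, hg⟩ := htrans a (hBD ha) d hd
  rw [← hinv g, ← hg]
  exact conj_mem_conjSet ha

/-- An element of prime order `p` of an abelian normal subgroup lies in `O_p`. -/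
theorem mem_pCore_of_abelian_normal {A : Subgroup G} (hA : A.Normal)
    (hab : ∀ x ∈ A, ∀ y ∈ A, Commute x y) {p : ℕ} {x : G} (hx : x ∈ A) (hxp : x ^ p = 1) :
    x ∈ Cfsg.pCore p G := by
  let T : Subgroup G :=
    { carrier := {y | y ∈ A ∧ y ^ p = 1}
      one_mem' := ⟨A.one_mem, one_pow p⟩
      mul_mem' := fun {y z} hy hz => ⟨A.mul_mem hy.1 hz.1, by
        rw [(hab y hy.1 z hz.1).mul_pow, hy.2, hz.2, one_mul]⟩
      inv_mem' := fun {y} hy => ⟨A.inv_mem hy.1, by rw [inv_pow, hy.2, inv_one]⟩ }
  have hTn : T.Normal := ⟨fun y hy g => ⟨hA.conj_mem y hy.1 g, by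
    rw [conj_pow, hy.2, mul_one, mul_inv_cancel]⟩⟩
  have hTp : IsPGroup p T := by
    intro y
    refine ⟨1, ?_⟩
    apply Subtype.ext
    rw [pow_one]
    exact y.2.2
  exact Cfsg.Agent.Lib.le_pCore hTn hTp ⟨hx, hxp⟩

end Cfsg.Agent.Helper89
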