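import Mathlib
import Cfsg.Prelude.Def_FischerSpaces
import Cfsg.Agent.Helper89.TranspBlocks
import Cfsg.Agent.Helper21.Radical
import Cfsg.Agent.Helper21.Layer
import Cfsg.Agent.Lib.BurnsidePQ
import Cfsg.Agent.S5353

/-!
# The generalized Fitting subgroup of a group generated by a class of 3-transpositions

If `O_2(G)` and `O_3(G)` are central and the commuting graph of the class `D` is connected, then
`F*(G) = L Z(G)` for a quasisimple normal subgroup `L`.
-/

set_option autoImplicit false

namespace Cfsg.Agent.Helper89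

open Cfsg
open Cfsg.Agent.S5353 (class_conj class_trans notMem_center exists_not_commute mul_notMem_center)

section General

variable {G : Type*} [Group G] {D : Set G}

/-- If `y ^ (p ^ k) = 1` for a prime `p ≥ 5` and `y ^ 2 = 1` or `y ^ 3 = 1` then `y = 1`. -/
theorem eq_one_of_pow_prime_pow {y : G} {p k : ℕ} (hp : p.Prime) (hp5 : 5 ≤ p)
    (h1 : y ^ (p ^ k) = 1) (h2 : y ^ 2 = 1 ∨ y ^ 3 = 1) : y = 1 := by
  have h6 : y ^ 6 = 1 := by
    rcases h2 with h | h
    · rw [show 6 = 2 * 3 by norm_num, pow_mul, h, one_pow]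
    · rw [show 6 = 3 * 2 by norm_num, pow_mul, h, one_pow]
  have hcop : Nat.Coprime (p ^ k) 6 := by
    apply Nat.Coprime.pow_left
    rw [Nat.Prime.coprime_iff_not_dvd hp]
    intro hd
    have := Nat.le_of_dvd (by norm_num) hd
    have h23 : p ∣ 2 * 3 := by simpa using hd
    rcases (Nat.Prime.dvd_mul hp).mp h23 with h | h
    · have := Nat.le_of_dvd (by norm_num) h; omega
    · have := Nat.le_of_dvd (by norm_num) h; omega
  have := pow_gcd_eq_one.2 ⟨h1, h6⟩
  rwa [hcop, pow_one] at this

/-- `O_p(G)` is central for `p ≥ 5` in a group generated by a class of 3-transpositions. -/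
theorem pCore_le_center_of_five_le (hD : IsThreeTranspositionClass D) {p : ℕ} (hp : p.Prime)
    (hp5 : 5 ≤ p) : pCore p G ≤ Subgroup.center G := by
  have hPn : (pCore p G).Normal := by
    have := Cfsg.Agent.Lib.pCore_characteristic (G := G) p
    infer_instance
  intro x hx
  have hcomm : ∀ d ∈ D, Commute d x := by
    intro d hd
    have hdd := sq_of_mem hD.1 hd
    have hdinv : d⁻¹ = d := inv_eq_of_mul_eq_one_left hdd
    have hyeq : d * (x⁻¹ * d * x⁻¹⁻¹) = (d * x⁻¹ * d⁻¹) * x := by
      rw [hdinv, inv_inv]; simp only [mul_assoc]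
    have hy_mem : d * (x⁻¹ * d * x⁻¹⁻¹) ∈ pCore p G := by
      rw [hyeq]
      exact (pCore p G).mul_mem (hPn.conj_mem _ ((pCore p G).inv_mem hx) d) hx
    have hyD := hD.1.2 d hd (x⁻¹ * d * x⁻¹⁻¹) (class_conj hD x⁻¹ d hd)
    obtain ⟨k, hk⟩ := (Cfsg.Agent.Lib.isPGroup_pCore (G := G) p) ⟨_, hy_mem⟩
    have hk' : (d * (x⁻¹ * d * x⁻¹⁻¹)) ^ (p ^ k) = 1 := by
      have := congrArg Subtype.val hk
      simpa using this
    have hy1 := eq_one_of_pow_prime_pow hp hp5 hk' hyD
    -- `x⁻¹ d x = d`
    have h3 : x⁻¹ * d * x = d := by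
      have h4 : x⁻¹ * d * x⁻¹⁻¹ = d⁻¹ := (eq_inv_of_mul_eq_one_right hy1)
      rw [inv_inv, hdinv] at h4
      exact h4
    show d * x = x * d
    calc d * x = x * (x⁻¹ * d * x) := by group
      _ = x * d := by rw [h3]
  have h1 : Subgroup.closure D ≤ Subgroup.centralizer {x} := by
    rw [Subgroup.closure_le]
    intro e he
    rw [SetLike.mem_coe, Subgroup.mem_centralizer_iff]
    intro t ht
    rw [Set.mem_singleton_iff.mp ht]
    exact ((hcomm e he).eq).symm
  rw [hD.2.2] at h1
  rw [Subgroup.mem_center_iff]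
  intro g
  have := Subgroup.mem_centralizer_iff.mp (h1 (Subgroup.mem_top g)) x (Set.mem_singleton x)
  exact this.symm

end General

open scoped IsMulCommutative in
theorem isNilpotent_center (G : Type*) [Group G] : Group.IsNilpotent ↥(Subgroup.center G) :=
  inferInstance

section Fin

variable {G : Type*} [Group G] [Finite G] {D : Set G}

/-- If all `O_p(G)` are central then `F(G) = Z(G)`. -/
theorem fittingSubgroup_eq_center (hall : ∀ p : ℕ, p.Prime → pCore p G ≤ Subgroup.center G) :
    fittingSubgroup G = Subgroup.center G := by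
  apply le_antisymm
  · rw [← Subgroup.relIndex_eq_one]
    by_contra hne
    obtain ⟨p, hp, hdvd⟩ := Nat.exists_prime_and_dvd hne
    haveI : Fact p.Prime := ⟨hp⟩
    have h1 := Cfsg.Agent.Lib.relIndex_pCore_fittingSubgroup_coprime (G := G) p
    have h2 : (Subgroup.center G).relIndex (fittingSubgroup G) ∣
        (pCore p G).relIndex (fittingSubgroup G) :=
      Subgroup.relIndex_dvd_of_le_left _ (hall p hp)
    have h3 : p ∣ (pCore p G).relIndex (fittingSubgroup G) := hdvd.trans h2
    exact (Nat.Prime.coprime_iff_not_dvd hp).mp h1.symm h3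
  · exact Cfsg.Agent.Lib.le_fittingSubgroup inferInstance (isNilpotent_center G)

/-- All `O_p(G)` are central when `O_2(G)` and `O_3(G)` are. -/
theorem pCore_le_center_all (hD : IsThreeTranspositionClass D)
    (h2 : pCore 2 G ≤ Subgroup.center G) (h3 : pCore 3 G ≤ Subgroup.center G) :
    ∀ p : ℕ, p.Prime → pCore p G ≤ Subgroup.center G := by
  intro p hp
  by_cases hp5 : 5 ≤ p
  · exact pCore_le_center_of_five_le hD hp hp5
  · have hp2 := hp.two_le
    have : p = 2 ∨ p = 3 ∨ p = 4 := by omega
    rcases this with rfl | rfl | rfl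
    · exact h2
    · exact h3
    · exact absurd hp (by decide)

/-- Some component exists. -/
theorem exists_isComponent (hD : IsThreeTranspositionClass D) (hD2 : ∃ a ∈ D, ∃ b ∈ D, a ≠ b)
    (hall : ∀ p : ℕ, p.Prime → pCore p G ≤ Subgroup.center G) :
    ∃ L : Subgroup G, IsComponent L := by
  by_contra hno
  push Not at hno
  have hlayer : layer G = ⊥ := by
    unfold layer
    have : {K : Subgroup G | IsComponent K} = ∅ := by
      ext K
      simp only [Set.mem_setOf_eq, Set.mem_empty_iff_false, iff_false]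
      exact hno K
    rw [this, sSup_empty]
  have hF : generalizedFittingSubgroup G = Subgroup.center G := by
    unfold generalizedFittingSubgroup
    rw [hlayer, bot_sup_eq, fittingSubgroup_eq_center hall]
  have hS := Cfsg.Agent.S1265.result (G := G)
  rw [hF] at hS
  obtain ⟨a, ha, -⟩ := id hD2
  apply notMem_center hD hD2 ha
  apply hS
  rw [Subgroup.mem_centralizer_iff]
  intro z hz
  exact (Subgroup.mem_center_iff.mp hz a).symm

/-- A finite quasisimple group has an element whose square and cube are both non-central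
(Burnside's `p^a q^b` theorem). -/
theorem exists_pow_notMem_center_of_isQuasisimple {L : Type*} [Group L] [Finite L]
    (hL : IsQuasisimple L) :
    ∃ x : L, x ^ 2 ∉ Subgroup.center L ∧ x ^ 3 ∉ Subgroup.center L := by
  by_contra hcon
  push Not at hcon
  apply Cfsg.Agent.Helper21.IsQuasisimple.not_isSolvable hL
  have hS : Group.IsSolvable (L ⧸ Subgroup.center L) := by
    apply Cfsg.Agent.Lib.isSolvable_of_prime_dvd_card Nat.prime_two Nat.prime_three
    intro r hr hdvd
    haveI : Fact r.Prime := ⟨hr⟩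
    obtain ⟨s, hs⟩ := exists_prime_orderOf_dvd_card' r hdvd
    obtain ⟨x, rfl⟩ := QuotientGroup.mk_surjective s
    by_cases h2 : x ^ 2 ∈ Subgroup.center L
    · left
      have h : ((x : L) : L ⧸ Subgroup.center L) ^ 2 = 1 := by
        rw [← QuotientGroup.mk_pow, QuotientGroup.eq_one_iff]; exact h2
      have hd := orderOf_dvd_of_pow_eq_one h
      rw [hs] at hd
      exact (Nat.prime_dvd_prime_iff_eq hr Nat.prime_two).mp hd
    · right
      have h : ((x : L) : L ⧸ Subgroup.center L) ^ 3 = 1 := by
        rw [← QuotientGroup.mk_pow, QuotientGroup.eq_one_iff]; exact hcon x h2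
      have hd := orderOf_dvd_of_pow_eq_one h
      rw [hs] at hd
      exact (Nat.prime_dvd_prime_iff_eq hr Nat.prime_three).mp hd
  have hZ : Group.IsSolvable (Subgroup.center L) :=
    Group.isSolvable_of_comm (fun a b => mul_comm' a b)
  exact (Group.isSolvable_iff_subgroup_quotient (Subgroup.center L)).mpr ⟨hZ, hS⟩

/-- Every member of `D` normalizes every component. -/
theorem map_conj_eq_of_isComponent (hD : IsThreeTranspositionClass D) {L : Subgroup G}
    (hL : IsComponent L) {d : G} (hd : d ∈ D) : L.map (MulAut.conj d).toMonoidHom = L := by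
  by_contra hne
  have hL' := Cfsg.Agent.Helper21.IsComponent.map_conj hL d
  have hcomm : ∀ x ∈ L, ∀ y ∈ L.map (MulAut.conj d).toMonoidHom, Commute x y :=
    fun x hx y hy => Cfsg.Agent.Helper21.IsComponent.commute_of_ne hL hL' (Ne.symm hne) hx hy
  obtain ⟨⟨x, hx⟩, hx2, hx3⟩ := exists_pow_notMem_center_of_isQuasisimple hL.2
  have hdd := sq_of_mem hD.1 hd
  have hdinv : d⁻¹ = d := inv_eq_of_mul_eq_one_left hdd
  obtain ⟨x', hx'def⟩ : ∃ x', x' = d * x⁻¹ * d⁻¹ := ⟨_, rfl⟩
  have hx' : x' ∈ L.map (MulAut.conj d).toMonoidHom :=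
    ⟨x⁻¹, L.inv_mem hx, by rw [hx'def]; rfl⟩
  have hyeq : d * (x⁻¹ * d * x⁻¹⁻¹) = x' * x := by
    rw [hx'def, hdinv, inv_inv]; simp only [mul_assoc]
  have hxx' : Commute x' x := (hcomm x hx x' hx').symm
  have key : ∀ k : ℕ, (x' * x) ^ k = 1 → (⟨x, hx⟩ : L) ^ k ∈ Subgroup.center L := by
    intro k hk
    rw [hxx'.mul_pow] at hk
    have hxk : x ^ k = (x' ^ k)⁻¹ := eq_inv_of_mul_eq_one_right hk
    rw [Subgroup.mem_center_iff]
    rintro ⟨z, hz⟩
    apply Subtype.ext
    show z * x ^ k = x ^ k * z
    rw [hxk]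
    exact (hcomm z hz _ (inv_mem (pow_mem hx' k))).eq
  rcases hD.1.2 d hd _ (class_conj hD x⁻¹ d hd) with h | h
  · rw [hyeq] at h; exact hx2 (key 2 h)
  · rw [hyeq] at h; exact hx3 (key 3 h)

/-- Every component is normal. -/
theorem normal_of_isComponent (hD : IsThreeTranspositionClass D) {L : Subgroup G}
    (hL : IsComponent L) : L.Normal := by
  have h1 : Subgroup.closure D ≤ Subgroup.normalizer (L : Set G) := by
    rw [Subgroup.closure_le]
    intro d hd
    exact Cfsg.Agent.Helper21.mem_normalizer_of_map_conj_eq (map_conj_eq_of_isComponent hD hL hd)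
  rw [hD.2.2] at h1
  exact Subgroup.normalizer_eq_top_iff.mp (top_le_iff.mp h1)

/-- No member of `D` centralizes a component. -/
theorem not_centralizes_of_isComponent (hD : IsThreeTranspositionClass D) {L : Subgroup G}
    (hL : IsComponent L) {d : G} (hd : d ∈ D) : ¬ ∀ x ∈ L, Commute d x := by
  intro hc
  have hLn := normal_of_isComponent hD hL
  apply Cfsg.Agent.Helper21.IsQuasisimple.not_isSolvable hL.2
  apply Group.isSolvable_of_comm
  -- every member of `D` centralizes `L`
  have hall : ∀ e ∈ D, ∀ x ∈ L, Commute e x := by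
    intro e he x hx
    obtain ⟨g, rfl⟩ := class_trans hD d hd e he
    have h1 := hc (g⁻¹ * x * g⁻¹⁻¹) (hLn.conj_mem x hx g⁻¹)
    have h2 := (Commute.conj_iff g).mpr h1
    have h3 : g * (g⁻¹ * x * g⁻¹⁻¹) * g⁻¹ = x := by group
    rwa [h3] at h2
  have h1 : Subgroup.closure D ≤ Subgroup.centralizer (L : Set G) := by
    rw [Subgroup.closure_le]
    intro e he
    rw [SetLike.mem_coe, Subgroup.mem_centralizer_iff]
    intro x hx
    exact ((hall e he x hx).eq).symm
  rw [hD.2.2] at h1
  rintro ⟨a, ha⟩ ⟨b, hb⟩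
  apply Subtype.ext
  exact (Subgroup.mem_centralizer_iff.mp (h1 (Subgroup.mem_top b)) a ha)

/-- Two commuting members of `D` lie in the same coset of any normal subgroup containing a
component. -/
theorem inv_mul_mem_of_commute (hD : IsThreeTranspositionClass D) {N L : Subgroup G} [hN : N.Normal]
    (hL : IsComponent L) (hLN : L ≤ N) {a b : G} (ha : a ∈ D) (hb : b ∈ D) (hab : Commute a b) :
    a⁻¹ * b ∈ N := by
  have hT := hD.1
  have hconj := class_conj hD
  by_contra hnL
  have haa := sq_of_mem hT ha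
  have hbb := sq_of_mem hT hb
  -- `b` commutes with every member of `D` in the coset `a N`
  have hstep : ∀ a' ∈ D, a⁻¹ * a' ∈ N → Commute b a' := by
    intro a' ha' hmem
    by_contra hnc
    apply hnL
    have hbr := cj_comm_of_not_commute hT hb ha' hnc
    simp only [cj] at hbr
    have e1 : ((a : G) : G ⧸ N) = (a' : G) := QuotientGroup.eq.mpr hmem
    have e2 : ((b * a' * b⁻¹ : G) : G ⧸ N) = ((a' * b * a'⁻¹ : G) : G ⧸ N) := by rw [hbr]
    simp only [QuotientGroup.mk_mul, QuotientGroup.mk_inv, ← e1] at e2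
    have e3 : ((b * a * b⁻¹ : G) : G ⧸ N) = (a : G) := by
      rw [← hab.eq, mul_inv_cancel_right]
    simp only [QuotientGroup.mk_mul, QuotientGroup.mk_inv] at e3
    rw [e3] at e2
    have e4 : ((a : G) : G ⧸ N) = (b : G) := by
      have := congrArg (fun t => ((a : G) : G ⧸ N)⁻¹ * t * ((a : G) : G ⧸ N)) e2
      simp only [mul_assoc, inv_mul_cancel, mul_one, one_mul, inv_mul_cancel_left] at this
      exact this
    exact QuotientGroup.eq.mp e4
  obtain ⟨S, hS⟩ : ∃ S : Set G, S = {y | ∃ x ∈ L, y = x * a * x⁻¹} := ⟨_, rfl⟩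
  have hSb : ∀ y ∈ S, Commute b y := by
    intro y hy
    rw [hS] at hy
    obtain ⟨x, hx, rfl⟩ := hy
    apply hstep _ (hconj x a ha)
    have : a⁻¹ * (x * a * x⁻¹) = (a⁻¹ * x * a⁻¹⁻¹) * x⁻¹ := by group
    rw [this]
    exact N.mul_mem (hN.conj_mem x (hLN hx) a⁻¹) (N.inv_mem (hLN hx))
  have hnormS : L ≤ Subgroup.normalizer ((Subgroup.closure S : Subgroup G) : Set G) := by
    intro l hl
    apply Cfsg.Agent.Helper21.mem_normalizer_of_map_conj_eq
    rw [MonoidHom.map_closure]
    congr 1
    rw [hS]
    ext y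
    constructor
    · rintro ⟨_, ⟨x, hx, rfl⟩, rfl⟩
      refine ⟨l * x, L.mul_mem hl hx, ?_⟩
      simp only [MulEquiv.coe_toMonoidHom, MulAut.conj_apply]
      group
    · rintro ⟨x, hx, rfl⟩
      refine ⟨(l⁻¹ * x) * a * (l⁻¹ * x)⁻¹, ⟨l⁻¹ * x, L.mul_mem (L.inv_mem hl) hx, rfl⟩, ?_⟩
      simp only [MulEquiv.coe_toMonoidHom, MulAut.conj_apply]
      group
  have haS : a ∈ Subgroup.closure S :=
    Subgroup.subset_closure (by rw [hS]; exact ⟨1, L.one_mem, by simp⟩)
  rcases Cfsg.Agent.Helper21.IsComponent.le_or_commutator_eq_bot hL (Subgroup.closure S) hnormS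
    with hLS | hLS
  · apply not_centralizes_of_isComponent hD hL hb
    intro x hx
    have h1 : Subgroup.closure S ≤ Subgroup.centralizer {b} := by
      rw [Subgroup.closure_le]
      intro y hy
      rw [SetLike.mem_coe, Subgroup.mem_centralizer_iff]
      intro t ht
      rw [Set.mem_singleton_iff.mp ht]
      exact (hSb y hy).eq
    exact Subgroup.mem_centralizer_iff.mp (h1 (hLS hx)) b (Set.mem_singleton b)
  · apply not_centralizes_of_isComponent hD hL ha
    rw [Subgroup.commutator_eq_bot_iff_le_centralizer] at hLS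
    intro x hx
    exact Subgroup.mem_centralizer_iff.mp (hLS hx) a haS

omit [Finite G] in
/-- If commuting members of `D` lie in the same coset of `N` and the commuting graph is connected,
all of `D` lies in one coset of `N`. -/
theorem forall_inv_mul_mem_of_connected {N : Subgroup G}
    (hclaim : ∀ a ∈ D, ∀ b ∈ D, Commute a b → a⁻¹ * b ∈ N)
    (hconn : (commutingGraph D).Connected) : ∀ a ∈ D, ∀ b ∈ D, a⁻¹ * b ∈ N := by
  have hall : ∀ a b : D, (a : G)⁻¹ * (b : G) ∈ N := by
    intro a b
    obtain ⟨w⟩ := hconn.preconnected a b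
    induction w with
    | nil => simp
    | @cons u v w' hadj _ ih =>
      have hadj' : Commute (u : G) (v : G) := by
        have := hadj
        simp only [Cfsg.commutingGraph, SimpleGraph.fromRel_adj] at this
        rcases this.2 with h | h
        · exact h
        · exact h.symm
      have h1 := hclaim u u.2 v v.2 hadj'
      have : (u : G)⁻¹ * (w' : G) = ((u : G)⁻¹ * (v : G)) * ((v : G)⁻¹ * (w' : G)) := by group
      rw [this]
      exact N.mul_mem h1 ih
  intro a ha b hb
  exact hall ⟨a, ha⟩ ⟨b, hb⟩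

omit [Finite G] in
/-- If all of `D` lies in one coset of the normal subgroup `N`, then `G = N ∪ d₀ N`. -/
theorem cover_of_forall_inv_mul_mem (hD : IsThreeTranspositionClass D) {N : Subgroup G}
    [hN : N.Normal] (hall : ∀ a ∈ D, ∀ b ∈ D, a⁻¹ * b ∈ N) {d0 : G} (hd0 : d0 ∈ D) :
    ∀ g : G, d0 * g ∈ N ∨ g ∈ N := by
  have hT := hD.1
  have hd0d0 := sq_of_mem hT hd0
  have hd0inv : d0⁻¹ = d0 := inv_eq_of_mul_eq_one_left hd0d0
  have hLn : ∀ x ∈ N, d0 * x * d0 ∈ N := by
    intro x hx
    have := hN.conj_mem x hx d0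
    rwa [hd0inv] at this
  intro g
  have hg : g ∈ Subgroup.closure D := hD.2.2 ▸ Subgroup.mem_top g
  induction hg using Subgroup.closure_induction with
  | mem d hd =>
    left
    have := hall d0 hd0 d hd
    simpa [hd0inv] using this
  | one => right; exact N.one_mem
  | mul x y _ _ ihx ihy =>
    rcases ihx with hx | hx <;> rcases ihy with hy | hy
    · right
      have h1 := hLn _ hx
      have : x * y = (d0 * (d0 * x) * d0) * (d0 * y) := by
        calc x * y = (d0 * d0) * x * ((d0 * d0) * y) := by rw [hd0d0, one_mul, one_mul]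
          _ = (d0 * (d0 * x) * d0) * (d0 * y) := by simp only [mul_assoc]
      rw [this]
      exact N.mul_mem h1 hy
    · left
      rw [← mul_assoc]
      exact N.mul_mem hx hy
    · left
      have h1 := hLn _ hx
      have : d0 * (x * y) = (d0 * x * d0) * (d0 * y) := by
        calc d0 * (x * y) = d0 * x * ((d0 * d0) * y) := by rw [hd0d0, one_mul, mul_assoc]
          _ = (d0 * x * d0) * (d0 * y) := by simp only [mul_assoc]
      rw [this]
      exact N.mul_mem h1 hy
    · right
      exact N.mul_mem hx hy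
  | inv x _ ih =>
    rcases ih with hx | hx
    · left
      have h1 := hLn _ (N.inv_mem hx)
      have : d0 * x⁻¹ = d0 * (d0 * x)⁻¹ * d0 := by
        rw [mul_inv_rev, hd0inv]
        calc d0 * x⁻¹ = d0 * x⁻¹ * (d0 * d0) := by rw [hd0d0, mul_one]
          _ = d0 * (x⁻¹ * d0) * d0 := by simp only [mul_assoc]
      rw [this]
      exact h1
    · right
      exact N.inv_mem hx

omit [Finite G] in
/-- A normal subgroup `N` with `G = N ∪ d₀ N` has index at most two. -/
theorem index_le_two_of_cover {N : Subgroup G} {d0 : G} (hd0d0 : d0 * d0 = 1)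
    (hcover : ∀ g : G, d0 * g ∈ N ∨ g ∈ N) : N.index ≤ 2 := by
  by_cases hd0L : d0 ∈ N
  · have : N = ⊤ := by
      rw [eq_top_iff]
      intro g _
      rcases hcover g with h | h
      · have := N.mul_mem hd0L h
        rwa [← mul_assoc, hd0d0, one_mul] at this
      · exact h
    rw [this, Subgroup.index_top]
    omega
  · have : N.index = 2 := by
      rw [Subgroup.index_eq_two_iff_exists_notMem_and']
      exact ⟨d0, hd0L, hcover⟩
    omega

omit [Finite G] in
/-- A normal subgroup `N` with `G = N ∪ d₀ N` contains the commutator subgroup. -/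
theorem commutator_le_of_cover {N : Subgroup G} [hN : N.Normal] {d0 : G}
    (hcover : ∀ g : G, d0 * g ∈ N ∨ g ∈ N) : commutator G ≤ N := by
  rw [← Subgroup.Normal.quotient_commutative_iff_commutator_le]
  have hcases : ∀ q : G ⧸ N, q = 1 ∨ q = ((d0⁻¹ : G) : G ⧸ N) := by
    intro q
    obtain ⟨g, rfl⟩ := QuotientGroup.mk_surjective q
    rcases hcover g with h | h
    · right
      symm
      rw [QuotientGroup.eq, inv_inv]
      exact h
    · left
      exact (QuotientGroup.eq_one_iff g).mpr h
  refine ⟨⟨fun a b => ?_⟩⟩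
  rcases hcases a with rfl | rfl <;> rcases hcases b with rfl | rfl <;> simp

/-- With a connected commuting graph there is at most one component. -/
theorem isComponent_unique (hD : IsThreeTranspositionClass D)
    (hconn : (commutingGraph D).Connected) {L1 L2 : Subgroup G} (h1 : IsComponent L1)
    (h2 : IsComponent L2) : L1 = L2 := by
  by_contra hne
  haveI hL1n := normal_of_isComponent hD h1
  have hL2C : L2 ≤ Subgroup.centralizer (L1 : Set G) := by
    intro y hy
    rw [Subgroup.mem_centralizer_iff]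
    intro x hx
    exact (Cfsg.Agent.Helper21.IsComponent.commute_of_ne h1 h2 hne hx hy).eq
  have hall := forall_inv_mul_mem_of_connected
    (fun a ha b hb hab => inv_mul_mem_of_commute hD h2 hL2C ha hb hab) hconn
  obtain ⟨d0, hd0, -⟩ := hD.2.1
  have hcover := cover_of_forall_inv_mul_mem hD hall hd0
  have hcomm := commutator_le_of_cover hcover
  have hperf : ⁅L1, L1⁆ = L1 := Subgroup.isPerfect_iff.1 h1.2.1
  have hL1C : L1 ≤ Subgroup.centralizer (L1 : Set G) := by
    calc L1 = ⁅L1, L1⁆ := hperf.symm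
      _ ≤ ⁅(⊤ : Subgroup G), ⊤⁆ := Subgroup.commutator_mono le_top le_top
      _ = commutator G := (commutator_def G).symm
      _ ≤ _ := hcomm
  apply Cfsg.Agent.Helper21.IsQuasisimple.not_isSolvable h1.2
  apply Group.isSolvable_of_comm
  rintro ⟨a, ha⟩ ⟨b, hb⟩
  apply Subtype.ext
  exact Subgroup.mem_centralizer_iff.mp (hL1C hb) a ha

/-- **Structure theorem.** If `O_2(G)` and `O_3(G)` are central and the commuting graph of `D` is
connected, then `F*(G) = L Z(G)` with `L` a quasisimple normal subgroup. -/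
theorem exists_quasisimple_fstar (hD : IsThreeTranspositionClass D)
    (hD2 : ∃ a ∈ D, ∃ b ∈ D, a ≠ b) (h2 : pCore 2 G ≤ Subgroup.center G)
    (h3 : pCore 3 G ≤ Subgroup.center G) (hconn : (commutingGraph D).Connected) :
    ∃ L : Subgroup G, L.Normal ∧ IsQuasisimple L ∧
      generalizedFittingSubgroup G = L ⊔ Subgroup.center G := by
  have hall := pCore_le_center_all hD h2 h3
  obtain ⟨L, hL⟩ := exists_isComponent hD hD2 hall
  refine ⟨L, normal_of_isComponent hD hL, hL.2, ?_⟩
  have hlayer : layer G = L := by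
    unfold layer
    have : {K : Subgroup G | IsComponent K} = {L} := by
      ext K
      simp only [Set.mem_setOf_eq, Set.mem_singleton_iff]
      constructor
      · intro hK
        exact isComponent_unique hD hconn hK hL
      · rintro rfl
        exact hL
    rw [this, sSup_singleton]
  unfold generalizedFittingSubgroup
  rw [hlayer, fittingSubgroup_eq_center hall]

end Fin

end Cfsg.Agent.Helper89
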