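import Mathlib
import Cfsg.Prelude.Def_FischerSpaces
import Cfsg.Agent.Helper89.TranspStructure

/-!
# Primitivity of the conjugation action on a class of 3-transpositions

A criterion for primitivity in terms of normal subgroups, and consequences of primitivity:
connectedness of the commuting graph and centrality of `O_2` and `O_3`.
-/

set_option autoImplicit false

namespace Cfsg.Agent.Helper89

open Cfsg
open Cfsg.Agent.S5353 (class_conj class_trans notMem_center exists_not_commute mul_notMem_center)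

section

variable {G : Type*} [Group G] {D : Set G}

/-- If every proper normal subgroup containing the product of two different members of `D` has
index two, then `G` acts primitively on `D`. -/
theorem isPrimitiveUnderConj_of_forall_normal [Finite G] (hD : IsThreeTranspositionClass D)
    (hD2 : ∃ a ∈ D, ∃ b ∈ D, a ≠ b)
    (H : ∀ K : Subgroup G, K.Normal → K ≠ ⊤ → (∃ a ∈ D, ∃ b ∈ D, a ≠ b ∧ a * b ∈ K) →
      K.index = 2) : IsPrimitiveUnderConj D := by
  have hT := hD.1
  have hconj := class_conj hD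
  have htrans := class_trans hD
  refine ⟨htrans, hD2, ?_⟩
  intro B hBD hB
  by_contra hcon
  push Not at hcon
  obtain ⟨hns, hne⟩ := hcon
  obtain ⟨a, ha, b, hb, hab⟩ := hns
  have hBlk : IsConjBlock B := hB
  have hBne : B.Nonempty := ⟨a, ha⟩
  have habK : a * b ∈ blockKernel B := fun h => hBlk.mul_stabilizes hT hconj hBD ha hb h
  have hKtop : blockKernel B ≠ ⊤ := by
    intro htop
    apply hne
    apply eq_of_conjSet_invariant hBD htrans hBne
    intro g
    exact conjSet_eq_of_mem_blockKernel (htop ▸ Subgroup.mem_top g)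
  have hK2 : (blockKernel B).index = 2 :=
    H (blockKernel B) inferInstance hKtop ⟨a, hBD ha, b, hBD hb, hab, habK⟩
  have haK : a ∉ blockKernel B := by
    intro haK
    apply hKtop
    rw [eq_top_iff, ← hD.2.2, Subgroup.closure_le]
    intro d hd
    obtain ⟨g, hg⟩ := htrans a (hBD ha) d hd
    rw [← hg]
    exact (blockKernel_normal B).conj_mem a haK g
  apply hne
  apply eq_of_conjSet_invariant hBD htrans hBne
  intro g
  by_cases hg : g ∈ blockKernel B
  · exact conjSet_eq_of_mem_blockKernel hg
  · have hag : a * g ∈ blockKernel B := by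
      rw [Subgroup.mul_mem_iff_of_index_two hK2]
      exact ⟨fun h => absurd h haK, fun h => absurd h hg⟩
    have h1 := conjSet_eq_of_mem_blockKernel hag
    rw [conjSet_mul] at h1
    have h2 := congrArg (conjSet a) h1
    rw [← conjSet_mul, sq_of_mem hT (hBD ha), conjSet_one, hBlk.conjSet_self ha] at h2
    exact h2

/-- Conjugation by `g` as an endomorphism of the commuting graph. -/
def commutingGraphConj (hconj : ∀ g : G, ∀ d ∈ D, g * d * g⁻¹ ∈ D) (g : G) :
    commutingGraph D →g commutingGraph D where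
  toFun := fun x => ⟨g * x.1 * g⁻¹, hconj g x.1 x.2⟩
  map_rel' := by
    intro x y hxy
    simp only [Cfsg.commutingGraph, SimpleGraph.fromRel_adj] at hxy ⊢
    refine ⟨?_, ?_⟩
    · intro h
      apply hxy.1
      apply Subtype.ext
      have := congrArg Subtype.val h
      simpa using this
    · rcases hxy.2 with h | h
      · left; exact (Commute.conj_iff g).mpr h
      · right; exact (Commute.conj_iff g).mpr h

/-- Primitivity together with a commuting pair gives a connected commuting graph. -/
theorem connected_of_isPrimitiveUnderConj (hconj : ∀ g : G, ∀ d ∈ D, g * d * g⁻¹ ∈ D)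
    (hprim : IsPrimitiveUnderConj D) (hw : ∃ a ∈ D, ∃ b ∈ D, a ≠ b ∧ Commute a b) :
    (commutingGraph D).Connected := by
  obtain ⟨a, ha, b, hb, hab, hcomm⟩ := hw
  obtain ⟨B, hBdef⟩ : ∃ B : Set G, B = {x | ∃ hx : x ∈ D,
    (commutingGraph D).Reachable ⟨a, ha⟩ ⟨x, hx⟩} := ⟨_, rfl⟩
  have hBD : B ⊆ D := by
    intro x hx
    rw [hBdef] at hx
    exact hx.1
  have haB : a ∈ B := by rw [hBdef]; exact ⟨ha, SimpleGraph.Reachable.refl _⟩
  have hadj : (commutingGraph D).Adj ⟨a, ha⟩ ⟨b, hb⟩ := by
    simp only [Cfsg.commutingGraph, SimpleGraph.fromRel_adj]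
    exact ⟨fun h => hab (congrArg Subtype.val h), Or.inl hcomm⟩
  have hbB : b ∈ B := by rw [hBdef]; exact ⟨hb, hadj.reachable⟩
  -- membership in a conjugate
  have hmem : ∀ g : G, ∀ y : G, y ∈ conjSet g B → ∃ hy : y ∈ D,
      (commutingGraph D).Reachable ⟨g * a * g⁻¹, hconj g a ha⟩ ⟨y, hy⟩ := by
    intro g y hy
    obtain ⟨x, hx, rfl⟩ := hy
    rw [hBdef] at hx
    obtain ⟨hxD, hreach⟩ := hx
    exact ⟨hconj g x hxD, hreach.map (commutingGraphConj hconj g)⟩
  have hblock : ∀ g : G, conjSet g B = B ∨ Disjoint (conjSet g B) B := by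
    intro g
    by_cases hdisj : Disjoint (conjSet g B) B
    · exact Or.inr hdisj
    · left
      rw [Set.not_disjoint_iff] at hdisj
      obtain ⟨y, hy1, hy2⟩ := hdisj
      obtain ⟨hyD, hr1⟩ := hmem g y hy1
      have hy2' := hy2
      rw [hBdef] at hy2'
      obtain ⟨_, hr2⟩ := hy2'
      -- `g a g⁻¹` is reachable from `a`
      have hr3 : (commutingGraph D).Reachable ⟨a, ha⟩ ⟨g * a * g⁻¹, hconj g a ha⟩ :=
        hr2.trans hr1.symm
      apply Set.Subset.antisymm
      · intro z hz
        obtain ⟨hzD, hr⟩ := hmem g z hz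
        rw [hBdef]
        exact ⟨hzD, hr3.trans hr⟩
      · intro z hz
        rw [hBdef] at hz
        obtain ⟨hzD, hr⟩ := hz
        rw [mem_conjSet, hBdef]
        refine ⟨hconj g⁻¹ z hzD |> (by simpa using ·), ?_⟩
        have h4 : (commutingGraph D).Reachable ⟨g * a * g⁻¹, hconj g a ha⟩ ⟨z, hzD⟩ :=
          hr3.symm.trans hr
        have h5 := h4.map (commutingGraphConj hconj g⁻¹)
        have e1 : (commutingGraphConj hconj g⁻¹) ⟨g * a * g⁻¹, hconj g a ha⟩ = ⟨a, ha⟩ := by
          apply Subtype.ext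
          show g⁻¹ * (g * a * g⁻¹) * g⁻¹⁻¹ = a
          group
        have e2 : (commutingGraphConj hconj g⁻¹) ⟨z, hzD⟩ =
            ⟨g⁻¹ * z * g, by simpa using hconj g⁻¹ z hzD⟩ := by
          apply Subtype.ext
          show g⁻¹ * z * g⁻¹⁻¹ = g⁻¹ * z * g
          rw [inv_inv]
        rw [e1, e2] at h5
        exact h5
  rcases hprim.2.2 B hBD hblock with hsub | hBD'
  · exact absurd (hsub haB hbB) hab
  · rw [SimpleGraph.connected_iff_exists_forall_reachable]
    refine ⟨⟨a, ha⟩, ?_⟩
    rintro ⟨x, hx⟩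
    have : x ∈ B := hBD' ▸ hx
    rw [hBdef] at this
    exact this.2

/-- If `x ^ (3 ^ k) = 1` and `x ^ 2 = 1` then `x = 1`. -/
theorem eq_one_of_pow_three_pow_of_sq {x : G} {k : ℕ} (h3 : x ^ (3 ^ k) = 1) (h2 : x ^ 2 = 1) :
    x = 1 := by
  have hcop : Nat.Coprime (3 ^ k) 2 := by
    apply Nat.Coprime.pow_left
    decide
  have := pow_gcd_eq_one.2 ⟨h3, h2⟩
  rwa [hcop, pow_one] at this

/-- A subgroup centralizing every member of a generating set is central. -/
theorem le_center_of_forall_commute {P : Subgroup G} (hgen : Subgroup.closure D = ⊤)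
    (h : ∀ v ∈ P, ∀ d ∈ D, Commute v d) : P ≤ Subgroup.center G := by
  intro v hv
  have h1 : Subgroup.closure D ≤ Subgroup.centralizer {v} := by
    rw [Subgroup.closure_le]
    intro e he
    rw [SetLike.mem_coe, Subgroup.mem_centralizer_iff]
    intro t ht
    rw [Set.mem_singleton_iff.mp ht]
    exact (h v hv e he).eq
  rw [hgen] at h1
  rw [Subgroup.mem_center_iff]
  intro g
  have := Subgroup.mem_centralizer_iff.mp (h1 (Subgroup.mem_top g)) v (Set.mem_singleton v)
  exact this.symm

/-- Under primitivity (with a commuting pair) `O_2(G)` and `O_3(G)` are central. -/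
theorem pCore_le_center_of_isPrimitiveUnderConj (hD : IsThreeTranspositionClass D)
    (hprim : IsPrimitiveUnderConj D) (hw : ∃ a ∈ D, ∃ b ∈ D, a ≠ b ∧ Commute a b) {p : ℕ}
    (hp : p = 2 ∨ p = 3) : pCore p G ≤ Subgroup.center G := by
  have hT := hD.1
  have hconj := class_conj hD
  have htrans := class_trans hD
  have hPn : (pCore p G).Normal := by
    have := Cfsg.Agent.Lib.pCore_characteristic (G := G) p
    infer_instance
  have hPp := Cfsg.Agent.Lib.isPGroup_pCore (G := G) p
  obtain ⟨a, ha, b, hb, hab, hcomm⟩ := hw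
  have haa := sq_of_mem hT ha
  have hbb := sq_of_mem hT hb
  obtain ⟨B, hBdef⟩ : ∃ B : Set G, B = {x | x ∈ D ∧ a⁻¹ * x ∈ pCore p G} := ⟨_, rfl⟩
  have hBD : B ⊆ D := by
    intro x hx
    rw [hBdef] at hx
    exact hx.1
  have haB : a ∈ B := by
    rw [hBdef]
    exact ⟨ha, by rw [inv_mul_cancel]; exact (pCore p G).one_mem⟩
  have hmemc : ∀ g y : G, y ∈ conjSet g B ↔ y ∈ D ∧ (g * a * g⁻¹)⁻¹ * y ∈ pCore p G := by
    intro g y
    rw [mem_conjSet, hBdef]
    constructor
    · rintro ⟨h1, h2⟩
      refine ⟨?_, ?_⟩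
      · have := hconj g _ h1
        have e : g * (g⁻¹ * y * g) * g⁻¹ = y := by group
        rwa [e] at this
      · have := hPn.conj_mem _ h2 g
        have e : g * (a⁻¹ * (g⁻¹ * y * g)) * g⁻¹ = (g * a * g⁻¹)⁻¹ * y := by group
        rwa [e] at this
    · rintro ⟨h1, h2⟩
      refine ⟨?_, ?_⟩
      · have := hconj g⁻¹ _ h1
        rwa [inv_inv] at this
      · have := hPn.conj_mem _ h2 g⁻¹
        have e : g⁻¹ * ((g * a * g⁻¹)⁻¹ * y) * g⁻¹⁻¹ = a⁻¹ * (g⁻¹ * y * g) := by group
        rwa [e] at this
  have hblock : ∀ g : G, conjSet g B = B ∨ Disjoint (conjSet g B) B := by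
    intro g
    by_cases hdisj : Disjoint (conjSet g B) B
    · exact Or.inr hdisj
    · left
      rw [Set.not_disjoint_iff] at hdisj
      obtain ⟨y, hy1, hy2⟩ := hdisj
      rw [hmemc] at hy1
      rw [hBdef] at hy2
      have hkey : a⁻¹ * (g * a * g⁻¹) ∈ pCore p G := by
        have := (pCore p G).mul_mem hy2.2 ((pCore p G).inv_mem hy1.2)
        have e : a⁻¹ * y * ((g * a * g⁻¹)⁻¹ * y)⁻¹ = a⁻¹ * (g * a * g⁻¹) := by group
        rwa [e] at this
      ext z
      rw [hmemc, hBdef]
      constructor
      · rintro ⟨h1, h2⟩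
        refine ⟨h1, ?_⟩
        have := (pCore p G).mul_mem hkey h2
        have e : a⁻¹ * (g * a * g⁻¹) * ((g * a * g⁻¹)⁻¹ * z) = a⁻¹ * z := by group
        rwa [e] at this
      · rintro ⟨h1, h2⟩
        refine ⟨h1, ?_⟩
        have := (pCore p G).mul_mem ((pCore p G).inv_mem hkey) h2
        have e : (a⁻¹ * (g * a * g⁻¹))⁻¹ * (a⁻¹ * z) = (g * a * g⁻¹)⁻¹ * z := by group
        rwa [e] at this
  rcases hprim.2.2 B hBD hblock with hsub | hBD'
  · -- the block is `{a}`: `O_p(G)` centralizes `a`, hence `D`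
    have hPa : ∀ v ∈ pCore p G, Commute v a := by
      intro v hv
      have hvB : v * a * v⁻¹ ∈ B := by
        rw [hBdef]
        refine ⟨hconj v a ha, ?_⟩
        have e : a⁻¹ * (v * a * v⁻¹) = (a⁻¹ * v * a⁻¹⁻¹) * v⁻¹ := by group
        rw [e]
        exact (pCore p G).mul_mem (hPn.conj_mem v hv a⁻¹) ((pCore p G).inv_mem hv)
      have := hsub hvB haB
      show v * a = a * v
      calc v * a = (v * a * v⁻¹) * v := by group
        _ = a * v := by rw [this]
    apply le_center_of_forall_commute hD.2.2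
    intro v hv d hd
    obtain ⟨g, rfl⟩ := htrans a ha d hd
    have h1 := hPa (g⁻¹ * v * g⁻¹⁻¹) (hPn.conj_mem v hv g⁻¹)
    have h2 := (Commute.conj_iff g).mpr h1
    have e : g * (g⁻¹ * v * g⁻¹⁻¹) * g⁻¹ = v := by group
    rwa [e] at h2
  · -- all of `D` lies in one coset of `O_p(G)`
    exfalso
    have hallP : ∀ x ∈ D, a⁻¹ * x ∈ pCore p G := by
      intro x hx
      have : x ∈ B := hBD' ▸ hx
      rw [hBdef] at this
      exact this.2
    rcases hp with rfl | rfl
    · -- `p = 2`: any two members of `D` commute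
      apply notMem_center hD hprim.2.1 ha
      have hcommD : ∀ x ∈ D, ∀ y ∈ D, Commute x y := by
        intro x hx y hy
        have hxx := sq_of_mem hT hx
        have hyy := sq_of_mem hT hy
        have hxinv : x⁻¹ = x := inv_eq_of_mul_eq_one_left hxx
        have hmem : x * y ∈ pCore 2 G := by
          have := (pCore 2 G).mul_mem ((pCore 2 G).inv_mem (hallP x hx)) (hallP y hy)
          have e : (a⁻¹ * x)⁻¹ * (a⁻¹ * y) = x⁻¹ * y := by group
          rwa [e, hxinv] at this
        obtain ⟨k, hk⟩ := hPp ⟨_, hmem⟩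
        have hk' : (x * y) ^ (2 ^ k) = 1 := by
          have := congrArg Subtype.val hk
          simpa using this
        apply commute_of_mul_sq_eq_one hxx hyy
        rcases hT.2 x hx y hy with h | h
        · exact h
        · rw [eq_one_of_pow_two_pow_of_pow_three hk' h, one_pow]
      have : (⊤ : Subgroup G) ≤ Subgroup.center G := by
        rw [← hD.2.2]
        apply le_center_of_forall_commute hD.2.2
        intro v hv d hd
        induction hv using Subgroup.closure_induction with
        | mem x hx => exact hcommD x hx d hd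
        | one => exact Commute.one_left d
        | mul x y _ _ ihx ihy => exact ihx.mul_left ihy
        | inv x _ ih => exact ih.inv_left
      exact this (Subgroup.mem_top a)
    · -- `p = 3`: `a b` is an involution in a 3-group
      apply hab
      have hmem : a * b ∈ pCore 3 G := by
        have := hallP b hb
        rwa [inv_eq_of_mul_eq_one_left haa] at this
      obtain ⟨k, hk⟩ := hPp ⟨_, hmem⟩
      have hk' : (a * b) ^ (3 ^ k) = 1 := by
        have := congrArg Subtype.val hk
        simpa using this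
      have h2 : (a * b) ^ 2 = 1 := mul_sq_eq_one_of_commute haa hbb hcomm
      have h1 := eq_one_of_pow_three_pow_of_sq hk' h2
      have : a = b⁻¹ := eq_inv_of_mul_eq_one_left h1
      rw [this, inv_eq_of_mul_eq_one_left hbb]

end

end Cfsg.Agent.Helper89
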