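import Mathlib
import Cfsg.Prelude.Def_FischerSpaces
import Cfsg.Agent.Helper89.TranspPrimitive

/-!
# Normal 2- and 3-subgroups of 3-transposition groups

Criteria, in terms of the commuting relation on `D`, for a normal `p`-subgroup (`p = 2, 3`) to
centralize a member of `D`.
-/

set_option autoImplicit false

namespace Cfsg.Agent.Helper89

open Cfsg

section

variable {G : Type*} [Group G] {D : Set G}

/-- Let `P` be a normal 3-subgroup, `x ∈ P` and `d ∈ D`. If, whenever `d' = x d x⁻¹ ≠ d`, some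
member of `D` other than `d` commutes with `d` but not with `d'`, then `x` centralizes `d`. -/
theorem conj_eq_of_mem_normal_three_group (hT : IsThreeTranspositionSet D) {P : Subgroup G}
    (hPn : P.Normal) (hP : IsPGroup 3 P) {d x : G} (hd : d ∈ D) (hx : x ∈ P)
    (hd' : x * d * x⁻¹ ∈ D)
    (hex : x * d * x⁻¹ ≠ d → ¬ Commute d (x * d * x⁻¹) →
      ∃ e ∈ D, e ≠ d ∧ Commute e d ∧ ¬ Commute e (x * d * x⁻¹)) :
    x * d * x⁻¹ = d := by
  by_contra hne
  have hdd := sq_of_mem hT hd
  have hdinv : d⁻¹ = d := inv_eq_of_mul_eq_one_left hdd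
  have h1' : d * (x * d * x⁻¹) ∈ P := by
    have : d * (x * d * x⁻¹) = (d * x * d⁻¹) * x⁻¹ := by rw [hdinv]; simp only [mul_assoc]
    rw [this]
    exact P.mul_mem (hPn.conj_mem x hx d) (P.inv_mem hx)
  have hnc : ¬ Commute d (x * d * x⁻¹) := by
    intro hc
    apply hne
    obtain ⟨k, hk⟩ := hP ⟨_, h1'⟩
    have hk' : (d * (x * d * x⁻¹)) ^ (3 ^ k) = 1 := by
      have := congrArg Subtype.val hk
      simpa using this
    have h6 : (d * (x * d * x⁻¹)) ^ 2 = 1 :=
      mul_sq_eq_one_of_commute hdd (sq_of_mem hT hd') hc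
    have h7 := eq_one_of_pow_three_pow_of_sq hk' h6
    have : x * d * x⁻¹ = d⁻¹ := (eq_inv_of_mul_eq_one_right h7)
    rw [this, hdinv]
  obtain ⟨e, he, hed, hcomm, hncomm⟩ := hex hne hnc
  obtain ⟨d', hd'def⟩ : ∃ d', d' = x * d * x⁻¹ := ⟨_, rfl⟩
  rw [← hd'def] at hd' hncomm h1'
  have hee := sq_of_mem hT he
  have hd'd' := sq_of_mem hT hd'
  have heinv : e⁻¹ = e := inv_eq_of_mul_eq_one_left hee
  -- `d d' ∈ P`
  have h1 : d * d' ∈ P := h1'
  -- conjugating by `e`
  have h2 : d * (e * d' * e) ∈ P := by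
    have := hPn.conj_mem _ h1 e
    have e1 : e * (d * d') * e⁻¹ = (e * d * e) * (e * d' * e) := by
      rw [heinv]
      calc e * (d * d') * e = e * d * (1 * d') * e := by rw [one_mul]; simp only [mul_assoc]
        _ = e * d * ((e * e) * d') * e := by rw [hee]
        _ = (e * d * e) * (e * d' * e) := by simp only [mul_assoc]
    have e2 : e * d * e = d := by rw [hcomm.eq, mul_assoc, hee, mul_one]
    rwa [e1, e2] at this
  -- braid relation for `e`, `d'`
  have hbr : e * d' * e = d' * e * d' := by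
    have := cj_comm_of_not_commute hT he hd' hncomm
    simp only [cj, heinv, inv_eq_of_mul_eq_one_left hd'd'] at this
    exact this
  have h3 : d' * e ∈ P := by
    have h4 : (d * d')⁻¹ * (d * (e * d' * e)) ∈ P := P.mul_mem (P.inv_mem h1) h2
    have e3 : (d * d')⁻¹ * (d * (e * d' * e)) = e * d' := by
      rw [hbr, mul_inv_rev, hdinv, inv_eq_of_mul_eq_one_left hd'd']
      calc d' * d * (d * (d' * e * d')) = d' * (d * d) * (d' * e * d') := by simp only [mul_assoc]
        _ = (d' * d') * e * d' := by rw [hdd, mul_one]; simp only [mul_assoc]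
        _ = e * d' := by rw [hd'd', one_mul]
    rw [e3] at h4
    have := P.inv_mem h4
    rwa [mul_inv_rev, heinv, inv_eq_of_mul_eq_one_left hd'd'] at this
  have h5 : d * e ∈ P := by
    have := P.mul_mem h1 h3
    have e4 : d * d' * (d' * e) = d * e := by
      calc d * d' * (d' * e) = d * (d' * d') * e := by simp only [mul_assoc]
        _ = d * e := by rw [hd'd', mul_one]
    rwa [e4] at this
  obtain ⟨k, hk⟩ := hP ⟨_, h5⟩
  have hk' : (d * e) ^ (3 ^ k) = 1 := by
    have := congrArg Subtype.val hk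
    simpa using this
  have h6 : (d * e) ^ 2 = 1 := mul_sq_eq_one_of_commute hdd hee hcomm.symm
  have h7 := eq_one_of_pow_three_pow_of_sq hk' h6
  apply hed
  have : e = d⁻¹ := (eq_inv_of_mul_eq_one_right h7)
  rw [this, hdinv]

/-- Let `P` be a normal 2-subgroup, `x ∈ P` and `d ∈ D`. If, whenever `d' = x d x⁻¹ ≠ d`, some
member of `D` commutes with `d'` but not with `d`, then `x` centralizes `d`. -/
theorem conj_eq_of_mem_normal_two_group (hT : IsThreeTranspositionSet D) {P : Subgroup G}
    (hPn : P.Normal) (hP : IsPGroup 2 P) {d x : G} (hd : d ∈ D) (hx : x ∈ P)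
    (hd' : x * d * x⁻¹ ∈ D)
    (hex : x * d * x⁻¹ ≠ d → Commute d (x * d * x⁻¹) →
      ∃ e ∈ D, Commute e (x * d * x⁻¹) ∧ ¬ Commute e d) :
    x * d * x⁻¹ = d := by
  by_contra hne
  have hdd := sq_of_mem hT hd
  have hdinv : d⁻¹ = d := inv_eq_of_mul_eq_one_left hdd
  have h1' : d * (x * d * x⁻¹) ∈ P := by
    have : d * (x * d * x⁻¹) = (d * x * d⁻¹) * x⁻¹ := by rw [hdinv]; simp only [mul_assoc]
    rw [this]
    exact P.mul_mem (hPn.conj_mem x hx d) (P.inv_mem hx)
  have hc : Commute d (x * d * x⁻¹) := by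
    apply commute_of_mul_sq_eq_one hdd (sq_of_mem hT hd')
    rcases hT.2 d hd _ hd' with h | h
    · exact h
    · obtain ⟨k, hk⟩ := hP ⟨_, h1'⟩
      have hk' : (d * (x * d * x⁻¹)) ^ (2 ^ k) = 1 := by
        have := congrArg Subtype.val hk
        simpa using this
      rw [eq_one_of_pow_two_pow_of_pow_three hk' h, one_pow]
  obtain ⟨e, he, hcomm, hncomm⟩ := hex hne hc
  obtain ⟨d', hd'def⟩ : ∃ d', d' = x * d * x⁻¹ := ⟨_, rfl⟩
  rw [← hd'def] at hd' hcomm h1'
  have hee := sq_of_mem hT he
  have hd'd' := sq_of_mem hT hd'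
  have heinv : e⁻¹ = e := inv_eq_of_mul_eq_one_left hee
  have h1 : d * d' ∈ P := h1'
  have h2 : (e * d * e) * d' ∈ P := by
    have := hPn.conj_mem _ h1 e
    have e1 : e * (d * d') * e⁻¹ = (e * d * e) * (e * d' * e) := by
      rw [heinv]
      calc e * (d * d') * e = e * d * (1 * d') * e := by rw [one_mul]; simp only [mul_assoc]
        _ = e * d * ((e * e) * d') * e := by rw [hee]
        _ = (e * d * e) * (e * d' * e) := by simp only [mul_assoc]
    have e2 : e * d' * e = d' := by rw [hcomm.eq, mul_assoc, hee, mul_one]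
    rwa [e1, e2] at this
  have h3 : (e * d) * (e * d) ∈ P := by
    have h4 := P.mul_mem h2 (P.inv_mem h1)
    have e3 : e * d * e * d' * (d * d')⁻¹ = (e * d) * (e * d) := by
      rw [mul_inv_rev, hdinv, inv_eq_of_mul_eq_one_left hd'd']
      calc e * d * e * d' * (d' * d) = e * d * e * (d' * d') * d := by simp only [mul_assoc]
        _ = (e * d) * (e * d) := by rw [hd'd', mul_one]; simp only [mul_assoc]
    rwa [e3] at h4
  have hcube := cube_of_not_commute hT he hd hncomm
  have h5 : e * d ∈ P := by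
    have e4 : (e * d) * (e * d) = (e * d)⁻¹ := by
      apply eq_inv_of_mul_eq_one_left
      rw [← pow_two, ← pow_succ]
      exact hcube
    rw [e4] at h3
    have := P.inv_mem h3
    rwa [inv_inv] at this
  obtain ⟨k, hk⟩ := hP ⟨_, h5⟩
  have hk' : (e * d) ^ (2 ^ k) = 1 := by
    have := congrArg Subtype.val hk
    simpa using this
  have h7 := eq_one_of_pow_two_pow_of_pow_three hk' hcube
  apply hncomm
  have : e = d⁻¹ := eq_inv_of_mul_eq_one_left h7
  rw [this, hdinv]

/-- With a connected commuting graph, a quasisimple normal subgroup is the commutator subgroup and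
has index at most two. -/
theorem commutator_eq_of_quasisimple_normal [Finite G] (hD : IsThreeTranspositionClass D)
    (hconn : (commutingGraph D).Connected) {L : Subgroup G} (hLn : L.Normal)
    (hLq : IsQuasisimple L) : commutator G = L ∧ L.index ≤ 2 := by
  have hcomp : Cfsg.IsComponent L := ⟨Subgroup.Normal.isSubnormal hLn, hLq⟩
  have hall := forall_inv_mul_mem_of_connected
    (fun a ha b hb hab => inv_mul_mem_of_commute (hN := hLn) hD hcomp le_rfl ha hb hab) hconn
  obtain ⟨d0, hd0, -⟩ := hD.2.1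
  have hcover := cover_of_forall_inv_mul_mem (hN := hLn) hD hall hd0
  have hcomm : commutator G ≤ L := commutator_le_of_cover (hN := hLn) hcover
  have hperf : ⁅L, L⁆ = L := Subgroup.isPerfect_iff.1 hLq.1
  have hLc : L ≤ commutator G := by
    calc L = ⁅L, L⁆ := hperf.symm
      _ ≤ ⁅(⊤ : Subgroup G), ⊤⁆ := Subgroup.commutator_mono le_top le_top
      _ = commutator G := (commutator_def G).symm
  exact ⟨le_antisymm hcomm hLc, index_le_two_of_cover (sq_of_mem hD.1 hd0) hcover⟩

end

end Cfsg.Agent.Helper89
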