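import Mathlib
import Cfsg.Prelude.Def_FischerSpaces
import Cfsg.Agent.Helper89.TranspCores
import Cfsg.Agent.Lib.Cores

/-!
# 3-transposition groups of width one (consumers of Hall's theorem)

`HallHyp` is the statement of Hall's theorem on involution classes all of whose pairwise products
have 3-power order (statement S5561), as a hypothesis.  From it: a conjugation-invariant generating
set of 3-transpositions has width one iff `G = ⟨d⟩ O_3(G)`.
-/

set_option autoImplicit false

namespace Cfsg.Agent.Helper89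

open Cfsg

universe u

/-- Hall's theorem (the statement S5561) as a hypothesis, for groups in universe `u`. -/
def HallHyp : Prop :=
  ∀ (H : Type u) [Group H] [Finite H] (d : H), orderOf d = 2 →
    (∀ a ∈ conjugatesOf d, ∀ b ∈ conjugatesOf d, ∃ k : ℕ, orderOf (a * b) = 3 ^ k) →
    ∀ a ∈ conjugatesOf d, ∀ b ∈ conjugatesOf d, a * b ∈ Cfsg.pCore 3 H

section

variable {G : Type u} [Group G] {D : Set G}

/-- Width one means that different members of `D` never commute. -/
theorem commutingWidth_eq_one_iff [Finite G] {d : G} (hd : d ∈ D) :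
    commutingWidth D = 1 ↔ ∀ a ∈ D, ∀ b ∈ D, Commute a b → a = b := by
  have hbdd : BddAbove {n : ℕ | ∃ E : Set G, E ⊆ D ∧ E.Finite ∧
      (∀ a ∈ E, ∀ b ∈ E, Commute a b) ∧ E.ncard = n} := by
    refine ⟨Nat.card G, ?_⟩
    rintro n ⟨E, -, -, -, rfl⟩
    rw [← Set.ncard_univ]
    exact Set.ncard_le_ncard (Set.subset_univ _) (Set.toFinite _)
  constructor
  · intro hw a ha b hb hab
    by_contra hne
    have h2 : 2 ∈ {n : ℕ | ∃ E : Set G, E ⊆ D ∧ E.Finite ∧
        (∀ a ∈ E, ∀ b ∈ E, Commute a b) ∧ E.ncard = n} := by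
      refine ⟨{a, b}, ?_, Set.toFinite _, ?_, Set.ncard_pair hne⟩
      · rintro x (rfl | rfl)
        · exact ha
        · exact hb
      · rintro x (rfl | rfl) y (rfl | rfl)
        · exact Commute.refl _
        · exact hab
        · exact hab.symm
        · exact Commute.refl _
    have := le_csSup hbdd h2
    unfold commutingWidth at hw
    omega
  · intro h
    unfold commutingWidth
    apply IsGreatest.csSup_eq
    constructor
    · refine ⟨{d}, ?_, Set.toFinite _, ?_, Set.ncard_singleton d⟩
      · rintro x rfl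
        exact hd
      · rintro x rfl y rfl
        exact Commute.refl _
    · rintro n ⟨E, hED, hEfin, hEcomm, rfl⟩
      rw [Set.ncard_le_one hEfin]
      intro a ha b hb
      exact h a (hED ha) b (hED hb) (hEcomm a ha b hb)

/-- In a 3-transposition set, `b = (a b) a (a b)⁻¹` for non-commuting `a`, `b`. -/
theorem conj_mul_eq_of_not_commute (hT : IsThreeTranspositionSet D) {a b : G} (ha : a ∈ D)
    (hb : b ∈ D) (h : ¬ Commute a b) : (a * b) * a * (a * b)⁻¹ = b := by
  have haa := sq_of_mem hT ha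
  have hbb := sq_of_mem hT hb
  have hainv : a⁻¹ = a := inv_eq_of_mul_eq_one_left haa
  have hbinv : b⁻¹ = b := inv_eq_of_mul_eq_one_left hbb
  have h3 := cube_of_not_commute hT ha hb h
  rw [mul_inv_rev, hainv, hbinv]
  -- a b a b a = b  from (ab)^3 = 1
  have h3' : a * b * (a * b) * (a * b) = 1 := by
    rw [← h3, pow_succ, pow_two]
  calc a * b * a * (b * a) = (a * b * (a * b) * (a * b)) * b := by
        simp only [mul_assoc]; rw [hbb, mul_one]
    _ = b := by rw [h3', one_mul]

/-- A member of `zpowers d` for an involution `d` is `1` or `d`. -/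
theorem eq_one_or_eq_of_mem_zpowers {d y : G} (hdd : d * d = 1) (hy : y ∈ Subgroup.zpowers d) :
    y = 1 ∨ y = d := by
  obtain ⟨k, rfl⟩ := Subgroup.mem_zpowers_iff.mp hy
  have hd2 : d ^ (2 : ℤ) = 1 := by
    rw [zpow_ofNat, pow_two]; exact hdd
  have hk : d ^ k = d ^ (k % 2) := by
    conv_lhs => rw [← Int.emod_add_mul_ediv k 2, zpow_add, zpow_mul, hd2, one_zpow, mul_one]
  rcases Int.emod_two_eq_zero_or_one k with h | h
  · left; rw [hk, h, zpow_zero]
  · right; rw [hk, h, zpow_one]

/-- If `G = ⟨d⟩ O_3(G)` then different members of `D` do not commute. -/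
theorem eq_of_commute_of_sup_pCore_eq_top (hT : IsThreeTranspositionSet D) {d : G} (hd : d ∈ D)
    (htop : Subgroup.zpowers d ⊔ pCore 3 G = ⊤) {a b : G} (ha : a ∈ D) (hb : b ∈ D)
    (hab : Commute a b) : a = b := by
  have hRn : (pCore 3 G).Normal := by
    have := Cfsg.Agent.Lib.pCore_characteristic (G := G) 3
    infer_instance
  have hR3 : IsPGroup 3 (pCore 3 G) := Cfsg.Agent.Lib.isPGroup_pCore 3
  have hdd := sq_of_mem hT hd
  have hdinv : d⁻¹ = d := inv_eq_of_mul_eq_one_left hdd
  -- every member of `D` lies in the coset `d R`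
  have key : ∀ x ∈ D, d * x ∈ pCore 3 G := by
    intro x hx
    have hxx := sq_of_mem hT hx
    have hxtop : x ∈ Subgroup.zpowers d ⊔ pCore 3 G := by rw [htop]; exact Subgroup.mem_top x
    rw [← SetLike.mem_coe, Subgroup.mul_normal, Set.mem_mul] at hxtop
    obtain ⟨y, hy, r, hr, rfl⟩ := hxtop
    rcases eq_one_or_eq_of_mem_zpowers hdd hy with rfl | rfl
    · exfalso
      rw [one_mul] at hxx hx
      obtain ⟨k, hk⟩ := hR3 ⟨r, hr⟩
      have hk' : r ^ (3 ^ k) = 1 := by
        have := congrArg Subtype.val hk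
        simpa using this
      have h2 : r ^ 2 = 1 := by rw [pow_two]; exact hxx
      have h1 := eq_one_of_pow_three_pow_of_sq hk' h2
      have h0 := hT.1 r hx
      rw [h1, orderOf_one] at h0
      omega
    · rw [← mul_assoc, hdd, one_mul]; exact hr
  have h1 : a * b ∈ pCore 3 G := by
    have h2 := (pCore 3 G).mul_mem ((pCore 3 G).inv_mem (key a ha)) (key b hb)
    have e : (d * a)⁻¹ * (d * b) = a * b := by
      rw [mul_inv_rev, inv_eq_of_mul_eq_one_left (sq_of_mem hT ha), hdinv]
      calc a * d * (d * b) = a * (d * d) * b := by simp only [mul_assoc]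
        _ = a * b := by rw [hdd, mul_one]
    rwa [e] at h2
  obtain ⟨k, hk⟩ := hR3 ⟨_, h1⟩
  have hk' : (a * b) ^ (3 ^ k) = 1 := by
    have := congrArg Subtype.val hk
    simpa using this
  have h2 : (a * b) ^ 2 = 1 :=
    mul_sq_eq_one_of_commute (sq_of_mem hT ha) (sq_of_mem hT hb) hab
  have h3 := eq_one_of_pow_three_pow_of_sq hk' h2
  have : a = b⁻¹ := eq_inv_of_mul_eq_one_left h3
  rw [this, inv_eq_of_mul_eq_one_left (sq_of_mem hT hb)]

/-- With no two different commuting members, `D` is the conjugacy class of each of its members. -/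
theorem eq_conjugatesOf_of_width_one (hT : IsThreeTranspositionSet D)
    (hconj : ∀ g : G, ∀ d ∈ D, g * d * g⁻¹ ∈ D)
    (hw : ∀ a ∈ D, ∀ b ∈ D, Commute a b → a = b) {d : G} (hd : d ∈ D) :
    D = conjugatesOf d := by
  ext x
  show x ∈ D ↔ IsConj d x
  rw [isConj_iff]
  constructor
  · intro hx
    by_cases hc : Commute d x
    · exact ⟨1, by rw [hw d hd x hx hc]; simp⟩
    · exact ⟨d * x, conj_mul_eq_of_not_commute hT hd hx hc⟩
  · rintro ⟨c, rfl⟩
    exact hconj c d hd

/-- Orders of products in a width-one set of 3-transpositions are powers of 3. -/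
theorem exists_orderOf_mul_eq_three_pow (hT : IsThreeTranspositionSet D)
    (hw : ∀ a ∈ D, ∀ b ∈ D, Commute a b → a = b) {a b : G} (ha : a ∈ D) (hb : b ∈ D) :
    ∃ k : ℕ, orderOf (a * b) = 3 ^ k := by
  have h3 : (a * b) ^ 3 = 1 := by
    by_cases hc : Commute a b
    · rw [← hw a ha b hb hc, sq_of_mem hT ha, one_pow]
    · exact cube_of_not_commute hT ha hb hc
  have hdvd : orderOf (a * b) ∣ 3 ^ 1 := by
    rw [pow_one]; exact orderOf_dvd_of_pow_eq_one h3
  obtain ⟨k, -, hk⟩ := (Nat.dvd_prime_pow Nat.prime_three).mp hdvd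
  exact ⟨k, hk⟩

/-- **Width one** (Hall): `D` has width one iff `G = ⟨d⟩ O_3(G)`. -/
theorem width_one_iff_of_hall [Finite G] (hall : HallHyp.{u}) (hD : IsThreeTranspositionGroup D)
    {d : G} (hd : d ∈ D) :
    commutingWidth D = 1 ↔ Subgroup.zpowers d ⊔ pCore 3 G = ⊤ := by
  obtain ⟨hT, hconj, hgen⟩ := hD
  rw [commutingWidth_eq_one_iff hd]
  constructor
  · intro hw
    have hcl := eq_conjugatesOf_of_width_one hT hconj hw hd
    have hH := hall G d (hT.1 d hd) (by
      intro a ha b hb
      rw [← hcl] at ha hb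
      exact exists_orderOf_mul_eq_three_pow hT hw ha hb)
    rw [eq_top_iff, ← hgen, Subgroup.closure_le]
    intro x hx
    have hdd := sq_of_mem hT hd
    have h1 : d * x ∈ pCore 3 G := hH d (by rw [← hcl]; exact hd) x (by rw [← hcl]; exact hx)
    have : x = d * (d * x) := by rw [← mul_assoc, hdd, one_mul]
    rw [SetLike.mem_coe, this]
    exact Subgroup.mul_mem _ (Subgroup.mem_sup_left (Subgroup.mem_zpowers d))
      (Subgroup.mem_sup_right h1)
  · intro htop a ha b hb hab
    exact eq_of_commute_of_sup_pCore_eq_top hT hd htop ha hb hab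

end

end Cfsg.Agent.Helper89
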