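import Mathlib
import Cfsg.Prelude.Def_FischerSpaces
import Cfsg.Agent.Helper89.LocS3Basic
import Cfsg.Agent.Helper89.TranspBlocks

/-!
# Rank three: `⟨C_D(d)⟩` is transitive on the non-commuting partners of `d` (helper89)

For a primitive class `D` of 3-transpositions with a commuting pair, the subgroup `M_d` generated by
the members of `D` commuting with `d` is transitive (by conjugation) on the set `A_d` of members not
commuting with `d`.  Consequently `M_d` is a maximal `D`-subgroup.
-/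

set_option autoImplicit false

namespace Cfsg.Agent.Helper89.Rank3

open Cfsg Equiv Cfsg.Agent.Helper89 Cfsg.Agent.Helper89.LocS3

variable {G : Type*} [Group G] {D : Set G}

/-- The subgroup generated by the members of `D` commuting with `d`. -/
def Md (D : Set G) (d : G) : Subgroup G := Subgroup.closure {y : G | y ∈ D ∧ Commute d y}

theorem mem_Md_of_commute {d y : G} (hy : y ∈ D) (h : Commute d y) : y ∈ Md D d :=
  Subgroup.subset_closure ⟨hy, h⟩

theorem commute_of_mem_Md {d g : G} (hg : g ∈ Md D d) : Commute g d := by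
  have hle : Md D d ≤ Subgroup.centralizer {d} := by
    unfold Md
    rw [Subgroup.closure_le]
    rintro y ⟨-, hy⟩
    rw [SetLike.mem_coe, Subgroup.mem_centralizer_iff]
    intro h hh
    rw [Set.mem_singleton_iff] at hh
    subst hh
    exact hy.eq
  have := Subgroup.mem_centralizer_iff.mp (hle hg) d rfl
  exact this.symm

/-- `x` and `y` are conjugate under `M_d`. -/
def SameOrb (D : Set G) (d x y : G) : Prop := ∃ g ∈ Md D d, g * x * g⁻¹ = y

theorem SameOrb.refl (d x : G) : SameOrb D d x x := ⟨1, Subgroup.one_mem _, by simp⟩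

theorem SameOrb.symm {d x y : G} (h : SameOrb D d x y) : SameOrb D d y x := by
  obtain ⟨g, hg, rfl⟩ := h
  exact ⟨g⁻¹, Subgroup.inv_mem _ hg, by group⟩

theorem SameOrb.trans {d x y z : G} (h1 : SameOrb D d x y) (h2 : SameOrb D d y z) :
    SameOrb D d x z := by
  obtain ⟨g, hg, rfl⟩ := h1
  obtain ⟨h, hh, rfl⟩ := h2
  exact ⟨h * g, Subgroup.mul_mem _ hh hg, by group⟩

theorem not_commute_conj_of_commute {d g x : G} (hg : Commute g d) (hx : ¬ Commute d x) :
    ¬ Commute d (g * x * g⁻¹) := by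
  intro hc
  apply hx
  have h1 : g * d * g⁻¹ = d := by rw [hg.eq]; group
  rw [← h1] at hc
  exact (Commute.conj_iff g).mp hc

theorem SameOrb.not_commute {d x y : G} (h : SameOrb D d x y) (hx : ¬ Commute d x) :
    ¬ Commute d y := by
  obtain ⟨g, hg, rfl⟩ := h
  exact not_commute_conj_of_commute (commute_of_mem_Md hg) hx

theorem SameOrb.mem (hconj : ∀ g : G, ∀ d ∈ D, g * d * g⁻¹ ∈ D) {d x y : G}
    (h : SameOrb D d x y) (hx : x ∈ D) : y ∈ D := by
  obtain ⟨g, -, rfl⟩ := h
  exact hconj g x hx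

/-- The members of `D` other than `d` commuting with both `d` and `x`. -/
def Ed (D : Set G) (d x : G) : Set G := {e | e ∈ D ∧ e ≠ d ∧ Commute d e ∧ Commute x e}

theorem Ed_conj (hconj : ∀ g : G, ∀ d ∈ D, g * d * g⁻¹ ∈ D) {d g : G} (hg : Commute g d) (x : G) :
    Ed D d (g * x * g⁻¹) = conjSet g (Ed D d x) := by
  have h1 : g * d * g⁻¹ = d := by rw [hg.eq]; group
  have h2 : g⁻¹ * d * g = d := by rw [mul_assoc, ← hg.eq]; group
  ext e
  rw [mem_conjSet]
  constructor
  · rintro ⟨he, hne, hde, hxe⟩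
    refine ⟨?_, ?_, ?_, ?_⟩
    · have := hconj g⁻¹ e he
      rwa [inv_inv] at this
    · intro h
      apply hne
      have : e = g * (g⁻¹ * e * g) * g⁻¹ := by group
      rw [this, h, h1]
    · have : Commute (g⁻¹ * d * g⁻¹⁻¹) (g⁻¹ * e * g⁻¹⁻¹) := (Commute.conj_iff g⁻¹).mpr hde
      rwa [inv_inv, h2] at this
    · have : Commute (g⁻¹ * (g * x * g⁻¹) * g⁻¹⁻¹) (g⁻¹ * e * g⁻¹⁻¹) :=
        (Commute.conj_iff g⁻¹).mpr hxe
      rw [inv_inv] at this
      have e1 : g⁻¹ * (g * x * g⁻¹) * g = x := by group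
      rwa [e1] at this
  · rintro ⟨he, hne, hde, hxe⟩
    have e1 : g * (g⁻¹ * e * g) * g⁻¹ = e := by group
    refine ⟨?_, ?_, ?_, ?_⟩
    · have := hconj g _ he
      rwa [e1] at this
    · intro h
      apply hne
      rw [h, h2]
    · have : Commute (g * d * g⁻¹) (g * (g⁻¹ * e * g) * g⁻¹) := (Commute.conj_iff g).mpr hde
      rwa [h1, e1] at this
    · have : Commute (g * x * g⁻¹) (g * (g⁻¹ * e * g) * g⁻¹) := (Commute.conj_iff g).mpr hxe
      rwa [e1] at this

theorem ncard_conjSet (g : G) (S : Set G) : (conjSet g S).ncard = S.ncard := by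
  unfold conjSet
  apply Set.ncard_image_of_injective
  intro x y h
  simpa using h

theorem Ed_ncard_conj (hconj : ∀ g : G, ∀ d ∈ D, g * d * g⁻¹ ∈ D) {d g : G} (hg : Commute g d)
    (x : G) : (Ed D d (g * x * g⁻¹)).ncard = (Ed D d x).ncard := by
  rw [Ed_conj hconj hg, ncard_conjSet]

theorem SameOrb.Ed_ncard (hconj : ∀ g : G, ∀ d ∈ D, g * d * g⁻¹ ∈ D) {d x y : G}
    (h : SameOrb D d x y) : (Ed D d y).ncard = (Ed D d x).ncard := by
  obtain ⟨g, hg, rfl⟩ := h
  exact Ed_ncard_conj hconj (commute_of_mem_Md hg) x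

/-- (P1) Commuting members of `A_d` are conjugate under `M_d`. -/
theorem sameOrb_of_commute (hD : IsThreeTranspositionSet D)
    (hconj : ∀ g : G, ∀ d ∈ D, g * d * g⁻¹ ∈ D) {d x y : G} (hd : d ∈ D) (hx : x ∈ D) (hy : y ∈ D)
    (hdx : ¬ Commute d x) (hdy : ¬ Commute d y) (hxy : Commute x y) (hne : x ≠ y) :
    SameOrb D d x y := by
  obtain ⟨φ, -, h0, h1, h2⟩ := Cfsg.Agent.S5344.result hD hx hd hy hne hxy
    (fun c => hdx c.symm) hdy
  have hxx := sq_of_mem hD hx
  have hyy := sq_of_mem hD hy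
  have hdd := sq_of_mem hD hd
  have hinv : (x * y)⁻¹ = x * y := by
    rw [mul_inv_rev, inv_eq_of_mul_eq_one_left hxx, inv_eq_of_mul_eq_one_left hyy, hxy.eq]
  have hw : (x * y) * d * (x * y) = φ (swap 0 3) := by
    have : (swap 0 3 : Perm (Fin 4)) = (swap 0 1 * swap 2 3) * swap 1 2 * (swap 0 1 * swap 2 3) := by
      decide
    rw [this]
    simp only [map_mul, h0, h1, h2]
  have hwD : (x * y) * d * (x * y) ∈ D := by
    have := hconj (x * y) d hd
    rwa [hinv] at this
  have hwc : Commute d ((x * y) * d * (x * y)) := by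
    rw [hw, ← h1]
    show φ _ * φ _ = φ _ * φ _
    rw [← map_mul, ← map_mul]
    congr 1
    decide
  refine ⟨(x * y) * d * (x * y) * d, Subgroup.mul_mem _ (mem_Md_of_commute hwD hwc)
    (mem_Md_of_commute hd (Commute.refl d)), ?_⟩
  have hg : (x * y) * d * (x * y) * d = φ (swap 0 3 * swap 1 2) := by
    rw [map_mul, ← hw, h1]
  rw [hg, ← h0, ← map_inv, ← map_mul, ← map_mul, ← h2]
  congr 1
  decide

/-- (P2) Two non-commuting members of `A_d` whose third point commutes with `d` are conjugate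
under `M_d`. -/
theorem sameOrb_of_third (hD : IsThreeTranspositionSet D)
    (hconj : ∀ g : G, ∀ d ∈ D, g * d * g⁻¹ ∈ D) {d x y : G} (hx : x ∈ D) (hy : y ∈ D)
    (hxy : ¬ Commute x y) (hz : Commute d (x * y * x)) : SameOrb D d x y := by
  have hxx := sq_of_mem hD hx
  have hyy := sq_of_mem hD hy
  have hzD : x * y * x ∈ D := conj_inv_mem hD hconj hx hy
  refine ⟨x * y * x, mem_Md_of_commute hzD hz, ?_⟩
  have hinv : (x * y * x)⁻¹ = x * y * x := by
    rw [mul_inv_rev, mul_inv_rev, inv_eq_of_mul_eq_one_left hxx, inv_eq_of_mul_eq_one_left hyy,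
      mul_assoc]
  rw [hinv]
  have hb := braid hD hx hy hxy
  calc x * y * x * x * (x * y * x) = x * y * (x * x) * (x * y * x) := by simp only [mul_assoc]
    _ = x * y * x * y * x := by rw [hxx, mul_one]; simp only [mul_assoc]
    _ = y * x * y * y * x := by rw [hb]
    _ = y * x * (y * y) * x := by simp only [mul_assoc]
    _ = y := by rw [hyy, mul_one, mul_assoc, hxx, mul_one]

/-- (P3) If `x, y ∈ A_d` are not conjugate under `M_d` and some `e ∈ C_D(d)` commutes with `y` but
not with `x`, then `x` is conjugate under `M_d` to the third point `y x y`. -/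
theorem sameOrb_third_of_mem_diff (hD : IsThreeTranspositionSet D)
    (hconj : ∀ g : G, ∀ d ∈ D, g * d * g⁻¹ ∈ D) {d x y e : G} (hd : d ∈ D) (hx : x ∈ D)
    (hy : y ∈ D) (hdx : ¬ Commute d x) (hdy : ¬ Commute d y) (hno : ¬ SameOrb D d x y)
    (he : e ∈ D) (hde : Commute d e) (hye : Commute y e) (hxe : ¬ Commute x e) :
    SameOrb D d x (y * x * y) := by
  have hxx := sq_of_mem hD hx
  have hyy := sq_of_mem hD hy
  have hee := sq_of_mem hD he
  have hne : x ≠ y := by
    rintro rfl
    exact hno (SameOrb.refl d x)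
  have hxy : ¬ Commute x y := fun c => hno (sameOrb_of_commute hD hconj hd hx hy hdx hdy c hne)
  have hb := braid hD hx hy hxy
  have hzD : y * x * y ∈ D := conj_inv_mem hD hconj hy hx
  have hdz : ¬ Commute d (y * x * y) := by
    intro c
    rw [← hb] at c
    exact hno (sameOrb_of_third hD hconj hx hy hxy c)
  -- `x' = e x e`
  have hx'D : e * x * e ∈ D := conj_inv_mem hD hconj he hx
  have h1 : SameOrb D d x (e * x * e) := by
    refine ⟨e, mem_Md_of_commute he hde, ?_⟩
    rw [inv_eq_of_mul_eq_one_left hee]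
  have hdx' : ¬ Commute d (e * x * e) := h1.not_commute hdx
  have hey : e ≠ y := by
    rintro rfl
    exact hdy hde
  obtain ⟨φ, hinj, h0, h1', h2⟩ := Cfsg.Agent.S5344.result hD he hx hy hey hye.symm
    (fun c => hxe c.symm) hxy
  have e1 : e * x * e = φ (swap 0 2) := by
    have : (swap 0 2 : Perm (Fin 4)) = swap 0 1 * swap 1 2 * swap 0 1 := by decide
    rw [this]
    simp only [map_mul, h0, h1']
  have e2 : y * x * y = φ (swap 1 3) := by
    have : (swap 1 3 : Perm (Fin 4)) = swap 2 3 * swap 1 2 * swap 2 3 := by decide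
    rw [this]
    simp only [map_mul, h2, h1']
  have hcomm : Commute (e * x * e) (y * x * y) := by
    rw [e1, e2]
    show φ _ * φ _ = φ _ * φ _
    rw [← map_mul, ← map_mul]
    congr 1
    decide
  have hne' : e * x * e ≠ y * x * y := by
    rw [e1, e2]
    intro h
    have := hinj h
    revert this
    decide
  exact h1.trans (sameOrb_of_commute hD hconj hd hx'D hzD hdx' hdz hcomm hne')

/-- (P4) The centralizer of `d` is a maximal subgroup: a set invariant under the centralizer of `d`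
and under one involution not commuting with `d` is invariant under all of `G`. -/
theorem invariant_of_primitive (hconj : ∀ g : G, ∀ d ∈ D, g * d * g⁻¹ ∈ D)
    (hprim : IsPrimitiveUnderConj D) {d : G} (hd : d ∈ D) (Λ : Set G)
    (hC : ∀ g : G, Commute g d → ∀ z ∈ Λ, g * z * g⁻¹ ∈ Λ) {y : G} (hyd : ¬ Commute y d)
    (hyy : y * y = 1) (hy : ∀ z ∈ Λ, y * z * y ∈ Λ) : ∀ g : G, ∀ z ∈ Λ, g * z * g⁻¹ ∈ Λ := by
  classical
  have hyinv : y⁻¹ = y := inv_eq_of_mul_eq_one_left hyy
  -- the stabilizer of `Λ`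
  let S : Subgroup G :=
    { carrier := {g | ∀ z, g * z * g⁻¹ ∈ Λ ↔ z ∈ Λ}
      one_mem' := by intro z; simp
      mul_mem' := by
        intro a b ha hb z
        have : a * b * z * (a * b)⁻¹ = a * (b * z * b⁻¹) * a⁻¹ := by group
        rw [this, ha, hb]
      inv_mem' := by
        intro a ha z
        rw [← ha (a⁻¹ * z * a⁻¹⁻¹)]
        have : a * (a⁻¹ * z * a⁻¹⁻¹) * a⁻¹ = z := by group
        rw [this] }
  have hS : ∀ g, g ∈ S ↔ ∀ z, g * z * g⁻¹ ∈ Λ ↔ z ∈ Λ := fun g => Iff.rfl
  have hCS : ∀ g : G, Commute g d → g ∈ S := by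
    intro g hg
    rw [hS]
    intro z
    constructor
    · intro h
      have := hC g⁻¹ hg.inv_left _ h
      have e : g⁻¹ * (g * z * g⁻¹) * g⁻¹⁻¹ = z := by group
      rwa [e] at this
    · exact hC g hg z
  have hyS : y ∈ S := by
    rw [hS]
    intro z
    rw [hyinv]
    constructor
    · intro h
      have := hy _ h
      have e : y * (y * z * y) * y = (y * y) * z * (y * y) := by simp only [mul_assoc]
      rwa [e, hyy, one_mul, mul_one] at this
    · exact hy z
  -- the block `d ^ S`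
  obtain ⟨B, hBdef⟩ : ∃ B : Set G, B = {t | ∃ s ∈ S, t = s * d * s⁻¹} := ⟨_, rfl⟩
  have hBD : B ⊆ D := by
    rw [hBdef]
    rintro t ⟨s, -, rfl⟩
    exact hconj s d hd
  have key : ∀ g s s' : G, s ∈ S → s' ∈ S → g * (s * d * s⁻¹) * g⁻¹ = s' * d * s'⁻¹ → g ∈ S := by
    intro g s s' hs hs' h
    have hc : Commute (s'⁻¹ * g * s) d := by
      show s'⁻¹ * g * s * d = d * (s'⁻¹ * g * s)
      have : s'⁻¹ * g * s * d = s'⁻¹ * (g * (s * d * s⁻¹) * g⁻¹) * g * s := by group
      rw [this, h]
      group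
    have h2 := hCS _ hc
    have : g = s' * (s'⁻¹ * g * s) * s⁻¹ := by group
    rw [this]
    exact S.mul_mem (S.mul_mem hs' h2) (S.inv_mem hs)
  have hblock : ∀ g : G, (fun x => g * x * g⁻¹) '' B = B ∨
      Disjoint ((fun x => g * x * g⁻¹) '' B) B := by
    intro g
    by_cases hdis : Disjoint ((fun x => g * x * g⁻¹) '' B) B
    · exact Or.inr hdis
    · left
      rw [Set.not_disjoint_iff] at hdis
      obtain ⟨u, ⟨t, ht, rfl⟩, hu⟩ := hdis
      rw [hBdef] at ht hu
      obtain ⟨s, hs, rfl⟩ := ht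
      obtain ⟨s', hs', hu⟩ := hu
      have hgS : g ∈ S := key g s s' hs hs' hu
      rw [hBdef]
      ext v
      constructor
      · rintro ⟨_, ⟨r, hr, rfl⟩, rfl⟩
        exact ⟨g * r, S.mul_mem hgS hr, by group⟩
      · rintro ⟨r, hr, rfl⟩
        exact ⟨g⁻¹ * r * d * (g⁻¹ * r)⁻¹, ⟨g⁻¹ * r, S.mul_mem (S.inv_mem hgS) hr, rfl⟩, by group⟩
  have hdB : d ∈ B := by
    rw [hBdef]
    exact ⟨1, S.one_mem, by simp⟩
  have hydB : y * d * y⁻¹ ∈ B := by
    rw [hBdef]
    exact ⟨y, hyS, rfl⟩
  have hBtop : B = D := by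
    rcases hprim.2.2 B hBD hblock with h | h
    · exfalso
      apply hyd
      have := h hydB hdB
      show y * d = d * y
      calc y * d = y * d * y⁻¹ * y := by group
        _ = d * y := by rw [this]
    · exact h
  have hall : ∀ g : G, g ∈ S := by
    intro g
    have : g * d * g⁻¹ ∈ B := by rw [hBtop]; exact hconj g d hd
    rw [hBdef] at this
    obtain ⟨s, hs, h⟩ := this
    have h' : g * (1 * d * 1⁻¹) * g⁻¹ = s * d * s⁻¹ := by simpa using h
    exact key g 1 s S.one_mem hs h'
  intro g z hz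
  exact ((hS g).mp (hall g) z).mpr hz

/-- A conjugation-invariant equivalence relation has blocks as its classes; under primitivity a
class with two members is everything. -/
theorem block_of_invariant_rel (hconj : ∀ g : G, ∀ d ∈ D, g * d * g⁻¹ ∈ D)
    (hprim : IsPrimitiveUnderConj D) (R : G → G → Prop) (hsymm : ∀ a b, R a b → R b a)
    (htrans : ∀ a b c, R a b → R b c → R a c)
    (hinv : ∀ g a b, R a b → R (g * a * g⁻¹) (g * b * g⁻¹)) {d f : G} (hd : d ∈ D) (hf : f ∈ D)
    (hdf : d ≠ f) (hR : R d f) : ∀ t ∈ D, R d t := by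
  obtain ⟨B, hBdef⟩ : ∃ B : Set G, B = {t | t ∈ D ∧ R d t} := ⟨_, rfl⟩
  have hBD : B ⊆ D := by
    rw [hBdef]
    exact fun t ht => ht.1
  have hblock : ∀ g : G, (fun x => g * x * g⁻¹) '' B = B ∨
      Disjoint ((fun x => g * x * g⁻¹) '' B) B := by
    intro g
    by_cases hdis : Disjoint ((fun x => g * x * g⁻¹) '' B) B
    · exact Or.inr hdis
    · left
      rw [Set.not_disjoint_iff] at hdis
      obtain ⟨u, ⟨t, ht, rfl⟩, hu⟩ := hdis
      rw [hBdef] at ht hu
      obtain ⟨htD, hdt⟩ := ht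
      obtain ⟨-, hdu⟩ := hu
      rw [hBdef]
      ext v
      constructor
      · rintro ⟨s, ⟨hsD, hds⟩, rfl⟩
        refine ⟨hconj g s hsD, ?_⟩
        have h1 : R t s := htrans _ _ _ (hsymm _ _ hdt) hds
        exact htrans _ _ _ hdu (hinv g _ _ h1)
      · rintro ⟨hvD, hdv⟩
        refine ⟨g⁻¹ * v * g, ⟨?_, ?_⟩, by group⟩
        · have := hconj g⁻¹ v hvD
          rwa [inv_inv] at this
        · have h1 : R (g * t * g⁻¹) v := htrans _ _ _ (hsymm _ _ hdu) hdv
          have h2 := hinv g⁻¹ _ _ h1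
          have e : g⁻¹ * (g * t * g⁻¹) * g⁻¹⁻¹ = t := by group
          rw [e, inv_inv] at h2
          exact htrans _ _ _ hdt h2
  have hrefl : R d d := htrans _ _ _ hR (hsymm _ _ hR)
  have hdB : d ∈ B := by rw [hBdef]; exact ⟨hd, hrefl⟩
  have hfB : f ∈ B := by rw [hBdef]; exact ⟨hf, hR⟩
  rcases hprim.2.2 B hBD hblock with h | h
  · exact absurd (h hdB hfB) hdf
  · intro t ht
    have : t ∈ B := by rw [h]; exact ht
    rw [hBdef] at this
    exact this.2

section Main

variable [Finite G]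

/-- Step A: all the sets `E_z`, `z ∈ A_d`, have the same size. -/
theorem Ed_ncard_const (hD : IsThreeTranspositionSet D)
    (hconj : ∀ g : G, ∀ d ∈ D, g * d * g⁻¹ ∈ D) (hprim : IsPrimitiveUnderConj D) {d : G}
    (hd : d ∈ D) {x y : G} (hx : x ∈ D) (hdx : ¬ Commute d x) (hy : y ∈ D) (hdy : ¬ Commute d y) :
    (Ed D d x).ncard = (Ed D d y).ncard := by
  classical
  obtain ⟨A, hAdef⟩ : ∃ A : Set G, A = {z | z ∈ D ∧ ¬ Commute d z} := ⟨_, rfl⟩
  have hxA : x ∈ A := by rw [hAdef]; exact ⟨hx, hdx⟩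
  obtain ⟨x0, hx0A, hmin⟩ := Set.exists_min_image A (fun z => (Ed D d z).ncard) (Set.toFinite A)
    ⟨x, hxA⟩
  have hx0 : x0 ∈ D ∧ ¬ Commute d x0 := by rw [hAdef] at hx0A; exact hx0A
  suffices h : ∀ z, z ∈ D → ¬ Commute d z → (Ed D d z).ncard = (Ed D d x0).ncard by
    rw [h x hx hdx, h y hy hdy]
  intro y hy hdy
  by_contra hne
  have hlt : (Ed D d x0).ncard < (Ed D d y).ncard := by
    have := hmin y (by rw [hAdef]; exact ⟨hy, hdy⟩)
    exact lt_of_le_of_ne this (Ne.symm hne)
  obtain ⟨Λ, hΛdef⟩ : ∃ Λ : Set G,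
    Λ = {z | z ∈ D ∧ ¬ Commute d z ∧ (Ed D d z).ncard = (Ed D d x0).ncard} := ⟨_, rfl⟩
  have hyy := sq_of_mem hD hy
  have hinvΛ := invariant_of_primitive hconj hprim hd Λ (y := y) ?_ (fun c => hdy c.symm) hyy ?_
  · -- `Λ` is invariant, hence contains `d`
    obtain ⟨g, hg⟩ := hprim.1 x0 hx0.1 d hd
    have hx0Λ : x0 ∈ Λ := by rw [hΛdef]; exact ⟨hx0.1, hx0.2, rfl⟩
    have := hinvΛ g x0 hx0Λ
    rw [hg, hΛdef] at this
    exact this.2.1 (Commute.refl d)
  · intro g hg z hz
    rw [hΛdef] at hz ⊢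
    obtain ⟨hzD, hdz, hzc⟩ := hz
    exact ⟨hconj g z hzD, not_commute_conj_of_commute hg hdz, by
      rw [Ed_ncard_conj hconj hg, hzc]⟩
  · intro z hz
    rw [hΛdef] at hz ⊢
    obtain ⟨hzD, hdz, hzc⟩ := hz
    have hno : ¬ SameOrb D d z y := by
      intro h
      have := h.Ed_ncard hconj
      omega
    have hex : ∃ e, e ∈ Ed D d y ∧ e ∉ Ed D d z := by
      by_contra hcon
      push Not at hcon
      have := Set.ncard_le_ncard (s := Ed D d y) (t := Ed D d z) hcon (Set.toFinite _)
      omega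
    obtain ⟨e, ⟨heD, hed, hde, hye⟩, hez⟩ := hex
    have hze : ¬ Commute z e := fun c => hez ⟨heD, hed, hde, c⟩
    have h3 := sameOrb_third_of_mem_diff hD hconj hd hzD hy hdz hdy hno heD hde hye hze
    exact ⟨h3.mem hconj hzD, h3.not_commute hdz, by rw [h3.Ed_ncard hconj, hzc]⟩

/-- Step B: members of `A_d` in different `M_d`-orbits have the same set `E`. -/
theorem Ed_eq_of_not_sameOrb (hD : IsThreeTranspositionSet D)
    (hconj : ∀ g : G, ∀ d ∈ D, g * d * g⁻¹ ∈ D) (hprim : IsPrimitiveUnderConj D) {d : G}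
    (hd : d ∈ D) {x y : G} (hx : x ∈ D) (hdx : ¬ Commute d x) (hy : y ∈ D) (hdy : ¬ Commute d y)
    (hno : ¬ SameOrb D d x y) : Ed D d x = Ed D d y := by
  by_contra hne
  have hcard := Ed_ncard_const hD hconj hprim hd hx hdx hy hdy
  have hne' : x ≠ y := by
    rintro rfl
    exact hno (SameOrb.refl d x)
  have hxy : ¬ Commute x y := fun c => hno (sameOrb_of_commute hD hconj hd hx hy hdx hdy c hne')
  have hb := braid hD hx hy hxy
  have h1 : ∃ e, e ∈ Ed D d y ∧ e ∉ Ed D d x := by
    by_contra hcon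
    push Not at hcon
    have := Set.eq_of_subset_of_ncard_le (s := Ed D d y) (t := Ed D d x) hcon (le_of_eq hcard)
      (Set.toFinite _)
    exact hne this.symm
  have h2 : ∃ e, e ∈ Ed D d x ∧ e ∉ Ed D d y := by
    by_contra hcon
    push Not at hcon
    have := Set.eq_of_subset_of_ncard_le (s := Ed D d x) (t := Ed D d y) hcon (le_of_eq hcard.symm)
      (Set.toFinite _)
    exact hne this
  obtain ⟨e, ⟨heD, hed, hde, hye⟩, hex⟩ := h1
  obtain ⟨e', ⟨heD', hed', hde', hxe'⟩, hey'⟩ := h2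
  have hxe : ¬ Commute x e := fun c => hex ⟨heD, hed, hde, c⟩
  have hye' : ¬ Commute y e' := fun c => hey' ⟨heD', hed', hde', c⟩
  have h3 := sameOrb_third_of_mem_diff hD hconj hd hx hy hdx hdy hno heD hde hye hxe
  have h4 := sameOrb_third_of_mem_diff hD hconj hd hy hx hdy hdx (fun h => hno h.symm)
    heD' hde' hxe' hye'
  rw [hb] at h4
  exact hno (h3.trans h4.symm)

/-- **Rank three.** For a primitive class of 3-transpositions with a commuting pair, `M_d` is
transitive on the members of `D` not commuting with `d`. -/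
theorem sameOrb_all (hD : IsThreeTranspositionSet D)
    (hconj : ∀ g : G, ∀ d ∈ D, g * d * g⁻¹ ∈ D) (hprim : IsPrimitiveUnderConj D)
    (hw : ∃ a ∈ D, ∃ b ∈ D, a ≠ b ∧ Commute a b) {d : G}
    (hd : d ∈ D) {x y : G} (hx : x ∈ D) (hdx : ¬ Commute d x) (hy : y ∈ D) (hdy : ¬ Commute d y) :
    SameOrb D d x y := by
  classical
  by_contra hno
  -- Step C: all `E_z` coincide
  have hC : ∀ z, z ∈ D → ¬ Commute d z → Ed D d z = Ed D d x := by
    intro z hz hdz
    by_cases h : SameOrb D d z x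
    · have h' : ¬ SameOrb D d z y := fun h' => hno (h.symm.trans h')
      rw [Ed_eq_of_not_sameOrb hD hconj hprim hd hz hdz hy hdy h',
        ← Ed_eq_of_not_sameOrb hD hconj hprim hd hx hdx hy hdy hno]
    · exact Ed_eq_of_not_sameOrb hD hconj hprim hd hz hdz hx hdx h
  have hxx := sq_of_mem hD hx
  by_cases hcase : ∀ f, f ∈ Dd D d → f ∈ Ed D d x
  · -- Case 1: `D_d` is invariant under `C(d)` and `x`
    have hinv := invariant_of_primitive hconj hprim hd (Dd D d) (y := x) ?_
      (fun c => hdx c.symm) hxx ?_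
    · obtain ⟨a, ha, b, hb, hab, hcomm⟩ := hw
      obtain ⟨g, hg⟩ := hprim.1 a ha d hd
      have hb' : g * b * g⁻¹ ∈ Dd D d := by
        refine ⟨hconj g b hb, ?_, ?_⟩
        · rw [← hg]
          intro h
          apply hab
          have := mul_left_cancel (mul_right_cancel h)
          exact this.symm
        · rw [← hg]
          exact (Commute.conj_iff g).mpr hcomm
      obtain ⟨g', hg'⟩ := hprim.1 _ hb'.1 d hd
      have := hinv g' _ hb'
      rw [hg'] at this
      exact this.2.1 rfl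
    · intro g hg z hz
      obtain ⟨hzD, hzd, hdz⟩ := hz
      have h1 : g * d * g⁻¹ = d := by rw [hg.eq]; group
      refine ⟨hconj g z hzD, ?_, ?_⟩
      · intro h
        apply hzd
        rw [← h1] at h
        exact mul_left_cancel (mul_right_cancel h)
      · have : Commute (g * d * g⁻¹) (g * z * g⁻¹) := (Commute.conj_iff g).mpr hdz
        rwa [h1] at this
    · intro z hz
      have hzE := hcase z hz
      have hxz : Commute x z := hzE.2.2.2
      have : x * z * x = z := by rw [hxz.eq, mul_assoc, hxx, mul_one]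
      rw [this]
      exact hz
  · -- Case 2: some `f ∈ D_d` commutes with no member of `A_d`
    push Not at hcase
    obtain ⟨f, ⟨hfD, hfd, hdf⟩, hfE⟩ := hcase
    have hAf : ∀ z, z ∈ D → ¬ Commute d z → ¬ Commute f z := by
      intro z hz hdz c
      apply hfE
      rw [← hC z hz hdz]
      exact ⟨hfD, hfd, hdf, c.symm⟩
    obtain ⟨g, hg⟩ := hprim.1 d hd f hfD
    have hsub : {z | z ∈ D ∧ ¬ Commute d z} ⊆ {z | z ∈ D ∧ ¬ Commute f z} :=
      fun z hz => ⟨hz.1, hAf z hz.1 hz.2⟩
    have himg : {z | z ∈ D ∧ ¬ Commute f z} = conjSet g {z | z ∈ D ∧ ¬ Commute d z} := by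
      ext z
      rw [mem_conjSet]
      constructor
      · rintro ⟨hzD, hfz⟩
        refine ⟨?_, ?_⟩
        · have := hconj g⁻¹ z hzD
          rwa [inv_inv] at this
        · intro c
          apply hfz
          have := (Commute.conj_iff g).mpr c
          have e : g * (g⁻¹ * z * g) * g⁻¹ = z := by group
          rwa [hg, e] at this
      · rintro ⟨hzD, hdz⟩
        have e : g * (g⁻¹ * z * g) * g⁻¹ = z := by group
        refine ⟨?_, ?_⟩
        · have := hconj g _ hzD
          rwa [e] at this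
        · intro c
          apply hdz
          rw [← hg, ← e] at c
          exact (Commute.conj_iff g).mp c
    have hcard : ({z | z ∈ D ∧ ¬ Commute f z} : Set G).ncard
        ≤ ({z | z ∈ D ∧ ¬ Commute d z} : Set G).ncard := by
      rw [himg, ncard_conjSet]
    have heq := Set.eq_of_subset_of_ncard_le hsub hcard (Set.toFinite _)
    have hR : ∀ t ∈ D, (Commute d t ↔ Commute f t) := by
      intro t ht
      constructor
      · intro c
        by_contra hft
        have : t ∈ {z | z ∈ D ∧ ¬ Commute d z} := by rw [heq]; exact ⟨ht, hft⟩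
        exact this.2 c
      · intro c
        by_contra hdt
        exact hAf t ht hdt c
    have hall := block_of_invariant_rel hconj hprim
      (fun a b : G => ∀ t ∈ D, (Commute a t ↔ Commute b t))
      (fun a b h t ht => (h t ht).symm)
      (fun a b c h1 h2 t ht => (h1 t ht).trans (h2 t ht))
      (by
        intro g a b h t ht
        have ht' : g⁻¹ * t * g ∈ D := by
          have := hconj g⁻¹ t ht
          rwa [inv_inv] at this
        have e : g * (g⁻¹ * t * g) * g⁻¹ = t := by group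
        have h1 := h _ ht'
        have ha : Commute (g * a * g⁻¹) t ↔ Commute a (g⁻¹ * t * g) := by
          conv_lhs => rw [← e]
          exact Commute.conj_iff g
        have hb : Commute (g * b * g⁻¹) t ↔ Commute b (g⁻¹ * t * g) := by
          conv_lhs => rw [← e]
          exact Commute.conj_iff g
        rw [ha, hb]
        exact h1)
      hd hfD (Ne.symm hfd) hR
    have := (hall x hx x hx).mpr (Commute.refl x)
    exact hdx this

end Main

end Cfsg.Agent.Helper89.Rank3
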