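import Mathlib
import Cfsg.Prelude.Def_FischerSpaces
import Cfsg.Agent.Helper89.TranspRank3
import Cfsg.Agent.Helper89.TranspHall

/-!
# The commuting partners of a 3-transposition form one class of the subgroup they generate

Let `D` be a class of 3-transpositions on which `G = ⟨D⟩` acts primitively, with a commuting pair.
For `d ∈ D` the non-commuting graph on `D_d` (the members of `D` other than `d` commuting with `d`)
is connected; hence `D_d` is a single conjugacy class of `⟨D_d⟩`.

Proof.  By the rank three lemma `⟨C_D(d)⟩` is transitive on `A_d`, and it fixes each connected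
component of `D_d`; so each `e ∈ A_d` fails to commute with some member of each component (else a
component would be `G`-invariant).  If `a, b ∈ D_d` lie in different components, then `d` and `b` are
connected inside `D_a` (through some `e ∈ A_d ∩ D_a`).  Now take `e ∈ A_d ∩ D_b` and `a'` in the
component of `a` not commuting with `e`: the involution `(d a')^e` interchanges `d` and `a'` and
fixes `b`, so it carries "`d`, `b` connected in `D_{a'}`" to "`a'`, `b` connected in `D_d`".
-/

set_option autoImplicit false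

namespace Cfsg.Agent.Helper89.LocalClass

open Cfsg Cfsg.Agent.Helper89 Cfsg.Agent.Helper89.LocS3 Cfsg.Agent.Helper89.Rank3

variable {G : Type*} [Group G] {D : Set G}

/-- Adjacency in the non-commuting graph on `D_d`. -/
def NcAdj (D : Set G) (d x y : G) : Prop := x ∈ Dd D d ∧ y ∈ Dd D d ∧ ¬ Commute x y

/-- Connectedness in the non-commuting graph on `D_d`. -/
def NcConn (D : Set G) (d x y : G) : Prop := Relation.ReflTransGen (NcAdj D d) x y

theorem NcAdj.symm {d x y : G} (h : NcAdj D d x y) : NcAdj D d y x :=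
  ⟨h.2.1, h.1, fun c => h.2.2 c.symm⟩

theorem NcConn.refl (d x : G) : NcConn D d x x := Relation.ReflTransGen.refl

theorem NcConn.trans {d x y z : G} (h1 : NcConn D d x y) (h2 : NcConn D d y z) : NcConn D d x z :=
  Relation.ReflTransGen.trans h1 h2

theorem NcConn.of_adj {d x y : G} (h : NcAdj D d x y) : NcConn D d x y :=
  Relation.ReflTransGen.single h

theorem NcConn.symm {d x y : G} (h : NcConn D d x y) : NcConn D d y x := by
  induction h with
  | refl => exact NcConn.refl _ _
  | tail _ h2 ih => exact (NcConn.of_adj h2.symm).trans ih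

theorem NcConn.mem {d x y : G} (h : NcConn D d x y) (hx : x ∈ Dd D d) : y ∈ Dd D d := by
  induction h with
  | refl => exact hx
  | tail _ h2 _ => exact h2.2.1

/-- Equivariance of connectedness. -/
theorem NcConn.conj (hconj : ∀ g : G, ∀ d ∈ D, g * d * g⁻¹ ∈ D) {d x y : G}
    (h : NcConn D d x y) (g : G) : NcConn D (g * d * g⁻¹) (g * x * g⁻¹) (g * y * g⁻¹) := by
  induction h with
  | refl => exact NcConn.refl _ _
  | tail _ h2 ih =>
    refine ih.trans (NcConn.of_adj ⟨conj_mem_Dd hconj g h2.1, conj_mem_Dd hconj g h2.2.1, ?_⟩)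
    intro c
    exact h2.2.2 ((Commute.conj_iff g).mp c)

/-- Connected members of `D_d` are conjugate under `⟨D_d⟩`. -/
theorem exists_conj_of_ncConn (hT : IsThreeTranspositionSet D) {d x y : G}
    (h : NcConn D d x y) : ∃ g ∈ Subgroup.closure (Dd D d), g * x * g⁻¹ = y := by
  induction h with
  | refl => exact ⟨1, Subgroup.one_mem _, by simp⟩
  | @tail u v _ h2 ih =>
    obtain ⟨g, hg, rfl⟩ := ih
    refine ⟨(g * x * g⁻¹ * v) * g, Subgroup.mul_mem _
      (Subgroup.mul_mem _ (Subgroup.subset_closure h2.1) (Subgroup.subset_closure h2.2.1)) hg, ?_⟩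
    have := conj_mul_eq_of_not_commute hT h2.1.1 h2.2.1.1 h2.2.2
    calc (g * x * g⁻¹ * v) * g * x * ((g * x * g⁻¹ * v) * g)⁻¹
        = (g * x * g⁻¹ * v) * (g * x * g⁻¹) * (g * x * g⁻¹ * v)⁻¹ := by group
      _ = v := this

/-- Conjugation by an element commuting with `d` preserves `D_d`. -/
theorem conj_mem_Dd_of_commute (hconj : ∀ g : G, ∀ d ∈ D, g * d * g⁻¹ ∈ D) {d g x : G}
    (hg : Commute g d) (hx : x ∈ Dd D d) : g * x * g⁻¹ ∈ Dd D d := by
  have h1 : g * d * g⁻¹ = d := by rw [hg.eq]; group
  have := conj_mem_Dd hconj g hx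
  rwa [h1] at this

/-- A member `y` of `D` commuting with `d` moves `x ∈ D_d` inside its component. -/
theorem ncConn_conj_gen (hT : IsThreeTranspositionSet D)
    (hconj : ∀ g : G, ∀ d ∈ D, g * d * g⁻¹ ∈ D) {d x y : G} (hx : x ∈ Dd D d) (hy : y ∈ D)
    (hdy : Commute d y) : NcConn D d x (y * x * y⁻¹) := by
  by_cases hyx : Commute y x
  · have : y * x * y⁻¹ = x := by rw [hyx.eq]; group
    rw [this]; exact NcConn.refl _ _
  · have hyd : y ≠ d := by
      rintro rfl
      exact hyx hx.2.2
    have hyDd : y ∈ Dd D d := ⟨hy, hyd, hdy⟩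
    have h1 : NcAdj D d x y := ⟨hx, hyDd, fun c => hyx c.symm⟩
    have h2 : NcAdj D d y (y * x * y⁻¹) :=
      ⟨hyDd, conj_mem_Dd_of_commute hconj hdy.symm hx, not_commute_cj_right hyx⟩
    exact (NcConn.of_adj h1).trans (NcConn.of_adj h2)

/-- `⟨C_D(d)⟩` fixes each component of `D_d`. -/
theorem ncConn_conj_of_mem_Md (hT : IsThreeTranspositionSet D)
    (hconj : ∀ g : G, ∀ d ∈ D, g * d * g⁻¹ ∈ D) {d g : G} (hg : g ∈ Md D d) :
    ∀ x ∈ Dd D d, NcConn D d x (g * x * g⁻¹) := by
  unfold Md at hg
  induction hg using Subgroup.closure_induction with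
  | mem y hy => exact fun x hx => ncConn_conj_gen hT hconj hx hy.1 hy.2
  | one => intro x _; simp only [one_mul, inv_one, mul_one]; exact NcConn.refl _ _
  | mul a b ha hb iha ihb =>
    intro x hx
    have hb' : b ∈ Md D d := hb
    have hxb : b * x * b⁻¹ ∈ Dd D d := conj_mem_Dd_of_commute hconj (commute_of_mem_Md hb') hx
    have e : a * b * x * (a * b)⁻¹ = a * (b * x * b⁻¹) * a⁻¹ := by group
    rw [e]
    exact (ihb x hx).trans (iha _ hxb)
  | inv a ha iha =>
    intro x hx
    have ha' : a ∈ Md D d := ha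
    have hcomm : Commute a⁻¹ d := (commute_of_mem_Md ha').inv_left
    have hxa : a⁻¹ * x * a⁻¹⁻¹ ∈ Dd D d := conj_mem_Dd_of_commute hconj hcomm hx
    have := iha _ hxa
    have e : a * (a⁻¹ * x * a⁻¹⁻¹) * a⁻¹ = x := by group
    rw [e] at this
    exact this.symm

section Prim

variable [Finite G]

/-- Every `e ∈ A_d` fails to commute with some member of each component of `D_d`. -/
theorem exists_not_commute_in_component (hT : IsThreeTranspositionSet D)
    (hconj : ∀ g : G, ∀ d ∈ D, g * d * g⁻¹ ∈ D) (hgen : Subgroup.closure D = ⊤)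
    (hprim : IsPrimitiveUnderConj D) (hw : ∃ a ∈ D, ∃ b ∈ D, a ≠ b ∧ Commute a b) {d x e : G}
    (hd : d ∈ D) (hx : x ∈ Dd D d) (he : e ∈ D) (hde : ¬ Commute d e) :
    ∃ y, NcConn D d x y ∧ ¬ Commute e y := by
  by_contra hcon
  push Not at hcon
  -- the component of `x` commutes with all of `A_d`
  have hA : ∀ e' ∈ D, ¬ Commute d e' → ∀ y, NcConn D d x y → Commute e' y := by
    intro e' he' hde' y hy
    obtain ⟨g, hg, rfl⟩ := sameOrb_all hT hconj hprim hw hd he hde he' hde'
    have hyD : y ∈ Dd D d := hy.mem hx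
    have hginv : g⁻¹ ∈ Md D d := Subgroup.inv_mem _ hg
    have h1 := ncConn_conj_of_mem_Md hT hconj hginv y hyD
    have h2 := hcon _ (hy.trans h1)
    have e1 : y = g * (g⁻¹ * y * g⁻¹⁻¹) * g⁻¹ := by group
    rw [e1, Commute.conj_iff]
    exact h2
  -- every member of `D` lies in the component or commutes with it
  have hall : ∀ z ∈ D, ∀ y, NcConn D d x y → NcConn D d x z ∨ Commute z y := by
    intro z hz y hy
    have hyD : y ∈ Dd D d := hy.mem hx
    by_cases hzd : z = d
    · right; rw [hzd]; exact hyD.2.2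
    by_cases hdz : Commute d z
    · by_cases hzy : Commute z y
      · exact Or.inr hzy
      · left
        exact hy.trans (NcConn.of_adj ⟨hyD, ⟨hz, hzd, hdz⟩, fun c => hzy c.symm⟩)
    · exact Or.inr (hA z hz hdz y hy)
  -- the component is invariant under every member of `D`
  have hinvD : ∀ z ∈ D, ∀ y, NcConn D d x y → NcConn D d x (z * y * z⁻¹) := by
    intro z hz y hy
    rcases hall z hz y hy with h | h
    · have hzD : z ∈ Dd D d := h.mem hx
      exact hy.trans (ncConn_conj_gen hT hconj (hy.mem hx) hz hzD.2.2)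
    · have : z * y * z⁻¹ = y := by rw [h.eq]; group
      rw [this]; exact hy
  have hinvG : ∀ g : G, ∀ y, NcConn D d x y ↔ NcConn D d x (g * y * g⁻¹) := by
    intro g
    have hg : g ∈ Subgroup.closure D := hgen ▸ Subgroup.mem_top g
    induction hg using Subgroup.closure_induction with
    | mem z hz =>
      intro y
      refine ⟨hinvD z hz y, fun h => ?_⟩
      have := hinvD z hz _ h
      have hzz := sq_of_mem hT hz
      have hzinv : z⁻¹ = z := inv_eq_of_mul_eq_one_left hzz
      have e1 : z * (z * y * z⁻¹) * z⁻¹ = y := by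
        rw [hzinv]
        calc z * (z * y * z) * z = (z * z) * y * (z * z) := by simp only [mul_assoc]
          _ = y := by rw [hzz, one_mul, mul_one]
      rwa [e1] at this
    | one => intro y; simp
    | mul a b _ _ iha ihb =>
      intro y
      have e : a * b * y * (a * b)⁻¹ = a * (b * y * b⁻¹) * a⁻¹ := by group
      rw [e, ← iha, ← ihb]
    | inv a _ iha =>
      intro y
      rw [iha (a⁻¹ * y * a⁻¹⁻¹)]
      have e : a * (a⁻¹ * y * a⁻¹⁻¹) * a⁻¹ = y := by group
      rw [e]
  obtain ⟨g, hg⟩ := hprim.1 x hx.1 d hd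
  have := (hinvG g x).mp (NcConn.refl _ _)
  rw [hg] at this
  exact (this.mem hx).2.1 rfl

/-- Some member of `A_d` commutes with a given `a ∈ D_d`. -/
theorem exists_mem_Ad_commute (hT : IsThreeTranspositionSet D)
    (hconj : ∀ g : G, ∀ d ∈ D, g * d * g⁻¹ ∈ D) (hgen : Subgroup.closure D = ⊤)
    (hprim : IsPrimitiveUnderConj D) {d a : G} (hd : d ∈ D) (ha : a ∈ Dd D d) :
    ∃ e ∈ D, ¬ Commute d e ∧ Commute a e := by
  by_contra hcon
  push Not at hcon
  -- `C_D(a) ⊆ C_D(d)`
  have hsub : {z | z ∈ D ∧ Commute a z} ⊆ {z | z ∈ D ∧ Commute d z} := by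
    rintro z ⟨hz, haz⟩
    refine ⟨hz, ?_⟩
    by_contra hdz
    exact hcon z hz hdz haz
  obtain ⟨g, hg⟩ := hprim.1 d hd a ha.1
  have hcard : {z | z ∈ D ∧ Commute d z}.ncard ≤ {z | z ∈ D ∧ Commute a z}.ncard := by
    have himg : {z | z ∈ D ∧ Commute a z} = conjSet g {z | z ∈ D ∧ Commute d z} := by
      ext z
      rw [mem_conjSet]
      simp only [Set.mem_setOf_eq]
      constructor
      · rintro ⟨hz, haz⟩
        refine ⟨?_, ?_⟩
        · have := hconj g⁻¹ z hz
          rwa [inv_inv] at this
        · rw [← hg] at haz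
          have e1 : z = g * (g⁻¹ * z * g) * g⁻¹ := by group
          rw [e1, Commute.conj_iff] at haz
          exact haz
      · rintro ⟨hz, hdz⟩
        refine ⟨?_, ?_⟩
        · have := hconj g _ hz
          have e1 : g * (g⁻¹ * z * g) * g⁻¹ = z := by group
          rwa [e1] at this
        · rw [← hg]
          have e1 : z = g * (g⁻¹ * z * g) * g⁻¹ := by group
          rw [e1, Commute.conj_iff]
          exact hdz
    rw [himg, ncard_conjSet]
  have heq := Set.eq_of_subset_of_ncard_le hsub hcard (Set.toFinite _)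
  -- same centralizers in `D`: a block
  have hR : ∀ z ∈ D, Commute d z ↔ Commute a z := by
    intro z hz
    constructor
    · intro h
      have : z ∈ {z | z ∈ D ∧ Commute d z} := ⟨hz, h⟩
      rw [← heq] at this
      exact this.2
    · intro h
      exact (hsub ⟨hz, h⟩).2
  have hblock := block_of_invariant_rel hconj hprim
    (fun u v => ∀ z ∈ D, Commute u z ↔ Commute v z)
    (fun u v h z hz => (h z hz).symm)
    (fun u v w h1 h2 z hz => (h1 z hz).trans (h2 z hz))
    (fun g u v h z hz => by
      have hz' : g⁻¹ * z * g ∈ D := by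
        have := hconj g⁻¹ z hz
        rwa [inv_inv] at this
      have e1 : z = g * (g⁻¹ * z * g) * g⁻¹ := by group
      rw [e1, Commute.conj_iff, Commute.conj_iff]
      exact h _ hz')
    hd ha.1 (fun h => ha.2.1 h.symm) hR
  -- then `d` commutes with all of `D`, so `D = {d}`
  have hcomm : ∀ t ∈ D, Commute d t := by
    intro t ht
    have := (hblock t ht d hd).mp (Commute.refl d)
    exact this.symm
  have hcent : d ∈ Subgroup.center G := by
    have hle : Subgroup.closure D ≤ Subgroup.centralizer {d} := by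
      rw [Subgroup.closure_le]
      intro t ht
      rw [SetLike.mem_coe, Subgroup.mem_centralizer_iff]
      intro u hu
      rw [Set.mem_singleton_iff.mp hu]
      exact (hcomm t ht).eq
    rw [hgen] at hle
    rw [Subgroup.mem_center_iff]
    intro g
    exact (Subgroup.mem_centralizer_iff.mp (hle (Subgroup.mem_top g)) d (Set.mem_singleton d)).symm
  apply ha.2.1
  rw [← hg, Subgroup.mem_center_iff.mp hcent g, mul_inv_cancel_right]

/-- If `a, b ∈ D_d` lie in different components then `d` and `b` are connected inside `D_a`. -/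
theorem ncConn_of_not_ncConn (hT : IsThreeTranspositionSet D)
    (hconj : ∀ g : G, ∀ d ∈ D, g * d * g⁻¹ ∈ D) (hgen : Subgroup.closure D = ⊤)
    (hprim : IsPrimitiveUnderConj D) (hw : ∃ a ∈ D, ∃ b ∈ D, a ≠ b ∧ Commute a b) {d a b : G}
    (hd : d ∈ D) (ha : a ∈ Dd D d) (hb : b ∈ Dd D d) (hab : ¬ NcConn D d a b) :
    NcConn D a d b := by
  obtain ⟨e, he, hde, hae⟩ := exists_mem_Ad_commute hT hconj hgen hprim hd ha
  obtain ⟨b', hb', heb'⟩ := exists_not_commute_in_component hT hconj hgen hprim hw hd hb he hde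
  -- members of the component of `b` lie in `D_a`
  have hmem : ∀ y, NcConn D d b y → y ∈ Dd D a := by
    intro y hy
    have hyD : y ∈ Dd D d := hy.mem hb
    refine ⟨hyD.1, ?_, ?_⟩
    · rintro rfl
      exact hab hy.symm
    · by_contra hay
      apply hab
      exact (NcConn.of_adj ⟨ha, hyD, hay⟩).trans hy.symm
  -- connectedness transfers
  have hlift : ∀ y, NcConn D d b y → NcConn D a b y := by
    intro y hy
    induction hy with
    | refl => exact NcConn.refl _ _
    | @tail u v h1 h2 ih =>
      have h1' : NcConn D d b u := h1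
      exact ih.trans (NcConn.of_adj ⟨hmem u h1', hmem v (h1'.trans (NcConn.of_adj h2)), h2.2.2⟩)
  have hda : d ∈ Dd D a := mem_Dd_symm hd ha
  have hea : e ∈ Dd D a := by
    refine ⟨he, ?_, hae⟩
    rintro rfl
    exact hde ha.2.2
  have h1 : NcConn D a d e := NcConn.of_adj ⟨hda, hea, hde⟩
  have h2 : NcConn D a e b' := NcConn.of_adj ⟨hea, hmem b' hb', heb'⟩
  exact (h1.trans h2).trans (hlift b' hb').symm

/-- The involution `(d a)^e` interchanges `d` and `a`. -/
theorem swap_conj (hT : IsThreeTranspositionSet D) {d a e : G} (hd : d ∈ D) (ha : a ∈ D)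
    (he : e ∈ D) (hda : Commute d a) (hde : ¬ Commute d e) (hae : ¬ Commute a e) :
    (e * (d * a) * e⁻¹) * d * (e * (d * a) * e⁻¹)⁻¹ = a := by
  have hdd := sq_of_mem hT hd
  have haa := sq_of_mem hT ha
  have hee := sq_of_mem hT he
  have hdinv : d⁻¹ = d := inv_eq_of_mul_eq_one_left hdd
  have hainv : a⁻¹ = a := inv_eq_of_mul_eq_one_left haa
  have heinv : e⁻¹ = e := inv_eq_of_mul_eq_one_left hee
  have hb1 : e * d * e = d * e * d := braid hT he hd (fun c => hde c.symm)
  have hb2 : a * e * a = e * a * e := braid hT ha he hae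
  rw [mul_inv_rev, mul_inv_rev, mul_inv_rev, inv_inv, heinv, hdinv, hainv]
  calc e * (d * a) * e * d * (e * (a * d * e))
      = e * d * a * (e * d * e) * a * d * e := by simp only [mul_assoc]
    _ = e * d * a * (d * e * d) * a * d * e := by rw [hb1]
    _ = e * (d * a * d) * e * (d * a * d) * e := by simp only [mul_assoc]
    _ = e * a * e * a * e := by
        have : d * a * d = a := by rw [hda.eq, mul_assoc, hdd, mul_one]
        rw [this]
    _ = e * (a * e * a) * e := by simp only [mul_assoc]
    _ = e * (e * a * e) * e := by rw [hb2]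
    _ = (e * e) * a * (e * e) := by simp only [mul_assoc]
    _ = a := by rw [hee, one_mul, mul_one]

/-- **The non-commuting graph on `D_d` is connected.** -/
theorem ncConn_all (hT : IsThreeTranspositionSet D)
    (hconj : ∀ g : G, ∀ d ∈ D, g * d * g⁻¹ ∈ D) (hgen : Subgroup.closure D = ⊤)
    (hprim : IsPrimitiveUnderConj D) (hw : ∃ a ∈ D, ∃ b ∈ D, a ≠ b ∧ Commute a b) {d a b : G}
    (hd : d ∈ D) (ha : a ∈ Dd D d) (hb : b ∈ Dd D d) : NcConn D d a b := by
  by_contra hab
  have hba : ¬ NcConn D d b a := fun h => hab h.symm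
  obtain ⟨e, he, hde, hbe⟩ := exists_mem_Ad_commute hT hconj hgen hprim hd hb
  obtain ⟨a', ha', hea'⟩ := exists_not_commute_in_component hT hconj hgen hprim hw hd ha he hde
  have ha'D : a' ∈ Dd D d := ha'.mem ha
  have ha'b : ¬ NcConn D d a' b := fun h => hab (ha'.trans h)
  -- `b` commutes with `a'`
  have hba' : Commute b a' := by
    by_contra hnc
    exact ha'b (NcConn.of_adj ⟨ha'D, hb, fun c => hnc c.symm⟩)
  have hkey := ncConn_of_not_ncConn hT hconj hgen hprim hw hd ha'D hb ha'b
  -- the swapping involution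
  obtain ⟨g, hg⟩ : ∃ g, g = e * (d * a') * e⁻¹ := ⟨_, rfl⟩
  have hee := sq_of_mem hT he
  have hdd := sq_of_mem hT hd
  have haa' := sq_of_mem hT ha'D.1
  have hginv : g⁻¹ = g := by
    rw [hg, mul_inv_rev, mul_inv_rev, mul_inv_rev, inv_inv,
      inv_eq_of_mul_eq_one_left hdd, inv_eq_of_mul_eq_one_left haa', ha'D.2.2.eq]
    simp only [mul_assoc]
  have h1 : g * d * g⁻¹ = a' := by
    rw [hg]
    exact swap_conj hT hd ha'D.1 he ha'D.2.2 hde (fun c => hea' c.symm)
  have h2 : g * a' * g⁻¹ = d := by
    rw [← h1, hginv]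
    calc g * (g * d * g) * g = (g * g) * d * (g * g) := by simp only [mul_assoc]
      _ = d := by
        have : g * g = 1 := by
          nth_rewrite 1 [← hginv]
          exact inv_mul_cancel g
        rw [this, one_mul, mul_one]
  have h3 : g * b * g⁻¹ = b := by
    have hgb : Commute g b := by
      rw [hg]
      exact ((hbe.symm.mul_left (hb.2.2.mul_left hba'.symm)).mul_left hbe.symm.inv_left)
    rw [hgb.eq]; group
  have := hkey.conj hconj g
  rw [h2, h1, h3] at this
  exact ha'b this

/-- **`D_d` is one conjugacy class of `⟨D_d⟩`.** -/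
theorem exists_conj_of_mem_Dd (hT : IsThreeTranspositionSet D)
    (hconj : ∀ g : G, ∀ d ∈ D, g * d * g⁻¹ ∈ D) (hgen : Subgroup.closure D = ⊤)
    (hprim : IsPrimitiveUnderConj D) (hw : ∃ a ∈ D, ∃ b ∈ D, a ≠ b ∧ Commute a b) {d a b : G}
    (hd : d ∈ D) (ha : a ∈ Dd D d) (hb : b ∈ Dd D d) :
    ∃ g ∈ Subgroup.closure (Dd D d), g * a * g⁻¹ = b :=
  exists_conj_of_ncConn hT (ncConn_all hT hconj hgen hprim hw hd ha hb)

end Prim

end Cfsg.Agent.Helper89.LocalClass
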