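import Mathlib
import Cfsg.Prelude.Def_FischerSpaces
import Cfsg.Agent.Helper89.FischerTwin
import Cfsg.Agent.Helper89.TranspRank3
import Cfsg.Agent.Helper89.TranspLocalClass

/-!
# Counting with local twins in a primitive class of 3-transpositions (helper89)

For a primitive class `D` of 3-transpositions containing local twins `a, b ∈ D_x`, a double count of
the pairs `(a', e')` with `a' ∈ D_x`, `e' ∈ A_x` such that `x, e'` are local twins in `D_{a'}` shows
that no two members of `D_x` commute and that `D_x` is a single twin class.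
-/

set_option autoImplicit false

namespace Cfsg.Agent.Helper89.FCount

open Cfsg Equiv Cfsg.Agent.Helper89 Cfsg.Agent.Helper89.LocS3 Cfsg.Agent.Helper89.Rank3
  Cfsg.Agent.Helper89.FTwin

variable {G : Type*} [Group G] {D : Set G}

/-- The members of `D` not commuting with `x`. -/
def Ad (D : Set G) (x : G) : Set G := {e | e ∈ D ∧ ¬ Commute x e}

/-- The local twin class of `a` in `D_x`. -/
def Th (D : Set G) (x a : G) : Set G := {c | c ∈ Dd D x ∧ Dd D x ∩ Dd D c = Dd D x ∩ Dd D a}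

/-- The common commuting partners `a` of `x` and `e` for which `x, e` are local twins in `D_a`. -/
def Ts (D : Set G) (x e : G) : Set G :=
  {a | a ∈ Dd D x ∧ a ∈ Dd D e ∧ Dd D a ∩ Dd D x = Dd D a ∩ Dd D e}

section Conj

variable (hconj : ∀ g : G, ∀ d ∈ D, g * d * g⁻¹ ∈ D)

include hconj in
theorem Dd_conj (g x : G) : Dd D (g * x * g⁻¹) = conjSet g (Dd D x) := by
  ext y
  rw [mem_conjSet]
  have e1 : g * (g⁻¹ * y * g) * g⁻¹ = y := by group
  have := conj_mem_Dd_iff hconj g (d := x) (y := g⁻¹ * y * g)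
  rw [e1] at this
  exact this

theorem conjSet_inter (g : G) (S T : Set G) : conjSet g (S ∩ T) = conjSet g S ∩ conjSet g T := by
  unfold conjSet
  apply Set.image_inter
  intro x y h
  simpa using h

theorem conjSet_injective (g : G) : Function.Injective (conjSet g : Set G → Set G) := by
  unfold conjSet
  apply Set.image_injective.mpr
  intro x y h
  simpa using h

include hconj in
theorem Ad_conj (g x : G) : Ad D (g * x * g⁻¹) = conjSet g (Ad D x) := by
  ext y
  rw [mem_conjSet]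
  unfold Ad
  simp only [Set.mem_ofPred_eq]
  have e1 : g * (g⁻¹ * y * g) * g⁻¹ = y := by group
  constructor
  · rintro ⟨hy, hc⟩
    refine ⟨?_, ?_⟩
    · have := hconj g⁻¹ y hy
      rwa [inv_inv] at this
    · intro h
      apply hc
      have := (Commute.conj_iff g).mpr h
      rwa [e1] at this
  · rintro ⟨hy, hc⟩
    refine ⟨?_, ?_⟩
    · have := hconj g _ hy
      rwa [e1] at this
    · intro h
      apply hc
      rw [← e1] at h
      exact (Commute.conj_iff g).mp h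

include hconj in
theorem Th_conj (g x a : G) : Th D (g * x * g⁻¹) (g * a * g⁻¹) = conjSet g (Th D x a) := by
  ext y
  rw [mem_conjSet]
  unfold Th
  simp only [Set.mem_ofPred_eq]
  have e1 : g * (g⁻¹ * y * g) * g⁻¹ = y := by group
  have h1 : y ∈ Dd D (g * x * g⁻¹) ↔ g⁻¹ * y * g ∈ Dd D x := by
    have := conj_mem_Dd_iff hconj g (d := x) (y := g⁻¹ * y * g)
    rw [e1] at this
    exact this
  have h2 : Dd D (g * x * g⁻¹) ∩ Dd D y = conjSet g (Dd D x ∩ Dd D (g⁻¹ * y * g)) := by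
    rw [conjSet_inter, ← Dd_conj hconj, ← Dd_conj hconj, e1]
  have h3 : Dd D (g * x * g⁻¹) ∩ Dd D (g * a * g⁻¹) = conjSet g (Dd D x ∩ Dd D a) := by
    rw [conjSet_inter, ← Dd_conj hconj, ← Dd_conj hconj]
  rw [h1, h2, h3, (conjSet_injective g).eq_iff]

include hconj in
theorem Ts_conj (g x e : G) : Ts D (g * x * g⁻¹) (g * e * g⁻¹) = conjSet g (Ts D x e) := by
  ext y
  rw [mem_conjSet]
  unfold Ts
  simp only [Set.mem_ofPred_eq]
  have e1 : g * (g⁻¹ * y * g) * g⁻¹ = y := by group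
  have h1 : ∀ z, y ∈ Dd D (g * z * g⁻¹) ↔ g⁻¹ * y * g ∈ Dd D z := by
    intro z
    have := conj_mem_Dd_iff hconj g (d := z) (y := g⁻¹ * y * g)
    rw [e1] at this
    exact this
  have h2 : ∀ z, Dd D y ∩ Dd D (g * z * g⁻¹) = conjSet g (Dd D (g⁻¹ * y * g) ∩ Dd D z) := by
    intro z
    rw [conjSet_inter, ← Dd_conj hconj, ← Dd_conj hconj, e1]
  rw [h1, h1, h2, h2, (conjSet_injective g).eq_iff]

end Conj

section Prim

variable [Finite G] (hT : IsThreeTranspositionSet D)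
  (hconj : ∀ g : G, ∀ d ∈ D, g * d * g⁻¹ ∈ D) (hgen : Subgroup.closure D = ⊤)
  (hprim : IsPrimitiveUnderConj D) (hw : ∃ a ∈ D, ∃ b ∈ D, a ≠ b ∧ Commute a b)

include hT hconj hgen hprim hw in
/-- **Flag transitivity.** -/
theorem exists_conj_flag {x a x' a' : G} (hx : x ∈ D) (ha : a ∈ Dd D x) (hx' : x' ∈ D)
    (ha' : a' ∈ Dd D x') : ∃ g : G, g * x * g⁻¹ = x' ∧ g * a * g⁻¹ = a' := by
  obtain ⟨g₁, hg₁⟩ := hprim.1 x hx x' hx'
  have h1 : g₁ * a * g₁⁻¹ ∈ Dd D x' := by
    have := conj_mem_Dd hconj g₁ ha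
    rwa [hg₁] at this
  obtain ⟨h, hh, hh'⟩ := LocalClass.exists_conj_of_mem_Dd hT hconj hgen hprim hw hx' h1 ha'
  have hcomm : Commute h x' := by
    have hle : Subgroup.closure (Dd D x') ≤ Subgroup.centralizer {x'} := by
      rw [Subgroup.closure_le]
      intro y hy
      rw [SetLike.mem_coe, Subgroup.mem_centralizer_iff]
      intro z hz
      rw [Set.mem_singleton_iff] at hz
      subst hz
      exact hy.2.2.eq
    have := Subgroup.mem_centralizer_iff.mp (hle hh) x' rfl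
    exact this.symm
  refine ⟨h * g₁, ?_, ?_⟩
  · calc h * g₁ * x * (h * g₁)⁻¹ = h * (g₁ * x * g₁⁻¹) * h⁻¹ := by group
      _ = h * x' * h⁻¹ := by rw [hg₁]
      _ = x' := by rw [hcomm.eq]; group
  · calc h * g₁ * a * (h * g₁)⁻¹ = h * (g₁ * a * g₁⁻¹) * h⁻¹ := by group
      _ = a' := hh'

include hT hconj hgen hprim hw in
theorem Dd_ncard_eq {x x' : G} (hx : x ∈ D) (hx' : x' ∈ D) : (Dd D x').ncard = (Dd D x).ncard := by
  obtain ⟨g, hg⟩ := hprim.1 x hx x' hx'
  rw [← hg, Dd_conj hconj, ncard_conjSet]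

include hT hconj hgen hprim hw in
theorem lam_ncard_eq {x a x' a' : G} (hx : x ∈ D) (ha : a ∈ Dd D x) (hx' : x' ∈ D)
    (ha' : a' ∈ Dd D x') : (Dd D x' ∩ Dd D a').ncard = (Dd D x ∩ Dd D a).ncard := by
  obtain ⟨g, hg1, hg2⟩ := exists_conj_flag hT hconj hgen hprim hw hx ha hx' ha'
  rw [← hg1, ← hg2, Dd_conj hconj, Dd_conj hconj, ← conjSet_inter, ncard_conjSet]

include hT hconj hgen hprim hw in
theorem Th_ncard_eq {x a x' a' : G} (hx : x ∈ D) (ha : a ∈ Dd D x) (hx' : x' ∈ D)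
    (ha' : a' ∈ Dd D x') : (Th D x' a').ncard = (Th D x a).ncard := by
  obtain ⟨g, hg1, hg2⟩ := exists_conj_flag hT hconj hgen hprim hw hx ha hx' ha'
  rw [← hg1, ← hg2, Th_conj hconj, ncard_conjSet]

include hT hconj hgen hprim hw in
theorem mu_ncard_eq {x e e' : G} (hx : x ∈ D) (he : e ∈ Ad D x) (he' : e' ∈ Ad D x) :
    (Dd D x ∩ Dd D e').ncard = (Dd D x ∩ Dd D e).ncard ∧ (Ts D x e').ncard = (Ts D x e).ncard := by
  obtain ⟨g, hg, rfl⟩ := sameOrb_all hT hconj hprim hw hx he.1 he.2 he'.1 he'.2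
  have hgx : g * x * g⁻¹ = x := by rw [(commute_of_mem_Md hg).eq]; group
  constructor
  · nth_rewrite 1 [← hgx]
    rw [Dd_conj hconj, Dd_conj hconj, ← conjSet_inter, ncard_conjSet]
  · nth_rewrite 1 [← hgx]
    rw [Ts_conj hconj, ncard_conjSet]

/-- The base configuration: `a, b` are local twins in `D_x` and `e ∈ D_a` does not commute with
`b`. -/
structure Base (D : Set G) (x a b e : G) : Prop where
  hx : x ∈ D
  ha : a ∈ Dd D x
  hb : b ∈ Dd D x
  hab : ¬ Commute a b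
  htw : Dd D x ∩ Dd D a = Dd D x ∩ Dd D b
  he : e ∈ Dd D a
  heb : ¬ Commute e b

omit [Finite G] in
theorem Base.not_commute {x a b e : G} (h : Base D x a b e) : ¬ Commute x e := by
  intro hc
  have hex : e ≠ x := by
    rintro rfl
    exact h.heb h.hb.2.2
  have : e ∈ Dd D x ∩ Dd D b := by
    rw [← h.htw]
    exact ⟨⟨h.he.1, hex, hc⟩, h.he⟩
  exact h.heb this.2.2.2.symm

omit [Finite G] in
theorem Base.mem_Ad {x a b e : G} (h : Base D x a b e) : e ∈ Ad D x := ⟨h.he.1, h.not_commute⟩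

include hT hconj hgen hprim hw in
/-- In the base configuration `x, e` are local twins in `D_a`. -/
theorem Base.twin {x a b e : G} (h : Base D x a b e) : Dd D a ∩ Dd D x = Dd D a ∩ Dd D e := by
  have hxa : x ∈ Dd D a := mem_Dd_symm h.hx h.ha
  apply Set.eq_of_subset_of_ncard_le
  · rintro y ⟨hya, hyx⟩
    refine ⟨hya, hyx.1, ?_, ?_⟩
    · rintro rfl
      exact h.not_commute hyx.2.2
    · exact (commute_of_local_twin hT hconj h.hx h.ha h.hb h.hab h.htw h.he.1 h.he.2.2.symm h.heb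
        hyx hya.2.2.symm).symm
  · exact le_of_eq (lam_ncard_eq hT hconj hgen hprim hw h.ha.1 hxa h.ha.1 h.he)
  · exact Set.toFinite _

include hT hconj hgen hprim hw in
/-- If `x, e` are local twins in `D_{a'}`, every member of `D_x` not commuting with `e` is a local
twin of `a'` in `D_x`. -/
theorem mem_Th_of_not_commute {x a' e z : G} (hx : x ∈ D) (ha' : a' ∈ Dd D x) (he : e ∈ Dd D a')
    (hxe : ¬ Commute x e) (htw : Dd D a' ∩ Dd D x = Dd D a' ∩ Dd D e) (hz : z ∈ Dd D x)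
    (hez : ¬ Commute e z) : z ∈ Th D x a' := by
  have hxa : x ∈ Dd D a' := mem_Dd_symm hx ha'
  have haz : ¬ Commute a' z := by
    intro hc
    have hza : z ≠ a' := by
      rintro rfl
      exact hez he.2.2.symm
    have : z ∈ Dd D a' ∩ Dd D e := by
      rw [← htw]
      exact ⟨⟨hz.1, hza, hc⟩, hz⟩
    exact hez this.2.2.2
  refine ⟨hz, ?_⟩
  symm
  apply Set.eq_of_subset_of_ncard_le
  · rintro y ⟨hyx, hya⟩
    refine ⟨hyx, hyx.1, ?_, ?_⟩
    · rintro rfl
      exact haz hya.2.2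
    · exact (commute_of_local_twin hT hconj ha'.1 hxa he hxe htw hz.1 hz.2.2.symm
        (fun c => hez c.symm) hya hyx.2.2.symm).symm
  · exact le_of_eq (lam_ncard_eq hT hconj hgen hprim hw hx ha' hx hz)
  · exact Set.toFinite _

include hT hconj hgen hprim hw in
/-- `k + s = q + μ`. -/
theorem Base.card_eq {x a b e : G} (h : Base D x a b e) :
    (Dd D x).ncard + (Th D x a ∩ Dd D e).ncard = (Th D x a).ncard + (Dd D x ∩ Dd D e).ncard := by
  have htw' := h.twin hT hconj hgen hprim hw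
  have h1 : Dd D x \ Dd D e = Th D x a \ Dd D e := by
    ext z
    constructor
    · rintro ⟨hz, hze⟩
      refine ⟨mem_Th_of_not_commute hT hconj hgen hprim hw h.hx h.ha h.he h.not_commute htw' hz ?_,
        hze⟩
      intro hc
      apply hze
      refine ⟨hz.1, ?_, hc⟩
      rintro rfl
      exact h.not_commute hz.2.2
    · rintro ⟨hz, hze⟩
      exact ⟨hz.1, hze⟩
  have h2 := Set.ncard_inter_add_ncard_diff_eq_ncard (Dd D x) (Dd D e) (Set.toFinite _)
  have h3 := Set.ncard_inter_add_ncard_diff_eq_ncard (Th D x a) (Dd D e) (Set.toFinite _)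
  rw [h1] at h2
  omega

include hT hconj hgen hprim hw in
/-- `t ≤ s`. -/
theorem Base.Ts_le {x a b e : G} (h : Base D x a b e) :
    (Ts D x e).ncard ≤ (Th D x a ∩ Dd D e).ncard := by
  apply Set.ncard_le_ncard _ (Set.toFinite _)
  rintro a' ⟨ha'x, ha'e, htw'⟩
  refine ⟨⟨ha'x, ?_⟩, ha'e⟩
  have hb' := mem_Th_of_not_commute hT hconj hgen hprim hw h.hx ha'x
    (mem_Dd_symm h.he.1 ha'e) h.not_commute htw' h.hb h.heb
  rw [h.htw, hb'.2]

omit [Finite G] in
/-- A twin class is disjoint from the common commuting partners. -/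
theorem Th_disjoint (x a : G) : Disjoint (Th D x a) (Dd D x ∩ Dd D a) := by
  rw [Set.disjoint_left]
  rintro c ⟨hcx, hc⟩ hca
  have : c ∈ Dd D x ∩ Dd D c := by rw [hc]; exact hca
  exact this.2.2.1 rfl

include hT hconj hgen hprim hw in
/-- `q + λ ≤ k`. -/
theorem Th_add_le {x a : G} (ha : a ∈ Dd D x) :
    (Th D x a).ncard + (Dd D x ∩ Dd D a).ncard ≤ (Dd D x).ncard := by
  rw [← Set.ncard_union_eq (Th_disjoint x a) (Set.toFinite _) (Set.toFinite _)]
  apply Set.ncard_le_ncard _ (Set.toFinite _)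
  rintro c (hc | hc)
  · exact hc.1
  · exact hc.1

include hT hconj hgen hprim hw in
/-- `λ = 0` or `q ≤ λ`. -/
theorem lam_eq_zero_or {x a : G} (hx : x ∈ D) (ha : a ∈ Dd D x) :
    (Dd D x ∩ Dd D a).ncard = 0 ∨ (Th D x a).ncard ≤ (Dd D x ∩ Dd D a).ncard := by
  by_cases h0 : (Dd D x ∩ Dd D a).ncard = 0
  · exact Or.inl h0
  · right
    obtain ⟨y, hy⟩ := (Set.ncard_pos (Set.toFinite _)).mp (Nat.pos_of_ne_zero h0)
    rw [← Th_ncard_eq hT hconj hgen hprim hw hx ha hx hy.1]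
    apply Set.ncard_le_ncard _ (Set.toFinite _)
    rintro c ⟨hcx, hc⟩
    refine ⟨hcx, ?_⟩
    have : a ∈ Dd D x ∩ Dd D c := by
      rw [hc]
      exact ⟨ha, mem_Dd_symm ha.1 hy.2⟩
    exact mem_Dd_symm hcx.1 this.2

omit [Finite G] in
/-- Double counting for a relation between two finite sets with constant fibre sizes. -/
theorem double_count {α : Type*} [Finite α] (S T : Set α) (R : α → α → Prop) (m n : ℕ)
    (h1 : ∀ a ∈ S, {e | e ∈ T ∧ R a e}.ncard = m) (h2 : ∀ e ∈ T, {a | a ∈ S ∧ R a e}.ncard = n) :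
    S.ncard * m = T.ncard * n := by
  classical
  have := Fintype.ofFinite α
  have key := Finset.sum_card_bipartiteAbove_eq_sum_card_bipartiteBelow (s := S.toFinset)
    (t := T.toFinset) R
  have e1 : ∀ a ∈ S.toFinset, (T.toFinset.bipartiteAbove R a).card = m := by
    intro a ha
    rw [← h1 a (Set.mem_toFinset.mp ha), ← Set.ncard_coe_finset]
    congr 1
    ext e
    simp [Finset.bipartiteAbove]
  have e2 : ∀ e ∈ T.toFinset, (S.toFinset.bipartiteBelow R e).card = n := by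
    intro e he
    rw [← h2 e (Set.mem_toFinset.mp he), ← Set.ncard_coe_finset]
    congr 1
    ext a
    simp [Finset.bipartiteBelow]
  rw [Finset.sum_congr rfl e1, Finset.sum_congr rfl e2, Finset.sum_const, Finset.sum_const,
    smul_eq_mul, smul_eq_mul, ← Set.ncard_eq_toFinset_card', ← Set.ncard_eq_toFinset_card'] at key
  exact key

include hT hconj hgen hprim hw in
/-- For `a' ∈ D_x`: `|D_{a'} ∩ A_x| + λ + 1 = k`. -/
theorem card_Ad_inter {x a a' : G} (hx : x ∈ D) (ha : a ∈ Dd D x) (ha' : a' ∈ Dd D x) :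
    {e' | e' ∈ Ad D x ∧ Commute a' e'}.ncard + (Dd D x ∩ Dd D a).ncard + 1 = (Dd D x).ncard := by
  have hxa' : x ∈ Dd D a' := mem_Dd_symm hx ha'
  have hk : (Dd D a').ncard = (Dd D x).ncard := Dd_ncard_eq hT hconj hgen hprim hw hx ha'.1
  have hl : (Dd D a' ∩ Dd D x).ncard = (Dd D x ∩ Dd D a).ncard :=
    lam_ncard_eq hT hconj hgen hprim hw hx ha ha'.1 hxa'
  have hdec : Dd D a' = insert x ((Dd D a' ∩ Dd D x) ∪ {e' | e' ∈ Ad D x ∧ Commute a' e'}) := by
    ext y
    constructor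
    · intro hy
      by_cases hyx : y = x
      · exact Or.inl hyx
      · right
        by_cases hc : Commute x y
        · exact Or.inl ⟨hy, hy.1, hyx, hc⟩
        · exact Or.inr ⟨⟨hy.1, hc⟩, hy.2.2⟩
    · rintro (rfl | ⟨hy, -⟩ | ⟨⟨hyD, hyx⟩, hc⟩)
      · exact hxa'
      · exact hy
      · refine ⟨hyD, ?_, hc⟩
        rintro rfl
        exact hyx ha'.2.2
  have hnot : x ∉ (Dd D a' ∩ Dd D x) ∪ {e' | e' ∈ Ad D x ∧ Commute a' e'} := by
    rintro (⟨-, h⟩ | ⟨⟨-, h⟩, -⟩)
    · exact h.2.1 rfl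
    · exact h (Commute.refl x)
  have hdis : Disjoint (Dd D a' ∩ Dd D x) {e' | e' ∈ Ad D x ∧ Commute a' e'} := by
    rw [Set.disjoint_left]
    rintro y ⟨-, hy⟩ ⟨⟨-, hy'⟩, -⟩
    exact hy' hy.2.2
  rw [← hk, hdec, Set.ncard_insert_of_notMem hnot (Set.toFinite _),
    Set.ncard_union_eq hdis (Set.toFinite _) (Set.toFinite _), hl]
  omega

include hT hconj hgen hprim hw in
/-- `k (k - 1 - λ) = l μ`, in additive form. -/
theorem count_one {x a e : G} (hx : x ∈ D) (ha : a ∈ Dd D x) (he : e ∈ Ad D x) (m : ℕ)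
    (hm : m + (Dd D x ∩ Dd D a).ncard + 1 = (Dd D x).ncard) :
    (Dd D x).ncard * m = (Ad D x).ncard * (Dd D x ∩ Dd D e).ncard := by
  apply double_count (Dd D x) (Ad D x) (fun a' e' => Commute a' e')
  · intro a' ha'
    have := card_Ad_inter hT hconj hgen hprim hw hx ha ha'
    omega
  · intro e' he'
    rw [← (mu_ncard_eq hT hconj hgen hprim hw hx he he').1]
    congr 1
    ext a'
    constructor
    · rintro ⟨ha', hc⟩
      refine ⟨ha', ha'.1, ?_, hc.symm⟩
      rintro rfl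
      exact he'.2 ha'.2.2
    · rintro ⟨ha', h⟩
      exact ⟨ha', h.2.2.symm⟩

include hT hconj hgen hprim hw in
/-- `k (q - 1) = l t`, in additive form. -/
theorem count_two {x a e : G} (hx : x ∈ D) (ha : a ∈ Dd D x) (he : e ∈ Ad D x) (m : ℕ)
    (hm : m + 1 = (Th D x a).ncard) :
    (Dd D x).ncard * m = (Ad D x).ncard * (Ts D x e).ncard := by
  apply double_count (Dd D x) (Ad D x)
    (fun a' e' => e' ∈ Dd D a' ∧ Dd D a' ∩ Dd D x = Dd D a' ∩ Dd D e')
  · intro a' ha'
    have hxa' : x ∈ Dd D a' := mem_Dd_symm hx ha'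
    have hq : (Th D a' x).ncard = (Th D x a).ncard :=
      Th_ncard_eq hT hconj hgen hprim hw hx ha ha'.1 hxa'
    have hxT : x ∈ Th D a' x := ⟨hxa', rfl⟩
    have hset : {e' | e' ∈ Ad D x ∧ e' ∈ Dd D a' ∧ Dd D a' ∩ Dd D x = Dd D a' ∩ Dd D e'} =
        Th D a' x \ {x} := by
      ext e'
      constructor
      · rintro ⟨he'A, he'a, heq⟩
        refine ⟨⟨he'a, heq.symm⟩, ?_⟩
        rintro rfl
        exact he'A.2 (Commute.refl _)
      · rintro ⟨⟨he'a, heq⟩, hne⟩
        refine ⟨⟨he'a.1, ?_⟩, he'a, heq.symm⟩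
        intro hc
        have : e' ∈ Dd D a' ∩ Dd D e' := by
          rw [heq]
          exact ⟨he'a, he'a.1, hne, hc⟩
        exact this.2.2.1 rfl
    rw [hset]
    have := Set.ncard_diff_singleton_add_one hxT (Set.toFinite _)
    omega
  · intro e' he'
    rw [← (mu_ncard_eq hT hconj hgen hprim hw hx he he').2]
    congr 1
    ext a'
    constructor
    · rintro ⟨ha', he'a, heq⟩
      exact ⟨ha', mem_Dd_symm ha'.1 he'a, heq⟩
    · rintro ⟨ha', ha'e, heq⟩
      exact ⟨ha', mem_Dd_symm he'.1 ha'e, heq⟩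

/-- The arithmetic core. -/
theorem arith {k lam q mu l s t m1 m2 : ℕ} (h1 : m1 + lam + 1 = k) (h2 : k * m1 = l * mu)
    (h3 : m2 + 1 = q) (h4 : k * m2 = l * t) (h5 : k + s = q + mu) (h6 : t ≤ s)
    (h7 : q + lam ≤ k) (h8 : lam = 0 ∨ q ≤ lam) (h9 : s + 2 ≤ q) : lam = 0 ∧ k = q := by
  have hk : 0 < k := by omega
  have h10 : m1 * t = mu * m2 := by
    have : k * (m1 * t) = k * (mu * m2) := by
      calc k * (m1 * t) = (k * m1) * t := by ring
        _ = (l * mu) * t := by rw [h2]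
        _ = mu * (l * t) := by ring
        _ = mu * (k * m2) := by rw [h4]
        _ = k * (mu * m2) := by ring
    exact Nat.eq_of_mul_eq_mul_left hk this
  -- pass to integers
  have h10' : (m1 : ℤ) * t = mu * m2 := by exact_mod_cast h10
  have e1 : (m1 : ℤ) = k - lam - 1 := by omega
  have e2 : (m2 : ℤ) = q - 1 := by omega
  have e3 : (mu : ℤ) = k + s - q := by omega
  have ht : (t : ℤ) ≤ s := by exact_mod_cast h6
  have hm1 : (0 : ℤ) ≤ m1 := by positivity
  have hle : (mu : ℤ) * m2 ≤ m1 * s := by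
    rw [← h10']
    exact mul_le_mul_of_nonneg_left ht hm1
  rw [e1, e2, e3] at hle
  -- (k + s - q)(q - 1) ≤ (k - lam - 1) s
  rcases h8 with h0 | hq
  · refine ⟨h0, ?_⟩
    subst h0
    -- (q - 1 - s)(k - q) ≤ 0
    have h11 : ((q : ℤ) - 1 - s) * (k - q) ≤ 0 := by
      push_cast at hle
      nlinarith
    have h12 : (0 : ℤ) < (q : ℤ) - 1 - s := by omega
    have h13 : (k : ℤ) - q ≤ 0 := by
      by_contra hcon
      have hcon' : (0 : ℤ) < (k : ℤ) - q := by omega
      have := mul_pos h12 hcon'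
      omega
    omega
  · exfalso
    have hk2 : (2 : ℤ) * q ≤ k := by omega
    have hs1 : (s : ℤ) ≤ q - 2 := by omega
    have hlq : (q : ℤ) ≤ lam := by exact_mod_cast hq
    have hq2 : (2 : ℤ) ≤ q := by omega
    -- LHS - RHS = (q-1)(k-q) - s(k - 2q) + s(lam - q) ... > 0
    have hs0 : (0 : ℤ) ≤ s := by positivity
    nlinarith [mul_nonneg hs0 (sub_nonneg.mpr hlq), mul_nonneg (sub_nonneg.mpr hs1)
      (sub_nonneg.mpr hk2), mul_nonneg (sub_nonneg.mpr hq2) (sub_nonneg.mpr hk2)]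

include hT hconj hgen hprim hw in
/-- **Main counting theorem.**  In the base configuration, if `s + 2 ≤ q` then no two members of
`D_x` commute and `D_x` is the twin class of `a`. -/
theorem Base.main {x a b e : G} (h : Base D x a b e)
    (hs : (Th D x a ∩ Dd D e).ncard + 2 ≤ (Th D x a).ncard) :
    (Dd D x ∩ Dd D a).ncard = 0 ∧ (Dd D x).ncard = (Th D x a).ncard := by
  have hkpos : 0 < (Dd D x).ncard := (Set.ncard_pos (Set.toFinite _)).mpr ⟨a, h.ha⟩
  have hqpos : 0 < (Th D x a).ncard := (Set.ncard_pos (Set.toFinite _)).mpr ⟨a, h.ha, rfl⟩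
  have hql := Th_add_le hT hconj hgen hprim hw h.ha
  obtain ⟨m1, hm1⟩ : ∃ m1, m1 + (Dd D x ∩ Dd D a).ncard + 1 = (Dd D x).ncard :=
    ⟨(Dd D x).ncard - (Dd D x ∩ Dd D a).ncard - 1, by omega⟩
  obtain ⟨m2, hm2⟩ : ∃ m2, m2 + 1 = (Th D x a).ncard := ⟨(Th D x a).ncard - 1, by omega⟩
  exact arith hm1 (count_one hT hconj hgen hprim hw h.hx h.ha h.mem_Ad m1 hm1) hm2
    (count_two hT hconj hgen hprim hw h.hx h.ha h.mem_Ad m2 hm2)
    (h.card_eq hT hconj hgen hprim hw) (h.Ts_le hT hconj hgen hprim hw) hql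
    (lam_eq_zero_or hT hconj hgen hprim hw h.hx h.ha) hs

end Prim

end Cfsg.Agent.Helper89.FCount
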