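import Mathlib
import Cfsg.Prelude.Def_FischerSpaces
import Cfsg.Agent.Helper89.TranspHall
import Cfsg.Agent.Helper89.TranspStructure

/-!
# Uniqueness of the component of a 3-transposition group (via Hall's theorem)

In a finite group generated by a class `D` of 3-transpositions there is at most one component
(no connectedness hypothesis on the commuting graph): for two components `L₁ ≠ L₂`, the
commutators `[d, l₁ l₂] = [d, l₁] [d, l₂]` force all `[d, l₁]` to have order dividing 2, or all of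
them order dividing 3; in the first case `[L₁, d]` is abelian, in the second it is a 3-group by
Hall's theorem, and in both cases `d` centralizes `L₁`.
-/

set_option autoImplicit false

namespace Cfsg.Agent.Helper89

open Cfsg
open scoped commutatorElement
open Cfsg.Agent.S5353 (class_conj class_trans notMem_center)

universe u

section

variable {G : Type u} [Group G] {D : Set G}

/-- If `d` is an involution and all commutators `[l, d]`, `l ∈ L`, lie in a solvable subgroup
normalized by the component `L`, then `d` centralizes `L`. -/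
theorem commute_of_commutator_mem_solvable {L S : Subgroup G} (hL : IsComponent L) {d : G}
    (hdd : d * d = 1) (hS : Group.IsSolvable S) (hLS : L ≤ Subgroup.normalizer (S : Set G))
    (hc : ∀ l ∈ L, ⁅l, d⁆ ∈ S) : ∀ x ∈ L, Commute d x := by
  have h0 : ⁅L, S⁆ = ⊥ :=
    Cfsg.Agent.Helper21.IsComponent.commutator_eq_bot_of_isSolvable hL S hS hLS
  have h1 : ⁅L, Subgroup.zpowers d⁆ ≤ S := by
    rw [Subgroup.commutator_le]
    intro l hl y hy
    rcases eq_one_or_eq_of_mem_zpowers hdd hy with h | h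
    · rw [h, commutatorElement_one_right]; exact S.one_mem
    · rw [h]; exact hc l hl
  have hperf : ⁅L, L⁆ = L := Subgroup.isPerfect_iff.1 hL.2.1
  have h2 : ⁅⁅Subgroup.zpowers d, L⁆, L⁆ = ⊥ := by
    rw [eq_bot_iff, ← h0, Subgroup.commutator_comm L S]
    exact Subgroup.commutator_mono (by rw [Subgroup.commutator_comm]; exact h1) le_rfl
  have h3 := Cfsg.Agent.Helper21.commutator_eq_bot_of_perfect hperf h2
  rw [Subgroup.commutator_eq_bot_iff_le_centralizer] at h3
  intro x hx
  have := Subgroup.mem_centralizer_iff.mp (h3 (Subgroup.mem_zpowers d)) x hx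
  exact this.symm

/-- The subgroup generated by the `L`-conjugates of `d` is normalized by `L`. -/
theorem le_normalizer_closure_conj (L : Subgroup G) (d : G) :
    L ≤ Subgroup.normalizer
      ((Subgroup.closure {y | ∃ x ∈ L, y = x * d * x⁻¹} : Subgroup G) : Set G) := by
  intro l hl
  apply Cfsg.Agent.Helper21.mem_normalizer_of_map_conj_eq
  rw [MonoidHom.map_closure]
  congr 1
  ext y
  constructor
  · rintro ⟨_, ⟨x, hx, rfl⟩, rfl⟩
    refine ⟨l * x, L.mul_mem hl hx, ?_⟩
    simp only [MulEquiv.coe_toMonoidHom, MulAut.conj_apply]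
    group
  · rintro ⟨x, hx, rfl⟩
    refine ⟨(l⁻¹ * x) * d * (l⁻¹ * x)⁻¹, ⟨l⁻¹ * x, L.mul_mem (L.inv_mem hl) hx, rfl⟩, ?_⟩
    simp only [MulEquiv.coe_toMonoidHom, MulAut.conj_apply]
    group

/-- If the involution `d` commutes with all its conjugates under the component `L`, then `d`
centralizes `L`. -/
theorem commute_of_forall_commute_conj {L : Subgroup G} (hL : IsComponent L) {d : G}
    (hdd : d * d = 1) (h2 : ∀ l ∈ L, Commute d (l * d * l⁻¹)) : ∀ x ∈ L, Commute d x := by
  have hdinv : d⁻¹ = d := inv_eq_of_mul_eq_one_left hdd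
  obtain ⟨S, hS⟩ : ∃ S : Set G, S = {y | ∃ x ∈ L, y = x * d * x⁻¹} := ⟨_, rfl⟩
  have hcomm : ∀ a ∈ S, ∀ b ∈ S, Commute a b := by
    intro a ha b hb
    rw [hS] at ha hb
    obtain ⟨l, hl, rfl⟩ := ha
    obtain ⟨l', hl', rfl⟩ := hb
    have e : l' * d * l'⁻¹ = l * ((l⁻¹ * l') * d * (l⁻¹ * l')⁻¹) * l⁻¹ := by group
    rw [e, Commute.conj_iff]
    exact h2 _ (L.mul_mem (L.inv_mem hl) hl')
  haveI := Subgroup.isMulCommutative_closure hcomm
  have hsolv : Group.IsSolvable (Subgroup.closure S) :=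
    Group.isSolvable_of_comm (fun a b => mul_comm' a b)
  have hdS : d ∈ Subgroup.closure S :=
    Subgroup.subset_closure (by rw [hS]; exact ⟨1, L.one_mem, by simp⟩)
  apply commute_of_commutator_mem_solvable hL hdd hsolv
  · rw [hS]; exact le_normalizer_closure_conj L d
  · intro l hl
    rw [commutatorElement_def]
    exact Subgroup.mul_mem _
      (Subgroup.subset_closure (by rw [hS]; exact ⟨l, hl, rfl⟩)) (Subgroup.inv_mem _ hdS)

/-- For a normal subgroup `N` of the subgroup `H`, the image of `N` in `G` is normalized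
by `H`. -/
theorem le_normalizer_map_subtype (H : Subgroup G) (N : Subgroup H) [hN : N.Normal] :
    H ≤ Subgroup.normalizer ((N.map H.subtype : Subgroup G) : Set G) := by
  have h1 := Subgroup.le_normalizer_map (H := N) H.subtype
  rw [Subgroup.normalizer_eq_top, ← MonoidHom.range_eq_map, Subgroup.range_subtype] at h1
  exact h1

/-- (Hall) If all products `d · d^l`, `l ∈ L`, have order dividing 3, for a normal component `L`
and an involution `d`, then `d` centralizes `L`. -/
theorem commute_of_forall_cube [Finite G] (hall : HallHyp.{u}) {L : Subgroup G}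
    (hL : IsComponent L) (hLn : L.Normal) {d : G} (hd2 : orderOf d = 2)
    (h3 : ∀ l ∈ L, (d * (l * d * l⁻¹)) ^ 3 = 1) : ∀ x ∈ L, Commute d x := by
  have hdd : d * d = 1 := mul_self_of_orderOf_two hd2
  have hdinv : d⁻¹ = d := inv_eq_of_mul_eq_one_left hdd
  obtain ⟨H, hH⟩ : ∃ H : Subgroup G, H = L ⊔ Subgroup.zpowers d := ⟨_, rfl⟩
  have hLH : L ≤ H := by rw [hH]; exact le_sup_left
  have hdH : d ∈ H := by rw [hH]; exact Subgroup.mem_sup_right (Subgroup.mem_zpowers d)
  -- conjugates of `d` in `H`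
  have hconjH : ∀ a ∈ conjugatesOf (⟨d, hdH⟩ : H), ∃ l ∈ L, (a : G) = l * d * l⁻¹ := by
    intro a ha
    have ha' : IsConj (⟨d, hdH⟩ : H) a := ha
    rw [isConj_iff] at ha'
    obtain ⟨⟨c, hc⟩, rfl⟩ := ha'
    have hc' : c ∈ ((L ⊔ Subgroup.zpowers d : Subgroup G) : Set G) := by rw [← hH]; exact hc
    rw [Subgroup.normal_mul, Set.mem_mul] at hc'
    obtain ⟨l, hl, y, hy, rfl⟩ := hc'
    refine ⟨l, hl, ?_⟩
    show l * y * d * (l * y)⁻¹ = l * d * l⁻¹
    rcases eq_one_or_eq_of_mem_zpowers hdd hy with h | h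
    · rw [h]; simp
    · rw [h, mul_inv_rev, hdinv]
      calc l * d * d * (d * l⁻¹) = l * (d * d) * d * l⁻¹ := by simp only [mul_assoc]
        _ = l * d * l⁻¹ := by rw [hdd, mul_one]
  have hprod : ∀ a ∈ conjugatesOf (⟨d, hdH⟩ : H), ∀ b ∈ conjugatesOf (⟨d, hdH⟩ : H),
      ∃ k : ℕ, orderOf (a * b) = 3 ^ k := by
    intro a ha b hb
    obtain ⟨l, hl, hal⟩ := hconjH a ha
    obtain ⟨l', hl', hbl⟩ := hconjH b hb
    have h1 : (a * b) ^ 3 = 1 := by
      apply Subtype.ext
      rw [Subgroup.coe_pow, Subgroup.coe_mul, hal, hbl, Subgroup.coe_one]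
      have e : l * d * l⁻¹ * (l' * d * l'⁻¹) =
          l * (d * ((l⁻¹ * l') * d * (l⁻¹ * l')⁻¹)) * l⁻¹ := by group
      rw [e, conj_pow, h3 _ (L.mul_mem (L.inv_mem hl) hl')]
      simp
    have hdvd : orderOf (a * b) ∣ 3 ^ 1 := by
      rw [pow_one]; exact orderOf_dvd_of_pow_eq_one h1
    obtain ⟨k, -, hk⟩ := (Nat.dvd_prime_pow Nat.prime_three).mp hdvd
    exact ⟨k, hk⟩
  have hord : orderOf (⟨d, hdH⟩ : H) = 2 := by
    rw [← hd2]; exact Subgroup.orderOf_mk d hdH
  have hHall := hall H ⟨d, hdH⟩ hord hprod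
  -- the solvable subgroup `S = O_3(H)`
  haveI hRn : (pCore 3 H).Normal := by
    have := Cfsg.Agent.Lib.pCore_characteristic (G := H) 3
    infer_instance
  have hR3 : IsPGroup 3 (pCore 3 H) := Cfsg.Agent.Lib.isPGroup_pCore 3
  have hS3 : IsPGroup 3 ((pCore 3 H).map H.subtype) := hR3.map _
  haveI : Fact (Nat.Prime 3) := ⟨Nat.prime_three⟩
  haveI hnil : Group.IsNilpotent ((pCore 3 H).map H.subtype) := hS3.isNilpotent
  have hsolv : Group.IsSolvable ((pCore 3 H).map H.subtype) := inferInstance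
  apply commute_of_commutator_mem_solvable hL hdd hsolv
  · exact hLH.trans (le_normalizer_map_subtype H (pCore 3 H))
  · intro l hl
    have ha : (⟨l, hLH hl⟩ : H) * ⟨d, hdH⟩ * (⟨l, hLH hl⟩ : H)⁻¹ ∈ conjugatesOf (⟨d, hdH⟩ : H) := by
      show IsConj _ _
      rw [isConj_iff]
      exact ⟨_, rfl⟩
    have hb : (⟨d, hdH⟩ : H) ∈ conjugatesOf (⟨d, hdH⟩ : H) := mem_conjugatesOf_self
    have hmem := hHall _ ha _ hb
    refine ⟨_, hmem, ?_⟩
    rw [commutatorElement_def, hdinv]
    rfl

end

section Fin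

variable {G : Type u} [Group G] [Finite G] {D : Set G}

/-- For two different components, either all `d · d^l` (`l ∈ L₁`) square to one, or all of them
cube to one. -/
theorem sq_or_cube_of_two_components (hD : IsThreeTranspositionClass D) {L1 L2 : Subgroup G}
    (h1 : IsComponent L1) (h2 : IsComponent L2) (hne : L1 ≠ L2) {d : G} (hd : d ∈ D) :
    (∀ l ∈ L1, (d * (l * d * l⁻¹)) ^ 2 = 1) ∨ (∀ l ∈ L1, (d * (l * d * l⁻¹)) ^ 3 = 1) := by
  have hT := hD.1
  have hdd := sq_of_mem hT hd
  have hdinv : d⁻¹ = d := inv_eq_of_mul_eq_one_left hdd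
  have hn1 := normal_of_isComponent hD h1
  have hn2 := normal_of_isComponent hD h2
  have hcmem : ∀ {L : Subgroup G}, L.Normal → ∀ l ∈ L, d * (l * d * l⁻¹) ∈ L := by
    intro L hLn l hl
    have e : d * (l * d * l⁻¹) = (d * l * d⁻¹) * l⁻¹ := by rw [hdinv]; simp only [mul_assoc]
    rw [e]
    exact L.mul_mem (hLn.conj_mem l hl d) (L.inv_mem hl)
  have hcD : ∀ l : G, (d * (l * d * l⁻¹)) ^ 2 = 1 ∨ (d * (l * d * l⁻¹)) ^ 3 = 1 :=
    fun l => hT.2 d hd _ (class_conj hD l d hd)
  by_contra hcon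
  rw [not_or] at hcon
  obtain ⟨hc2, hc3⟩ := hcon
  push Not at hc2 hc3
  obtain ⟨l, hl, hl2⟩ := hc2
  obtain ⟨l', hl', hl3⟩ := hc3
  -- an element of `L2` not centralized by `d`
  have hx := not_centralizes_of_isComponent hD h2 hd
  push Not at hx
  obtain ⟨x, hx, hxnc⟩ := hx
  obtain ⟨v, hv⟩ : ∃ v, v = d * (x * d * x⁻¹) := ⟨_, rfl⟩
  have hvL : v ∈ L2 := by rw [hv]; exact hcmem hn2 x hx
  have hv1 : v ≠ 1 := by
    intro h
    apply hxnc
    rw [hv] at h
    have h' : x * d * x⁻¹ = d⁻¹ := (eq_inv_of_mul_eq_one_right h)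
    rw [hdinv] at h'
    show d * x = x * d
    calc d * x = (x * d * x⁻¹) * x := by rw [h']
      _ = x * d := by group
  have hv23 : v ^ 2 = 1 ∨ v ^ 3 = 1 := by rw [hv]; exact hcD x
  -- multiplicativity
  have hmul : ∀ m ∈ L1, d * ((m * x) * d * (m * x)⁻¹) = (d * (m * d * m⁻¹)) * v := by
    intro m hm
    have hcm : Commute v m⁻¹ :=
      (Cfsg.Agent.Helper21.IsComponent.commute_of_ne h1 h2 hne (L1.inv_mem hm) hvL).symm
    have e1 : d * (m * d * m⁻¹) * v = d * m * d * (v * m⁻¹) := by
      rw [hcm.eq]; simp only [mul_assoc]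
    rw [e1, hv, mul_inv_rev]
    calc d * (m * x * d * (x⁻¹ * m⁻¹)) = d * m * (1 * x) * d * x⁻¹ * m⁻¹ := by
          rw [one_mul]; simp only [mul_assoc]
      _ = d * m * ((d * d) * x) * d * x⁻¹ * m⁻¹ := by rw [hdd]
      _ = d * m * d * (d * (x * d * x⁻¹) * m⁻¹) := by simp only [mul_assoc]
  have hcomm : ∀ m ∈ L1, Commute (d * (m * d * m⁻¹)) v := fun m hm =>
    Cfsg.Agent.Helper21.IsComponent.commute_of_ne h1 h2 hne (hcmem hn1 m hm) hvL
  rcases hv23 with hv2 | hv3
  · -- `v` has order two: use `l` with `c(l)^2 ≠ 1`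
    have hu3 : (d * (l * d * l⁻¹)) ^ 3 = 1 := (hcD l).resolve_left hl2
    rcases hcD (l * x) with h | h
    · rw [hmul l hl, (hcomm l hl).mul_pow, hv2, mul_one] at h
      exact hl2 h
    · rw [hmul l hl, (hcomm l hl).mul_pow, hu3, one_mul] at h
      apply hv1
      calc v = v ^ 3 * (v ^ 2)⁻¹ := by group
        _ = 1 := by rw [h, hv2]; simp
  · -- `v` has order three: use `l'` with `c(l')^3 ≠ 1`
    have hu2 : (d * (l' * d * l'⁻¹)) ^ 2 = 1 := (hcD l').resolve_right hl3
    rcases hcD (l' * x) with h | h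
    · rw [hmul l' hl', (hcomm l' hl').mul_pow, hu2, one_mul] at h
      apply hv1
      calc v = v ^ 3 * (v ^ 2)⁻¹ := by group
        _ = 1 := by rw [h, hv3]; simp
    · rw [hmul l' hl', (hcomm l' hl').mul_pow, hv3, mul_one] at h
      exact hl3 h

/-- (Hall) There is at most one component. -/
theorem isComponent_unique_of_hall (hall : HallHyp.{u}) (hD : IsThreeTranspositionClass D)
    {L1 L2 : Subgroup G} (h1 : IsComponent L1) (h2 : IsComponent L2) : L1 = L2 := by
  by_contra hne
  obtain ⟨d, hd, -⟩ := hD.2.1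
  have hT := hD.1
  have hdd := sq_of_mem hT hd
  have hn1 := normal_of_isComponent hD h1
  apply not_centralizes_of_isComponent hD h1 hd
  rcases sq_or_cube_of_two_components hD h1 h2 hne hd with hsq | hcube
  · apply commute_of_forall_commute_conj h1 hdd
    intro l hl
    exact commute_of_mul_sq_eq_one hdd (sq_of_mem hT (class_conj hD l d hd)) (hsq l hl)
  · exact commute_of_forall_cube hall h1 hn1 (hT.1 d hd) hcube

/-- **Structure theorem** (Hall). If `O_2(G)` and `O_3(G)` are central then `F*(G) = L Z(G)` with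
`L` a quasisimple normal subgroup, the unique component of `G`. -/
theorem exists_quasisimple_fstar_of_hall (hall : HallHyp.{u}) (hD : IsThreeTranspositionClass D)
    (hD2 : ∃ a ∈ D, ∃ b ∈ D, a ≠ b) (h2 : pCore 2 G ≤ Subgroup.center G)
    (h3 : pCore 3 G ≤ Subgroup.center G) :
    ∃ L : Subgroup G, L.Normal ∧ IsQuasisimple L ∧ IsComponent L ∧
      generalizedFittingSubgroup G = L ⊔ Subgroup.center G := by
  have hallp := pCore_le_center_all hD h2 h3
  obtain ⟨L, hL⟩ := exists_isComponent hD hD2 hallp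
  refine ⟨L, normal_of_isComponent hD hL, hL.2, hL, ?_⟩
  have hlayer : layer G = L := by
    unfold layer
    have : {K : Subgroup G | IsComponent K} = {L} := by
      ext K
      constructor
      · intro hK
        exact isComponent_unique_of_hall hall hD hK hL
      · rintro rfl
        exact hL
    rw [this, sSup_singleton]
  unfold generalizedFittingSubgroup
  rw [hlayer, fittingSubgroup_eq_center hallp]

/-- Two members of `D` whose commutator lies in the normal component `L` are congruent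
modulo `L`. -/
theorem inv_mul_mem_of_commutator_mem (hD : IsThreeTranspositionClass D) {L : Subgroup G}
    [hLn : L.Normal] (hL : IsComponent L) {a b : G} (ha : a ∈ D) (hb : b ∈ D)
    (hab : a * b * a⁻¹ * b⁻¹ ∈ L) : a⁻¹ * b ∈ L := by
  have hT := hD.1
  have haa := sq_of_mem hT ha
  have hbb := sq_of_mem hT hb
  have hainv : a⁻¹ = a := inv_eq_of_mul_eq_one_left haa
  have hbinv : b⁻¹ = b := inv_eq_of_mul_eq_one_left hbb
  by_cases hc : Commute a b
  · exact inv_mul_mem_of_commute hD hL le_rfl ha hb hc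
  · have h3 := cube_of_not_commute hT ha hb hc
    rw [hainv, hbinv] at hab
    rw [hainv]
    have e : a * b = (a * b * a * b)⁻¹ := by
      apply eq_inv_of_mul_eq_one_left
      have : a * b * (a * b * a * b) = (a * b) ^ 3 := by
        rw [pow_succ, pow_two]; simp only [mul_assoc]
      rw [this, h3]
    rw [e]
    exact L.inv_mem hab

end Fin

end Cfsg.Agent.Helper89
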