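import Mathlib
import Cfsg.Prelude.Def_FischerSpaces
import Cfsg.Agent.Helper89.TranspHallComp
import Cfsg.Agent.Helper22.Layer

/-!
# The trichotomy for groups generated by a class of 3-transpositions

For a class `D` of 3-transpositions generating the finite group `G` (with `|D| ≥ 2`), exactly one
of the following holds: `O_2(G)` is not central; `O_3(G)` is not central; `E(G) ≠ 1`.
(The case `O_3(G)` non-central, `E(G) ≠ 1` is excluded with Hall's theorem.)
-/

set_option autoImplicit false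

namespace Cfsg.Agent.Helper89

open Cfsg
open scoped commutatorElement
open Cfsg.Agent.S5353 (class_conj class_trans notMem_center)

universe u

section

variable {G : Type u} [Group G] {D : Set G}

/-- If `d`, `w` commute, `v` does not commute with `d`, and `d w` commutes with `v`,
then `w = d`. -/
theorem eq_of_commute_mul (hT : IsThreeTranspositionSet D) {d w v : G} (hd : d ∈ D) (hw : w ∈ D)
    (hv : v ∈ D) (hdv : ¬ Commute d v) (ht : Commute (d * w) v) : w = d := by
  have hdd := sq_of_mem hT hd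
  have hww := sq_of_mem hT hw
  have hvv := sq_of_mem hT hv
  have hdinv : d⁻¹ = d := inv_eq_of_mul_eq_one_left hdd
  have hwinv : w⁻¹ = w := inv_eq_of_mul_eq_one_left hww
  have hvinv : v⁻¹ = v := inv_eq_of_mul_eq_one_left hvv
  have hwv : ¬ Commute w v := by
    intro hc
    apply hdv
    have := ht.mul_left hc
    rwa [mul_assoc, hww, mul_one] at this
  -- `w v w = d v d`
  have h1 : w * v * w = d * v * d := by
    have e : d * w * v = v * (d * w) := ht.eq
    calc w * v * w = (d * d) * w * v * w := by rw [hdd, one_mul]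
      _ = d * (d * w * v) * w := by simp only [mul_assoc]
      _ = d * (v * (d * w)) * w := by rw [e]
      _ = d * v * d * (w * w) := by simp only [mul_assoc]
      _ = d * v * d := by rw [hww, mul_one]
  have h2 := cj_comm_of_not_commute hT hw hv hwv
  have h3 := cj_comm_of_not_commute hT hd hv hdv
  simp only [cj, hwinv, hvinv, hdinv] at h2 h3
  rw [h2, h3] at h1
  exact mul_left_cancel (mul_right_cancel h1)

/-- If `d`, `e` commute, `v` does not commute with `d`, and `e` inverts `d v`, then `e = d`. -/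
theorem eq_of_inverts_mul (hT : IsThreeTranspositionSet D) {d e v : G} (hd : d ∈ D) (he : e ∈ D)
    (hv : v ∈ D) (hde : Commute d e) (hdv : ¬ Commute d v) (hinv : e * (d * v) * e = v * d) :
    e = d := by
  have hdd := sq_of_mem hT hd
  have hee := sq_of_mem hT he
  have hvv := sq_of_mem hT hv
  have hdinv : d⁻¹ = d := inv_eq_of_mul_eq_one_left hdd
  have heinv : e⁻¹ = e := inv_eq_of_mul_eq_one_left hee
  have hvinv : v⁻¹ = v := inv_eq_of_mul_eq_one_left hvv
  -- `e v e = d v d`
  have h1 : e * v * e = d * v * d := by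
    calc e * v * e = (d * d) * e * v * e := by rw [hdd, one_mul]
      _ = d * (d * e) * v * e := by simp only [mul_assoc]
      _ = d * (e * d) * v * e := by rw [hde.eq]
      _ = d * (e * (d * v) * e) := by simp only [mul_assoc]
      _ = d * (v * d) := by rw [hinv]
      _ = d * v * d := by simp only [mul_assoc]
  have hev : ¬ Commute e v := by
    intro hc
    apply hdv
    have h2 : e * v * e = v := by rw [hc.eq, mul_assoc, hee, mul_one]
    rw [h2] at h1
    show d * v = v * d
    calc d * v = d * (d * v * d) := by rw [← h1]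
      _ = (d * d) * v * d := by simp only [mul_assoc]
      _ = v * d := by rw [hdd, one_mul]
  have h2 := cj_comm_of_not_commute hT he hv hev
  have h3 := cj_comm_of_not_commute hT hd hv hdv
  simp only [cj, heinv, hvinv, hdinv] at h2 h3
  rw [h2, h3] at h1
  exact mul_left_cancel (mul_right_cancel h1)

/-- If `d ≠ w` commute and `x` centralizes `d w`, then `d` commutes with `x d x⁻¹`. -/
theorem commute_conj_of_commute_mul (hT : IsThreeTranspositionSet D)
    (hconj : ∀ g : G, ∀ d ∈ D, g * d * g⁻¹ ∈ D) {d w x : G} (hd : d ∈ D) (hw : w ∈ D)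
    (hdw : Commute d w) (hne : w ≠ d) (hx : Commute x (d * w)) : Commute d (x * d * x⁻¹) := by
  by_contra hnc
  apply hne
  apply eq_of_commute_mul hT hd hw (hconj x d hd) hnc
  have h1 : Commute (d * w) d := ((Commute.refl d).mul_left hdw.symm)
  exact (hx.symm.mul_right h1).mul_right hx.symm.inv_right

/-- If `d`, `v` do not commute, `x` centralizes `d v`, and `d` commutes with `x d x⁻¹`, then
`x d x⁻¹ = d`. -/
theorem conj_eq_of_commute_mul (hT : IsThreeTranspositionSet D)
    (hconj : ∀ g : G, ∀ d ∈ D, g * d * g⁻¹ ∈ D) {d v x : G} (hd : d ∈ D) (hv : v ∈ D)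
    (hdv : ¬ Commute d v) (hx : Commute x (d * v)) (hc : Commute d (x * d * x⁻¹)) :
    x * d * x⁻¹ = d := by
  have he := hconj x d hd
  have he' := hconj x v hv
  have hdd := sq_of_mem hT hd
  have hvv := sq_of_mem hT hv
  have hee := sq_of_mem hT he
  have hee' := sq_of_mem hT he'
  have hprod : (x * d * x⁻¹) * (x * v * x⁻¹) = d * v := by
    have : (x * d * x⁻¹) * (x * v * x⁻¹) = x * (d * v) * x⁻¹ := by group
    rw [this, hx.eq, mul_inv_cancel_right]
  apply eq_of_inverts_mul hT hd he hv hc hdv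
  -- `e (d v) e = e (e e') e = e' e = (e e')⁻¹ = (d v)⁻¹ = v d`
  have h1 : (x * d * x⁻¹) * (d * v) * (x * d * x⁻¹) = (x * v * x⁻¹) * (x * d * x⁻¹) := by
    rw [← hprod]
    calc (x * d * x⁻¹) * ((x * d * x⁻¹) * (x * v * x⁻¹)) * (x * d * x⁻¹)
        = ((x * d * x⁻¹) * (x * d * x⁻¹)) * (x * v * x⁻¹) * (x * d * x⁻¹) := by
          simp only [mul_assoc]
      _ = (x * v * x⁻¹) * (x * d * x⁻¹) := by rw [hee, one_mul]
  rw [h1]
  have h2 : (x * v * x⁻¹) * (x * d * x⁻¹) = ((x * d * x⁻¹) * (x * v * x⁻¹))⁻¹ := by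
    rw [mul_inv_rev, inv_eq_of_mul_eq_one_left hee, inv_eq_of_mul_eq_one_left hee']
  rw [h2, hprod, mul_inv_rev, inv_eq_of_mul_eq_one_left hdd, inv_eq_of_mul_eq_one_left hvv]

/-- For `x` in a normal 2-subgroup: `d · x d x⁻¹` lies in it and `d` commutes with `x d x⁻¹`. -/
theorem mul_conj_mem_two_group (hT : IsThreeTranspositionSet D) {P : Subgroup G}
    (hPn : P.Normal) (hP : IsPGroup 2 P) {d x : G} (hd : d ∈ D) (hx : x ∈ P)
    (hd' : x * d * x⁻¹ ∈ D) : d * (x * d * x⁻¹) ∈ P ∧ Commute d (x * d * x⁻¹) := by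
  have hdd := sq_of_mem hT hd
  have hdinv : d⁻¹ = d := inv_eq_of_mul_eq_one_left hdd
  have h1' : d * (x * d * x⁻¹) ∈ P := by
    have : d * (x * d * x⁻¹) = (d * x * d⁻¹) * x⁻¹ := by rw [hdinv]; simp only [mul_assoc]
    rw [this]
    exact P.mul_mem (hPn.conj_mem x hx d) (P.inv_mem hx)
  refine ⟨h1', ?_⟩
  apply commute_of_mul_sq_eq_one hdd (sq_of_mem hT hd')
  rcases hT.2 d hd _ hd' with h | h
  · exact h
  · obtain ⟨k, hk⟩ := hP ⟨_, h1'⟩
    have hk' : (d * (x * d * x⁻¹)) ^ (2 ^ k) = 1 := by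
      have := congrArg Subtype.val hk
      simpa using this
    rw [eq_one_of_pow_two_pow_of_pow_three hk' h, one_pow]

/-- For `x` in a normal 3-subgroup: `d · x d x⁻¹` lies in it, and if `d` commutes with `x d x⁻¹`
then `x d x⁻¹ = d`. -/
theorem mul_conj_mem_three_group (hT : IsThreeTranspositionSet D) {P : Subgroup G}
    (hPn : P.Normal) (hP : IsPGroup 3 P) {d x : G} (hd : d ∈ D) (hx : x ∈ P)
    (hd' : x * d * x⁻¹ ∈ D) :
    d * (x * d * x⁻¹) ∈ P ∧ (Commute d (x * d * x⁻¹) → x * d * x⁻¹ = d) := by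
  have hdd := sq_of_mem hT hd
  have hdinv : d⁻¹ = d := inv_eq_of_mul_eq_one_left hdd
  have h1' : d * (x * d * x⁻¹) ∈ P := by
    have : d * (x * d * x⁻¹) = (d * x * d⁻¹) * x⁻¹ := by rw [hdinv]; simp only [mul_assoc]
    rw [this]
    exact P.mul_mem (hPn.conj_mem x hx d) (P.inv_mem hx)
  refine ⟨h1', fun hc => ?_⟩
  obtain ⟨k, hk⟩ := hP ⟨_, h1'⟩
  have hk' : (d * (x * d * x⁻¹)) ^ (3 ^ k) = 1 := by
    have := congrArg Subtype.val hk
    simpa using this
  have h6 : (d * (x * d * x⁻¹)) ^ 2 = 1 :=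
    mul_sq_eq_one_of_commute hdd (sq_of_mem hT hd') hc
  have h7 := eq_one_of_pow_three_pow_of_sq hk' h6
  have : x * d * x⁻¹ = d⁻¹ := (eq_inv_of_mul_eq_one_right h7)
  rw [this, hdinv]

/-- A non-central subgroup fails to commute with some member of the generating set `D`. -/
theorem exists_not_commute_of_not_le_center {P : Subgroup G} (hgen : Subgroup.closure D = ⊤)
    (h : ¬ P ≤ Subgroup.center G) : ∃ s ∈ P, ∃ d ∈ D, ¬ Commute s d := by
  by_contra hcon
  push Not at hcon
  exact h (le_center_of_forall_commute hgen hcon)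

/-- If one member of the class `D` centralizes the normal subgroup `P` then `P` is central. -/
theorem le_center_of_conj_eq (hD : IsThreeTranspositionClass D) {P : Subgroup G} (hPn : P.Normal)
    {d : G} (hd : d ∈ D) (h : ∀ x ∈ P, x * d * x⁻¹ = d) : P ≤ Subgroup.center G := by
  apply le_center_of_forall_commute hD.2.2
  intro x hx e he
  obtain ⟨g, rfl⟩ := class_trans hD d hd e he
  have h1 := h (g⁻¹ * x * g⁻¹⁻¹) (hPn.conj_mem x hx g⁻¹)
  show x * (g * d * g⁻¹) = (g * d * g⁻¹) * x
  have h2 : g * ((g⁻¹ * x * g⁻¹⁻¹) * d * (g⁻¹ * x * g⁻¹⁻¹)⁻¹) * g⁻¹ = g * d * g⁻¹ := by rw [h1]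
  have h3 : g * ((g⁻¹ * x * g⁻¹⁻¹) * d * (g⁻¹ * x * g⁻¹⁻¹)⁻¹) * g⁻¹ =
      x * (g * d * g⁻¹) * x⁻¹ := by group
  rw [h3] at h2
  calc x * (g * d * g⁻¹) = (x * (g * d * g⁻¹) * x⁻¹) * x := by group
    _ = (g * d * g⁻¹) * x := by rw [h2]

end

section Fin

variable {G : Type u} [Group G] [Finite G] {D : Set G}

theorem pCore_normal' (p : ℕ) : (pCore p G).Normal := by
  have := Cfsg.Agent.Lib.pCore_characteristic (G := G) p
  infer_instance

theorem isSolvable_pCore (p : ℕ) [Fact p.Prime] : Group.IsSolvable (pCore p G) := by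
  have hP : IsPGroup p (pCore p G) := Cfsg.Agent.Lib.isPGroup_pCore p
  haveI : Group.IsNilpotent (pCore p G) := hP.isNilpotent
  infer_instance

/-- `O_2(G)` and `O_3(G)` are not both non-central. -/
theorem pCore_two_or_three_le_center (hD : IsThreeTranspositionClass D) :
    pCore 2 G ≤ Subgroup.center G ∨ pCore 3 G ≤ Subgroup.center G := by
  by_contra hcon
  rw [not_or] at hcon
  obtain ⟨h2, h3⟩ := hcon
  have hT := hD.1
  have hconj := class_conj hD
  have hQn : (pCore 2 G).Normal := pCore_normal' 2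
  have hRn : (pCore 3 G).Normal := pCore_normal' 3
  have hQ2 : IsPGroup 2 (pCore 2 G) := Cfsg.Agent.Lib.isPGroup_pCore 2
  have hR3 : IsPGroup 3 (pCore 3 G) := Cfsg.Agent.Lib.isPGroup_pCore 3
  haveI : Fact (Nat.Prime 2) := ⟨Nat.prime_two⟩
  haveI : Fact (Nat.Prime 3) := ⟨Nat.prime_three⟩
  have hdis : Disjoint (pCore 2 G) (pCore 3 G) :=
    IsPGroup.disjoint_of_ne 2 3 (by norm_num) _ _ hQ2 hR3
  obtain ⟨s, hs, d, hd, hsd⟩ := exists_not_commute_of_not_le_center hD.2.2 h2
  obtain ⟨hmem, hcomm⟩ := mul_conj_mem_two_group hT hQn hQ2 hd hs (hconj s d hd)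
  have hne : s * d * s⁻¹ ≠ d := by
    intro h
    apply hsd
    show s * d = d * s
    calc s * d = (s * d * s⁻¹) * s := by group
      _ = d * s := by rw [h]
  apply h3
  apply le_center_of_conj_eq hD hRn hd
  intro r hr
  have hrt : Commute r (d * (s * d * s⁻¹)) :=
    (Subgroup.commute_of_normal_of_disjoint _ _ hQn hRn hdis _ _ hmem hr).symm
  have hc := commute_conj_of_commute_mul hT hconj hd (hconj s d hd) hcomm hne hrt
  exact (mul_conj_mem_three_group hT hRn hR3 hd hr (hconj r d hd)).2 hc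

/-- If `O_2(G)` is not central then `G` has no component. -/
theorem layer_eq_bot_of_pCore_two (hD : IsThreeTranspositionClass D)
    (h2 : ¬ pCore 2 G ≤ Subgroup.center G) : layer G = ⊥ := by
  rw [Cfsg.Agent.Helper22.layer_eq_bot_iff]
  intro L hL
  have hT := hD.1
  have hconj := class_conj hD
  haveI hQn : (pCore 2 G).Normal := pCore_normal' 2
  have hQ2 : IsPGroup 2 (pCore 2 G) := Cfsg.Agent.Lib.isPGroup_pCore 2
  haveI : Fact (Nat.Prime 2) := ⟨Nat.prime_two⟩
  obtain ⟨s, hs, d, hd, hsd⟩ := exists_not_commute_of_not_le_center hD.2.2 h2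
  obtain ⟨hmem, hcomm⟩ := mul_conj_mem_two_group hT hQn hQ2 hd hs (hconj s d hd)
  have hne : s * d * s⁻¹ ≠ d := by
    intro h
    apply hsd
    show s * d = d * s
    calc s * d = (s * d * s⁻¹) * s := by group
      _ = d * s := by rw [h]
  have hLQ : ⁅L, pCore 2 G⁆ = ⊥ :=
    Cfsg.Agent.Helper22.IsComponent.commutator_eq_bot_of_normal_isSolvable hL _ (isSolvable_pCore 2)
  rw [Subgroup.commutator_eq_bot_iff_le_centralizer] at hLQ
  apply not_centralizes_of_isComponent hD hL hd
  apply commute_of_forall_commute_conj hL (sq_of_mem hT hd)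
  intro l hl
  have hlt : Commute l (d * (s * d * s⁻¹)) :=
    (Subgroup.mem_centralizer_iff.mp (hLQ hl) _ hmem).symm
  exact commute_conj_of_commute_mul hT hconj hd (hconj s d hd) hcomm hne hlt

/-- (Hall) If `O_3(G)` is not central then `G` has no component. -/
theorem layer_eq_bot_of_pCore_three (hall : HallHyp.{u}) (hD : IsThreeTranspositionClass D)
    (h3 : ¬ pCore 3 G ≤ Subgroup.center G) : layer G = ⊥ := by
  rw [Cfsg.Agent.Helper22.layer_eq_bot_iff]
  intro L hL
  have hT := hD.1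
  have hconj := class_conj hD
  haveI hRn : (pCore 3 G).Normal := pCore_normal' 3
  have hR3 : IsPGroup 3 (pCore 3 G) := Cfsg.Agent.Lib.isPGroup_pCore 3
  haveI : Fact (Nat.Prime 3) := ⟨Nat.prime_three⟩
  obtain ⟨s, hs, d, hd, hsd⟩ := exists_not_commute_of_not_le_center hD.2.2 h3
  obtain ⟨hmem, himp⟩ := mul_conj_mem_three_group hT hRn hR3 hd hs (hconj s d hd)
  have hne : s * d * s⁻¹ ≠ d := by
    intro h
    apply hsd
    show s * d = d * s
    calc s * d = (s * d * s⁻¹) * s := by group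
      _ = d * s := by rw [h]
  have hdv : ¬ Commute d (s * d * s⁻¹) := fun hc => hne (himp hc)
  have hLR : ⁅L, pCore 3 G⁆ = ⊥ :=
    Cfsg.Agent.Helper22.IsComponent.commutator_eq_bot_of_normal_isSolvable hL _ (isSolvable_pCore 3)
  rw [Subgroup.commutator_eq_bot_iff_le_centralizer] at hLR
  apply not_centralizes_of_isComponent hD hL hd
  apply commute_of_forall_cube hall hL (normal_of_isComponent hD hL) (hT.1 d hd)
  intro l hl
  have hlk : Commute l (d * (s * d * s⁻¹)) :=
    (Subgroup.mem_centralizer_iff.mp (hLR hl) _ hmem).symm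
  by_cases hc : Commute d (l * d * l⁻¹)
  · rw [conj_eq_of_commute_mul hT hconj hd (hconj s d hd) hdv hlk hc, sq_of_mem hT hd, one_pow]
  · exact cube_of_not_commute hT hd (hconj l d hd) hc

/-- **Trichotomy** (Hall). -/
theorem trichotomy_of_hall (hall : HallHyp.{u}) (hD : IsThreeTranspositionClass D)
    (hD2 : ∃ a ∈ D, ∃ b ∈ D, a ≠ b) :
    (∀ p : ℕ, p.Prime → 3 < p → pCore p G ≤ Subgroup.center G) ∧
    ((¬ pCore 2 G ≤ Subgroup.center G ∧ pCore 3 G ≤ Subgroup.center G ∧ layer G = ⊥) ∨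
     (pCore 2 G ≤ Subgroup.center G ∧ ¬ pCore 3 G ≤ Subgroup.center G ∧ layer G = ⊥) ∨
     (pCore 2 G ≤ Subgroup.center G ∧ pCore 3 G ≤ Subgroup.center G ∧ layer G ≠ ⊥)) := by
  refine ⟨fun p hp hp3 => pCore_le_center_of_five_le hD hp ?_, ?_⟩
  · have : p ≠ 4 := by
      rintro rfl
      exact absurd hp (by decide)
    omega
  · by_cases h2 : pCore 2 G ≤ Subgroup.center G
    · by_cases h3 : pCore 3 G ≤ Subgroup.center G
      · right; right
        refine ⟨h2, h3, ?_⟩
        obtain ⟨L, hL⟩ := exists_isComponent hD hD2 (pCore_le_center_all hD h2 h3)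
        intro hbot
        exact (Cfsg.Agent.Helper22.layer_eq_bot_iff.mp hbot) L hL
      · right; left
        exact ⟨h2, h3, layer_eq_bot_of_pCore_three hall hD h3⟩
    · left
      refine ⟨h2, ?_, layer_eq_bot_of_pCore_two hD h2⟩
      exact (pCore_two_or_three_le_center hD).resolve_left h2

end Fin

end Cfsg.Agent.Helper89
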