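import Mathlib
import Cfsg.Prelude.Def_FischerSpaces
import Cfsg.Agent.Helper89.TranspHall
import Cfsg.Agent.Helper89.TranspHallTri
import Cfsg.Agent.Lib.Cores

/-!
# Hall triple systems inside a group (helper89)

A non-empty set `T` of involutions of a finite group, closed under `(a, b) ↦ a b a` and with
`(a b) ^ 3 = 1` for distinct members, has `3`-power size, and the subgroup it generates has order
dividing `2 · 3 ^ n` (a consequence of Hall's theorem, taken as the hypothesis `HallHyp`).

Also: the size of an orbit of a subgroup acting by conjugation divides the order of the subgroup.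
-/

set_option autoImplicit false

namespace Cfsg.Agent.Helper89.FHTS

open Cfsg Cfsg.Agent.Helper89

universe u

section Orbit

variable {G : Type*} [Group G]

/-- The size of a conjugation orbit of a subgroup divides its order. -/
theorem ncard_conj_orbit_dvd (K : Subgroup G) (e : G) :
    {y | ∃ g ∈ K, g * e * g⁻¹ = y}.ncard ∣ Nat.card K := by
  letI act : MulAction ↥K G :=
    MulAction.compHom G ((MulEquiv.toMonoidHom ConjAct.toConjAct).comp K.subtype)
  have horb : MulAction.orbit ↥K e = {y | ∃ g ∈ K, g * e * g⁻¹ = y} := by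
    ext y
    constructor
    · rintro ⟨g, rfl⟩
      exact ⟨g.1, g.2, rfl⟩
    · rintro ⟨g, hg, rfl⟩
      exact ⟨⟨g, hg⟩, rfl⟩
  rw [← horb, ← MulAction.index_stabilizer]
  exact Subgroup.index_dvd_card _

end Orbit

section HTS

variable {G : Type u} [Group G] [Finite G]

theorem hts (hall : HallHyp.{u}) {T : Set G} (hne : T.Nonempty) (hord : ∀ t ∈ T, orderOf t = 2)
    (hprod : ∀ a ∈ T, ∀ b ∈ T, a ≠ b → (a * b) ^ 3 = 1) (hcl : ∀ a ∈ T, ∀ b ∈ T, a * b * a ∈ T) :
    (∃ i : ℕ, T.ncard = 3 ^ i) ∧ ∃ n : ℕ, Nat.card (Subgroup.closure T) ∣ 2 * 3 ^ n := by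
  haveI : Fact (Nat.Prime 3) := ⟨Nat.prime_three⟩
  obtain ⟨a, ha⟩ := hne
  have hsq : ∀ t ∈ T, t * t = 1 := fun t ht => mul_self_of_orderOf_two (hord t ht)
  have hinv : ∀ t ∈ T, t⁻¹ = t := fun t ht => inv_eq_of_mul_eq_one_left (hsq t ht)
  have hTH : T ⊆ (Subgroup.closure T : Set G) := Subgroup.subset_closure
  -- the closure normalizes `T`
  have hnorm : ∀ g ∈ Subgroup.closure T, (∀ t ∈ T, g * t * g⁻¹ ∈ T) ∧ ∀ t ∈ T, g⁻¹ * t * g ∈ T := by
    intro g hg
    induction hg using Subgroup.closure_induction with
    | mem g hg =>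
      constructor
      · intro t ht
        rw [hinv g hg]
        exact hcl g hg t ht
      · intro t ht
        rw [hinv g hg]
        exact hcl g hg t ht
    | one => simp
    | mul g h _ _ ihg ihh =>
      constructor
      · intro t ht
        have := ihg.1 _ (ihh.1 t ht)
        have e : g * h * t * (g * h)⁻¹ = g * (h * t * h⁻¹) * g⁻¹ := by group
        rw [e]; exact this
      · intro t ht
        have := ihh.2 _ (ihg.2 t ht)
        have e : (g * h)⁻¹ * t * (g * h) = h⁻¹ * (g⁻¹ * t * g) * h := by group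
        rw [e]; exact this
    | inv g _ ih =>
      constructor
      · intro t ht
        have := ih.2 t ht
        rwa [inv_inv]
      · intro t ht
        have := ih.1 t ht
        rwa [inv_inv]
  -- the key identity
  have hkey : ∀ p ∈ T, ∀ q ∈ T, p * q * p * q * p = q := by
    intro p hp q hq
    by_cases hpq : p = q
    · subst hpq
      rw [hsq p hp, one_mul, hsq p hp, one_mul]
    · have h3 := hprod p hp q hq hpq
      rw [pow_three] at h3
      calc p * q * p * q * p = (p * q * (p * q * (p * q))) * q⁻¹ := by group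
        _ = q := by rw [h3, one_mul, hinv q hq]
  set H := Subgroup.closure T with hH
  set d : ↥H := ⟨a, hTH ha⟩ with hd
  have hdord : orderOf d = 2 := by
    rw [← hord a ha, ← Subgroup.orderOf_coe d]
  have hdd : d * d = 1 := mul_self_of_orderOf_two hdord
  -- the conjugates of `d` are the members of `T`
  have hconjT : ∀ h : ↥H, h ∈ conjugatesOf d ↔ (h : G) ∈ T := by
    intro h
    show IsConj d h ↔ _
    rw [isConj_iff]
    constructor
    · rintro ⟨c, rfl⟩
      exact (hnorm c.1 c.2).1 a ha
    · intro hT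
      have hcT : a * (h : G) * a ∈ T := hcl a ha _ hT
      refine ⟨⟨a * (h : G) * a, hTH hcT⟩, ?_⟩
      apply Subtype.ext
      show a * (h : G) * a * a * (a * (h : G) * a)⁻¹ = h
      rw [hinv _ hcT]
      calc a * (h : G) * a * a * (a * (h : G) * a)
          = a * (h : G) * (a * a) * (a * (h : G) * a) := by simp only [mul_assoc]
        _ = a * (h : G) * a * (h : G) * a := by rw [hsq a ha, mul_one]; simp only [mul_assoc]
        _ = h := hkey a ha _ hT
  -- products of conjugates have `3`-power order
  have hprodH : ∀ h₁ ∈ conjugatesOf d, ∀ h₂ ∈ conjugatesOf d, ∃ k : ℕ, orderOf (h₁ * h₂) = 3 ^ k := by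
    intro h₁ hh₁ h₂ hh₂
    have h3 : (h₁ * h₂) ^ 3 = 1 := by
      by_cases he : h₁ = h₂
      · subst he
        have : h₁ * h₁ = 1 := by
          apply Subtype.ext
          exact hsq _ ((hconjT h₁).mp hh₁)
        rw [this, one_pow]
      · apply Subtype.ext
        have hne : (h₁ : G) ≠ h₂ := fun h => he (Subtype.ext h)
        exact hprod _ ((hconjT h₁).mp hh₁) _ ((hconjT h₂).mp hh₂) hne
    have hdvd : orderOf (h₁ * h₂) ∣ 3 ^ 1 := by
      rw [pow_one]; exact orderOf_dvd_of_pow_eq_one h3
    obtain ⟨k, -, hk⟩ := (Nat.dvd_prime_pow Nat.prime_three).mp hdvd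
    exact ⟨k, hk⟩
  have hP := hall ↥H d hdord hprodH
  have hPn : (pCore 3 ↥H).Normal := pCore_normal' 3
  have hP3 : IsPGroup 3 (pCore 3 ↥H) := Cfsg.Agent.Lib.isPGroup_pCore 3
  have hdself : d ∈ conjugatesOf d := mem_conjugatesOf_self
  constructor
  · -- the size of `T`
    have himg : T = Subtype.val '' (conjugatesOf d) := by
      ext t
      constructor
      · intro ht
        exact ⟨⟨t, hTH ht⟩, (hconjT _).mpr ht, rfl⟩
      · rintro ⟨h, hh, rfl⟩
        exact (hconjT h).mp hh
    let act : MulAction ↥(pCore 3 ↥H) ↥H :=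
      MulAction.compHom ↥H ((MulEquiv.toMonoidHom ConjAct.toConjAct).comp (pCore 3 ↥H).subtype)
    have horb : conjugatesOf d = MulAction.orbit ↥(pCore 3 ↥H) d := by
      ext h
      constructor
      · intro hh
        have hu : d * h ∈ pCore 3 ↥H := hP d hdself h hh
        refine ⟨⟨d * h, hu⟩, ?_⟩
        show d * h * d * (d * h)⁻¹ = h
        have hhh : h * h = 1 := by
          apply Subtype.ext
          exact hsq _ ((hconjT h).mp hh)
        have e1 : (d * h)⁻¹ = h * d := by
          rw [mul_inv_rev, inv_eq_of_mul_eq_one_left hdd, inv_eq_of_mul_eq_one_left hhh]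
        rw [e1]
        apply Subtype.ext
        have := hkey a ha _ ((hconjT h).mp hh)
        calc ((d * h * d * (h * d) : ↥H) : G) = a * (h : G) * a * (h : G) * a := by
              simp only [Subgroup.coe_mul, hd, mul_assoc]
          _ = h := this
      · rintro ⟨u, rfl⟩
        show IsConj d _
        rw [isConj_iff]
        exact ⟨u.1, rfl⟩
    obtain ⟨n, hn⟩ := hP3.card_orbit (α := ↥H) d
    refine ⟨n, ?_⟩
    rw [himg, Set.ncard_image_of_injective _ Subtype.val_injective, horb,
      ← Nat.card_coe_set_eq]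
    exact hn
  · -- the order of the closure
    obtain ⟨n, hn⟩ := IsPGroup.iff_card.mp hP3
    refine ⟨n, ?_⟩
    have htop : Subgroup.zpowers d ⊔ pCore 3 ↥H = ⊤ := by
      rw [eq_top_iff, ← Subgroup.closure_closure_coe_preimage (k := T), Subgroup.closure_le]
      intro h hh
      have hh' : h ∈ conjugatesOf d := (hconjT h).mpr hh
      have h1 : d * h ∈ pCore 3 ↥H := hP d hdself h hh'
      have : h = d * (d * h) := by rw [← mul_assoc, hdd, one_mul]
      rw [SetLike.mem_coe, this]
      exact Subgroup.mul_mem _ (Subgroup.mem_sup_left (Subgroup.mem_zpowers d))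
        (Subgroup.mem_sup_right h1)
    have hidx : (pCore 3 ↥H).index ∣ 2 := by
      rw [← Subgroup.relIndex_top_right, ← htop, Subgroup.relIndex_sup_right]
      have := Subgroup.relIndex_dvd_card (pCore 3 ↥H) (Subgroup.zpowers d)
      rwa [Nat.card_zpowers, hdord] at this
    rw [← Subgroup.card_mul_index (pCore 3 ↥H), hn, mul_comm]
    exact Nat.mul_dvd_mul_right hidx _

end HTS

end Cfsg.Agent.Helper89.FHTS
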