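import Mathlib
import Cfsg.Prelude.Def_FischerSpaces
import Cfsg.Agent.Helper89.FischerCount
import Cfsg.Agent.Helper89.FischerHTS
import Cfsg.Agent.Helper89.CoxeterS5
import Cfsg.Agent.S5353

/-!
# A primitive class of 3-transpositions with local twins is the class of `Sym(5)` (helper89)

If `D` is a primitive class of 3-transpositions of the finite group `G` and some `D_x` contains local
twins, then `G ≅ Sym(5)`.
-/

set_option autoImplicit false

namespace Cfsg.Agent.Helper89.FS5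

open Cfsg Equiv Cfsg.Agent.Helper89 Cfsg.Agent.Helper89.LocS3 Cfsg.Agent.Helper89.Rank3
  Cfsg.Agent.Helper89.FTwin Cfsg.Agent.Helper89.FCount Cfsg.Agent.Helper89.FHTS

universe u

variable {G : Type u} [Group G] {D : Set G}

section Basic

variable (hT : IsThreeTranspositionSet D) (hconj : ∀ g : G, ∀ d ∈ D, g * d * g⁻¹ ∈ D)

/-- Different members of a twin class do not commute. -/
theorem Th_not_commute {x a c₁ c₂ : G} (h₁ : c₁ ∈ Th D x a) (h₂ : c₂ ∈ Th D x a) (hne : c₁ ≠ c₂) :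
    ¬ Commute c₁ c₂ := by
  intro hc
  have : c₂ ∈ Dd D x ∩ Dd D c₂ := by
    rw [h₂.2, ← h₁.2]
    exact ⟨h₂.1, h₂.1.1, hne.symm, hc⟩
  exact this.2.2.1 rfl

/-- Conjugation by `c` fixes every set of elements commuting with `c`. -/
theorem conjSet_eq_of_commute {c : G} {S : Set G} (h : ∀ y ∈ S, Commute c y) : conjSet c S = S := by
  ext y
  rw [mem_conjSet]
  constructor
  · intro hy
    have hc := h _ hy
    have : y = c * (c⁻¹ * y * c) * c⁻¹ := by group
    rw [this, hc.eq]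
    simpa using hy
  · intro hy
    have hc := h _ hy
    have : c⁻¹ * y * c = y := by rw [mul_assoc, ← hc.eq]; group
    rw [this]; exact hy

include hT hconj in
/-- A twin class is closed under `(c₁, c₂) ↦ c₁ c₂ c₁`. -/
theorem Th_closed {x a c₁ c₂ : G} (h₁ : c₁ ∈ Th D x a) (h₂ : c₂ ∈ Th D x a) :
    c₁ * c₂ * c₁ ∈ Th D x a := by
  have hinv : c₁⁻¹ = c₁ := inv_eq_of_mul_eq_one_left (sq_of_mem hT h₁.1.1)
  have hcx : c₁ * x * c₁⁻¹ = x := by rw [← h₁.1.2.2.eq]; group
  have e : c₁ * c₂ * c₁ = c₁ * c₂ * c₁⁻¹ := by rw [hinv]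
  rw [e]
  refine ⟨?_, ?_⟩
  · have := conj_mem_Dd hconj c₁ h₂.1
    rwa [hcx] at this
  · have h3 : Dd D x ∩ Dd D (c₁ * c₂ * c₁⁻¹) = conjSet c₁ (Dd D x ∩ Dd D c₂) := by
      rw [conjSet_inter, ← Dd_conj hconj, ← Dd_conj hconj, hcx]
    rw [h3, h₂.2, ← h₁.2]
    rw [conjSet_eq_of_commute]
    rintro y ⟨-, hy⟩
    exact hy.2.2

end Basic

section Md

variable [Finite G] (hT : IsThreeTranspositionSet D)

include hT in
/-- `|⟨x, D_x⟩|` divides `2 |⟨D_x⟩|`. -/
theorem card_Md_dvd {x : G} (hx : x ∈ D) :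
    Nat.card (Md D x) ∣ 2 * Nat.card (Subgroup.closure (Dd D x)) := by
  have hcent : Subgroup.closure (Dd D x) ≤ Subgroup.centralizer {x} := by
    rw [Subgroup.closure_le]
    intro y hy
    rw [SetLike.mem_coe, Subgroup.mem_centralizer_iff]
    intro z hz
    rw [Set.mem_singleton_iff] at hz
    subst hz
    exact hy.2.2.eq
  have comm : ∀ (z : ↥(Subgroup.zpowers x)) (m : ↥(Subgroup.closure (Dd D x))),
      Commute ((Subgroup.zpowers x).subtype z) ((Subgroup.closure (Dd D x)).subtype m) := by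
    intro z m
    obtain ⟨k, hk⟩ := Subgroup.mem_zpowers_iff.mp z.2
    have h1 : Commute x (m : G) := by
      have := Subgroup.mem_centralizer_iff.mp (hcent m.2) x rfl
      exact this
    show Commute (z : G) (m : G)
    rw [← hk]
    exact h1.zpow_left k
  set φ := ((Subgroup.zpowers x).subtype).noncommCoprod ((Subgroup.closure (Dd D x)).subtype) comm
    with hφ
  have hle : Md D x ≤ φ.range := by
    unfold Md
    rw [Subgroup.closure_le]
    rintro y ⟨hyD, hxy⟩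
    by_cases hyx : y = x
    · refine ⟨(⟨x, Subgroup.mem_zpowers x⟩, 1), ?_⟩
      rw [hφ, MonoidHom.noncommCoprod_apply]
      simp [hyx]
    · refine ⟨(1, ⟨y, Subgroup.subset_closure ⟨hyD, hyx, hxy⟩⟩), ?_⟩
      rw [hφ, MonoidHom.noncommCoprod_apply]
      simp
  have h1 : Nat.card (Md D x) ∣ Nat.card φ.range := Subgroup.card_dvd_of_le hle
  have h2 : Nat.card φ.range ∣
      Nat.card (↥(Subgroup.zpowers x) × ↥(Subgroup.closure (Dd D x))) :=
    Subgroup.card_dvd_of_surjective φ.rangeRestrict φ.rangeRestrict_surjective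
  rw [Nat.card_prod, Nat.card_zpowers, hT.1 x hx] at h2
  exact h1.trans h2

end Md

section Main

variable [Finite G] (hT : IsThreeTranspositionSet D)
  (hconj : ∀ g : G, ∀ d ∈ D, g * d * g⁻¹ ∈ D) (hgen : Subgroup.closure D = ⊤)
  (hprim : IsPrimitiveUnderConj D)

include hT hconj hgen hprim in
/-- By primitivity, non-commuting `a, b` are separated by some `e ∈ D_a`. -/
theorem exists_not_commute_sep {x a b : G} (hx : x ∈ D) (ha : a ∈ Dd D x) (hb : b ∈ Dd D x)
    (hab : ¬ Commute a b) : ∃ e ∈ Dd D a, ¬ Commute e b := by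
  have hw : ∃ a ∈ D, ∃ b ∈ D, a ≠ b ∧ Commute a b := ⟨x, hx, a, ha.1, ha.2.1.symm, ha.2.2⟩
  by_contra hno
  have hall : ∀ e ∈ Dd D a, Commute e b := by
    intro e he
    by_contra hc
    exact hno ⟨e, he, hc⟩
  have hsub : Dd D a ⊆ Dd D b := by
    intro e he
    refine ⟨he.1, ?_, (hall e he).symm⟩
    rintro rfl
    exact hab he.2.2
  have heq : Dd D a = Dd D b :=
    Set.eq_of_subset_of_ncard_le hsub
      (le_of_eq (Dd_ncard_eq hT hconj hgen hprim hw ha.1 hb.1)) (Set.toFinite _)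
  have hne : a ≠ b := fun h => hab (h ▸ Commute.refl a)
  have hblock := block_of_invariant_rel hconj hprim (fun y z => Dd D y = Dd D z)
    (fun _ _ h => h.symm) (fun _ _ _ h1 h2 => h1.trans h2)
    (fun g y z h => by
      show Dd D (g * y * g⁻¹) = Dd D (g * z * g⁻¹)
      rw [Dd_conj hconj, Dd_conj hconj, h]) ha.1 hb.1 hne heq
  have h1 : Dd D a = Dd D x := hblock x hx
  have : a ∈ Dd D a := by rw [h1]; exact ha
  exact this.2.1 rfl

include hT hconj hgen hprim in
/-- **Local twins force `Sym(5)`.** -/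
theorem s5_of_local_twin (hall : HallHyp.{u}) {x a b : G} (hx : x ∈ D) (ha : a ∈ Dd D x)
    (hb : b ∈ Dd D x) (hab : ¬ Commute a b) (htw : Dd D x ∩ Dd D a = Dd D x ∩ Dd D b) :
    Nonempty (G ≃* Perm (Fin 5)) := by
  have hw : ∃ a ∈ D, ∃ b ∈ D, a ≠ b ∧ Commute a b := ⟨x, hx, a, ha.1, ha.2.1.symm, ha.2.2⟩
  obtain ⟨e, he, heb⟩ := exists_not_commute_sep hT hconj hgen hprim hx ha hb hab
  have hB : Base D x a b e := ⟨hx, ha, hb, hab, htw, he, heb⟩
  have hxe := hB.not_commute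
  -- Hall's theorem for the twin class
  have haTh : a ∈ Th D x a := ⟨ha, rfl⟩
  have hbTh : b ∈ Th D x a := ⟨hb, htw.symm⟩
  have hTh_ord : ∀ t ∈ Th D x a, orderOf t = 2 := fun t ht => hT.1 t ht.1.1
  have hTh_prod : ∀ c₁ ∈ Th D x a, ∀ c₂ ∈ Th D x a, c₁ ≠ c₂ → (c₁ * c₂) ^ 3 = 1 :=
    fun c₁ h₁ c₂ h₂ hne => cube_of_not_commute hT h₁.1.1 h₂.1.1 (Th_not_commute h₁ h₂ hne)
  obtain ⟨⟨i, hi⟩, ⟨n, hn⟩⟩ := hts hall ⟨a, haTh⟩ hTh_ord hTh_prod
    (fun c₁ h₁ c₂ h₂ => Th_closed hT hconj h₁ h₂)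
  -- Hall's theorem for the part of the twin class commuting with `e`
  have haT' : a ∈ Th D x a ∩ Dd D e := ⟨haTh, mem_Dd_symm ha.1 he⟩
  obtain ⟨⟨j, hj⟩, -⟩ := hts hall ⟨a, haT'⟩ (fun t ht => hTh_ord t ht.1)
    (fun c₁ h₁ c₂ h₂ hne => hTh_prod c₁ h₁.1 c₂ h₂.1 hne)
    (fun c₁ h₁ c₂ h₂ => by
      have h3 := Th_closed hT hconj h₁.1 h₂.1
      refine ⟨h3, h3.1.1, ?_, ?_⟩
      · intro h
        apply hxe
        rw [← h]
        exact h3.1.2.2
      · exact (h₁.2.2.2.mul_right h₂.2.2.2).mul_right h₁.2.2.2)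
  -- `s + 2 ≤ q`
  have hlt : (Th D x a ∩ Dd D e).ncard < (Th D x a).ncard := by
    apply Set.ncard_lt_ncard _ (Set.toFinite _)
    refine ⟨Set.inter_subset_left, ?_⟩
    intro hsub
    exact heb (hsub hbTh).2.2.2
  have hji : j < i := by
    rw [hi, hj] at hlt
    exact (Nat.pow_lt_pow_iff_right (by norm_num)).mp hlt
  have hs : (Th D x a ∩ Dd D e).ncard + 2 ≤ (Th D x a).ncard := by
    rw [hi, hj]
    have h1 : 3 ^ (j + 1) ≤ 3 ^ i := Nat.pow_le_pow_right (by norm_num) hji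
    have h2 : 1 ≤ 3 ^ j := Nat.one_le_pow _ _ (by norm_num)
    rw [pow_succ] at h1
    omega
  obtain ⟨hlam, hkq⟩ := hB.main hT hconj hgen hprim hw hs
  -- `D_x` is the twin class
  have hDdTh : Th D x a = Dd D x :=
    Set.eq_of_subset_of_ncard_le (fun c hc => hc.1) (le_of_eq hkq) (Set.toFinite _)
  rw [hDdTh] at hn
  -- `l ∣ 4 · 3 ^ n`
  have horb : Ad D x = {y | ∃ g ∈ Md D x, g * e * g⁻¹ = y} := by
    ext y
    constructor
    · intro hy
      exact sameOrb_all hT hconj hprim hw hx he.1 hxe hy.1 hy.2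
    · rintro ⟨g, hg, rfl⟩
      exact ⟨hconj g e he.1, not_commute_conj_of_commute (commute_of_mem_Md hg) hxe⟩
  have hl : (Ad D x).ncard ∣ 4 * 3 ^ n := by
    rw [horb]
    refine (ncard_conj_orbit_dvd (Md D x) e).trans ((card_Md_dvd hT hx).trans ?_)
    have : 4 * 3 ^ n = 2 * (2 * 3 ^ n) := by ring
    rw [this]
    exact Nat.mul_dvd_mul_left 2 hn
  -- the equations
  have hcard := hB.card_eq hT hconj hgen hprim hw
  have hmu : (Dd D x ∩ Dd D e).ncard = 3 ^ j := by
    rw [hj] at hcard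
    omega
  have hk : (Dd D x).ncard = 3 ^ i := by rw [hkq, hi]
  have h3i : 1 ≤ 3 ^ i := Nat.one_le_pow _ _ (by norm_num)
  have hcount := count_one hT hconj hgen hprim hw hx ha hB.mem_Ad (3 ^ i - 1)
    (by rw [hlam, hk]; omega)
  rw [hk, hmu] at hcount
  -- `3 ^ i - 1` divides `4`
  have hi1 : i ≠ 0 := by
    rintro rfl
    omega
  have hdvd : (3 ^ i - 1) ∣ 4 * 3 ^ (n + j) := by
    have h1 : (3 ^ i - 1) ∣ (Ad D x).ncard * 3 ^ j := by
      rw [← hcount]
      exact Dvd.intro_left _ rfl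
    refine h1.trans ?_
    rw [pow_add, ← mul_assoc]
    exact Nat.mul_dvd_mul_right hl _
  have hcop : Nat.Coprime (3 ^ i - 1) (3 ^ (n + j)) := by
    apply Nat.Coprime.pow_right
    have h1 : Nat.Coprime (3 ^ i - 1) (3 ^ i - 1 + 1) := by simp
    have h2 : 3 ∣ 3 ^ i - 1 + 1 := by
      rw [Nat.sub_add_cancel h3i]
      exact dvd_pow_self 3 hi1
    exact Nat.Coprime.coprime_dvd_right h2 h1
  have hd4 : (3 ^ i - 1) ∣ 4 := hcop.dvd_of_dvd_mul_right hdvd
  have hle4 : 3 ^ i - 1 ≤ 4 := Nat.le_of_dvd (by norm_num) hd4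
  have hi2 : i < 2 := by
    by_contra hge
    have h9 : 3 ^ 2 ≤ 3 ^ i := Nat.pow_le_pow_right (by norm_num) (by omega)
    omega
  have hi' : i = 1 := by omega
  subst hi'
  rw [pow_one] at hk
  -- `D_x = {a, b, a b a}`
  have hcTh : a * b * a ∈ Th D x a := Th_closed hT hconj haTh hbTh
  obtain ⟨hn1, hn2, hn3⟩ := ne_conj_of_not_commute hT ha.1 hab
  have hDd : Dd D x = {a, b, a * b * a} := by
    symm
    apply Set.eq_of_subset_of_ncard_le
    · rintro y (rfl | rfl | rfl)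
      · exact ha
      · exact hb
      · exact hcTh.1
    · rw [hk, Set.ncard_eq_three.mpr ⟨a, b, a * b * a, hn1, hn2, hn3, rfl⟩]
    · exact Set.toFinite _
  -- the homomorphism from `Sym(5)`
  have hxx := sq_of_mem hT hx
  have hee := sq_of_mem hT he.1
  have haa := sq_of_mem hT ha.1
  have hbb := sq_of_mem hT hb.1
  have r : CoxS5.Rel4 x e b a := by
    refine ⟨hxx, hee, hbb, haa, hb.2.2.eq.symm, ha.2.2.eq.symm, he.2.2.eq, ?_, ?_, ?_⟩
    · have := braid hT hx he.1 hxe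
      simp only [mul_assoc] at this ⊢
      exact this.symm
    · have := braid hT he.1 hb.1 heb
      simp only [mul_assoc] at this ⊢
      exact this.symm
    · have := braid hT hb.1 ha.1 (fun c => hab c.symm)
      simp only [mul_assoc] at this ⊢
      exact this.symm
  obtain ⟨φ, h0, h1, h2, h3⟩ := CoxS5.exists_hom r
  have hinj : Function.Injective φ := by
    apply CoxS5.injective_of_ne
    rw [h0, h2]
    exact hb.2.1.symm
  have hxr : x ∈ φ.range := ⟨_, h0⟩
  have her : e ∈ φ.range := ⟨_, h1⟩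
  have hbr : b ∈ φ.range := ⟨_, h2⟩
  have har : a ∈ φ.range := ⟨_, h3⟩
  have hMd : Md D x ≤ φ.range := by
    unfold Md
    rw [Subgroup.closure_le]
    rintro y ⟨hyD, hxy⟩
    by_cases hyx : y = x
    · rw [hyx]; exact hxr
    · have : y ∈ Dd D x := ⟨hyD, hyx, hxy⟩
      rw [hDd] at this
      rcases this with rfl | rfl | rfl
      · exact har
      · exact hbr
      · exact φ.range.mul_mem (φ.range.mul_mem har hbr) har
  have hDr : D ⊆ φ.range := by
    intro t ht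
    by_cases hxt : Commute x t
    · exact hMd (mem_Md_of_commute ht hxt)
    · obtain ⟨g, hg, rfl⟩ := sameOrb_all hT hconj hprim hw hx he.1 hxe ht hxt
      exact φ.range.mul_mem (φ.range.mul_mem (hMd hg) her) (φ.range.inv_mem (hMd hg))
  have hsurj : Function.Surjective φ := by
    rw [← MonoidHom.range_eq_top, eq_top_iff, ← hgen, Subgroup.closure_le]
    exact hDr
  exact ⟨(MulEquiv.ofBijective φ ⟨hinj, hsurj⟩).symm⟩

end Main

end Cfsg.Agent.Helper89.FS5
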