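import Mathlib

/-!
# S4291 (Frobenius complements): small group-theoretic tools

* `quatKlein n` : the surjection `QuaternionGroup (2 * n) → DihedralGroup 2` with cyclic kernel;
* `quat_sq_index` : a subgroup of a quaternion group containing all squares has index `≤ 4`;
* `mulAut_eq_one_of_odd` : automorphisms of odd order of cyclic `2`-groups are trivial.
-/

set_option autoImplicit false

namespace Cfsg.Agent.Helper89.FrobZ

open QuaternionGroup

section Quat

variable (m : ℕ)

/-- reduction mod 2 on `ZMod (2 * (2 * m))`. -/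
noncomputable def red : ZMod (2 * (2 * m)) →+* ZMod 2 :=
  ZMod.castHom (Dvd.intro _ rfl) (ZMod 2)

theorem red_two_mul_m : red m ((2 * m : ℕ) : ZMod (2 * (2 * m))) = 0 := by
  rw [map_natCast]
  have : ((2 * m : ℕ) : ZMod 2) = ((2 : ℕ) : ZMod 2) * (m : ZMod 2) := by push_cast; ring
  rw [this, ZMod.natCast_self, zero_mul]

/-- the map `a i ↦ r (i mod 2)`, `xa i ↦ sr (i mod 2)`. -/
noncomputable def quatKleinFun : QuaternionGroup (2 * m) → DihedralGroup 2
  | a i => DihedralGroup.r (red m i)
  | xa i => DihedralGroup.sr (red m i)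

/-- the surjection of a generalized quaternion group onto the Klein four-group. -/
noncomputable def quatKlein : QuaternionGroup (2 * m) →* DihedralGroup 2 where
  toFun := quatKleinFun m
  map_one' := by
    show quatKleinFun m (a 0) = 1
    show DihedralGroup.r (red m 0) = 1
    rw [map_zero]; rfl
  map_mul' := by
    rintro (i | i) (j | j)
    · show quatKleinFun m (a i * a j) = _
      rw [a_mul_a]
      simp [quatKleinFun, DihedralGroup.r_mul_r]
    · show quatKleinFun m (a i * xa j) = _
      rw [a_mul_xa]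
      simp [quatKleinFun, DihedralGroup.r_mul_sr]
    · show quatKleinFun m (xa i * a j) = _
      rw [xa_mul_a]
      simp [quatKleinFun, DihedralGroup.sr_mul_r]
    · show quatKleinFun m (xa i * xa j) = _
      rw [xa_mul_xa]
      simp only [quatKleinFun, DihedralGroup.sr_mul_sr, map_add, map_sub, red_two_mul_m, zero_add]

theorem quatKlein_a (i : ZMod (2 * (2 * m))) : quatKlein m (a i) = DihedralGroup.r (red m i) := rfl

theorem quatKlein_xa (i : ZMod (2 * (2 * m))) :
    quatKlein m (xa i) = DihedralGroup.sr (red m i) := rfl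

theorem quatKlein_surjective : Function.Surjective (quatKlein m) := by
  have hsurj : Function.Surjective (red m) := ZMod.castHom_surjective _
  rintro (j | j)
  · obtain ⟨i, rfl⟩ := hsurj j
    exact ⟨a i, rfl⟩
  · obtain ⟨i, rfl⟩ := hsurj j
    exact ⟨xa i, rfl⟩

theorem mem_ker_quatKlein_iff (x : QuaternionGroup (2 * m)) :
    x ∈ (quatKlein m).ker ↔ ∃ i : ZMod (2 * (2 * m)), red m i = 0 ∧ x = a i := by
  rw [MonoidHom.mem_ker]
  rcases x with i | i
  · rw [quatKlein_a, DihedralGroup.one_def]
    constructor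
    · intro h
      refine ⟨i, ?_, rfl⟩
      injection h
    · rintro ⟨j, hj, hx⟩
      injection hx with hx
      rw [hx, hj]
  · rw [quatKlein_xa, DihedralGroup.one_def]
    constructor
    · intro h; cases h
    · rintro ⟨j, _, hx⟩; cases hx

theorem ker_quatKlein_le_zpowers (hm : 1 ≤ m) :
    (quatKlein m).ker ≤ Subgroup.zpowers (a 1 : QuaternionGroup (2 * m)) := by
  haveI : NeZero (2 * (2 * m)) := ⟨by omega⟩
  intro x hx
  obtain ⟨i, -, rfl⟩ := (mem_ker_quatKlein_iff m x).mp hx
  refine Subgroup.mem_zpowers_iff.mpr ⟨(i.val : ℤ), ?_⟩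
  rw [zpow_natCast, a_one_pow, ZMod.natCast_zmod_val]

theorem isCyclic_ker_quatKlein (hm : 1 ≤ m) : IsCyclic (quatKlein m).ker :=
  isCyclic_of_injective (Subgroup.inclusion (ker_quatKlein_le_zpowers m hm))
    (Subgroup.inclusion_injective _)

theorem exists_add_self_of_red_eq_zero (hm : 1 ≤ m) (i : ZMod (2 * (2 * m))) (hi : red m i = 0) :
    ∃ j : ZMod (2 * (2 * m)), i = j + j := by
  haveI : NeZero (2 * (2 * m)) := ⟨by omega⟩
  have h1 : ((i.val : ℕ) : ZMod 2) = 0 := by
    have : red m ((i.val : ℕ) : ZMod (2 * (2 * m))) = ((i.val : ℕ) : ZMod 2) := map_natCast _ _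
    rw [← this, ZMod.natCast_zmod_val]
    exact hi
  rw [ZMod.natCast_eq_zero_iff] at h1
  obtain ⟨k, hk⟩ := h1
  refine ⟨(k : ZMod (2 * (2 * m))), ?_⟩
  have : i = ((i.val : ℕ) : ZMod (2 * (2 * m))) := (ZMod.natCast_zmod_val i).symm
  rw [this, hk]
  push_cast
  ring

/-- a subgroup containing all squares has index at most four. -/
theorem quat_sq_index (hm : 1 ≤ m) (K : Subgroup (QuaternionGroup (2 * m)))
    (hK : ∀ x : QuaternionGroup (2 * m), x * x ∈ K) : K.index ≤ 4 := by
  have hle : (quatKlein m).ker ≤ K := by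
    intro x hx
    obtain ⟨i, hi, rfl⟩ := (mem_ker_quatKlein_iff m x).mp hx
    obtain ⟨j, rfl⟩ := exists_add_self_of_red_eq_zero m hm i hi
    rw [← a_mul_a]
    exact hK (a j)
  have h1 : K.index ∣ (quatKlein m).ker.index := Subgroup.index_dvd_of_le hle
  have h2 : (quatKlein m).ker.index = 4 := by
    rw [Subgroup.index_ker, MonoidHom.range_eq_top.mpr (quatKlein_surjective m),
      Subgroup.card_top, DihedralGroup.nat_card]
  rw [h2] at h1
  exact Nat.le_of_dvd (by norm_num) h1

end Quat

/-- automorphisms of odd order of a cyclic `2`-group are trivial. -/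
theorem mulAut_eq_one_of_odd {Q : Type*} [Group Q] [Finite Q] [IsCyclic Q] (hQ : IsPGroup 2 Q)
    (φ : MulAut Q) {k : ℕ} (hk : Odd k) (hφ : φ ^ k = 1) : φ = 1 := by
  haveI : Fact (Nat.Prime 2) := ⟨Nat.prime_two⟩
  have h1 : orderOf φ ∣ k := orderOf_dvd_of_pow_eq_one hφ
  have h2 : orderOf φ ∣ Nat.card (MulAut Q) := orderOf_dvd_natCard φ
  rw [IsCyclic.card_mulAut] at h2
  obtain ⟨n, hn⟩ := IsPGroup.iff_card.mp hQ
  rw [hn] at h2
  have h3 : ∃ j, (2 ^ n).totient = 2 ^ j := by
    cases n with
    | zero => exact ⟨0, by simp⟩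
    | succ n =>
      refine ⟨n, ?_⟩
      rw [Nat.totient_prime_pow_succ Nat.prime_two]
      simp
  obtain ⟨j, hj⟩ := h3
  rw [hj] at h2
  have h4 : orderOf φ = 1 := by
    obtain ⟨i, -, hi⟩ := (Nat.dvd_prime_pow Nat.prime_two).mp h2
    cases i with
    | zero => simpa using hi
    | succ i =>
      exfalso
      have h5 : 2 ∣ k := by
        have : 2 ∣ orderOf φ := by rw [hi]; exact dvd_pow_self 2 (by omega)
        exact this.trans h1
      exact (Nat.not_even_iff_odd.mpr hk) (even_iff_two_dvd.mpr h5)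
  exact orderOf_eq_one_iff.mp h4

end Cfsg.Agent.Helper89.FrobZ
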