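import Cfsg.Agent.Helper71.FrobSolvStruct
import Cfsg.Agent.Helper89.FrobZBase

/-!
# Solvable Frobenius complements: the quotient by the canonical normal Z-subgroup (helper89)

Refinement of `Cfsg.Agent.Helper71.exists_perm_hom_ker_sylow_cyclic`: the quotient is exactly one of
`1`, `V₄`, `A₄`, `S₄`.
-/

set_option autoImplicit false

namespace Cfsg.Agent.Helper89.FrobZ

open Subgroup Cfsg.Agent.Helper71

/-- a homomorphism to `Perm (Fin n)` whose range has index at most two gives a surjection onto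
`Aₙ` or `Sₙ` with the same kernel. -/
theorem exists_surj_alt_or_perm {Γ : Type*} [Group Γ] {n : ℕ} (f : Γ →* Equiv.Perm (Fin n))
    (h : f.range.index = 1 ∨ f.range.index = 2) :
    (∃ f' : Γ →* alternatingGroup (Fin n), Function.Surjective f' ∧ f'.ker = f.ker) ∨
      Function.Surjective f := by
  rcases h with h | h
  · right
    rw [← MonoidHom.range_eq_top]
    exact Subgroup.index_eq_one.mp h
  · left
    have hr : f.range = alternatingGroup (Fin n) := Equiv.Perm.eq_alternatingGroup_of_index_eq_two h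
    have hmem : ∀ x : Γ, f x ∈ alternatingGroup (Fin n) := by
      intro x
      rw [← hr]
      exact ⟨x, rfl⟩
    refine ⟨f.codRestrict (alternatingGroup (Fin n)) hmem, ?_, ?_⟩
    · intro y
      have hy : (y : Equiv.Perm (Fin n)) ∈ f.range := by rw [hr]; exact y.2
      obtain ⟨x, hx⟩ := hy
      exact ⟨x, Subtype.ext hx⟩
    · exact MonoidHom.ker_codRestrict _ _ _

/-- lifting lemma: `K` normal of odd order in `G`, subgroups of odd prime power order of `G` cyclic,
`fΓ` a homomorphism on `G ⧸ K` with cyclic kernel.  Then the kernel of the composite has all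
Sylow subgroups cyclic. -/
theorem sylow_cyclic_ker_comp {G X : Type*} [Group G] [Finite G] [Group X]
    (K : Subgroup G) [K.Normal] (hKco : (Nat.card K).Coprime 2)
    (hodd : ∀ p : ℕ, p.Prime → p ≠ 2 → ∀ P : Subgroup G, IsPGroup p P → IsCyclic P)
    (fΓ : G ⧸ K →* X) (hfΓ : IsCyclic fΓ.ker) :
    ∀ (p : ℕ) [Fact p.Prime] (P : Sylow p (fΓ.comp (QuotientGroup.mk' K)).ker), IsCyclic P := by
  set π := QuotientGroup.mk' K with hπ
  intro p hp P
  by_cases hp2 : p = 2
  · subst hp2
    have hmem : ∀ x : (P : Subgroup (fΓ.comp π).ker),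
        (π.comp ((fΓ.comp π).ker.subtype.comp (P : Subgroup (fΓ.comp π).ker).subtype)) x
          ∈ fΓ.ker := by
      intro x
      have h1 := (x : (fΓ.comp π).ker).2
      rw [MonoidHom.mem_ker] at h1 ⊢
      exact h1
    let φ : (P : Subgroup (fΓ.comp π).ker) →* fΓ.ker :=
      (π.comp ((fΓ.comp π).ker.subtype.comp (P : Subgroup (fΓ.comp π).ker).subtype)).codRestrict
        fΓ.ker hmem
    have hφ : Function.Injective φ := by
      rw [injective_iff_map_eq_one]
      intro x hx
      have h1 : π (((x : (fΓ.comp π).ker)) : G) = 1 := congrArg Subtype.val hx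
      have hxK : (((x : (fΓ.comp π).ker)) : G) ∈ K :=
        (QuotientGroup.eq_one_iff _).mp h1
      obtain ⟨k, hk⟩ := (IsPGroup.iff_orderOf.mp P.isPGroup') x
      have hk' : orderOf (((x : (fΓ.comp π).ker)) : G) = 2 ^ k := by
        rw [Subgroup.orderOf_coe, Subgroup.orderOf_coe]; exact hk
      have hdvd : orderOf (((x : (fΓ.comp π).ker)) : G) ∣ Nat.card K := by
        have := orderOf_dvd_natCard (⟨_, hxK⟩ : K)
        rwa [Subgroup.orderOf_mk] at this
      rw [hk'] at hdvd
      have hco : (2 ^ k).Coprime 2 := Nat.Coprime.coprime_dvd_left hdvd hKco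
      have hk0 : k = 0 := by
        by_contra h0
        have := (Nat.coprime_pow_left_iff (Nat.pos_of_ne_zero h0) 2 2).mp hco
        norm_num at this
      rw [hk0, pow_zero] at hk
      exact orderOf_eq_one_iff.mp hk
    exact isCyclic_of_injective φ hφ
  · have h1 := hodd p hp.out hp2
      ((P : Subgroup (fΓ.comp π).ker).map (fΓ.comp π).ker.subtype) (P.isPGroup'.map _)
    exact isCyclic_of_injective
      ((P : Subgroup (fΓ.comp π).ker).equivMapOfInjective (fΓ.comp π).ker.subtype
        (fΓ.comp π).ker.subtype_injective).toMonoidHom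
      (MulEquiv.injective _)

/-- a finite `2`-group with at most one involution is cyclic or maps onto the four-group with cyclic
kernel. -/
theorem two_group_cyclic_or_klein {Γ : Type*} [Group Γ] [Finite Γ] (h2 : IsPGroup 2 Γ)
    (hR : TwoRankOne Γ) :
    IsCyclic Γ ∨ ∃ f : Γ →* DihedralGroup 2, Function.Surjective f ∧ IsCyclic f.ker := by
  have : Fact (Nat.Prime 2) := ⟨Nat.prime_two⟩
  rcases Cfsg.Agent.Helper73.cyclic_or_quaternion h2 (hR.uniqueOrderP h2) with
    hc | ⟨-, n, hn, ⟨e⟩⟩
  · exact Or.inl hc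
  · right
    obtain ⟨m, hm, hnm⟩ : ∃ m : ℕ, 1 ≤ m ∧ 2 ^ n = 2 * m :=
      ⟨2 ^ (n - 1), Nat.one_le_two_pow, by rw [← pow_succ', Nat.sub_add_cancel hn]⟩
    have e' : Γ ≃* QuaternionGroup (2 * m) := by rw [← hnm]; exact e
    refine ⟨(quatKlein m).comp e'.toMonoidHom, ?_, ?_⟩
    · exact (quatKlein_surjective m).comp e'.surjective
    · haveI : IsCyclic (quatKlein m).ker := isCyclic_ker_quatKlein m hm
      have hmem : ∀ x : ((quatKlein m).comp e'.toMonoidHom).ker,
          (e'.toMonoidHom.comp ((quatKlein m).comp e'.toMonoidHom).ker.subtype) x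
            ∈ (quatKlein m).ker := by
        intro x
        have h1 := x.2
        rw [MonoidHom.mem_ker] at h1 ⊢
        exact h1
      refine isCyclic_of_injective
        ((e'.toMonoidHom.comp ((quatKlein m).comp e'.toMonoidHom).ker.subtype).codRestrict
          (quatKlein m).ker hmem) ?_
      intro x y hxy
      have h1 : e' (x : Γ) = e' (y : Γ) := congrArg Subtype.val hxy
      exact Subtype.ext (e'.injective h1)


/-- the case `|O₂(Γ)| = 8`, `Γ` not a `2`-group (after helper71's `fss_q8_case`, keeping track of the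
range): `Γ / Z(O₂(Γ))` embeds in `Perm (Fin 4)` with range of order `12` or `24`. -/
theorem q8_case_range {Γ : Type*} [Group Γ] [Finite Γ] [Group.IsSolvable Γ]
    (hcore : Cfsg.pPrimeCore 2 Γ = ⊥) (hR : TwoRankOne Γ)
    (h8 : Nat.card (Cfsg.pCore 2 Γ) = 8) (hn2 : ¬ IsPGroup 2 Γ) :
    ∃ f : Γ →* Equiv.Perm (Fin 4), IsCyclic f.ker ∧
      (Nat.card f.range = 12 ∨ Nat.card f.range = 24) := by
  have : Fact (Nat.Prime 2) := ⟨Nat.prime_two⟩
  set T := Cfsg.pCore 2 Γ with hT
  have hTn : T.Normal := Cfsg.pCore_normal 2 Γ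
  have hT2 : IsPGroup 2 T := Cfsg.Agent.Lib.isPGroup_pCore 2
  -- an involution `z` in `T`
  obtain ⟨z', hz'⟩ := exists_prime_orderOf_dvd_card' (G := T) 2 (by rw [h8]; norm_num)
  set z : Γ := (z' : Γ) with hz
  have hzT : z ∈ T := z'.2
  have hzo : orderOf z = 2 := by rw [hz, Subgroup.orderOf_coe]; exact hz'
  have hz1 : z ≠ 1 := by
    intro h
    rw [h, orderOf_one] at hzo
    norm_num at hzo
  have hz2 : z ^ 2 = 1 := by rw [← hzo]; exact pow_orderOf_eq_one z
  -- `z` is central
  have hzc : ∀ g : Γ, g * z * g⁻¹ = z := by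
    intro g
    apply hR T hT2 _ (hTn.conj_mem z hzT g) z hzT ?_ hz1 ?_ hz2
    · intro h
      apply hz1
      calc z = g⁻¹ * (g * z * g⁻¹) * g := by group
        _ = 1 := by rw [h]; group
    · rw [conj_pow, hz2]; group
  have hzcomm : ∀ g : Γ, Commute g z := by
    intro g
    show g * z = z * g
    calc g * z = (g * z * g⁻¹) * g := by group
      _ = z * g := by rw [hzc]
  set Z : Subgroup Γ := zpowers z with hZ
  have hZn : Z.Normal := by
    constructor
    intro y hy g
    obtain ⟨k, rfl⟩ := mem_zpowers_iff.mp hy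
    rw [← conj_zpow, hzc]
    exact zpow_mem (mem_zpowers z) k
  have hZcard : Nat.card Z = 2 := by rw [hZ, Nat.card_zpowers, hzo]
  have hZT : Z ≤ T := by rw [hZ, zpowers_le]; exact hzT
  have hZelt : ∀ ζ ∈ Z, ζ * ζ = 1 ∧ ∀ g : Γ, g * ζ = ζ * g := by
    intro ζ hζ
    obtain ⟨k, rfl⟩ := mem_zpowers_iff.mp hζ
    constructor
    · rw [← zpow_add, ← two_mul, zpow_mul, zpow_ofNat, hz2, one_zpow]
    · intro g; exact ((hzcomm g).zpow_right k).eq
  set π := QuotientGroup.mk' Z with hπ
  have hπs : Function.Surjective π := QuotientGroup.mk'_surjective Z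
  set V : Subgroup (Γ ⧸ Z) := T.map π with hV
  have hVn : V.Normal := hTn.map π hπs
  have hcardΓ : Nat.card Γ = Nat.card (Γ ⧸ Z) * Nat.card Z :=
    Subgroup.card_eq_card_quotient_mul_card_subgroup Z
  have hVcard : Nat.card V = 4 := by
    have h1 : V.index = T.index :=
      Subgroup.index_map_eq T hπs (by rw [QuotientGroup.ker_mk']; exact hZT)
    have h2 := V.card_mul_index
    have h3 := T.card_mul_index
    have h4 := hcardΓ
    rw [h1] at h2; rw [h8] at h3; rw [hZcard] at h4
    have hpos : 0 < T.index := Nat.pos_of_ne_zero T.index_ne_zero_of_finite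
    have h5 : Nat.card V * T.index * 2 = 4 * T.index * 2 := by rw [h2, ← h4, ← h3]; ring
    have h6 := Nat.eq_of_mul_eq_mul_right (by norm_num) h5
    exact Nat.eq_of_mul_eq_mul_right hpos h6
  -- the centralizer of `V`
  have hC : centralizer (V : Set (Γ ⧸ Z)) ≤ V := by
    set D : Subgroup Γ := (centralizer (V : Set (Γ ⧸ Z))).comap π with hD
    have hDn : D.Normal := (Subgroup.normal_centralizer (H := V)).comap π
    have hD2 : IsPGroup 2 D := by
      apply Cfsg.Agent.Helper55.isPGroup_of_forall_coprime_eq_one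
      intro d hd
      have hdo : (orderOf (d : Γ)).Coprime 2 := by rw [Subgroup.orderOf_coe]; exact hd
      have hdcen : (d : Γ) ∈ centralizer (T : Set Γ) := by
        rw [mem_centralizer_iff]
        intro t ht
        have hζ : (d : Γ) * t * (d : Γ)⁻¹ * t⁻¹ ∈ Z := by
          rw [← QuotientGroup.ker_mk' Z, MonoidHom.mem_ker]
          have h1 : π t * π d = π d * π t :=
            (mem_centralizer_iff.mp d.2) (π t) (mem_map_of_mem π ht)
          have h2 : π ((d : Γ) * t * (d : Γ)⁻¹ * t⁻¹) = π d * π t * (π d)⁻¹ * (π t)⁻¹ := by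
            simp only [map_mul, map_inv]
          rw [h2, ← h1]
          group
        obtain ⟨hζ2, hζc⟩ := hZelt _ hζ
        set ζ := (d : Γ) * t * (d : Γ)⁻¹ * t⁻¹ with hζdef
        have hdt : (d : Γ) * t = ζ * t * d := by rw [hζdef]; group
        have hd2 : Commute ((d : Γ) ^ 2) t := by
          show (d : Γ) ^ 2 * t = t * (d : Γ) ^ 2
          calc (d : Γ) ^ 2 * t = d * (d * t) := by rw [pow_two, mul_assoc]
            _ = d * (ζ * t * d) := by rw [hdt]
            _ = (d * ζ) * t * d := by group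
            _ = ζ * (d * t) * d := by rw [hζc d]; group
            _ = ζ * (ζ * t * d) * d := by rw [hdt]
            _ = (ζ * ζ) * t * (d * d) := by group
            _ = t * (d : Γ) ^ 2 := by rw [hζ2, one_mul, pow_two]
        have hodd : Odd (orderOf (d : Γ)) := Nat.Coprime.odd_of_right hdo
        obtain ⟨j, hj⟩ := hodd
        have hdpow : ((d : Γ) ^ 2) ^ (j + 1) = d := by
          rw [← pow_mul, show 2 * (j + 1) = orderOf (d : Γ) + 1 by omega, pow_succ,
            pow_orderOf_eq_one, one_mul]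
        have := hd2.pow_left (j + 1)
        rw [hdpow] at this
        exact this.eq.symm
      have hdT : (d : Γ) ∈ T := Cfsg.Agent.Helper55.centralizer_pCore_le 2 hcore hdcen
      obtain ⟨j, hj⟩ := (IsPGroup.iff_orderOf.mp hT2) ⟨d, hdT⟩
      rw [Subgroup.orderOf_mk] at hj
      rw [hj] at hdo
      have hj0 : j = 0 := by
        by_contra h0
        have := (Nat.coprime_pow_left_iff (Nat.pos_of_ne_zero h0) 2 2).mp hdo
        norm_num at this
      rw [hj0, pow_zero] at hj
      exact Subtype.ext (orderOf_eq_one_iff.mp hj)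
    have hDT : D ≤ T := Cfsg.Agent.Lib.le_pCore hDn hD2
    intro c hc
    obtain ⟨d, rfl⟩ := hπs c
    exact mem_map_of_mem π (hDT hc)
  have hX2 : ¬ IsPGroup 2 (Γ ⧸ Z) := by
    intro h
    apply hn2
    obtain ⟨k, hk⟩ := IsPGroup.iff_card.mp h
    have h4 := hcardΓ
    rw [hk, hZcard] at h4
    exact IsPGroup.of_card (n := k + 1) (by rw [h4, pow_succ])
  obtain ⟨fX, hfX⟩ := exists_injective_perm_of_normal_four V hVcard hC hX2
  refine ⟨fX.comp π, ?_, ?_⟩
  · rw [MonoidHom.ker_comp_of_injective _ _ hfX, QuotientGroup.ker_mk']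
    infer_instance
  · -- the order of the range
    have hrange : (fX.comp π).range = fX.range := by
      rw [MonoidHom.range_comp, MonoidHom.range_eq_top.mpr hπs, ← MonoidHom.range_eq_map]
    have hcardr : Nat.card fX.range = Nat.card (Γ ⧸ Z) :=
      (Nat.card_congr (MonoidHom.ofInjective hfX).toEquiv).symm
    rw [hrange, hcardr]
    have hdvd24 : Nat.card (Γ ⧸ Z) ∣ 24 := by
      rw [← hcardr]
      have h1 := Subgroup.card_subgroup_dvd_card fX.range
      rwa [Nat.card_perm, Nat.card_fin] at h1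
    have h4dvd : 4 ∣ Nat.card (Γ ⧸ Z) := by
      rw [← hVcard]
      exact Subgroup.card_subgroup_dvd_card V
    have hne4 : Nat.card (Γ ⧸ Z) ≠ 4 := fun h => hX2 (IsPGroup.of_card (n := 2) (by rw [h]; norm_num))
    have hne8 : Nat.card (Γ ⧸ Z) ≠ 8 := fun h => hX2 (IsPGroup.of_card (n := 3) (by rw [h]; norm_num))
    have hle : Nat.card (Γ ⧸ Z) ≤ 24 := Nat.le_of_dvd (by norm_num) hdvd24
    generalize Nat.card (Γ ⧸ Z) = c at hdvd24 h4dvd hne4 hne8 hle
    interval_cases c <;> simp_all


/-- **Existence, solvable case.** A finite solvable group in which every `2`-subgroup has at most one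
involution and every subgroup of odd prime power order is cyclic has a normal subgroup `N` with all
Sylow subgroups cyclic and quotient `1`, `V₄`, `A₄` or `S₄`. -/
theorem exists_solvable {G : Type*} [Group G] [Finite G] [Group.IsSolvable G]
    (hR : TwoRankOne G)
    (hodd : ∀ p : ℕ, p.Prime → p ≠ 2 → ∀ P : Subgroup G, IsPGroup p P → IsCyclic P) :
    ∃ N : Subgroup G, N.Normal ∧ (∀ (p : ℕ) [Fact p.Prime] (P : Sylow p N), IsCyclic P) ∧
      (N = ⊤ ∨
        (∃ f : G →* DihedralGroup 2, Function.Surjective f ∧ f.ker = N) ∨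
        (∃ f : G →* alternatingGroup (Fin 4), Function.Surjective f ∧ f.ker = N) ∨
        (∃ f : G →* Equiv.Perm (Fin 4), Function.Surjective f ∧ f.ker = N)) := by
  have : Fact (Nat.Prime 2) := ⟨Nat.prime_two⟩
  set K := Cfsg.pPrimeCore 2 G with hK
  have hKco : (Nat.card K).Coprime 2 := Cfsg.Agent.Lib.card_pPrimeCore_coprime 2
  have hsolΓ : Group.IsSolvable (G ⧸ K) :=
    Group.isSolvable_of_surjective (QuotientGroup.mk'_surjective K)
  have hcore : Cfsg.pPrimeCore 2 (G ⧸ K) = ⊥ :=
    Cfsg.Agent.Helper55.pPrimeCore_quotient_pPrimeCore 2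
  have hRΓ : TwoRankOne (G ⧸ K) := hR.quotient K hKco
  set π := QuotientGroup.mk' K with hπ
  have hπs : Function.Surjective π := QuotientGroup.mk'_surjective K
  -- the general step
  have step : ∀ {X : Type} [Group X] (fΓ : G ⧸ K →* X), Function.Surjective fΓ → IsCyclic fΓ.ker →
      ∃ N : Subgroup G, N.Normal ∧ (∀ (p : ℕ) [Fact p.Prime] (P : Sylow p N), IsCyclic P) ∧
        ∃ f : G →* X, Function.Surjective f ∧ f.ker = N := by
    intro X _ fΓ hs hc
    exact ⟨(fΓ.comp π).ker, MonoidHom.normal_ker _, sylow_cyclic_ker_comp K hKco hodd fΓ hc,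
      fΓ.comp π, hs.comp hπs, rfl⟩
  by_cases h2 : IsPGroup 2 (G ⧸ K)
  · rcases two_group_cyclic_or_klein h2 hRΓ with hc | ⟨f, hfs, hfc⟩
    · have hker : (1 : G ⧸ K →* G ⧸ K).ker = ⊤ := MonoidHom.ker_one
      have hc' : IsCyclic (1 : G ⧸ K →* G ⧸ K).ker := by
        rw [hker]
        exact isCyclic_of_surjective (Subgroup.topEquiv.symm.toMonoidHom)
          (Subgroup.topEquiv.symm.surjective)
      refine ⟨((1 : G ⧸ K →* G ⧸ K).comp π).ker, MonoidHom.normal_ker _,
        sylow_cyclic_ker_comp K hKco hodd _ hc', Or.inl ?_⟩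
      rw [MonoidHom.one_comp, MonoidHom.ker_one]
    · obtain ⟨N, hNn, hNs, hf⟩ := step f hfs hfc
      exact ⟨N, hNn, hNs, Or.inr (Or.inl hf)⟩
  · rcases fss_isPGroup_or_card_eight hcore hRΓ with h | h8
    · exact absurd h h2
    · obtain ⟨f, hfc, hcard⟩ := q8_case_range hcore hRΓ h8 h2
      have hidx : f.range.index = 1 ∨ f.range.index = 2 := by
        have h1 := f.range.card_mul_index
        rw [Nat.card_perm, Nat.card_fin] at h1
        have h24 : Nat.factorial 4 = 24 := by decide
        rw [h24] at h1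
        rcases hcard with h | h
        · right; rw [h] at h1; omega
        · left; rw [h] at h1; omega
      rcases exists_surj_alt_or_perm f hidx with ⟨f', hf's, hf'k⟩ | hfs
      · have hc' : IsCyclic f'.ker := by rw [hf'k]; exact hfc
        obtain ⟨N, hNn, hNs, hf⟩ := step f' hf's hc'
        exact ⟨N, hNn, hNs, Or.inr (Or.inr (Or.inl hf))⟩
      · obtain ⟨N, hNn, hNs, hf⟩ := step f hfs hfc
        exact ⟨N, hNn, hNs, Or.inr (Or.inr (Or.inr hf))⟩

end Cfsg.Agent.Helper89.FrobZ
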