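import Cfsg.Agent.Helper71.FrobSolvStruct
import Cfsg.Agent.Helper89.FrobZA
import Cfsg.Agent.S0253
import Cfsg.Agent.S2119
import Cfsg.Agent.Helper5.PSL2Simple

/-!
# Nonsolvable Frobenius complements: the quotient `A₅` or `S₅` (helper89)

`G` finite, every `2`-subgroup with at most one involution, subgroups of odd prime power order
cyclic, `S` a normal subgroup isomorphic to `SL(2,5)`.  Then `C_G(S)` has all Sylow subgroups
cyclic and `G / C_G(S)` is `A₅` or `S₅`.
-/

set_option autoImplicit false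

namespace Cfsg.Agent.Helper89.FrobZ

open Subgroup Cfsg.Agent.Helper71

section AutQuot

variable {H : Type*} [Group H]

/-- the automorphism of `H ⧸ N` induced by an automorphism of `H`, for `N` characteristic. -/
noncomputable def autQuot (N : Subgroup H) [hN : N.Characteristic] : MulAut H →* MulAut (H ⧸ N) where
  toFun φ := QuotientGroup.congr N N φ (Subgroup.characteristic_iff_map_eq.mp hN φ)
  map_one' := by
    ext x
    induction x using QuotientGroup.induction_on with
    | H x => rfl
  map_mul' φ ψ := by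
    ext x
    induction x using QuotientGroup.induction_on with
    | H x => rfl

theorem autQuot_mk (N : Subgroup H) [hN : N.Characteristic] (φ : MulAut H) (x : H) :
    autQuot N φ (QuotientGroup.mk x) = QuotientGroup.mk (φ x) := rfl

end AutQuot

section Conj

variable {G : Type*} [Group G] (S : Subgroup G) [hS : S.Normal]

/-- the conjugation action of `G` on `S ⧸ Z(S)` for a normal subgroup `S`. -/
noncomputable def conjQuotCenter : G →* MulAut (S ⧸ center S) :=
  (autQuot (center S)).comp (MulAut.conjNormal : G →* MulAut S)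

theorem conjQuotCenter_mk (g : G) (s : S) :
    conjQuotCenter S g (QuotientGroup.mk s) =
      QuotientGroup.mk (⟨g * s * g⁻¹, hS.conj_mem s s.2 g⟩ : S) := rfl

/-- if `S` is perfect, the kernel of the action on `S ⧸ Z(S)` centralizes `S`. -/
theorem commute_of_mem_ker_conjQuotCenter (hperf : commutator S = ⊤) {g : G}
    (hg : g ∈ (conjQuotCenter S).ker) (s : S) : g * (s : G) = (s : G) * g := by
  -- `κ s := (g s g⁻¹) s⁻¹` is central in `S`
  have hcen : ∀ s : S, (⟨g * s * g⁻¹, hS.conj_mem s s.2 g⟩ : S) * s⁻¹ ∈ center S := by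
    intro s
    have h1 : conjQuotCenter S g (QuotientGroup.mk s) = QuotientGroup.mk s := by
      rw [MonoidHom.mem_ker.mp hg]; rfl
    rw [conjQuotCenter_mk] at h1
    have h2 := QuotientGroup.eq.mp h1.symm
    -- h2 : s⁻¹ * ⟨g s g⁻¹⟩ ∈ center S
    have h3 : (⟨g * s * g⁻¹, hS.conj_mem s s.2 g⟩ : S) * s⁻¹ =
        s * (s⁻¹ * (⟨g * s * g⁻¹, hS.conj_mem s s.2 g⟩ : S)) * s⁻¹ := by group
    rw [h3]
    exact (inferInstance : (center S).Normal).conj_mem _ h2 s
  -- the homomorphism `κ : S →* center S`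
  let κ : S →* center S :=
    { toFun := fun s => ⟨(⟨g * s * g⁻¹, hS.conj_mem s s.2 g⟩ : S) * s⁻¹, hcen s⟩
      map_one' := by
        apply Subtype.ext
        apply Subtype.ext
        simp
      map_mul' := by
        intro s t
        apply Subtype.ext
        have hc := Subgroup.mem_center_iff.mp (hcen t) s⁻¹
        -- hc : s⁻¹ * κ t = κ t * s⁻¹
        have e1 : (⟨g * (s * t : S) * g⁻¹, hS.conj_mem _ (s * t).2 g⟩ : S) * (s * t)⁻¹ =
            (⟨g * s * g⁻¹, hS.conj_mem s s.2 g⟩ : S) *
              (((⟨g * t * g⁻¹, hS.conj_mem t t.2 g⟩ : S) * t⁻¹) * s⁻¹) := by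
          apply Subtype.ext
          simp only [Subgroup.coe_mul, Subgroup.coe_inv]
          group
        show (⟨g * (s * t : S) * g⁻¹, hS.conj_mem _ (s * t).2 g⟩ : S) * (s * t)⁻¹ =
          ((⟨g * s * g⁻¹, hS.conj_mem s s.2 g⟩ : S) * s⁻¹) *
            ((⟨g * t * g⁻¹, hS.conj_mem t t.2 g⟩ : S) * t⁻¹)
        rw [e1, ← hc]
        group }
  -- `κ` is trivial as `S` is perfect and the target abelian
  have hκ : ∀ s : S, κ s = 1 := by
    intro s
    have hle : commutator S ≤ κ.ker := by
      rw [commutator_def, Subgroup.commutator_le]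
      intro a _ b _
      rw [MonoidHom.mem_ker, map_commutatorElement, commutatorElement_eq_one_iff_commute]
      have hb := Subgroup.mem_center_iff.mp (κ b).2 (κ a : S)
      exact Subtype.ext hb
    rw [hperf] at hle
    exact MonoidHom.mem_ker.mp (hle (Subgroup.mem_top s))
  have h1 : ((κ s : S) : G) = 1 := by rw [hκ s]; rfl
  have h2 : g * (s : G) * g⁻¹ * (s : G)⁻¹ = 1 := h1
  calc g * (s : G) = (g * (s : G) * g⁻¹ * (s : G)⁻¹) * (s : G) * g := by group
    _ = (s : G) * g := by rw [h2, one_mul]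

end Conj


section Cent

variable {G : Type*} [Group G]

theorem isPGroup_two_zpowers_of_pow_four {x : G} (hx : x ^ 4 = 1) : IsPGroup 2 (zpowers x) := by
  rintro ⟨y, hy⟩
  refine ⟨2, ?_⟩
  obtain ⟨k, rfl⟩ := mem_zpowers_iff.mp hy
  apply Subtype.ext
  show (x ^ k) ^ (2 ^ 2) = 1
  rw [show (2 : ℕ) ^ 2 = 4 by norm_num, ← zpow_natCast, ← zpow_mul, mul_comm, zpow_mul,
    zpow_natCast, hx, one_zpow]

/-- an element of order four commuting with a non-central element `i` of order four of a subgroup
`S` cannot centralize `S`, if `2`-subgroups have at most one involution. -/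
theorem no_order_four_centralizing (hR : TwoRankOne G) {i j t : G} (hi4 : i ^ 4 = 1)
    (hi2 : i ^ 2 ≠ 1) (hij : i * j ≠ j * i) (ht4 : t ^ 4 = 1) (ht2 : t ^ 2 ≠ 1)
    (hti : t * i = i * t) (htj : t * j = j * t) : False := by
  have hcomm : Commute t i := hti
  set W : Subgroup G := zpowers t ⊔ zpowers i with hW
  have hW2 : IsPGroup 2 W := by
    apply IsPGroup.to_sup_of_normal_right' (isPGroup_two_zpowers_of_pow_four ht4)
      (isPGroup_two_zpowers_of_pow_four hi4)
    rw [zpowers_le, mem_normalizer_iff]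
    intro h
    have key : ∀ y ∈ zpowers i, t * y * t⁻¹ = y := by
      intro y hy
      obtain ⟨k, rfl⟩ := mem_zpowers_iff.mp hy
      have := (hcomm.zpow_right k).eq
      rw [this, mul_inv_cancel_right]
    constructor
    · intro hh
      rw [key h hh]; exact hh
    · intro hh
      have h1 := key _ hh
      have h2 : t * h * t⁻¹ = h := by
        have : t * (t * h * t⁻¹) * t⁻¹ = t * h * t⁻¹ := h1
        calc t * h * t⁻¹ = t⁻¹ * (t * (t * h * t⁻¹) * t⁻¹) * t := by group
          _ = t⁻¹ * (t * h * t⁻¹) * t := by rw [this]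
          _ = h := by group
      rw [← h2]; exact hh
  have htW : t ∈ W := (le_sup_left : zpowers t ≤ W) (mem_zpowers t)
  have hiW : i ∈ W := (le_sup_right : zpowers i ≤ W) (mem_zpowers i)
  have huv : t ^ 2 = i ^ 2 := by
    apply hR W hW2 _ (W.pow_mem htW 2) _ (W.pow_mem hiW 2) ht2 hi2
    · rw [← pow_mul]; exact ht4
    · rw [← pow_mul]; exact hi4
  set w : G := t * i⁻¹ with hw
  have hwW : w ∈ W := W.mul_mem htW (W.inv_mem hiW)
  have hw2 : w ^ 2 = 1 := by
    have hc : Commute t i⁻¹ := hcomm.inv_right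
    rw [hw, hc.mul_pow, huv, inv_pow, mul_inv_cancel]
  -- `i` is a power of `t`
  have hit : i ∈ zpowers t := by
    by_cases hw1 : w = 1
    · have : t = i := by
        have := hw1
        rw [hw, mul_inv_eq_one] at this
        exact this
      rw [← this]; exact mem_zpowers t
    · have h1 : w = i ^ 2 := by
        apply hR W hW2 _ hwW _ (W.pow_mem hiW 2) hw1 hi2 hw2
        rw [← pow_mul]; exact hi4
      have h2 : t = i ^ 3 := by
        have : t = w * i := by rw [hw]; group
        rw [this, h1, ← pow_succ]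
      have h3 : i = t ^ 3 := by
        rw [h2, ← pow_mul]
        calc i = (i ^ 4) ^ 2 * i := by rw [hi4, one_pow, one_mul]
          _ = i ^ (3 * 3) := by rw [← pow_mul, ← pow_succ]
      rw [h3]; exact pow_mem (mem_zpowers t) 3
  obtain ⟨k, hk⟩ := mem_zpowers_iff.mp hit
  apply hij
  have hc : Commute t j := htj
  rw [← hk]
  exact (hc.zpow_left k).eq

/-- `2`-subgroups of the centralizer of `S` are cyclic. -/
theorem isCyclic_two_subgroup_centralizing [Finite G] (hR : TwoRankOne G) {i j : G}
    (hi4 : i ^ 4 = 1) (hi2 : i ^ 2 ≠ 1) (hij : i * j ≠ j * i)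
    (T : Subgroup G) (hT2 : IsPGroup 2 T) (hTi : ∀ t ∈ T, t * i = i * t)
    (hTj : ∀ t ∈ T, t * j = j * t) : IsCyclic T := by
  haveI : Fact (Nat.Prime 2) := ⟨Nat.prime_two⟩
  rcases Cfsg.Agent.Helper73.cyclic_or_quaternion hT2 (hR.uniqueOrderP_subgroup T hT2) with
    hc | ⟨-, n, hn, ⟨e⟩⟩
  · exact hc
  · exfalso
    set t : T := e.symm (QuaternionGroup.xa 0) with ht
    have ho : orderOf t = 4 := by
      rw [ht, MulEquiv.orderOf_eq, QuaternionGroup.orderOf_xa]
    have ho' : orderOf (t : G) = 4 := by rw [Subgroup.orderOf_coe]; exact ho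
    have ht4 : (t : G) ^ 4 = 1 := by rw [← ho']; exact pow_orderOf_eq_one _
    have ht2 : (t : G) ^ 2 ≠ 1 := by
      intro h
      have := orderOf_dvd_of_pow_eq_one h
      rw [ho'] at this
      revert this; decide
    exact no_order_four_centralizing hR hi4 hi2 hij ht4 ht2 (hTi t t.2) (hTj t t.2)

end Cent


section Main

open Matrix

local instance fact_prime_five : Fact (Nat.Prime 5) := ⟨by norm_num⟩

/-- a non-central element of order four of `SL(2,5)`. -/
def I5 : Matrix.SpecialLinearGroup (Fin 2) (ZMod 5) := ⟨!![0, -1; 1, 0], by decide⟩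

/-- an element of `SL(2,5)` not commuting with `I5`. -/
def J5 : Matrix.SpecialLinearGroup (Fin 2) (ZMod 5) := ⟨!![1, 1; 0, 1], by decide⟩

theorem I5_pow_four : I5 ^ 4 = 1 := by decide

theorem I5_sq_ne : I5 ^ 2 ≠ 1 := by decide

theorem I5_J5 : I5 * J5 ≠ J5 * I5 := by decide

theorem sl25_perfect : commutator (Matrix.SpecialLinearGroup (Fin 2) (ZMod 5)) = ⊤ :=
  Cfsg.Agent.Helper5.commutator_SL_eq_top_of_exists ⟨2, by decide, by decide⟩

theorem commutator_eq_top_of_mulEquiv {A B : Type*} [Group A] [Group B] (e : A ≃* B)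
    (h : commutator B = ⊤) : commutator A = ⊤ := by
  have h1 : (⊤ : Subgroup B).map e.symm.toMonoidHom = ⊤ :=
    Subgroup.map_top_of_surjective _ e.symm.surjective
  rw [commutator_def] at h ⊢
  rw [← h1, ← Subgroup.map_commutator, h]

theorem map_center_mulEquiv {A B : Type*} [Group A] [Group B] (e : A ≃* B) :
    (center A).map e.toMonoidHom = center B := by
  ext y
  constructor
  · rintro ⟨x, hx, rfl⟩
    rw [Subgroup.mem_center_iff]
    intro b
    obtain ⟨a, rfl⟩ := e.surjective b
    have := Subgroup.mem_center_iff.mp hx a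
    show e a * e x = e x * e a
    rw [← map_mul, ← map_mul, this]
  · intro hy
    refine ⟨e.symm y, ?_, by simp⟩
    rw [SetLike.mem_coe, Subgroup.mem_center_iff]
    intro a
    have := Subgroup.mem_center_iff.mp hy (e a)
    apply e.injective
    rw [map_mul, map_mul, MulEquiv.apply_symm_apply]
    exact this

variable {G : Type*} [Group G] [Finite G]

/-- **Existence, nonsolvable case.** -/
theorem exists_nonsolvable (hR : TwoRankOne G)
    (hodd : ∀ p : ℕ, p.Prime → p ≠ 2 → ∀ P : Subgroup G, IsPGroup p P → IsCyclic P)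
    (S : Subgroup G) [hS : S.Normal]
    (e : S ≃* Matrix.SpecialLinearGroup (Fin 2) (ZMod 5)) :
    ∃ N : Subgroup G, N.Normal ∧ (∀ (p : ℕ) [Fact p.Prime] (P : Sylow p N), IsCyclic P) ∧
      ((∃ f : G →* alternatingGroup (Fin 5), Function.Surjective f ∧ f.ker = N) ∨
        (∃ f : G →* Equiv.Perm (Fin 5), Function.Surjective f ∧ f.ker = N)) := by
  have hperf : commutator S = ⊤ := commutator_eq_top_of_mulEquiv e sl25_perfect
  -- the isomorphism `S ⧸ Z(S) ≃* A₅`
  obtain ⟨ι₀⟩ := Cfsg.Agent.S0253.result (F := ZMod 5) (by rw [ZMod.card])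
  let ι₁ : S ⧸ center S ≃* Matrix.ProjectiveSpecialLinearGroup (Fin 2) (ZMod 5) :=
    QuotientGroup.congr (center S) (center (Matrix.SpecialLinearGroup (Fin 2) (ZMod 5))) e
      (map_center_mulEquiv e)
  let ι : S ⧸ center S ≃* alternatingGroup (Fin 5) := ι₁.trans ι₀
  -- `Aut(A₅) ≃ S₅`
  have hbij := Cfsg.Agent.S2119.result 5 (by norm_num) (by norm_num)
  let β₀ : Equiv.Perm (Fin 5) ≃* MulAut (alternatingGroup (Fin 5)) :=
    MulEquiv.ofBijective (MulAut.conjNormal : Equiv.Perm (Fin 5) →* _) hbij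
  -- the homomorphism
  let ψ : G →* Equiv.Perm (Fin 5) :=
    β₀.symm.toMonoidHom.comp ((MulAut.congr ι).toMonoidHom.comp (conjQuotCenter S))
  have hψker : ψ.ker = (conjQuotCenter S).ker := by
    ext g
    rw [MonoidHom.mem_ker, MonoidHom.mem_ker]
    show β₀.symm ((MulAut.congr ι) (conjQuotCenter S g)) = 1 ↔ _
    rw [MulEquiv.map_eq_one_iff, MulEquiv.map_eq_one_iff]
  -- on `S` the homomorphism is the quotient map
  have hψS : ∀ s : S, ψ (s : G) = ((ι (QuotientGroup.mk s) : alternatingGroup (Fin 5)) :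
      Equiv.Perm (Fin 5)) := by
    intro s
    show β₀.symm ((MulAut.congr ι) (conjQuotCenter S (s : G))) = _
    rw [MulEquiv.symm_apply_eq]
    show (MulAut.congr ι) (conjQuotCenter S (s : G)) =
      MulAut.conjNormal ((ι (QuotientGroup.mk s) : alternatingGroup (Fin 5)) : Equiv.Perm (Fin 5))
    ext a
    obtain ⟨x, rfl⟩ := ι.surjective a
    obtain ⟨t, rfl⟩ := QuotientGroup.mk_surjective x
    have h1 : (MulAut.congr ι) (conjQuotCenter S (s : G)) (ι (QuotientGroup.mk t)) =
        ι (conjQuotCenter S (s : G) (QuotientGroup.mk t)) := by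
      show ι (conjQuotCenter S (s : G) (ι.symm (ι (QuotientGroup.mk t)))) = _
      rw [MulEquiv.symm_apply_apply]
    rw [h1, conjQuotCenter_mk, MulAut.conjNormal_apply]
    have h2 : (⟨(s : G) * t * (s : G)⁻¹, hS.conj_mem t t.2 s⟩ : S) = s * t * s⁻¹ :=
      Subtype.ext (by simp)
    rw [h2]
    simp only [QuotientGroup.mk_mul, QuotientGroup.mk_inv, map_mul, map_inv, Subgroup.coe_mul,
      Subgroup.coe_inv]
  -- the range has index at most two
  have hidx : ψ.range.index = 1 ∨ ψ.range.index = 2 := by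
    have hle : alternatingGroup (Fin 5) ≤ ψ.range := by
      intro a ha
      obtain ⟨x, hx⟩ := ι.surjective ⟨a, ha⟩
      obtain ⟨t, rfl⟩ := QuotientGroup.mk_surjective x
      refine ⟨(t : G), ?_⟩
      rw [hψS t, hx]
    have h1 := Subgroup.index_dvd_of_le hle
    rw [alternatingGroup.index_eq_two] at h1
    have h2 := Nat.le_of_dvd (by norm_num) h1
    have h3 : ψ.range.index ≠ 0 := Subgroup.index_ne_zero_of_finite
    omega
  -- the kernel centralizes `S`
  have hcent : ∀ g ∈ ψ.ker, ∀ s : S, g * (s : G) = (s : G) * g := by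
    intro g hg s
    rw [hψker] at hg
    exact commute_of_mem_ker_conjQuotCenter S hperf hg s
  -- the two special elements
  set i : G := ((e.symm I5 : S) : G) with hi
  set j : G := ((e.symm J5 : S) : G) with hj
  have hi4 : i ^ 4 = 1 := by
    have : (e.symm I5) ^ 4 = 1 := by rw [← map_pow, I5_pow_four, map_one]
    have := congrArg Subtype.val this
    simpa using this
  have hi2 : i ^ 2 ≠ 1 := by
    intro h
    have h1 : (e.symm I5) ^ 2 = 1 := Subtype.ext (by simpa using h)
    rw [← map_pow, MulEquiv.map_eq_one_iff] at h1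
    exact I5_sq_ne h1
  have hij : i * j ≠ j * i := by
    intro h
    have h1 : e.symm I5 * e.symm J5 = e.symm J5 * e.symm I5 := Subtype.ext (by simpa using h)
    rw [← map_mul, ← map_mul] at h1
    exact I5_J5 (e.symm.injective h1)
  -- Sylow subgroups of the kernel
  have hsyl : ∀ (p : ℕ) [Fact p.Prime] (P : Sylow p ψ.ker), IsCyclic P := by
    intro p hp P
    have hP' : IsPGroup p ((P : Subgroup ψ.ker).map ψ.ker.subtype) := P.isPGroup'.map _
    have hcyc : IsCyclic ((P : Subgroup ψ.ker).map ψ.ker.subtype) := by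
      by_cases hp2 : p = 2
      · subst hp2
        apply isCyclic_two_subgroup_centralizing hR hi4 hi2 hij _ hP'
        · rintro t ⟨t', -, rfl⟩
          exact hcent t' t'.2 (e.symm I5)
        · rintro t ⟨t', -, rfl⟩
          exact hcent t' t'.2 (e.symm J5)
      · exact hodd p hp.out hp2 _ hP'
    exact isCyclic_of_injective
      ((P : Subgroup ψ.ker).equivMapOfInjective ψ.ker.subtype
        ψ.ker.subtype_injective).toMonoidHom (MulEquiv.injective _)
  rcases exists_surj_alt_or_perm ψ hidx with ⟨f', hf's, hf'k⟩ | hψs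
  · refine ⟨ψ.ker, MonoidHom.normal_ker ψ, hsyl, Or.inl ⟨f', hf's, hf'k⟩⟩
  · exact ⟨ψ.ker, MonoidHom.normal_ker ψ, hsyl, Or.inr ⟨ψ, hψs, rfl⟩⟩

end Main

end Cfsg.Agent.Helper89.FrobZ
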