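import Cfsg.Agent.Helper68.FrobZW3
import Cfsg.Agent.Helper71.FrobSolvStruct
import Cfsg.Agent.Helper89.FrobZBase

/-!
# Frobenius complements: uniqueness of the normal Z-subgroup with quotient `1, V₄, A₄, S₄, A₅, S₅`
(helper89)
-/

set_option autoImplicit false

namespace Cfsg.Agent.Helper89.FrobZ

open Subgroup Cfsg.Agent.Helper71

/-- the statement's form of "all Sylow subgroups cyclic" gives `IsZGroup`. -/
theorem isZGroup_of_sylow_cyclic {N : Type*} [Group N]
    (h : ∀ (p : ℕ) [Fact p.Prime] (P : Sylow p N), IsCyclic P) : IsZGroup N :=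
  ⟨fun p hp P => by
    haveI : Fact p.Prime := ⟨hp⟩
    exact h p P⟩

/-- a "big" target group: its normal Z-subgroups are trivial and its order does not divide `4`. -/
structure BigTarget (Γ : Type) [Group Γ] : Prop where
  nz : ∀ (X : Subgroup Γ) [X.Normal] [IsZGroup X], X = ⊥
  card : ¬ Nat.card Γ ∣ 4

theorem bigTarget_A4 : BigTarget (alternatingGroup (Fin 4)) where
  nz X _ _ := Cfsg.Agent.Helper68.FrobZW3.normal_zgroup_eq_bot_A4 X
  card := by
    rw [nat_card_alternatingGroup, Nat.card_fin]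
    decide

theorem bigTarget_S4 : BigTarget (Equiv.Perm (Fin 4)) where
  nz X _ _ := Cfsg.Agent.Helper68.FrobZW3.normal_zgroup_eq_bot_S4 X
  card := by
    rw [Nat.card_perm, Nat.card_fin]
    decide

theorem bigTarget_A5 : BigTarget (alternatingGroup (Fin 5)) where
  nz X _ _ := Cfsg.Agent.Helper68.FrobZW3.normal_zgroup_eq_bot_A5 X
  card := by
    rw [nat_card_alternatingGroup, Nat.card_fin]
    decide

theorem bigTarget_S5 : BigTarget (Equiv.Perm (Fin 5)) where
  nz X _ _ := Cfsg.Agent.Helper68.FrobZW3.normal_zgroup_eq_bot_S5 X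
  card := by
    rw [Nat.card_perm, Nat.card_fin]
    decide

section

variable {G : Type*} [Group G] [Finite G]

/-- (L1) a normal Z-subgroup lies in the kernel of any surjection onto a big target. -/
theorem le_ker_of_bigTarget {Γ : Type} [Group Γ] (hΓ : BigTarget Γ) (f : G →* Γ)
    (hf : Function.Surjective f) (N' : Subgroup G) [hN' : N'.Normal] [hZ : IsZGroup N'] :
    N' ≤ f.ker := by
  haveI : (N'.map f).Normal := hN'.map f hf
  haveI : IsZGroup (N'.map f) := IsZGroup.of_surjective (f.subgroupMap_surjective N')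
  have h := hΓ.nz (N'.map f)
  exact (Subgroup.map_eq_bot_iff N').mp h

/-- (L2) a Z-group does not map onto the four-group. -/
theorem not_surj_klein_of_isZGroup [IsZGroup G] (f : G →* DihedralGroup 2)
    (hf : Function.Surjective f) : False :=
  Cfsg.Agent.Helper68.FrobZW3.not_isZGroup_D2 (IsZGroup.of_surjective hf)

theorem index_ker_of_surjective {Γ : Type*} [Group Γ] (f : G →* Γ) (hf : Function.Surjective f) :
    f.ker.index = Nat.card Γ := by
  rw [Subgroup.index_ker, MonoidHom.range_eq_top.mpr hf, Subgroup.card_top]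

/-- (L3) the kernel of a surjection onto the four-group, if a Z-group, excludes any surjection onto
a big target with Z-group kernel... in fact any surjection onto a big target. -/
theorem klein_vs_big {Γ : Type} [Group Γ] (hΓ : BigTarget Γ) (f : G →* DihedralGroup 2)
    (hf : Function.Surjective f) [IsZGroup f.ker] (f' : G →* Γ) (hf' : Function.Surjective f') :
    False := by
  have hle : f.ker ≤ f'.ker := le_ker_of_bigTarget hΓ f' hf' f.ker
  have h1 := Subgroup.index_dvd_of_le hle
  rw [index_ker_of_surjective f hf, index_ker_of_surjective f' hf', DihedralGroup.nat_card] at h1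
  exact hΓ.card h1

/-- (L4) two surjections onto the four-group have the same kernel, if every `2`-subgroup of `G` has at
most one involution. -/
theorem klein_vs_klein (hR : TwoRankOne G) (f f' : G →* DihedralGroup 2)
    (hf : Function.Surjective f) (hf' : Function.Surjective f') : f'.ker ≤ f.ker := by
  haveI : Fact (Nat.Prime 2) := ⟨Nat.prime_two⟩
  set K : Subgroup G := f.ker ⊓ f'.ker with hK
  have hKn : K.Normal := inferInstance
  have hsqD : ∀ y : DihedralGroup 2, y * y = 1 := by decide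
  have hsq : ∀ x : G, x * x ∈ K := by
    intro x
    rw [hK, Subgroup.mem_inf, MonoidHom.mem_ker, MonoidHom.mem_ker, map_mul, map_mul]
    exact ⟨hsqD _, hsqD _⟩
  -- the quotient by `K` is a `2`-group
  have h2 : IsPGroup 2 (G ⧸ K) := by
    intro y
    obtain ⟨x, rfl⟩ := QuotientGroup.mk'_surjective K y
    refine ⟨1, ?_⟩
    rw [pow_one, pow_two, ← map_mul]
    exact (QuotientGroup.eq_one_iff _).mpr (hsq x)
  -- lift to a `2`-subgroup
  obtain ⟨Q, hQ2, hQtop⟩ := Cfsg.Agent.Helper55.exists_pgroup_map_eq (QuotientGroup.mk' K)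
    (QuotientGroup.mk'_surjective K) ⊤ (h2.to_subgroup ⊤)
  set φ : Q →* G ⧸ K := (QuotientGroup.mk' K).comp Q.subtype with hφ
  have hφs : Function.Surjective φ := by
    intro y
    have hy : y ∈ Q.map (QuotientGroup.mk' K) := by rw [hQtop]; exact mem_top y
    obtain ⟨q, hq, rfl⟩ := hy
    exact ⟨⟨q, hq⟩, rfl⟩
  have hφk : φ.ker = K.subgroupOf Q := by
    ext q
    rw [MonoidHom.mem_ker, Subgroup.mem_subgroupOf, hφ, MonoidHom.comp_apply,
      QuotientGroup.mk'_apply, QuotientGroup.eq_one_iff]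
    rfl
  have hidx : K.index = (K.subgroupOf Q).index := by
    rw [← hφk, index_ker_of_surjective φ hφs, Subgroup.index_eq_card]
  -- `f` restricted to `Q` is onto
  have hfQ : Function.Surjective (f.comp Q.subtype) := by
    intro y
    obtain ⟨x, rfl⟩ := hf y
    obtain ⟨q, hq⟩ := hφs (QuotientGroup.mk' K x)
    refine ⟨q, ?_⟩
    have h1 : ((q : G))⁻¹ * x ∈ K := by
      rw [← QuotientGroup.eq]
      exact hq
    have h2 : ((q : G))⁻¹ * x ∈ f.ker := (Subgroup.mem_inf.mp h1).1
    rw [MonoidHom.mem_ker, map_mul, map_inv, inv_mul_eq_one] at h2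
    exact h2
  -- the index of `K` is at most four
  have hle4 : K.index ≤ 4 := by
    rw [hidx]
    rcases Cfsg.Agent.Helper73.cyclic_or_quaternion hQ2 (hR.uniqueOrderP_subgroup Q hQ2) with
      hc | ⟨-, n, hn, ⟨e⟩⟩
    · exfalso
      haveI : IsCyclic (DihedralGroup 2) := isCyclic_of_surjective _ hfQ
      exact Cfsg.Agent.Helper68.FrobZW3.not_isZGroup_D2 inferInstance
    · obtain ⟨m, hm, hnm⟩ : ∃ m : ℕ, 1 ≤ m ∧ 2 ^ n = 2 * m :=
        ⟨2 ^ (n - 1), Nat.one_le_two_pow, by rw [← pow_succ', Nat.sub_add_cancel hn]⟩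
      have e' : Q ≃* QuaternionGroup (2 * m) := by rw [← hnm]; exact e
      rw [← Subgroup.index_map_equiv (K.subgroupOf Q) e']
      apply quat_sq_index m hm
      intro y
      obtain ⟨q, rfl⟩ := e'.surjective y
      refine ⟨q * q, ?_, by rw [map_mul]; rfl⟩
      show ((q * q : Q) : G) ∈ K
      exact hsq q
  -- conclusion
  have hKle : K ≤ f'.ker := inf_le_right
  have h3 := Subgroup.relIndex_mul_index hKle
  rw [index_ker_of_surjective f' hf', DihedralGroup.nat_card] at h3
  have h4 : K.relIndex f'.ker = 1 := by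
    have hpos : K.relIndex f'.ker ≠ 0 := Subgroup.index_ne_zero_of_finite
    have : K.relIndex f'.ker * 4 ≤ 4 := by rw [h3]; exact hle4
    omega
  have h5 : f'.ker ≤ K := Subgroup.relIndex_eq_one.mp h4
  exact h5.trans inf_le_left


/-- the candidate property of the statement. -/
def Cand (N : Subgroup G) : Prop :=
  N.Normal ∧ (∀ (p : ℕ) [Fact p.Prime] (P : Sylow p N), IsCyclic P) ∧
    (N = ⊤ ∨
      (∃ f : G →* DihedralGroup 2, Function.Surjective f ∧ f.ker = N) ∨
      (∃ f : G →* alternatingGroup (Fin 4), Function.Surjective f ∧ f.ker = N) ∨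
      (∃ f : G →* Equiv.Perm (Fin 4), Function.Surjective f ∧ f.ker = N) ∨
      (∃ f : G →* alternatingGroup (Fin 5), Function.Surjective f ∧ f.ker = N) ∨
      (∃ f : G →* Equiv.Perm (Fin 5), Function.Surjective f ∧ f.ker = N))

omit [Finite G] in
theorem Cand.three {N : Subgroup G} (h : Cand N) :
    N = ⊤ ∨ (∃ f : G →* DihedralGroup 2, Function.Surjective f ∧ f.ker = N) ∨
      ∃ (Γ : Type) (_ : Group Γ) (_ : BigTarget Γ) (f : G →* Γ),
        Function.Surjective f ∧ f.ker = N := by
  rcases h.2.2 with h | h | ⟨f, hf⟩ | ⟨f, hf⟩ | ⟨f, hf⟩ | ⟨f, hf⟩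
  · exact Or.inl h
  · exact Or.inr (Or.inl h)
  · exact Or.inr (Or.inr ⟨_, _, bigTarget_A4, f, hf⟩)
  · exact Or.inr (Or.inr ⟨_, _, bigTarget_S4, f, hf⟩)
  · exact Or.inr (Or.inr ⟨_, _, bigTarget_A5, f, hf⟩)
  · exact Or.inr (Or.inr ⟨_, _, bigTarget_S5, f, hf⟩)

/-- two candidates are comparable. -/
theorem Cand.le (hR : TwoRankOne G) {N N' : Subgroup G} (hN : Cand N) (hN' : Cand N') :
    N' ≤ N := by
  haveI : N.Normal := hN.1
  haveI : N'.Normal := hN'.1
  haveI hZ : IsZGroup N := isZGroup_of_sylow_cyclic hN.2.1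
  haveI hZ' : IsZGroup N' := isZGroup_of_sylow_cyclic hN'.2.1
  rcases hN.three with h | ⟨f, hf, hfk⟩ | ⟨Γ, _, hΓ, f, hf, hfk⟩
  · rw [h]; exact le_top
  · rcases hN'.three with h' | ⟨f', hf', hfk'⟩ | ⟨Γ', _, hΓ', f', hf', hfk'⟩
    · exfalso
      subst h'
      haveI : IsZGroup G :=
        IsZGroup.of_surjective (f := (⊤ : Subgroup G).subtype)
          (fun x => ⟨⟨x, Subgroup.mem_top x⟩, rfl⟩)
      exact not_surj_klein_of_isZGroup f hf
    · rw [← hfk, ← hfk']
      exact klein_vs_klein hR f f' hf hf'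
    · exfalso
      haveI : IsZGroup f.ker := by rw [hfk]; exact hZ
      exact klein_vs_big hΓ' f hf f' hf'
  · rw [← hfk]
    exact le_ker_of_bigTarget hΓ f hf N'

/-- **Uniqueness.** -/
theorem Cand.unique (hR : TwoRankOne G) {N N' : Subgroup G} (hN : Cand N) (hN' : Cand N') :
    N' = N :=
  le_antisymm (Cand.le hR hN hN') (Cand.le hR hN' hN)

end

end Cfsg.Agent.Helper89.FrobZ
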