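import Cfsg.Agent.S3358
import Cfsg.Agent.Helper89.FrobZA
import Cfsg.Agent.Helper89.FrobZB
import Cfsg.Agent.Helper89.FrobZU

/-!
# Frobenius complements: the unique normal Z-subgroup with quotient `1, V₄, A₄, S₄, A₅, S₅`
(helper89).  Assembly, with the structure of nonsolvable complements (S3359) as a hypothesis.
-/

set_option autoImplicit false

namespace Cfsg.Agent.Helper89.FrobZ

open Subgroup Cfsg.Agent.Helper71

section Hall

variable {G : Type*} [Group G]

/-- a direct factor of a normal subgroup whose exponent is coprime to the order of the other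
factor is normal. -/
theorem normal_of_hall_factor (G₀ S M : Subgroup G) [hG₀ : G₀.Normal] (hSM : S ⊔ M = G₀)
    (hcomm : ∀ s ∈ S, ∀ x ∈ M, s * x = x * s) (n : ℕ) (hS : ∀ s ∈ S, s ^ n = 1)
    (hM : (Nat.card M).Coprime n) : S.Normal := by
  constructor
  intro s hs g
  have hy : g * s * g⁻¹ ∈ S ⊔ M := by
    rw [hSM]
    exact hG₀.conj_mem s (hSM ▸ (le_sup_left : S ≤ S ⊔ M) hs) g
  have hcomm' : ∀ (a : S) (m : M), Commute (S.subtype a) (M.subtype m) :=
    fun a m => hcomm a a.2 m m.2
  rw [← Subgroup.range_subtype S, ← Subgroup.range_subtype M,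
    ← MonoidHom.noncommCoprod_range _ _ hcomm'] at hy
  obtain ⟨⟨a, m⟩, ham⟩ := hy
  rw [MonoidHom.noncommCoprod_apply] at ham
  simp only [Subgroup.subtype_apply] at ham
  have hyn : (g * s * g⁻¹) ^ n = 1 := by rw [conj_pow, hS s hs]; group
  have hc : Commute (a : G) (m : G) := hcomm a a.2 m m.2
  have hmn : (m : G) ^ n = 1 := by
    rw [← ham, hc.mul_pow, hS a a.2, one_mul] at hyn
    exact hyn
  have hm1 : (m : G) = 1 := by
    have h1 : orderOf (m : G) ∣ n := orderOf_dvd_of_pow_eq_one hmn
    have h2 : orderOf (m : G) ∣ Nat.card M := by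
      rw [Subgroup.orderOf_coe]; exact orderOf_dvd_natCard m
    have h3 : orderOf (m : G) ∣ 1 := by
      have := Nat.dvd_gcd h2 h1
      rwa [hM] at this
    exact orderOf_eq_one_iff.mp (Nat.dvd_one.mp h3)
  rw [← ham, hm1, mul_one]
  exact a.2

end Hall

section Assembly

variable {G : Type*} [Group G]

/-- the two basic properties of Frobenius complements, transported along an isomorphism. -/
theorem twoRankOne_of_frob {L : Type*} [Group L] [Finite L] {H : Subgroup L}
    (hF : Cfsg.IsFrobeniusComplement H) (e : G ≃* H) : TwoRankOne G := by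
  intro S hS u hu v hv hu1 hv1 hu2 hv2
  apply e.injective
  apply Cfsg.Agent.S3358.frob_twoRankOne hF (S.map e.toMonoidHom) (hS.map _) (e u)
    (Subgroup.mem_map_of_mem e.toMonoidHom hu) (e v) (Subgroup.mem_map_of_mem e.toMonoidHom hv)
  · intro h; exact hu1 (e.injective (h.trans (map_one e).symm))
  · intro h; exact hv1 (e.injective (h.trans (map_one e).symm))
  · rw [← map_pow, hu2, map_one]
  · rw [← map_pow, hv2, map_one]

theorem odd_cyclic_of_frob {L : Type*} [Group L] [Finite L] {H : Subgroup L}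
    (hF : Cfsg.IsFrobeniusComplement H) (e : G ≃* H) :
    ∀ p : ℕ, p.Prime → p ≠ 2 → ∀ P : Subgroup G, IsPGroup p P → IsCyclic P := by
  intro p hp hp2 P hP
  have h1 := Cfsg.Agent.S3358.frob_odd_cyclic hF p hp hp2 (P.map e.toMonoidHom) (hP.map _)
  exact isCyclic_of_injective (P.equivMapOfInjective e.toMonoidHom e.injective).toMonoidHom
    (MulEquiv.injective _)

/-- **Main theorem**, with the structure of nonsolvable Frobenius complements as a hypothesis. -/
theorem main [Finite G]
    (hFC : ∃ (L : Type) (_ : Group L) (_ : Finite L) (H : Subgroup L),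
      Cfsg.IsFrobeniusComplement H ∧ Nonempty (G ≃* H))
    (h3359 : ¬ Group.IsSolvable G →
      ∃ G₀ : Subgroup G, G₀.Normal ∧ (G₀.index = 1 ∨ G₀.index = 2) ∧
        ∃ S M : Subgroup G, S ⊔ M = G₀ ∧ S ⊓ M = ⊥ ∧ (∀ s ∈ S, ∀ x ∈ M, s * x = x * s) ∧
          Nonempty (S ≃* Matrix.SpecialLinearGroup (Fin 2) (ZMod 5)) ∧
          (∀ (p : ℕ) [Fact p.Prime] (P : Sylow p M), IsCyclic P) ∧ (Nat.card M).Coprime 30) :
    ∃! N : Subgroup G, N.Normal ∧ (∀ (p : ℕ) [Fact p.Prime] (P : Sylow p N), IsCyclic P) ∧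
      (N = ⊤ ∨
        (∃ f : G →* DihedralGroup 2, Function.Surjective f ∧ f.ker = N) ∨
        (∃ f : G →* alternatingGroup (Fin 4), Function.Surjective f ∧ f.ker = N) ∨
        (∃ f : G →* Equiv.Perm (Fin 4), Function.Surjective f ∧ f.ker = N) ∨
        (∃ f : G →* alternatingGroup (Fin 5), Function.Surjective f ∧ f.ker = N) ∨
        (∃ f : G →* Equiv.Perm (Fin 5), Function.Surjective f ∧ f.ker = N)) := by
  obtain ⟨L, instL, finL, H, hF, ⟨e⟩⟩ := hFC
  have hR : TwoRankOne G := twoRankOne_of_frob hF e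
  have hodd := odd_cyclic_of_frob hF e
  have hex : ∃ N : Subgroup G, Cand N := by
    by_cases hsol : Group.IsSolvable G
    · obtain ⟨N, h1, h2, h3⟩ := exists_solvable hR hodd
      refine ⟨N, h1, h2, ?_⟩
      rcases h3 with h | h | h | h
      · exact Or.inl h
      · exact Or.inr (Or.inl h)
      · exact Or.inr (Or.inr (Or.inl h))
      · exact Or.inr (Or.inr (Or.inr (Or.inl h)))
    · obtain ⟨G₀, hG₀n, -, S, M, hSM, -, hcomm, ⟨eS⟩, -, hMco⟩ := h3359 hsol
      have hcardS : Nat.card S = 120 := by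
        haveI : Fact (Nat.Prime 5) := ⟨by norm_num⟩
        rw [Nat.card_congr eS.toEquiv, Cfsg.Agent.Helper5.card_SL2, ZMod.card]
        norm_num
      have hS120 : ∀ s ∈ S, s ^ 120 = 1 := by
        intro s hs
        have h1 : (⟨s, hs⟩ : S) ^ Nat.card S = 1 := pow_card_eq_one'
        rw [hcardS] at h1
        have := congrArg Subtype.val h1
        simpa using this
      have hM120 : (Nat.card M).Coprime 120 := by
        have h2 : (Nat.card M).Coprime 2 := Nat.Coprime.coprime_dvd_right (by norm_num) hMco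
        have h4 : (Nat.card M).Coprime (2 ^ 2) := h2.pow_right 2
        have := Nat.Coprime.mul_right hMco h4
        norm_num at this
        exact this
      haveI hSn : S.Normal := normal_of_hall_factor G₀ S M hSM hcomm 120 hS120 hM120
      obtain ⟨N, h1, h2, h3⟩ := exists_nonsolvable hR hodd S eS
      refine ⟨N, h1, h2, ?_⟩
      rcases h3 with h | h
      · exact Or.inr (Or.inr (Or.inr (Or.inr (Or.inl h))))
      · exact Or.inr (Or.inr (Or.inr (Or.inr (Or.inr h))))
  obtain ⟨N, hN⟩ := hex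
  exact ⟨N, hN, fun N' hN' => Cand.unique hR hN hN'⟩

end Assembly

end Cfsg.Agent.Helper89.FrobZ
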