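import Cfsg.Agent.Helper95.Hig.Basic

/-!
# S3050 (Higman), piece (ST2) of helper95's HIG farm — helper89

`st2_of`: all `A γ` vanish, from the five Skel2 pieces (HSQ) (C0N) (C0I) (RNG) (LML), which are taken as
explicit hypotheses (exactly the Skel2 statements, quantified over the abelian group `C : Type w`).
-/

set_option autoImplicit false

namespace Cfsg.Agent.Helper89.Hig

open Cfsg.Agent.Helper95.Hig

universe u w

variable {K : Type u} [Field K]

/-- the common kernel of the `A γ` -/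
def ST2_ker {C : Type w} [AddCommGroup C] (D : HData K C) : AddSubgroup C where
  carrier := {c | ∀ γ, D.A γ c = 0}
  add_mem' := by
    intro a b ha hb γ
    rw [map_add, ha γ, hb γ, add_zero]
  zero_mem' := fun γ => map_zero _
  neg_mem' := by
    intro a ha γ
    rw [map_neg, ha γ, neg_zero]

theorem ST2_mem_ker {C : Type w} [AddCommGroup C] (D : HData K C) (c : C) :
    c ∈ ST2_ker D ↔ ∀ γ, D.A γ c = 0 := Iff.rfl

/-- (ST2), with the five pieces it uses as hypotheses. -/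
theorem st2_of [Finite K] [CharP K 2] (hK : 3 ≤ Nat.card K)
    (Hhsq : ∀ {C : Type w} [AddCommGroup C] (D : HData K C) (C₀ : AddSubgroup C)
      (_hA : ∀ γ c, c ∈ C₀ → D.A γ c ∈ C₀) (_hB : ∀ γ c, c ∈ C₀ → D.B γ c ∈ C₀),
      (∃ D' : HData K C₀, ∀ (γ : K) (c : C₀),
        ((D'.A γ c : C₀) : C) = D.A γ c ∧ ((D'.B γ c : C₀) : C) = D.B γ c) ∧
      (∃ D' : HData K (C ⧸ C₀), ∀ (γ : K) (c : C),
        D'.A γ (QuotientAddGroup.mk c) = QuotientAddGroup.mk (D.A γ c) ∧
        D'.B γ (QuotientAddGroup.mk c) = QuotientAddGroup.mk (D.B γ c)))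
    (Hc0n : ∀ {C : Type w} [AddCommGroup C] [Nontrivial C] (D : HData K C),
      ∃ c : C, c ≠ 0 ∧ ∀ γ, D.A γ c = 0)
    (Hc0i : ∀ {C : Type w} [AddCommGroup C] (D : HData K C) (c : C) (_hc : ∀ γ, D.A γ c = 0)
      (δ γ : K), D.A γ (D.B δ c) = 0)
    (Hrng : ∀ {C : Type w} [AddCommGroup C] (_h2 : ∀ c : C, c + c = 0) (D : HData K C)
      (_hA : ∀ γ c, D.A γ c = 0), ∃ R : K →+* AddMonoid.End C, ∀ γ c, R γ c = D.B γ c)
    (Hlml : ∀ {C : Type w} [AddCommGroup C] (_h2 : ∀ c : C, c + c = 0) (D : HData K C)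
      (C₀ : AddSubgroup C)
      (_h1 : ∀ γ c, D.A γ c ∈ C₀) (_h0 : ∀ γ c, c ∈ C₀ → D.A γ c = 0)
      (_hB : ∀ γ c, c ∈ C₀ → D.B γ c ∈ C₀)
      (_hmul0 : ∀ γ δ c, c ∈ C₀ → D.B γ (D.B δ c) = D.B (γ * δ) c)
      (_hmul1 : ∀ γ δ c, D.B γ (D.B δ c) - D.B (γ * δ) c ∈ C₀),
      ∀ γ c, D.A γ c = 0)
    {C : Type w} [AddCommGroup C] [Finite C] (h2 : ∀ c : C, c + c = 0)
    (D : HData K C) : ∀ γ c, D.A γ c = 0 := by
  -- strong induction on the order of `C`
  suffices H : ∀ n : ℕ, ∀ (C : Type w) [AddCommGroup C] [Finite C], Nat.card C = n →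
      (∀ c : C, c + c = 0) → ∀ D : HData K C, ∀ γ c, D.A γ c = 0 from
    H (Nat.card C) C rfl h2 D
  intro n
  induction n using Nat.strong_induction_on with
  | _ n ih =>
    intro C _ _ hn h2 D
    rcases subsingleton_or_nontrivial C with hsub | hnt
    · intro γ c
      exact Subsingleton.elim _ _
    · obtain ⟨c₀, hc₀, hc₀A⟩ := Hc0n D
      have hAinv : ∀ γ c, c ∈ ST2_ker D → D.A γ c ∈ ST2_ker D := by
        intro γ c hc
        rw [hc γ]
        exact (ST2_ker D).zero_mem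
      have hBinv : ∀ γ c, c ∈ ST2_ker D → D.B γ c ∈ ST2_ker D := by
        intro γ c hc γ'
        exact Hc0i D c hc γ γ'
      obtain ⟨⟨D₀, hD₀⟩, ⟨Dq, hDq⟩⟩ := Hhsq D (ST2_ker D) hAinv hBinv
      -- the quotient is smaller
      have hlt : Nat.card (C ⧸ ST2_ker D) < n := by
        have h1 := AddSubgroup.card_eq_card_quotient_mul_card_addSubgroup (ST2_ker D)
        have h3 : 1 < Nat.card (ST2_ker D) := by
          rw [Finite.one_lt_card_iff_nontrivial]
          exact ⟨⟨⟨c₀, hc₀A⟩, 0, fun h => hc₀ (congrArg Subtype.val h)⟩⟩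
        have h4 : 0 < Nat.card (C ⧸ ST2_ker D) := Nat.card_pos
        rw [hn] at h1
        nlinarith
      have h2q : ∀ q : C ⧸ ST2_ker D, q + q = 0 := by
        intro q
        induction q using QuotientAddGroup.induction_on with
        | H c =>
          rw [← QuotientAddGroup.mk_add, h2 c]
          rfl
      have hqA : ∀ γ q, Dq.A γ q = 0 := ih _ hlt (C ⧸ ST2_ker D) rfl h2q Dq
      have h1 : ∀ γ c, D.A γ c ∈ ST2_ker D := by
        intro γ c
        have := hqA γ (QuotientAddGroup.mk c)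
        rw [(hDq γ c).1, QuotientAddGroup.eq_zero_iff] at this
        exact this
      have h0 : ∀ γ c, c ∈ ST2_ker D → D.A γ c = 0 := fun γ c hc => hc γ
      -- the ring homomorphisms
      have h2₀ : ∀ c : ST2_ker D, c + c = 0 := fun c => Subtype.ext (h2 c)
      have hA₀ : ∀ γ (c : ST2_ker D), D₀.A γ c = 0 := by
        intro γ c
        apply Subtype.ext
        rw [(hD₀ γ c).1]
        exact c.2 γ
      obtain ⟨R₀, hR₀⟩ := Hrng h2₀ D₀ hA₀
      obtain ⟨Rq, hRq⟩ := Hrng h2q Dq hqA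
      have hmul0 : ∀ γ δ c, c ∈ ST2_ker D → D.B γ (D.B δ c) = D.B (γ * δ) c := by
        intro γ δ c hc
        have e1 : D₀.B γ (D₀.B δ ⟨c, hc⟩) = D₀.B (γ * δ) ⟨c, hc⟩ := by
          rw [← hR₀, ← hR₀, ← hR₀, map_mul]
          rfl
        have e2 := congrArg Subtype.val e1
        rw [(hD₀ γ _).2, (hD₀ δ _).2, (hD₀ (γ * δ) _).2] at e2
        exact e2
      have hmul1 : ∀ γ δ c, D.B γ (D.B δ c) - D.B (γ * δ) c ∈ ST2_ker D := by
        intro γ δ c
        rw [← QuotientAddGroup.eq_zero_iff, QuotientAddGroup.mk_sub, ← (hDq γ _).2, ← (hDq δ _).2,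
          ← (hDq (γ * δ) _).2, ← hRq, ← hRq, ← hRq, map_mul, sub_eq_zero]
        rfl
      exact Hlml h2 D (ST2_ker D) h1 h0 hBinv hmul0 hmul1

end Cfsg.Agent.Helper89.Hig
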