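import Mathlib
import Cfsg.Agent.Helper89.HeisTwoES

/-!
# Counting singular vectors of a quadratic form over `ZMod 2` with a totally singular
Lagrangian subspace
-/

set_option autoImplicit false

namespace Cfsg.Agent.Helper89

theorem zmod2_ne_iff_eq_add_one : ∀ a c : ZMod 2, ¬ (a = c) ↔ a = c + 1 := by decide

/-- A non-zero linear functional to `ZMod 2` takes each value on exactly half of the space. -/
theorem two_mul_card_fiber {V : Type*} [AddCommGroup V] [Module (ZMod 2) V] [Fintype V]
    (f : V →ₗ[ZMod 2] ZMod 2) (hf : f ≠ 0) (c : ZMod 2) :
    2 * (Finset.univ.filter fun v => f v = c).card = Fintype.card V := by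
  classical
  obtain ⟨v0, hv0⟩ : ∃ v0, f v0 = 1 := by
    by_contra hcon
    push Not at hcon
    apply hf
    ext v
    have := hcon v
    rw [LinearMap.zero_apply]
    by_contra h0
    exact this (zmod2_eq_one_of_ne_zero _ h0)
  have hbij : (Finset.univ.filter fun v => f v = c).card =
      (Finset.univ.filter fun v => f v = c + 1).card := by
    apply Finset.card_bij (fun v _ => v + v0)
    · intro v hv
      simp only [Finset.mem_filter, Finset.mem_univ, true_and] at hv ⊢
      rw [map_add, hv, hv0]
    · intro v _ v' _ h
      exact add_right_cancel h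
    · intro w hw
      simp only [Finset.mem_filter, Finset.mem_univ, true_and] at hw
      refine ⟨w + v0, ?_, ?_⟩
      · simp only [Finset.mem_filter, Finset.mem_univ, true_and]
        rw [map_add, hw, hv0, add_assoc, CharTwo.add_self_eq_zero, add_zero]
      · rw [add_assoc, ZModModule.add_self, add_zero]
  have hsplit := Finset.card_filter_add_card_filter_not (s := (Finset.univ : Finset V))
    (fun v => f v = c)
  have hneg : (Finset.univ.filter fun v => ¬ (f v = c)) = Finset.univ.filter fun v => f v = c + 1 := by
    ext v
    simp only [Finset.mem_filter, Finset.mem_univ, true_and]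
    exact zmod2_ne_iff_eq_add_one _ _
  rw [hneg, ← hbij, Finset.card_univ] at hsplit
  omega

namespace HeisTwo

variable {W : Type} [AddCommGroup W] [Module (ZMod 2) W] {β : LinearMap.BilinForm (ZMod 2) W}

theorem quad_add (w v : W) : β (w + v) (w + v) = β w w + polar β w v + β v v := by
  simp only [map_add, LinearMap.add_apply, polar_apply]; ring

/-- If `U` is totally singular and contains its own orthogonal, exactly `(|W| + |U|) / 2` vectors
are singular. -/
theorem two_mul_card_singular [Fintype W] [DecidableEq W] (U : Submodule (ZMod 2) W)
    (hs : ∀ u ∈ U, β u u = 0) (hperp : ∀ w : W, (∀ u ∈ U, polar β w u = 0) → w ∈ U) :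
    2 * (Finset.univ.filter fun w : W => β w w = 0).card = Fintype.card W + Nat.card U := by
  classical
  set N := (Finset.univ.filter fun w : W => β w w = 0).card with hN
  rw [Nat.card_eq_fintype_card]
  have ha : ∑ w : W, ∑ v : U, (if β (w + v) (w + v) = 0 then 1 else 0 : ℕ) =
      Fintype.card U * N := by
    rw [Finset.sum_comm]
    have h1 : ∀ v : U, ∑ w : W, (if β (w + v) (w + v) = 0 then 1 else 0 : ℕ) = N := by
      intro v
      rw [hN, Finset.card_filter]
      exact Equiv.sum_comp (Equiv.addRight (v : W)) (fun w => if β w w = 0 then 1 else 0)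
    rw [Finset.sum_congr rfl fun v _ => h1 v]
    simp
  have hb : ∀ w : W, 2 * ∑ v : U, (if β (w + v) (w + v) = 0 then 1 else 0 : ℕ) =
      Fintype.card U + (if w ∈ U then Fintype.card U else 0) := by
    intro w
    split_ifs with hw
    · rw [Finset.sum_congr rfl fun (v : U) _ => if_pos (hs _ (U.add_mem hw v.2))]
      simp
      ring
    · let f : U →ₗ[ZMod 2] ZMod 2 := (polar β w).comp U.subtype
      have hf : f ≠ 0 := by
        intro h0
        apply hw
        apply hperp
        intro u hu
        have := LinearMap.congr_fun h0 ⟨u, hu⟩
        simpa [f] using this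
      have hhalf := two_mul_card_fiber f hf (β w w)
      rw [add_zero, ← hhalf]
      congr 1
      rw [Finset.card_filter]
      apply Finset.sum_congr rfl
      intro v _
      have hv : β (v : W) (v : W) = 0 := hs _ v.2
      have hiff : (β (w + v) (w + v) = 0) ↔ f v = β w w := by
        rw [quad_add, hv, add_zero]
        show β w w + polar β w v = 0 ↔ polar β w v = β w w
        constructor
        · intro h
          have h2 := CharTwo.add_self_eq_zero (β w w)
          linear_combination h - h2
        · intro h
          rw [h]; exact CharTwo.add_self_eq_zero _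
      simp only [hiff]
  have h2 : 2 * (Fintype.card U * N) =
      Fintype.card U * (Fintype.card W + Fintype.card U) := by
    rw [← ha, Finset.mul_sum, Finset.sum_congr rfl fun w _ => hb w, Finset.sum_add_distrib,
      Finset.sum_const, Finset.card_univ, smul_eq_mul, ← Finset.sum_filter, Finset.sum_const,
      smul_eq_mul]
    have hc : (Finset.univ.filter fun w : W => w ∈ U).card = Fintype.card U := by
      rw [Fintype.card_subtype]
    rw [hc]; ring
  have hpos : 0 < Fintype.card U := Fintype.card_pos
  have h3 : Fintype.card U * (2 * N) = Fintype.card U * (Fintype.card W + Fintype.card U) := by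
    rw [← h2]; ring
  exact Nat.eq_of_mul_eq_mul_left hpos h3

end HeisTwo

end Cfsg.Agent.Helper89
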