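import Mathlib
import Cfsg.Agent.Helper89.HeisTwoCount

/-!
# The two extraspecial groups of order `2^(2n+1)`: concrete cocycles
-/

set_option autoImplicit false

namespace Cfsg.Agent.Helper89

open HeisTwo

/-- The coordinate space. -/
abbrev Vec2 (m : ℕ) : Type := Fin (m + 1) → ZMod 2

/-- The cocycle `x ⬝ y' + δ (x₀ x'₀ + y₀ y'₀)` on pairs `(x, y)`. -/
def cocyc (m : ℕ) (δ : ZMod 2) : LinearMap.BilinForm (ZMod 2) (Vec2 m × Vec2 m) :=
  LinearMap.mk₂ (ZMod 2)
    (fun a b => a.1 ⬝ᵥ b.2 + δ * (a.1 0 * b.1 0 + a.2 0 * b.2 0))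
    (by intro a a' b; simp only [Prod.fst_add, Prod.snd_add, add_dotProduct, Pi.add_apply]; ring)
    (by intro r a b; simp only [Prod.smul_fst, Prod.smul_snd, smul_dotProduct, Pi.smul_apply,
          smul_eq_mul]; ring)
    (by intro a b b'; simp only [Prod.fst_add, Prod.snd_add, dotProduct_add, Pi.add_apply]; ring)
    (by intro r a b; simp only [Prod.smul_fst, Prod.smul_snd, dotProduct_smul, Pi.smul_apply,
          smul_eq_mul]; ring)

theorem cocyc_apply (m : ℕ) (δ : ZMod 2) (a b : Vec2 m × Vec2 m) :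
    cocyc m δ a b = a.1 ⬝ᵥ b.2 + δ * (a.1 0 * b.1 0 + a.2 0 * b.2 0) := rfl

theorem polar_cocyc (m : ℕ) (δ : ZMod 2) (a b : Vec2 m × Vec2 m) :
    polar (cocyc m δ) a b = a.1 ⬝ᵥ b.2 + b.1 ⬝ᵥ a.2 := by
  rw [polar_apply, cocyc_apply, cocyc_apply]
  have h := CharTwo.add_self_eq_zero (δ * (a.1 0 * b.1 0 + a.2 0 * b.2 0))
  linear_combination h

theorem cocyc_nondeg (m : ℕ) (δ : ZMod 2) :
    ∀ w : Vec2 m × Vec2 m, w ≠ 0 → ∃ w', polar (cocyc m δ) w w' ≠ 0 := by
  intro w hw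
  by_cases h1 : w.1 = 0
  · have h2 : w.2 ≠ 0 := fun h => hw (Prod.ext h1 h)
    obtain ⟨i, hi⟩ : ∃ i, w.2 i ≠ 0 := by
      by_contra hcon
      push Not at hcon
      exact h2 (funext hcon)
    refine ⟨(Pi.single i 1, 0), ?_⟩
    rw [polar_cocyc]
    simpa using hi
  · obtain ⟨i, hi⟩ : ∃ i, w.1 i ≠ 0 := by
      by_contra hcon
      push Not at hcon
      exact h1 (funext hcon)
    refine ⟨(0, Pi.single i 1), ?_⟩
    rw [polar_cocyc]
    simpa using hi

theorem cocyc_sq (m : ℕ) (δ : ZMod 2) :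
    ∃ w : Vec2 m × Vec2 m, cocyc m δ w w ≠ 0 := by
  refine ⟨(Pi.single 0 1, Pi.single 0 1), ?_⟩
  rw [cocyc_apply]
  have : (Pi.single (0 : Fin (m + 1)) (1 : ZMod 2)) ⬝ᵥ (Pi.single 0 1) = 1 := by simp
  rw [this]
  simp only [Pi.single_eq_same, mul_one]
  have h := CharTwo.add_self_eq_zero (δ * 1)
  intro h2
  have : (1 : ZMod 2) = 0 := by linear_combination h2 - h
  exact one_ne_zero this

theorem finrank_pairs (m : ℕ) : Module.finrank (ZMod 2) (Vec2 m × Vec2 m) = 2 * (m + 1) := by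
  rw [Module.finrank_prod, Module.finrank_fintype_fun_eq_card, Fintype.card_fin]
  ring

theorem card_vec (m : ℕ) : Nat.card (Vec2 m) = 2 ^ (m + 1) := by
  rw [Nat.card_eq_fintype_card, Fintype.card_fun, ZMod.card, Fintype.card_fin]

theorem card_pairs (m : ℕ) : Nat.card (Vec2 m × Vec2 m) = 2 ^ (2 * (m + 1)) := by
  rw [Nat.card_prod, card_vec, ← pow_add]
  congr 1; ring

theorem card_heis (m : ℕ) (δ : ZMod 2) :
    Nat.card (HeisTwo (cocyc m δ)) = 2 ^ (2 * (m + 1) + 1) := by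
  rw [card_eq, card_pairs, pow_succ, mul_comm]

theorem extraspecial_heis (m : ℕ) (δ : ZMod 2) : Cfsg.IsExtraspecial 2 (HeisTwo (cocyc m δ)) :=
  isExtraspecial (cocyc_nondeg m δ) (cocyc_sq m δ)

/-- Abelian subgroups have order at most `2^(m+2)`. -/
theorem rank_le (m : ℕ) (δ : ZMod 2) (A : Subgroup (HeisTwo (cocyc m δ)))
    (hA : IsMulCommutative A) {k : ℕ} (hk : Nat.card A = 2 ^ k) : k ≤ m + 2 := by
  have := abelian_bound (cocyc_nondeg m δ) A hA hk
  rw [finrank_pairs] at this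
  omega

/-! ### The large elementary abelian subgroup of the plus type -/

/-- `{(c, (x, 0))}` in the plus-type group. -/
def plusSub (m : ℕ) : Subgroup (HeisTwo (cocyc m 0)) where
  carrier := {a | a.w.2 = 0}
  mul_mem' := by
    intro a b ha hb
    simp only [Set.mem_ofPred_eq] at ha hb ⊢
    rw [mul_w, Prod.snd_add, ha, hb, add_zero]
  one_mem' := rfl
  inv_mem' := by
    intro a ha
    simpa using ha

theorem plusSub_elementary (m : ℕ) : Cfsg.IsElementaryAbelian 2 (plusSub m) := by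
  refine ⟨⟨⟨fun a b => ?_⟩⟩, ?_⟩
  · apply Subtype.ext
    show a.1 * b.1 = b.1 * a.1
    rw [mul_comm_iff, polar_cocyc]
    have ha : a.1.w.2 = 0 := a.2
    have hb : b.1.w.2 = 0 := b.2
    rw [ha, hb]; simp
  · intro a ha
    have ha' : a.w.2 = 0 := ha
    rw [HeisTwo.sq_eq_one_iff, cocyc_apply, ha']
    simp

theorem plusSub_card (m : ℕ) : Nat.card (plusSub m) = 2 ^ (m + 2) := by
  let e : plusSub m ≃ ZMod 2 × Vec2 m :=
    { toFun := fun a => (a.1.c, a.1.w.1)
      invFun := fun p => ⟨⟨p.1, (p.2, 0)⟩, rfl⟩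
      left_inv := by
        intro a
        apply Subtype.ext
        have ha : a.1.w.2 = 0 := a.2
        ext1
        · rfl
        · exact Prod.ext rfl ha.symm
      right_inv := fun p => rfl }
  rw [Nat.card_congr e, Nat.card_prod, Nat.card_zmod, card_vec, ← pow_succ']

/-! ### The large elementary abelian subgroup of the minus type -/

/-- `{(c, (x, 0)) | x₀ = 0}` in the minus-type group. -/
def minusSub (m : ℕ) : Subgroup (HeisTwo (cocyc m 1)) where
  carrier := {a | a.w.2 = 0 ∧ a.w.1 0 = 0}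
  mul_mem' := by
    intro a b ha hb
    simp only [Set.mem_ofPred_eq] at ha hb ⊢
    rw [mul_w, Prod.snd_add, Prod.fst_add, Pi.add_apply, ha.1, hb.1, ha.2, hb.2, add_zero,
      add_zero]
    exact ⟨rfl, rfl⟩
  one_mem' := ⟨rfl, rfl⟩
  inv_mem' := by
    intro a ha
    simpa using ha

theorem minusSub_elementary (m : ℕ) : Cfsg.IsElementaryAbelian 2 (minusSub m) := by
  refine ⟨⟨⟨fun a b => ?_⟩⟩, ?_⟩
  · apply Subtype.ext
    show a.1 * b.1 = b.1 * a.1
    rw [mul_comm_iff, polar_cocyc]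
    have ha : a.1.w.2 = 0 := a.2.1
    have hb : b.1.w.2 = 0 := b.2.1
    rw [ha, hb]; simp
  · intro a ha
    have ha1 : a.w.2 = 0 := ha.1
    have ha2 : a.w.1 0 = 0 := ha.2
    rw [HeisTwo.sq_eq_one_iff, cocyc_apply, ha1, ha2]
    simp

theorem minusSub_card (m : ℕ) : Nat.card (minusSub m) = 2 ^ (m + 1) := by
  let e : minusSub m ≃ ZMod 2 × (Fin m → ZMod 2) :=
    { toFun := fun a => (a.1.c, Fin.tail a.1.w.1)
      invFun := fun p => ⟨⟨p.1, (Fin.cons (α := fun _ => ZMod 2) 0 p.2, 0)⟩, ⟨rfl, rfl⟩⟩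
      left_inv := by
        intro a
        apply Subtype.ext
        have ha1 : a.1.w.2 = 0 := a.2.1
        have ha2 : a.1.w.1 0 = 0 := a.2.2
        ext1
        · rfl
        · refine Prod.ext ?_ ha1.symm
          show Fin.cons (α := fun _ => ZMod 2) 0 (Fin.tail a.1.w.1) = a.1.w.1
          rw [← ha2]
          exact Fin.cons_self_tail _
      right_inv := by
        intro p
        refine Prod.ext rfl ?_
        show Fin.tail (Fin.cons (α := fun _ => ZMod 2) 0 p.2) = p.2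
        exact Fin.tail_cons _ _ }
  have hc : Nat.card (Fin m → ZMod 2) = 2 ^ m := by
    rw [Nat.card_eq_fintype_card, Fintype.card_fun, ZMod.card, Fintype.card_fin]
  rw [Nat.card_congr e, Nat.card_prod, Nat.card_zmod, hc, ← pow_succ']

end Cfsg.Agent.Helper89
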