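import Mathlib
import Cfsg.Agent.Helper71.ShultNil
import Cfsg.Agent.Helper52.NormalRankTwo
import Cfsg.Agent.Helper63.PGroup
import Cfsg.Agent.Helper51.GlauRepl

/-!
# Lemma F (helper70's WANTED #3176, for B-G Theorem 13.4 = S1428)

Setting: `S` a `p`-subgroup normalized by `Q0` and `R0`, `R0` of prime order `r` normalizing `Q0`,
`Q0 R0` solvable of odd order prime to `p`, `r ∤ |Q0|`, `[Q0, R0] = Q0`.

* `le_centralizer_of_fpf` (a): `C_S(R0) = 1 → S ≤ C(Q0)` (Shult, `Helper71.ShultNil`).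
* `section_centralized`: the same in a section `V / W`.
* `le_centralizer_of_centralizers_eq` (b): `C_S(R0) = C_S(Q0) → S ≤ C(Q0)`.
* `isCyclic_of_isCyclic_centralizers` (c): `p` odd, `C_S(R0)`, `C_S(Q0)` cyclic, some `P0 ≤ S` of order
  `p` centralized by `Q0` and `R0` `→ S` cyclic.
-/

set_option autoImplicit false
set_option linter.style.haveILetI false

namespace Cfsg.Agent.Helper89.LemmaF

open Subgroup
open scoped commutatorElement
open Cfsg.Agent.Helper71 Cfsg.Agent.Helper71.Shult Cfsg.Agent.Helper71.QI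

variable {X : Type*} [Group X] [Finite X] {p r : ℕ} [Fact p.Prime]

/-- Coprime action: if `[V, Q0] ≤ W ≤ C(Q0)` with `V` a `p`-group and `|Q0|` prime to `p`,
then `Q0` centralizes `V`. -/
theorem le_centralizer_of_comm_le {V W Q0 : Subgroup X} (hV : IsPGroup p V) (hWV : W ≤ V)
    (hcop : (Nat.card Q0).Coprime p) (hWQ : W ≤ centralizer (Q0 : Set X))
    (h : ∀ v ∈ V, ∀ q ∈ Q0, (q * v)⁻¹ * (v * q) ∈ W) : V ≤ centralizer (Q0 : Set X) := by
  intro v hv
  rw [mem_centralizer_iff]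
  intro q hq
  set c := (q * v)⁻¹ * (v * q) with hc
  have hcW : c ∈ W := h v hv q hq
  have hcq : q * c = c * q := (mem_centralizer_iff.mp (hWQ hcW) q hq)
  have hconj : q⁻¹ * v * q = v * c := by rw [hc]; group
  -- `q^{-k} v q^k = v c^k`
  have hpow : ∀ k : ℕ, (q ^ k)⁻¹ * v * q ^ k = v * c ^ k := by
    intro k
    induction k with
    | zero => simp
    | succ k ih =>
      have hck : q⁻¹ * c ^ k * q = c ^ k := by
        have h1 : Commute q (c ^ k) := Commute.pow_right hcq k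
        have h2 : q * c ^ k = c ^ k * q := h1
        calc q⁻¹ * c ^ k * q = q⁻¹ * (c ^ k * q) := by group
          _ = q⁻¹ * (q * c ^ k) := by rw [h2]
          _ = c ^ k := by group
      calc (q ^ (k + 1))⁻¹ * v * q ^ (k + 1)
          = q⁻¹ * ((q ^ k)⁻¹ * v * q ^ k) * q := by rw [pow_succ]; group
        _ = q⁻¹ * (v * c ^ k) * q := by rw [ih]
        _ = (q⁻¹ * v * q) * (q⁻¹ * c ^ k * q) := by group
        _ = v * c * c ^ k := by rw [hconj, hck]
        _ = v * c ^ (k + 1) := by rw [pow_succ']; group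
  have h1 := hpow (orderOf q)
  rw [pow_orderOf_eq_one, inv_one, one_mul, mul_one] at h1
  have h2 : c ^ orderOf q = 1 := by
    have := congrArg (fun x => v⁻¹ * x) h1
    simpa using this.symm
  obtain ⟨k, hk⟩ := hV ⟨c, hWV hcW⟩
  have h3 : c ^ p ^ k = 1 := by
    have := congrArg Subtype.val hk
    simpa using this
  have hoq : orderOf q ∣ Nat.card Q0 := by
    have := orderOf_dvd_natCard (⟨q, hq⟩ : Q0)
    rwa [Subgroup.orderOf_mk] at this
  have hcop' : (orderOf q).Coprime (p ^ k) :=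
    Nat.Coprime.pow_right k (Nat.Coprime.coprime_dvd_left hoq hcop)
  have hc1 : c = 1 := eq_one_of_pow_eq_one_of_coprime hcop' h2 h3
  have h4 : q⁻¹ * v * q = v := by rw [hconj, hc1, mul_one]
  calc q * v = q * (q⁻¹ * v * q) := by rw [h4]
    _ = v * q := by group

/-- In a cyclic group containing `P0` of order `p`, every `x` with `x ^ p = 1` lies in `P0`. -/
theorem mem_of_pow_eq_one_of_isCyclic {C P0 : Subgroup X} (hC : IsCyclic ↥C) (hP0C : P0 ≤ C)
    (hP0 : Nat.card P0 = p) {x : X} (hx : x ∈ C) (hxp : x ^ p = 1) : x ∈ P0 := by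
  classical
  have hp : p.Prime := Fact.out
  by_contra hxP
  haveI : Fintype ↥C := Fintype.ofFinite _
  have hle := IsCyclic.card_pow_eq_one_le (α := ↥C) hp.pos
  let P0' : Subgroup ↥C := P0.subgroupOf C
  have hcardP0' : Nat.card P0' = p := by
    rw [← hP0]; exact Nat.card_congr (Subgroup.subgroupOfEquivOfLe hP0C).toEquiv
  let T : Finset ↥C := insert ⟨x, hx⟩ (P0' : Set ↥C).toFinset
  have hTF : T ⊆ Finset.univ.filter (fun a : ↥C => a ^ p = 1) := by
    intro a ha
    rw [Finset.mem_filter]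
    refine ⟨Finset.mem_univ _, ?_⟩
    rcases Finset.mem_insert.mp ha with rfl | ha
    · exact Subtype.ext (by simpa using hxp)
    · have haP : a ∈ P0' := by simpa using ha
      have h1 := pow_card_eq_one' (G := P0') (x := ⟨a, haP⟩)
      rw [hcardP0'] at h1
      have h2 := congrArg Subtype.val h1
      simpa using h2
  have hTcard : T.card = p + 1 := by
    rw [Finset.card_insert_of_notMem]
    · congr 1
      rw [Set.toFinset_card, ← Nat.card_eq_fintype_card]
      exact hcardP0'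
    · intro h
      apply hxP
      have h1 : (⟨x, hx⟩ : ↥C) ∈ P0' := by simpa using h
      exact mem_subgroupOf.mp h1
  have h3 := Finset.card_le_card hTF
  omega

/-- In a finite `p`-group, commutators with a normal subgroup of order `p ^ 2` are central of order
dividing `p`. -/
theorem comm_mem_center_of_normal_card_sq {T : Type*} [Group T] [Finite T] (hT : IsPGroup p T)
    (A : Subgroup T) [hA : A.Normal] (hAc : Nat.card A = p ^ 2) :
    ∀ a ∈ A, ∀ t : T, ⁅a, t⁆ ∈ center T ∧ ⁅a, t⁆ ^ p = 1 := by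
  have hp : p.Prime := Fact.out
  set M : Subgroup T := ⁅A, ⊤⁆ with hM
  have hMA : M ≤ A := Subgroup.commutator_le_left A ⊤
  haveI : M.Normal := Subgroup.commutator_normal A ⊤
  have hMne : M ≠ A := by
    intro h
    haveI : Group.IsNilpotent T := hT.isNilpotent
    obtain ⟨n, hn⟩ :=
      Subgroup.nilpotent_iff_lowerCentralSeries.mp (inferInstance : Group.IsNilpotent T)
    have hle : ∀ k, A ≤ (⊤ : Subgroup T).lowerCentralSeries k := by
      intro k
      induction k with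
      | zero => simp
      | succ k ih =>
        calc A = ⁅A, ⊤⁆ := by rw [← hM, h]
          _ ≤ ⁅(⊤ : Subgroup T).lowerCentralSeries k, ⊤⁆ := Subgroup.commutator_mono ih le_rfl
          _ = (⊤ : Subgroup T).lowerCentralSeries (k + 1) := rfl
    have h1 := hle n
    rw [hn, le_bot_iff] at h1
    rw [h1, Subgroup.card_bot] at hAc
    have h2 : 1 < p ^ 2 := Nat.one_lt_pow (by norm_num) hp.one_lt
    omega
  have hdvd : Nat.card M ∣ p ^ 2 := by rw [← hAc]; exact Subgroup.card_dvd_of_le hMA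
  obtain ⟨k, hk2, hk⟩ := (Nat.dvd_prime_pow hp).mp hdvd
  have hk1 : k ≤ 1 := by
    by_contra hlt
    have hk' : k = 2 := by omega
    apply hMne
    apply Subgroup.eq_of_le_of_card_ge hMA
    rw [hk, hk', hAc]
  intro a ha t
  have hmem : ⁅a, t⁆ ∈ M := Subgroup.commutator_mem_commutator ha (Subgroup.mem_top t)
  interval_cases k
  · have hMbot : M = ⊥ := Subgroup.card_eq_one.mp (by simpa using hk)
    rw [hMbot, Subgroup.mem_bot] at hmem
    rw [hmem]
    exact ⟨Subgroup.one_mem _, one_pow p⟩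
  · have hMc : Nat.card M = p := by simpa using hk
    refine ⟨Cfsg.Agent.Helper63.le_center_of_normal_of_card_eq_prime hT M hMc hmem, ?_⟩
    have h1 := pow_card_eq_one' (G := M) (x := ⟨⁅a, t⁆, hmem⟩)
    rw [hMc] at h1
    have h2 := congrArg Subtype.val h1
    simpa using h2

section Sections

variable (Q0 R0 : Subgroup X) (hr : r.Prime) (hR0 : Nat.card R0 = r)
  (hRQ : R0 ≤ normalizer (Q0 : Set X))
  (hsolv : Group.IsSolvable ↥(Q0 ⊔ R0)) (hodd : Odd (Nat.card ↥(Q0 ⊔ R0)))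
  (hcop : (Nat.card ↥(Q0 ⊔ R0)).Coprime p) (hrQ : ¬ r ∣ Nat.card Q0) (hcomm : ⁅Q0, R0⁆ = Q0)

include hr hR0 hRQ hsolv hodd hcop hrQ hcomm

/-- **Section form of (a).**  `V` a `p`-group, `W ≤ V` normalized by `V`, both normalized by `Q0`
and `R0`, and `C_{V/W}(R0) = 1`.  Then `[V, Q0] ≤ W`. -/
theorem section_centralized (V W : Subgroup X) (hV : IsPGroup p V) (hWV : W ≤ V)
    (hVW : V ≤ normalizer (W : Set X)) (hQW : Q0 ≤ normalizer (W : Set X))
    (hRW : R0 ≤ normalizer (W : Set X)) (hQV : Q0 ≤ normalizer (V : Set X))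
    (hRV : R0 ≤ normalizer (V : Set X))
    (hfpf : ∀ s ∈ V, (∀ t ∈ R0, (t * s)⁻¹ * (s * t) ∈ W) → s ∈ W) :
    ∀ v ∈ V, ∀ q ∈ Q0, (q * v)⁻¹ * (v * q) ∈ W := by
  have hp : p.Prime := Fact.out
  have hWp : IsPGroup p W := hV.to_le hWV
  have hQRW : Q0 ⊔ R0 ≤ normalizer (W : Set X) := sup_le hQW hRW
  -- coprimality consequences
  have hcopW : (Nat.card ↥(Q0 ⊔ R0)).Coprime (Nat.card W) := by
    obtain ⟨k, hk⟩ := IsPGroup.iff_card.mp hWp
    rw [hk]; exact Nat.Coprime.pow_right k hcop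
  have hQRW0 : (Q0 ⊔ R0) ⊓ W = ⊥ := inf_eq_bot_of_coprime_card hcopW
  have hQW0 : Q0 ⊓ W = ⊥ := by
    rw [eq_bot_iff, ← hQRW0]; exact inf_le_inf_right _ le_sup_left
  have hRW0 : R0 ⊓ W = ⊥ := by
    rw [eq_bot_iff, ← hQRW0]; exact inf_le_inf_right _ le_sup_right
  -- the quotient data
  set K' := img W V with hK'
  set R' := img W Q0 with hR'
  set A' := img W R0 with hA'
  have hK'p : IsPGroup p K' := isPGroup_img hV
  have hKnil : Group.IsNilpotent ↥K' := hK'p.isNilpotent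
  have hA'card : Nat.card A' = r := by rw [hA', card_img hRW hRW0, hR0]
  have hsup : R' ⊔ A' = img W (Q0 ⊔ R0) := (img_sup hQW hRW).symm
  have hsolv' : Group.IsSolvable ↥(R' ⊔ A') := by
    rw [hsup]
    exact Group.isSolvable_of_surjective (imgHom_surjective W hQRW)
  have hcard' : Nat.card ↥(R' ⊔ A') = Nat.card ↥(Q0 ⊔ R0) := by
    rw [hsup, card_img hQRW hQRW0]
  have hodd' : Odd (Nat.card ↥(R' ⊔ A')) := by rw [hcard']; exact hodd
  have hcop' : (Nat.card ↥(R' ⊔ A')).Coprime (Nat.card K') := by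
    rw [hcard']
    obtain ⟨k, hk⟩ := IsPGroup.iff_card.mp hK'p
    rw [hk]; exact Nat.Coprime.pow_right k hcop
  have hpR' : ¬ r ∣ Nat.card R' := by rw [hR', card_img hQW hQW0]; exact hrQ
  have hfpf' : K' ⊓ centralizer (A' : Set (Quo W)) = ⊥ := by
    rw [eq_bot_iff]
    intro y hy
    rw [hK', hA', mem_img_inf_centralizer hRW] at hy
    obtain ⟨s, hs, hsV, h1, rfl⟩ := hy
    rw [mem_bot, proj_eq_one_iff]
    exact hfpf s hsV h1
  have key := ShultNil.commutator_le_centralizer_of_fpf K' R' A' hKnil hr hA'card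
    (img_le_normalizer hRQ) (img_le_normalizer hQV) (img_le_normalizer hRV)
    hsolv' hodd' hcop' hpR' hfpf'
  -- pull back
  let T : Subgroup X := ((centralizer (K' : Set (Quo W))).comap (proj W)).map
    (normalizer (W : Set X)).subtype
  have hT : ∀ x, x ∈ T ↔ ∃ hx : x ∈ normalizer (W : Set X),
      proj W ⟨x, hx⟩ ∈ centralizer (K' : Set (Quo W)) := by
    intro x
    constructor
    · rintro ⟨y, hy, rfl⟩
      exact ⟨y.2, hy⟩
    · rintro ⟨hx, h⟩
      exact ⟨⟨x, hx⟩, h, rfl⟩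
  have hQT : Q0 ≤ T := by
    rw [← hcomm, Subgroup.commutator_le]
    intro q hq t ht
    rw [hT]
    have hqN := hQW hq
    have htN := hRW ht
    have hmem : ⁅q, t⁆ ∈ normalizer (W : Set X) := by
      rw [commutatorElement_def]
      exact mul_mem (mul_mem (mul_mem hqN htN) (inv_mem hqN)) (inv_mem htN)
    refine ⟨hmem, ?_⟩
    have h1 : proj W ⟨⁅q, t⁆, hmem⟩ = ⁅proj W ⟨q, hqN⟩, proj W ⟨t, htN⟩⁆ := by
      rw [← map_commutatorElement]
      rfl
    rw [h1]
    apply key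
    exact Subgroup.commutator_mem_commutator (mem_img.mpr ⟨q, hqN, hq, rfl⟩)
      (mem_img.mpr ⟨t, htN, ht, rfl⟩)
  intro v hv q hq
  obtain ⟨hqN, hqc⟩ := (hT q).mp (hQT hq)
  have hvN := hVW hv
  have hvK : proj W ⟨v, hvN⟩ ∈ K' := mem_img.mpr ⟨v, hvN, hv, rfl⟩
  have h2 := mem_centralizer_iff.mp hqc _ hvK
  -- h2 : proj v * proj q = proj q * proj v
  rw [← map_mul, ← map_mul] at h2
  have h3 := (proj_eq_proj_iff _ _).mp h2.symm
  exact h3

omit hr hRQ hsolv hodd hrQ hcomm in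
/-- Coprime action, fixed points in a quotient (from S0022): an `R0`-fixed coset of `W` in `V`
contains an `R0`-fixed element. -/
theorem exists_fixed_of_comm_mem (V W : Subgroup X) (hV : IsPGroup p V) (hWV : W ≤ V)
    (hVW : V ≤ normalizer (W : Set X)) (hRW : R0 ≤ normalizer (W : Set X))
    (hRV : R0 ≤ normalizer (V : Set X)) {s : X} (hs : s ∈ V)
    (h : ∀ t ∈ R0, (t * s)⁻¹ * (s * t) ∈ W) :
    ∃ c ∈ V ⊓ centralizer (R0 : Set X), s⁻¹ * c ∈ W := by
  have hp : p.Prime := Fact.out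
  have hrp : r.Coprime p := by
    have h1 : r ∣ Nat.card ↥(Q0 ⊔ R0) := by
      rw [← hR0]; exact Subgroup.card_dvd_of_le le_sup_right
    exact Nat.Coprime.coprime_dvd_left h1 hcop
  have hcopV : (Nat.card R0).Coprime (Nat.card V) := by
    obtain ⟨k, hk⟩ := IsPGroup.iff_card.mp hV
    rw [hk, hR0]; exact Nat.Coprime.pow_right k hrp
  haveI : Group.IsNilpotent ↥V := hV.isNilpotent
  have hsolvV : Group.IsSolvable ↥V := inferInstance
  refine Cfsg.Agent.S0022.result R0 V hRV hcopV (Or.inr hsolvV) W hWV hVW hRW s hs ?_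
  intro a ha
  have h1 := h a⁻¹ (R0.inv_mem ha)
  have h2 := conj_mem_of_le_normalizer hVW hs h1
  have h3 : s * ((a⁻¹ * s)⁻¹ * (s * a⁻¹)) * s⁻¹ = a * s * a⁻¹ * s⁻¹ := by group
  rwa [h3] at h2

end Sections

section Main

variable (S Q0 R0 : Subgroup X) (hS : IsPGroup p S) (hr : r.Prime) (hR0 : Nat.card R0 = r)
  (hRQ : R0 ≤ normalizer (Q0 : Set X)) (hQS : Q0 ≤ normalizer (S : Set X))
  (hRS : R0 ≤ normalizer (S : Set X))
  (hsolv : Group.IsSolvable ↥(Q0 ⊔ R0)) (hodd : Odd (Nat.card ↥(Q0 ⊔ R0)))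
  (hcop : (Nat.card ↥(Q0 ⊔ R0)).Coprime p) (hrQ : ¬ r ∣ Nat.card Q0) (hcomm : ⁅Q0, R0⁆ = Q0)

include hS hr hR0 hRQ hQS hRS hsolv hodd hcop hrQ hcomm

/-- **(a)** (Shult): if `R0` has no fixed points on `S` then `Q0 = [Q0, R0]` centralizes `S`. -/
theorem le_centralizer_of_fpf
    (hfpf : S ⊓ centralizer (R0 : Set X) = ⊥) : S ≤ centralizer (Q0 : Set X) := by
  have hbot : ∀ Y : Subgroup X, Y ≤ normalizer ((⊥ : Subgroup X) : Set X) := by
    intro Y
    apply le_normalizer_of_conj_mem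
    intro x _ u hu
    rw [mem_bot] at hu
    rw [hu, mul_one, mul_inv_cancel]
    exact (⊥ : Subgroup X).one_mem
  have key := section_centralized Q0 R0 hr hR0 hRQ hsolv hodd hcop hrQ hcomm S ⊥ hS bot_le
    (hbot S) (hbot Q0) (hbot R0) hQS hRS (by
      intro s hs h
      have h1 : s ∈ S ⊓ centralizer (R0 : Set X) := by
        refine ⟨hs, ?_⟩
        show s ∈ centralizer (R0 : Set X)
        rw [mem_centralizer_iff]
        intro t ht
        have h2 := h t ht
        rw [mem_bot] at h2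
        exact inv_mul_eq_one.mp h2
      rwa [hfpf] at h1)
  intro v hv
  rw [mem_centralizer_iff]
  intro q hq
  have h2 := key v hv q hq
  rw [mem_bot] at h2
  exact inv_mul_eq_one.mp h2

/-- **(b)**: if `C_S(R0) = C_S(Q0)` then `Q0` centralizes `S`. -/
theorem le_centralizer_of_centralizers_eq
    (hC : S ⊓ centralizer (R0 : Set X) = S ⊓ centralizer (Q0 : Set X)) :
    S ≤ centralizer (Q0 : Set X) := by
  by_contra hne
  set C0 : Subgroup X := S ⊓ centralizer (R0 : Set X) with hC0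
  have hC0S : C0 ≤ S := inf_le_left
  have hC0ne : C0 ≠ S := by
    intro h
    apply hne
    have : S = S ⊓ centralizer (Q0 : Set X) := by rw [← hC, h]
    rw [this]; exact inf_le_right
  have hRC0 : R0 ≤ normalizer (C0 : Set X) :=
    inf_le_normalizer hRS (le_normalizer_centralizer le_normalizer)
  have hQC0 : Q0 ≤ normalizer (C0 : Set X) := by
    rw [hC]
    exact inf_le_normalizer hQS (le_normalizer_centralizer le_normalizer)
  set N : Subgroup X := S ⊓ normalizer (C0 : Set X) with hN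
  have hNS : N ≤ S := inf_le_left
  have hNp : IsPGroup p N := hS.to_le hNS
  have hC0N : C0 ≤ N := le_inf hC0S le_normalizer
  have hNC0 : N ≤ normalizer (C0 : Set X) := inf_le_right
  have hQN : Q0 ≤ normalizer (N : Set X) :=
    inf_le_normalizer hQS (hQC0.trans le_normalizer)
  have hRN : R0 ≤ normalizer (N : Set X) :=
    inf_le_normalizer hRS (hRC0.trans le_normalizer)
  have hC0Q : C0 ≤ centralizer (Q0 : Set X) := by rw [hC]; exact inf_le_right
  have key := section_centralized Q0 R0 hr hR0 hRQ hsolv hodd hcop hrQ hcomm N C0 hNp hC0N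
    hNC0 hQC0 hRC0 hQN hRN (by
      intro s hs h
      obtain ⟨c, hc, hsc⟩ := exists_fixed_of_comm_mem Q0 R0 hR0 hcop N C0 hNp hC0N hNC0 hRC0 hRN
        hs h
      have hcC0 : c ∈ C0 := ⟨hNS hc.1, hc.2⟩
      have : s = c * (s⁻¹ * c)⁻¹ := by group
      rw [this]
      exact C0.mul_mem hcC0 (C0.inv_mem hsc))
  have hcopQ : (Nat.card Q0).Coprime p :=
    Nat.Coprime.coprime_dvd_left (Subgroup.card_dvd_of_le le_sup_left) hcop
  have hNQ : N ≤ centralizer (Q0 : Set X) :=
    le_centralizer_of_comm_le hNp hC0N hcopQ hC0Q key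
  have hNC0' : N ≤ C0 := by
    intro x hx
    have : x ∈ S ⊓ centralizer (Q0 : Set X) := ⟨hNS hx, hNQ hx⟩
    rwa [← hC] at this
  -- normalizers grow in the nilpotent group `S`
  haveI : Group.IsNilpotent ↥S := hS.isNilpotent
  have hlt : C0.subgroupOf S < ⊤ := by
    rw [lt_top_iff_ne_top]
    intro h
    apply hC0ne
    exact le_antisymm hC0S (subgroupOf_eq_top.mp h)
  have hgrow := Group.normalizerCondition_of_isNilpotent (G := ↥S) (C0.subgroupOf S) hlt
  obtain ⟨x, hxN, hxC⟩ := SetLike.exists_of_lt hgrow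
  apply hxC
  rw [mem_subgroupOf]
  apply hNC0'
  refine ⟨x.2, ?_⟩
  show (x : X) ∈ normalizer (C0 : Set X)
  rw [mem_normalizer_iff]
  intro c
  rw [mem_normalizer_iff] at hxN
  constructor
  · intro hc
    have h1 := (hxN ⟨c, hC0S hc⟩).mp (mem_subgroupOf.mpr hc)
    rw [mem_subgroupOf] at h1
    simpa using h1
  · intro hc
    have hcS : c ∈ S := by
      have h1 : (x : X)⁻¹ * ((x : X) * c * (x : X)⁻¹) * (x : X) ∈ S :=
        S.mul_mem (S.mul_mem (S.inv_mem x.2) (hC0S hc)) x.2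
      have h2 : (x : X)⁻¹ * ((x : X) * c * (x : X)⁻¹) * (x : X) = c := by group
      rwa [h2] at h1
    have h1 := (hxN ⟨c, hcS⟩).mpr (by
      rw [mem_subgroupOf]
      simpa using hc)
    exact mem_subgroupOf.mp h1

/-- **(c)**: `p` odd, `C_S(R0)` and `C_S(Q0)` cyclic, `P0 ≤ S` of order `p` centralized by `Q0` and
`R0`.  Then `S` is cyclic. -/
theorem isCyclic_of_isCyclic_centralizers (hp2 : p ≠ 2)
    (hCR : IsCyclic ↥(S ⊓ centralizer (R0 : Set X)))
    (hCQ : IsCyclic ↥(S ⊓ centralizer (Q0 : Set X)))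
    (P0 : Subgroup X) (hP0S : P0 ≤ S) (hP0 : Nat.card P0 = p)
    (hP0Q : P0 ≤ centralizer (Q0 : Set X)) (hP0R : P0 ≤ centralizer (R0 : Set X)) :
    IsCyclic ↥S := by
  classical
  have hp : p.Prime := Fact.out
  have hodd_p : Odd p := hp.odd_of_ne_two hp2
  by_contra hncyc
  -- (1) elements of order dividing `p` in the two centralizers lie in `P0`
  have h1R : ∀ x ∈ S, x ∈ centralizer (R0 : Set X) → x ^ p = 1 → x ∈ P0 :=
    fun x hxS hxR hxp =>
      mem_of_pow_eq_one_of_isCyclic hCR (le_inf hP0S hP0R) hP0 ⟨hxS, hxR⟩ hxp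
  have h1Q : ∀ x ∈ S, x ∈ centralizer (Q0 : Set X) → x ^ p = 1 → x ∈ P0 :=
    fun x hxS hxQ hxp =>
      mem_of_pow_eq_one_of_isCyclic hCQ (le_inf hP0S hP0Q) hP0 ⟨hxS, hxQ⟩ hxp
  have hP0pow : ∀ x ∈ P0, x ^ p = 1 := by
    intro x hx
    have h1 := pow_card_eq_one' (G := P0) (x := ⟨x, hx⟩)
    rw [hP0] at h1
    have h2 := congrArg Subtype.val h1
    simpa using h2
  -- every invariant subgroup of exponent `p` lies in `P0`
  have hexp : ∀ V : Subgroup X, V ≤ S → (∀ x ∈ V, x ^ p = 1) → Q0 ≤ normalizer (V : Set X) →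
      R0 ≤ normalizer (V : Set X) → V ≤ P0 := by
    intro V hVS hVexp hQV hRV
    have hVp : IsPGroup p V := hS.to_le hVS
    have hCV : V ⊓ centralizer (R0 : Set X) = V ⊓ centralizer (Q0 : Set X) := by
      apply le_antisymm
      · intro x hx
        exact ⟨hx.1, hP0Q (h1R x (hVS hx.1) hx.2 (hVexp x hx.1))⟩
      · intro x hx
        exact ⟨hx.1, hP0R (h1Q x (hVS hx.1) hx.2 (hVexp x hx.1))⟩
    have hVQ := le_centralizer_of_centralizers_eq V Q0 R0 hVp hr hR0 hRQ hQV hRV hsolv hodd hcop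
      hrQ hcomm hCV
    intro x hx
    exact h1Q x (hVS hx) (hVQ hx) (hVexp x hx)
  -- (2) `Ω₁(Z(S)) ≤ P0`
  let Z1 : Subgroup X :=
    { carrier := {z | z ∈ S ∧ z ^ p = 1 ∧ ∀ s ∈ S, s * z = z * s}
      one_mem' := ⟨S.one_mem, one_pow p, fun s _ => by simp⟩
      mul_mem' := by
        rintro a b ⟨ha, hap, hac⟩ ⟨hb, hbp, hbc⟩
        refine ⟨S.mul_mem ha hb, ?_, ?_⟩
        · have hab : Commute a b := hbc a ha
          rw [hab.mul_pow, hap, hbp, one_mul]
        · intro s hs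
          calc s * (a * b) = (s * a) * b := by group
            _ = (a * s) * b := by rw [hac s hs]
            _ = a * (s * b) := by group
            _ = a * (b * s) := by rw [hbc s hs]
            _ = a * b * s := by group
      inv_mem' := by
        rintro a ⟨ha, hap, hac⟩
        refine ⟨S.inv_mem ha, by rw [inv_pow, hap, inv_one], ?_⟩
        intro s hs
        have h1 := hac s hs
        calc s * a⁻¹ = a⁻¹ * (a * s) * a⁻¹ := by group
          _ = a⁻¹ * (s * a) * a⁻¹ := by rw [h1]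
          _ = a⁻¹ * s := by group }
  have hZ1mem : ∀ z, z ∈ Z1 ↔ z ∈ S ∧ z ^ p = 1 ∧ ∀ s ∈ S, s * z = z * s := fun _ => Iff.rfl
  have hZ1inv : ∀ Y : Subgroup X, Y ≤ normalizer (S : Set X) → Y ≤ normalizer (Z1 : Set X) := by
    intro Y hY
    apply le_normalizer_of_conj_mem
    intro g hg z hz
    obtain ⟨hzS, hzp, hzc⟩ := (hZ1mem z).mp hz
    rw [hZ1mem]
    refine ⟨conj_mem_of_le_normalizer hY hg hzS, ?_, ?_⟩
    · rw [conj_pow, hzp, mul_one, mul_inv_cancel]
    · intro s hs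
      have hs' : g⁻¹ * s * g ∈ S := conj_inv_mem_of_le_normalizer hY hg hs
      have h1 := hzc _ hs'
      calc s * (g * z * g⁻¹) = g * ((g⁻¹ * s * g) * z) * g⁻¹ := by group
        _ = g * (z * (g⁻¹ * s * g)) * g⁻¹ := by rw [h1]
        _ = g * z * g⁻¹ * s := by group
  have hZ1P0 : Z1 ≤ P0 :=
    hexp Z1 (fun z hz => ((hZ1mem z).mp hz).1) (fun z hz => ((hZ1mem z).mp hz).2.1)
      (hZ1inv Q0 hQS) (hZ1inv R0 hRS)
  -- `P0` is central in `S`
  have hP0c : ∀ y ∈ P0, ∀ s ∈ S, s * y = y * s := by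
    have hP0ne : P0 ≠ ⊥ := by
      intro h
      rw [h, Subgroup.card_bot] at hP0
      exact hp.one_lt.ne hP0
    haveI : Nontrivial ↥S := by
      obtain ⟨y, hy⟩ := (Subgroup.ne_bot_iff_exists_ne_one.mp hP0ne)
      refine ⟨⟨⟨(y : X), hP0S y.2⟩, 1, fun h => hy (Subtype.ext ?_)⟩⟩
      have h2 := congrArg Subtype.val h
      simpa using h2
    haveI := hS.center_nontrivial
    have hpdvd : p ∣ Nat.card (center ↥S) := by
      rcases (hS.to_subgroup (center ↥S)).card_eq_or_dvd with h | h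
      · exfalso
        have := (Subgroup.card_eq_one.mp h)
        exact (Subgroup.nontrivial_iff_ne_bot (center ↥S)).mp inferInstance this
      · exact h
    obtain ⟨z, hz⟩ := exists_prime_orderOf_dvd_card' p hpdvd
    have hz0S : ((z : ↥S) : X) ∈ S := (z : ↥S).2
    have hzpow : ((z : ↥S) : X) ^ p = 1 := by
      have h1 : z ^ p = 1 := by rw [← hz]; exact pow_orderOf_eq_one z
      have h2 := congrArg (fun w : center ↥S => ((w : ↥S) : X)) h1
      simpa using h2
    have hzc : ∀ s ∈ S, s * ((z : ↥S) : X) = ((z : ↥S) : X) * s := by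
      intro s hs
      have h1 := Subgroup.mem_center_iff.mp z.2 ⟨s, hs⟩
      exact congrArg Subtype.val h1
    have hzZ1 : ((z : ↥S) : X) ∈ Z1 := (hZ1mem _).mpr ⟨hz0S, hzpow, hzc⟩
    have hzP0 : ((z : ↥S) : X) ∈ P0 := hZ1P0 hzZ1
    have hz1 : ((z : ↥S) : X) ≠ 1 := by
      intro h
      have h1 : z = 1 := Subtype.ext (Subtype.ext h)
      rw [h1, orderOf_one] at hz
      exact hp.one_lt.ne hz
    intro y hy s hs
    have hmem : (⟨y, hy⟩ : P0) ∈ zpowers (⟨((z : ↥S) : X), hzP0⟩ : P0) := by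
      apply mem_zpowers_of_prime_card hP0
      intro h
      exact hz1 (congrArg Subtype.val h)
    obtain ⟨k, hk⟩ := Subgroup.mem_zpowers_iff.mp hmem
    have hyk : y = ((z : ↥S) : X) ^ k := by
      have := congrArg Subtype.val hk
      simpa using this.symm
    rw [hyk]
    have hc : Commute s ((z : ↥S) : X) := hzc s hs
    exact (hc.zpow_right k)
  -- (3) the invariant subgroup `V` of exponent `p`
  let V : Subgroup X :=
    { carrier := {x | x ∈ S ∧ x ^ p = 1 ∧ ∀ s ∈ S, ⁅x, s⁆ ∈ P0}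
      one_mem' := ⟨S.one_mem, one_pow p, fun s _ => by simp [P0.one_mem]⟩
      mul_mem' := by
        rintro a b ⟨ha, hap, hac⟩ ⟨hb, hbp, hbc⟩
        refine ⟨S.mul_mem ha hb, ?_, ?_⟩
        · have hcP : ⁅b, a⁆ ∈ P0 := hbc a ha
          have hca : Commute ⁅b, a⁆ a := (hP0c _ hcP a ha).symm
          have hcb : Commute ⁅b, a⁆ b := (hP0c _ hcP b hb).symm
          exact Cfsg.Agent.Helper51.mul_pow_eq_one_of_odd hca hcb hodd_p hap hbp (hP0pow _ hcP)
        · intro s hs
          have h1 : ⁅a * b, s⁆ = a * ⁅b, s⁆ * a⁻¹ * ⁅a, s⁆ := by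
            simp only [commutatorElement_def]; group
          have h2 : a * ⁅b, s⁆ * a⁻¹ = ⁅b, s⁆ := by
            rw [hP0c _ (hbc s hs) a ha]; group
          rw [h1, h2]
          exact P0.mul_mem (hbc s hs) (hac s hs)
      inv_mem' := by
        rintro a ⟨ha, hap, hac⟩
        refine ⟨S.inv_mem ha, by rw [inv_pow, hap, inv_one], ?_⟩
        intro s hs
        have h1 : ⁅a⁻¹, s⁆ = a⁻¹ * ⁅a, s⁆⁻¹ * a := by
          simp only [commutatorElement_def]; group
        have hc : ⁅a, s⁆⁻¹ ∈ P0 := P0.inv_mem (hac s hs)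
        have h2 : a⁻¹ * ⁅a, s⁆⁻¹ * a = ⁅a, s⁆⁻¹ := by
          have h3 := hP0c _ hc a ha
          calc a⁻¹ * ⁅a, s⁆⁻¹ * a = a⁻¹ * (⁅a, s⁆⁻¹ * a) := by group
            _ = a⁻¹ * (a * ⁅a, s⁆⁻¹) := by rw [h3]
            _ = ⁅a, s⁆⁻¹ := by group
        rw [h1, h2]
        exact hc }
  have hVmem : ∀ x, x ∈ V ↔ x ∈ S ∧ x ^ p = 1 ∧ ∀ s ∈ S, ⁅x, s⁆ ∈ P0 := fun _ => Iff.rfl
  have hVinv : ∀ Y : Subgroup X, Y ≤ normalizer (S : Set X) → Y ≤ centralizer (P0 : Set X) →
      Y ≤ normalizer (V : Set X) := by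
    intro Y hY hYc
    apply le_normalizer_of_conj_mem
    intro g hg x hx
    obtain ⟨hxS, hxp, hxc⟩ := (hVmem x).mp hx
    rw [hVmem]
    refine ⟨conj_mem_of_le_normalizer hY hg hxS, ?_, ?_⟩
    · rw [conj_pow, hxp, mul_one, mul_inv_cancel]
    · intro s hs
      have hs' : g⁻¹ * s * g ∈ S := conj_inv_mem_of_le_normalizer hY hg hs
      have hcP := hxc _ hs'
      have h1 : ⁅g * x * g⁻¹, s⁆ = g * ⁅x, g⁻¹ * s * g⁆ * g⁻¹ := by
        simp only [commutatorElement_def]; group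
      have h2 : g * ⁅x, g⁻¹ * s * g⁆ * g⁻¹ = ⁅x, g⁻¹ * s * g⁆ := by
        have h3 := mem_centralizer_iff.mp (hYc hg) _ hcP
        -- h3 : c * g = g * c
        rw [← h3]; group
      rw [h1, h2]
      exact hcP
  have hVP0 : V ≤ P0 :=
    hexp V (fun x hx => ((hVmem x).mp hx).1) (fun x hx => ((hVmem x).mp hx).2.1)
      (hVinv Q0 hQS (le_centralizer_symm hP0Q)) (hVinv R0 hRS (le_centralizer_symm hP0R))
  -- a normal elementary abelian subgroup of order `p ^ 2`
  have hntop : ¬ IsCyclic ↥(⊤ : Subgroup ↥S) := by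
    intro h
    exact hncyc ((Subgroup.topEquiv (G := ↥S)).isCyclic.mp h)
  obtain ⟨A, -, hAn, hAel, hAc⟩ :=
    Cfsg.Agent.Helper52.exists_normal_elementaryAbelian_sq hp2 hS (⊤ : Subgroup ↥S) hntop
  have hAV : ∀ a ∈ A, ((a : ↥S) : X) ∈ V := by
    intro a ha
    rw [hVmem]
    refine ⟨a.2, ?_, ?_⟩
    · have h1 := hAel.2 a ha
      have h2 := congrArg Subtype.val h1
      simpa using h2
    · intro s hs
      obtain ⟨hcen, hpow⟩ := comm_mem_center_of_normal_card_sq hS A hAc a ha ⟨s, hs⟩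
      have hval : ((⁅a, (⟨s, hs⟩ : ↥S)⁆ : ↥S) : X) = ⁅(a : X), s⁆ := by
        simp [commutatorElement_def]
      apply hZ1P0
      rw [hZ1mem, ← hval]
      refine ⟨(⁅a, (⟨s, hs⟩ : ↥S)⁆ : ↥S).2, ?_, ?_⟩
      · have h2 := congrArg Subtype.val hpow
        simpa using h2
      · intro t ht
        have h1 := Subgroup.mem_center_iff.mp hcen ⟨t, ht⟩
        exact congrArg Subtype.val h1
  -- count
  have hinj : Nat.card A ≤ Nat.card P0 := by
    apply Nat.card_le_card_of_injective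
      (fun a : A => (⟨((a : ↥S) : X), hVP0 (hAV a.1 a.2)⟩ : P0))
    intro a b hab
    have h1 : (((a : ↥S) : X)) = ((b : ↥S) : X) := by
      have h2 := congrArg Subtype.val hab
      simpa using h2
    exact Subtype.ext (Subtype.ext h1)
  rw [hAc, hP0] at hinj
  have : p < p ^ 2 := by
    calc p = p ^ 1 := (pow_one p).symm
      _ < p ^ 2 := Nat.pow_lt_pow_right hp.one_lt (by norm_num)
  omega

end Main

end Cfsg.Agent.Helper89.LemmaF
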