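import Mathlib
import Cfsg.Agent.Helper89.LocS3Basic
import Cfsg.Agent.Helper89.CoxeterS5

/-!
# `S5365`, the case without twins: `⟨D⟩ ≅ Sym(5)` (helper89)
-/

set_option autoImplicit false

namespace Cfsg.Agent.Helper89.LocS3

open Cfsg Equiv Cfsg.Agent.Helper89

variable {G : Type*} [Group G] {D : Set G}

theorem mul_mul_eq_of_commute {d x z : G} (hdd : d * d = 1) (hx : Commute d x) :
    (d * x) * (d * z) = x * z := by
  rw [hx.eq, mul_assoc, ← mul_assoc d d, hdd, one_mul]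

theorem conj_conj_eq {m₁ m₂ y p q : G} (h1 : m₁ * m₂ = p) (h2 : m₂ * m₁ = q) :
    m₁ * (m₂ * y * m₂) * m₁ = p * y * q := by
  rw [← h1, ← h2]; simp only [mul_assoc]

theorem compl_swaps : ∀ i j : Fin 5, i ≠ j → ∃ k l m : Fin 5,
    (k ≠ l ∧ k ≠ m ∧ l ≠ m) ∧
    ((swap k l : Perm (Fin 5)) ≠ swap i j ∧ (swap k m : Perm (Fin 5)) ≠ swap i j ∧
      (swap l m : Perm (Fin 5)) ≠ swap i j) ∧
    ((swap k l : Perm (Fin 5)) ≠ swap k m ∧ (swap k l : Perm (Fin 5)) ≠ swap l m ∧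
      (swap k m : Perm (Fin 5)) ≠ swap l m) ∧
    ((swap i j : Perm (Fin 5)) * swap k l = swap k l * swap i j ∧
      (swap i j : Perm (Fin 5)) * swap k m = swap k m * swap i j ∧
      (swap i j : Perm (Fin 5)) * swap l m = swap l m * swap i j) := by
  decide

section Loc

variable (hD : IsThreeTranspositionSet D) (hconj : ∀ g : G, ∀ d ∈ D, g * d * g⁻¹ ∈ D)
  (hloc : ∀ d ∈ D, Nonempty (↥(Subgroup.closure (Dd D d)) ≃* Perm (Fin 3)))

include hD hconj hloc in
/-- A member far from `d` and its commuting partners has a twin. -/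
theorem twin_of_far {d a b y : G} (hd : d ∈ D) (ha : a ∈ Dd D d) (hb : b ∈ Dd D d) (hab : a ≠ b)
    (hy : y ∈ D)
    (hfar : ∀ w, w = y ∨ w ∈ Dd D y →
      ¬ Commute w d ∧ ¬ Commute w a ∧ ¬ Commute w b ∧ ¬ Commute w (a * b * a)) :
    Twin D y ((a * b) * y * (a * b)⁻¹) := by
  have hc := mem_Dd_conj hD hconj ha hb
  have hdd := sq_of_mem hD hd
  have haa := sq_of_mem hD ha.1
  have hbb := sq_of_mem hD hb.1
  have hnab := not_commute_of_mem_Dd hD hconj hloc hd ha hb hab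
  have h3 : (a * b) ^ 3 = 1 := cube_of_not_commute hD ha.1 hb.1 hnab
  have hinv : (a * b)⁻¹ = b * a := by
    rw [mul_inv_rev, inv_eq_of_mul_eq_one_left haa, inv_eq_of_mul_eq_one_left hbb]
  have hab2 : (a * b) * (a * b) = b * a := by
    rw [← hinv]
    apply eq_inv_of_mul_eq_one_left
    rw [← h3]; simp only [pow_succ, pow_zero, one_mul, mul_assoc]
  have hba2 : (b * a) * (b * a) = a * b := by
    have hbai : (b * a)⁻¹ = a * b := by
      rw [mul_inv_rev, inv_eq_of_mul_eq_one_left haa, inv_eq_of_mul_eq_one_left hbb]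
    rw [← hbai]
    apply eq_inv_of_mul_eq_one_left
    have : (b * a) ^ 3 = 1 := cube_of_not_commute hD hb.1 ha.1 (fun c => hnab c.symm)
    rw [← this]; simp only [pow_succ, pow_zero, one_mul, mul_assoc]
  -- the S₄ lemma for far points
  have hs4 : ∀ w, w ∈ D → (¬ Commute w d) → ∀ x ∈ Dd D d, ¬ Commute w x →
      (d * x) * w * (d * x) ∈ Dd D w := by
    intro w hw hwd x hx hwx
    exact s4_lemma hD hconj hd hx.1 hw hx.2.2 hx.2.1.symm hwd hwx
  have hyf := hfar y (Or.inl rfl)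
  -- injectivity
  have hinj : ∀ x₁ ∈ Dd D d, ∀ x₂ ∈ Dd D d, ¬ Commute y x₁ → ¬ Commute y x₂ →
      (d * x₁) * y * (d * x₁) = (d * x₂) * y * (d * x₂) → x₁ = x₂ := by
    intro x₁ hx₁ x₂ hx₂ hy1 hy2 heq
    by_contra hne
    apply not_commute_mul hD hy hx₂.1 hx₁.1 hy2 hy1 (Ne.symm hne)
    have hx11 := sq_of_mem hD hx₁.1
    have hx22 := sq_of_mem hD hx₂.1
    have e1 : (d * x₂) * (d * x₁) = x₂ * x₁ := mul_mul_eq_of_commute hdd hx₂.2.2
    have e2 : (d * x₁) * (d * x₂) = x₁ * x₂ := mul_mul_eq_of_commute hdd hx₁.2.2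
    have e3 : (d * x₂) * (d * x₂) = 1 := by rw [mul_mul_eq_of_commute hdd hx₂.2.2, hx22]
    have h1 : (x₂ * x₁) * y * (x₁ * x₂) = y := by
      calc (x₂ * x₁) * y * (x₁ * x₂) = (d * x₂) * ((d * x₁) * y * (d * x₁)) * (d * x₂) :=
            (conj_conj_eq e1 e2).symm
        _ = (d * x₂) * ((d * x₂) * y * (d * x₂)) * (d * x₂) := by rw [heq]
        _ = ((d * x₂) * (d * x₂)) * y * ((d * x₂) * (d * x₂)) := by simp only [mul_assoc]
        _ = y := by rw [e3, one_mul, mul_one]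
    show y * (x₂ * x₁) = (x₂ * x₁) * y
    have h2 : (x₁ * x₂) * (x₂ * x₁) = 1 := by
      rw [mul_assoc, ← mul_assoc x₂, hx22, one_mul, hx11]
    calc y * (x₂ * x₁) = ((x₂ * x₁) * y * (x₁ * x₂)) * (x₂ * x₁) := by rw [h1]
      _ = (x₂ * x₁) * y := by rw [mul_assoc, h2, mul_one]
  have hya : ¬ Commute y a := hyf.2.1
  have hyb : ¬ Commute y b := hyf.2.2.1
  have hyc : ¬ Commute y (a * b * a) := hyf.2.2.2
  have hw1 := hs4 y hy hyf.1 a ha hya
  have hw2 := hs4 y hy hyf.1 b hb hyb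
  have hw3 := hs4 y hy hyf.1 _ hc hyc
  obtain ⟨hne1, hne2, hne3⟩ := ne_conj_of_not_commute hD ha.1 hnab
  have h12 : (d * a) * y * (d * a) ≠ (d * b) * y * (d * b) :=
    fun h => hab (hinj a ha b hb hya hyb h)
  have h13 : (d * a) * y * (d * a) ≠ (d * (a * b * a)) * y * (d * (a * b * a)) :=
    fun h => hne2 (hinj a ha _ hc hya hyc h)
  have h23 : (d * b) * y * (d * b) ≠ (d * (a * b * a)) * y * (d * (a * b * a)) :=
    fun h => hne3 (hinj b hb _ hc hyb hyc h)
  -- p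
  have hpD : (a * b) * y * (a * b)⁻¹ ∈ D := hconj _ y hy
  have f1 := hfar _ (Or.inr hw1)
  have f2 := hfar _ (Or.inr hw2)
  have f3 := hfar _ (Or.inr hw3)
  have hp2 : (a * b) * y * (a * b)⁻¹ ∈ Dd D ((d * b) * y * (d * b)) := by
    have := hs4 _ hw2.1 f2.1 a ha f2.2.1
    have e : (d * a) * ((d * b) * y * (d * b)) * (d * a) = (a * b) * y * (a * b)⁻¹ := by
      rw [hinv]
      exact conj_conj_eq (mul_mul_eq_of_commute hdd ha.2.2) (mul_mul_eq_of_commute hdd hb.2.2)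
    rwa [e] at this
  have hp3 : (a * b) * y * (a * b)⁻¹ ∈ Dd D ((d * (a * b * a)) * y * (d * (a * b * a))) := by
    have := hs4 _ hw3.1 f3.1 b hb f3.2.2.1
    have e : (d * b) * ((d * (a * b * a)) * y * (d * (a * b * a))) * (d * b) =
        (a * b) * y * (a * b)⁻¹ := by
      have e1 : (d * b) * (d * (a * b * a)) = a * b := by
        rw [mul_mul_eq_of_commute hdd hb.2.2]
        calc b * (a * b * a) = (b * a) * (b * a) := by simp only [mul_assoc]
          _ = a * b := hba2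
      have e2 : (d * (a * b * a)) * (d * b) = b * a := by
        rw [mul_mul_eq_of_commute hdd hc.2.2]
        calc (a * b * a) * b = (a * b) * (a * b) := by simp only [mul_assoc]
          _ = b * a := hab2
      rw [hinv]
      exact conj_conj_eq e1 e2
    rwa [e] at this
  have hp1 : (a * b) * y * (a * b)⁻¹ ∈ Dd D ((d * a) * y * (d * a)) := by
    have := hs4 _ hw1.1 f1.1 _ hc f1.2.2.2
    have e : (d * (a * b * a)) * ((d * a) * y * (d * a)) * (d * (a * b * a)) =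
        (a * b) * y * (a * b)⁻¹ := by
      have e1 : (d * (a * b * a)) * (d * a) = a * b := by
        rw [mul_mul_eq_of_commute hdd hc.2.2, mul_assoc, haa, mul_one]
      have e2 : (d * a) * (d * (a * b * a)) = b * a := by
        rw [mul_mul_eq_of_commute hdd ha.2.2, ← mul_assoc, ← mul_assoc, haa, one_mul]
      rw [hinv]
      exact conj_conj_eq e1 e2
    rwa [e] at this
  have q1 := mem_Dd_symm hw1.1 hp1
  have q2 := mem_Dd_symm hw2.1 hp2
  have q3 := mem_Dd_symm hw3.1 hp3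
  refine ⟨hy, hpD, ?_, ?_⟩
  · intro h
    apply not_commute_mul hD hy ha.1 hb.1 hya hyb hab
    show y * (a * b) = (a * b) * y
    calc y * (a * b) = ((a * b) * y * (a * b)⁻¹) * (a * b) := by rw [← h]
      _ = (a * b) * y := by simp only [mul_assoc, inv_mul_cancel, mul_one]
  · rw [Dd_eq_of_three hD hconj hloc hy hw1 hw2 hw3 h12 h13 h23,
      Dd_eq_of_three hD hconj hloc hpD q1 q2 q3 h12 h13 h23]

include hD hconj hloc in
/-- The case without twins: `⟨D⟩ ≅ Sym(5)`. -/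
theorem caseB {d : G} (hd : d ∈ D) (hnt : ¬ ∃ t, Twin D d t) :
    Nonempty (↥(Subgroup.closure D) ≃* Perm (Fin 5)) := by
  obtain ⟨a, b, ha, hb, hnab, hDd⟩ := Dd_line hD hconj hloc hd
  have hab : a ≠ b := fun h => hnab (h ▸ Commute.refl a)
  have hdd := sq_of_mem hD hd
  have haa := sq_of_mem hD ha.1
  have hbb := sq_of_mem hD hb.1
  -- a partner `b₁ ≠ d` of `b`
  have hdb : d ∈ Dd D b := mem_Dd_symm hd hb
  obtain ⟨b₁, hb₁, hb₁d⟩ : ∃ b₁ ∈ Dd D b, b₁ ≠ d := by
    obtain ⟨p, q, hp, hq, hpq, -⟩ := Dd_line hD hconj hloc hb.1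
    by_cases h : p = d
    · refine ⟨q, hq, ?_⟩
      intro hqd
      apply hpq
      rw [h, hqd]
    · exact ⟨p, hp, h⟩
  have hb₁b₁ := sq_of_mem hD hb₁.1
  have hdb₁ : ¬ Commute d b₁ := not_commute_of_mem_Dd hD hconj hloc hb.1 hdb hb₁ (Ne.symm hb₁d)
  have hb₁a : ¬ Commute b₁ a := by
    intro hc
    apply hnt
    have hne : b₁ ≠ a := by
      rintro rfl
      exact hnab hb₁.2.2.symm
    have h1 : a ∈ Dd D b₁ := ⟨ha.1, hne.symm, hc⟩
    have h2 : b ∈ Dd D b₁ := mem_Dd_symm hb.1 hb₁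
    refine ⟨b₁, hd, hb₁.1, hb₁d.symm, ?_⟩
    rw [hDd, Dd_eq_pair hD hconj hloc hb₁.1 h1 h2 hab]
  -- the relations
  have rel : CoxS5.Rel4 d b₁ a b :=
    { haa := hdd
      hbb := hb₁b₁
      hcc := haa
      hee := hbb
      hca := ha.2.2.eq.symm
      hea := hb.2.2.eq.symm
      heb := hb₁.2.2.eq
      hbab := Cfsg.Agent.S5344.braid_of_cube hdd hb₁b₁ (cube_of_not_commute hD hd hb₁.1 hdb₁)
      hcbc := Cfsg.Agent.S5344.braid_of_cube hb₁b₁ haa (cube_of_not_commute hD hb₁.1 ha.1 hb₁a)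
      hece := Cfsg.Agent.S5344.braid_of_cube haa hbb (cube_of_not_commute hD ha.1 hb.1 hnab) }
  obtain ⟨φ, h0, h1, h2, h3⟩ := CoxS5.exists_hom rel
  have hinj : Function.Injective φ := CoxS5.injective_of_ne φ (by rw [h0, h2]; exact ha.2.1.symm)
  -- images of transpositions
  have hswapD : ∀ i j : Fin 5, i ≠ j → φ (swap i j) ∈ D := by
    intro i j hij
    obtain ⟨g, hg⟩ := isConj_iff.1 (Equiv.Perm.isConj_swap (show (0 : Fin 5) ≠ 1 by decide) hij)
    rw [← hg, map_mul, map_mul, map_inv, h0]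
    exact hconj _ d hd
  let X : Set G := {x | ∃ i j : Fin 5, i ≠ j ∧ x = φ (swap i j)}
  have hXD : X ⊆ D := by
    rintro x ⟨i, j, hij, rfl⟩
    exact hswapD i j hij
  have hXcl : ∀ x ∈ X, Dd D x ⊆ X := by
    rintro x ⟨i, j, hij, rfl⟩
    obtain ⟨k, l, m, ⟨hkl, hkm, hlm⟩, ⟨n1, n2, n3⟩, ⟨m1, m2, m3⟩, ⟨c1, c2, c3⟩⟩ := compl_swaps i j hij
    have hxD := hswapD i j hij
    have mk : ∀ u v : Fin 5, u ≠ v → (swap u v : Perm (Fin 5)) ≠ swap i j →
        swap i j * swap u v = swap u v * swap i j → φ (swap u v) ∈ Dd D (φ (swap i j)) := by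
      intro u v huv hne hcomm
      refine ⟨hswapD u v huv, fun h => hne (hinj h), ?_⟩
      show φ _ * φ _ = φ _ * φ _
      rw [← map_mul, ← map_mul, hcomm]
    have e := Dd_eq_of_three hD hconj hloc hxD (mk k l hkl n1 c1) (mk k m hkm n2 c2) (mk l m hlm n3 c3)
      (fun h => m1 (hinj h)) (fun h => m2 (hinj h)) (fun h => m3 (hinj h))
    rw [e]
    rintro w (rfl | rfl | rfl)
    · exact ⟨k, l, hkl, rfl⟩
    · exact ⟨k, m, hkm, rfl⟩
    · exact ⟨l, m, hlm, rfl⟩
  have hDX : D ⊆ X := by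
    intro y hy
    by_contra hyX
    have hfarX : ∀ w ∈ D, w ∉ X → ∀ x ∈ X, ¬ Commute w x := by
      intro w hw hwX x hx hc
      have hne : w ≠ x := fun h => hwX (h ▸ hx)
      exact hwX (hXcl x hx ⟨hw, hne, hc.symm⟩)
    have hdX : d ∈ X := ⟨0, 1, by decide, h0.symm⟩
    have haX : a ∈ X := ⟨2, 3, by decide, h2.symm⟩
    have hbX : b ∈ X := ⟨3, 4, by decide, h3.symm⟩
    have hcX : a * b * a ∈ X := by
      refine ⟨2, 4, by decide, ?_⟩
      rw [← h2, ← h3, ← map_mul, ← map_mul]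
      congr 1
      decide
    have hfar : ∀ w, w = y ∨ w ∈ Dd D y →
        ¬ Commute w d ∧ ¬ Commute w a ∧ ¬ Commute w b ∧ ¬ Commute w (a * b * a) := by
      intro w hw
      have hwD : w ∈ D := by
        rcases hw with rfl | hw
        · exact hy
        · exact hw.1
      have hwX : w ∉ X := by
        rcases hw with rfl | hw
        · exact hyX
        · intro hwX
          exact hyX (hXcl w hwX (mem_Dd_symm hy hw))
      exact ⟨hfarX w hwD hwX d hdX, hfarX w hwD hwX a haX, hfarX w hwD hwX b hbX,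
        hfarX w hwD hwX _ hcX⟩
    have htw := twin_of_far hD hconj hloc hd ha hb hab hy hfar
    apply hnt
    have hyd : ¬ Commute y d := (hfar y (Or.inl rfl)).1
    have hconjd := conj_of_not_commute_eq hD hd hy hyd
    refine ⟨(y * d) * ((a * b) * y * (a * b)⁻¹) * (y * d)⁻¹, ?_⟩
    have := htw.conj hconj (y * d)
    rwa [← hconjd] at this
  have hDeq : D = X := Set.Subset.antisymm hDX hXD
  have hcl : Subgroup.closure D = φ.range := by
    apply le_antisymm
    · rw [Subgroup.closure_le, hDeq]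
      rintro x ⟨i, j, -, rfl⟩
      exact ⟨_, rfl⟩
    · rw [MonoidHom.range_eq_map, ← Equiv.Perm.closure_isSwap, MonoidHom.map_closure,
        Subgroup.closure_le]
      rintro _ ⟨σ, ⟨i, j, hij, rfl⟩, rfl⟩
      apply Subgroup.subset_closure
      rw [hDeq]
      exact ⟨i, j, hij, rfl⟩
  exact ⟨(MulEquiv.subgroupCongr hcl).trans (MonoidHom.ofInjective hinj).symm⟩

end Loc

end Cfsg.Agent.Helper89.LocS3
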