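import Mathlib
import Cfsg.Agent.Helper89.LocS3Basic
import Cfsg.Agent.Helper89.LocS3B

/-!
# `S5365`, the case with twins: `⟨D⟩ ≅ Sym(3) × Sym(3)` (helper89)
-/

set_option autoImplicit false

namespace Cfsg.Agent.Helper89.LocS3

open Cfsg Equiv Cfsg.Agent.Helper89

variable {G : Type*} [Group G] {D : Set G}

/-- A subgroup generated by pairwise commuting elements of order dividing `3` is a 3-group. -/
theorem isPGroup_three_closure_of_commuting {E : Set G} (hord : ∀ d ∈ E, d ^ 3 = 1)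
    (hcomm : ∀ a ∈ E, ∀ b ∈ E, Commute a b) : IsPGroup 3 (Subgroup.closure E) := by
  have hc : IsMulCommutative (Subgroup.closure E) :=
    Subgroup.isMulCommutative_closure (fun x hx y hy => hcomm x hx y hy)
  have hcube : ∀ x ∈ Subgroup.closure E, x ^ 3 = 1 := by
    intro x hx
    induction hx using Subgroup.closure_induction with
    | mem x hx => exact hord x hx
    | one => exact one_pow 3
    | mul x y hx hy ihx ihy =>
      have hxy : Commute x y := by
        have := hc.is_comm.comm ⟨x, hx⟩ ⟨y, hy⟩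
        exact congrArg Subtype.val this
      rw [hxy.mul_pow, ihx, ihy, one_mul]
    | inv x hx ih => rw [inv_pow, ih, inv_one]
  intro x
  refine ⟨1, ?_⟩
  apply Subtype.ext
  simpa using hcube x.1 x.2

/-- The closure of a conjugation-invariant set is normal. -/
theorem normal_closure_of_conj_invariant {E : Set G} (h : ∀ g : G, ∀ x ∈ E, g * x * g⁻¹ ∈ E) :
    (Subgroup.closure E).Normal := by
  constructor
  intro n hn g
  induction hn using Subgroup.closure_induction with
  | mem x hx => exact Subgroup.subset_closure (h g x hx)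
  | one => simp
  | mul x y hx hy ihx ihy =>
    have : g * (x * y) * g⁻¹ = (g * x * g⁻¹) * (g * y * g⁻¹) := by group
    rw [this]
    exact mul_mem ihx ihy
  | inv x hx ih =>
    have : g * x⁻¹ * g⁻¹ = (g * x * g⁻¹)⁻¹ := by group
    rw [this]
    exact inv_mem ih

/-- Use of the hypothesis on `O_3(C(y))`: two members of a normal 3-subgroup centralizing `y` lie in
a common cyclic group. -/
theorem mem_zpowers_of_core {N : Subgroup G} (hN : N.Normal) (hN3 : IsPGroup 3 N) {y : G}
    (hcard : Nat.card (Cfsg.pCore 3 ↥(Subgroup.centralizer ({y} : Set G))) = 3)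
    {g v : G} (hg : g ∈ N) (hgy : Commute g y) (hg1 : g ≠ 1) (hv : v ∈ N) (hvy : Commute v y) :
    v ∈ Subgroup.zpowers g := by
  have hgC : g ∈ Subgroup.centralizer ({y} : Set G) := by
    rw [Subgroup.mem_centralizer_iff]
    intro h hh
    rw [Set.mem_singleton_iff] at hh
    rw [hh]; exact hgy.eq.symm
  have hvC : v ∈ Subgroup.centralizer ({y} : Set G) := by
    rw [Subgroup.mem_centralizer_iff]
    intro h hh
    rw [Set.mem_singleton_iff] at hh
    rw [hh]; exact hvy.eq.symm
  have hM : N.subgroupOf (Subgroup.centralizer ({y} : Set G)) ≤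
      Cfsg.pCore 3 ↥(Subgroup.centralizer ({y} : Set G)) := by
    apply le_sSup
    refine ⟨hN.subgroupOf _, ?_⟩
    rw [← Subgroup.comap_subtype]
    exact hN3.comap_subtype
  have hg' : (⟨g, hgC⟩ : Subgroup.centralizer ({y} : Set G)) ∈
      Cfsg.pCore 3 ↥(Subgroup.centralizer ({y} : Set G)) := hM (by rw [Subgroup.mem_subgroupOf]; exact hg)
  have hv' : (⟨v, hvC⟩ : Subgroup.centralizer ({y} : Set G)) ∈
      Cfsg.pCore 3 ↥(Subgroup.centralizer ({y} : Set G)) := hM (by rw [Subgroup.mem_subgroupOf]; exact hv)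
  have : Fact (Nat.Prime 3) := ⟨by norm_num⟩
  have htop := zpowers_eq_top_of_prime_card hcard
    (g := (⟨⟨g, hgC⟩, hg'⟩ : Cfsg.pCore 3 ↥(Subgroup.centralizer ({y} : Set G))))
    (by
      intro h
      apply hg1
      have := congrArg Subtype.val (congrArg Subtype.val h)
      simpa using this)
  have hmem : (⟨⟨v, hvC⟩, hv'⟩ : Cfsg.pCore 3 ↥(Subgroup.centralizer ({y} : Set G))) ∈
      Subgroup.zpowers (⟨⟨g, hgC⟩, hg'⟩ : Cfsg.pCore 3 ↥(Subgroup.centralizer ({y} : Set G))) := by
    rw [htop]; exact Subgroup.mem_top _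
  obtain ⟨k, hk⟩ := Subgroup.mem_zpowers_iff.1 hmem
  refine Subgroup.mem_zpowers_iff.2 ⟨k, ?_⟩
  have := congrArg Subtype.val (congrArg Subtype.val hk)
  simpa using this

theorem inv_conj_cube {U u : G} (h : U * u * U⁻¹ = u⁻¹) (h3 : U ^ 3 = 1) : u = u⁻¹ := by
  have h1 : U * u⁻¹ * U⁻¹ = u := by
    have : U * u⁻¹ * U⁻¹ = (U * u * U⁻¹)⁻¹ := by group
    rw [this, h, inv_inv]
  have h2 : U ^ 3 * u * (U ^ 3)⁻¹ = u⁻¹ := by
    have e3 : U ^ 3 = U * U * U := by rw [pow_succ, pow_two]
    have : U ^ 3 * u * (U ^ 3)⁻¹ = U * (U * (U * u * U⁻¹) * U⁻¹) * U⁻¹ := by rw [e3]; group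
    rw [this, h, h1, h]
  rw [h3] at h2
  simpa using h2

/-- The six points attached to a pair of twins. -/
def XA (D : Set G) (x y : G) : Set G := {x, y, x * y * x} ∪ Dd D x

section Loc

variable (hD : IsThreeTranspositionSet D) (hconj : ∀ g : G, ∀ d ∈ D, g * d * g⁻¹ ∈ D)
  (hloc : ∀ d ∈ D, Nonempty (↥(Subgroup.closure (Dd D d)) ≃* Perm (Fin 3)))

include hD in
theorem inv_mul_eq {a b : G} (ha : a ∈ D) (hb : b ∈ D) : (a * b)⁻¹ = b * a := by
  rw [mul_inv_rev, inv_eq_of_mul_eq_one_left (sq_of_mem hD ha),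
    inv_eq_of_mul_eq_one_left (sq_of_mem hD hb)]

include hD in
theorem sq_mul_eq {a b : G} (ha : a ∈ D) (hb : b ∈ D) (h : ¬ Commute a b) :
    (a * b) * (a * b) = b * a := by
  rw [← inv_mul_eq hD ha hb]
  apply eq_inv_of_mul_eq_one_left
  rw [← cube_of_not_commute hD ha hb h]; simp only [pow_succ, pow_zero, one_mul, mul_assoc]

include hD hconj in
theorem Twin.conj_self {x y : G} (h : Twin D x y) : Twin D x (x * y * x) := by
  have := h.conj hconj x
  rwa [inv_eq_of_mul_eq_one_left (sq_of_mem hD h.1), mul_assoc x x x, sq_of_mem hD h.1, mul_one] at this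

include hD hconj hloc in
theorem exists_mem_Dd {x : G} (hx : x ∈ D) : ∃ w, w ∈ Dd D x := by
  obtain ⟨a, b, ha, -⟩ := Dd_line hD hconj hloc hx
  exact ⟨a, ha⟩

include hD hconj hloc in
theorem Dd_of_mem_Dd_twin {x y w : G} (h : Twin D x y) (hw : w ∈ Dd D x) :
    Dd D w = {x, y, x * y * x} := by
  have hw' : w ∈ Dd D y := h.2.2.2 ▸ hw
  exact Dd_eq_pair hD hconj hloc hw.1 (mem_Dd_symm h.1 hw) (mem_Dd_symm h.2.1 hw') h.2.2.1

include hD hconj hloc in
theorem twin_cases {x y t : G} (h : Twin D x y) (h' : Twin D x t) : t = y ∨ t = x * y * x := by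
  obtain ⟨w, hw⟩ := exists_mem_Dd hD hconj hloc h.1
  have hw' : w ∈ Dd D t := h'.2.2.2 ▸ hw
  have ht := mem_Dd_symm h'.2.1 hw'
  rw [Dd_of_mem_Dd_twin hD hconj hloc h hw] at ht
  rcases ht with rfl | rfl | rfl
  · exact absurd rfl h'.2.2.1
  · left; rfl
  · right; rfl

include hD hconj hloc in
theorem twin_of_mem_Dd {x y a a' : G} (h : Twin D x y) (ha : a ∈ Dd D x) (ha' : a' ∈ Dd D x)
    (hne : a ≠ a') : Twin D a a' :=
  ⟨ha.1, ha'.1, hne, by
    rw [Dd_of_mem_Dd_twin hD hconj hloc h ha, Dd_of_mem_Dd_twin hD hconj hloc h ha']⟩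

include hD hconj in
theorem Dd_eq_of_mem_line {x y p : G} (h : Twin D x y) (hp : p = x ∨ p = y ∨ p = x * y * x) :
    Dd D p = Dd D x := by
  rcases hp with rfl | rfl | rfl
  · rfl
  · exact h.2.2.2.symm
  · exact (h.conj_self hD hconj).2.2.2.symm

include hD hconj hloc in
theorem XA_closed {x y p q : G} (h : Twin D x y) (hp : p ∈ XA D x y) (hq : q ∈ D)
    (hc : Commute p q) : q ∈ XA D x y := by
  by_cases hqp : q = p
  · rw [hqp]; exact hp
  rcases hp with hp | hp
  · have hq' : q ∈ Dd D p := ⟨hq, hqp, hc⟩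
    rw [Dd_eq_of_mem_line hD hconj h hp] at hq'
    exact Or.inr hq'
  · have hq' : q ∈ Dd D p := ⟨hq, hqp, hc⟩
    rw [Dd_of_mem_Dd_twin hD hconj hloc h hp] at hq'
    exact Or.inl hq'

include hD hconj hloc in
theorem far_of_notMem {x y q : G} (h : Twin D x y) (hq : q ∈ D) (hqX : q ∉ XA D x y) :
    ∀ p ∈ XA D x y, ¬ Commute p q :=
  fun _ hp hc => hqX (XA_closed hD hconj hloc h hp hq hc)

include hD hconj hloc in
theorem notMem_of_mem_Dd {x y q w : G} (h : Twin D x y) (hq : q ∈ D) (hqX : q ∉ XA D x y)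
    (hw : w ∈ Dd D q) : w ∉ XA D x y :=
  fun hwX => hqX (XA_closed hD hconj hloc h hwX hq hw.2.2.symm)

include hD hconj hloc in
theorem notMem_of_twin {x y q q' : G} (h : Twin D x y) (hqX : q ∉ XA D x y)
    (hq' : Twin D q q') : q' ∉ XA D x y := by
  intro hX
  rcases hX with hX | hX
  · have e : Dd D q = Dd D x := hq'.2.2.2.trans (Dd_eq_of_mem_line hD hconj h hX)
    by_cases hqx : q = x
    · exact hqX (Or.inl (Or.inl hqx))
    · have ht : Twin D x q := ⟨h.1, hq'.1, fun h => hqx h.symm, e.symm⟩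
      rcases twin_cases hD hconj hloc h ht with h1 | h1
      · exact hqX (Or.inl (Or.inr (Or.inl h1)))
      · exact hqX (Or.inl (Or.inr (Or.inr h1)))
  · have e : Dd D q = {x, y, x * y * x} :=
      hq'.2.2.2.trans (Dd_of_mem_Dd_twin hD hconj hloc h hX)
    have hx : x ∈ Dd D q := by rw [e]; exact Or.inl rfl
    exact hqX (Or.inr (mem_Dd_symm hq'.1 hx))

include hD in
/-- Products of two distinct points of a line. -/
theorem prod_line {x y p q : G} (hx : x ∈ D) (hy : y ∈ D) (hxy : ¬ Commute x y)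
    (hp : p = x ∨ p = y ∨ p = x * y * x) (hq : q = x ∨ q = y ∨ q = x * y * x) (hpq : p ≠ q) :
    p * q = x * y ∨ p * q = (x * y)⁻¹ := by
  have hxx := sq_of_mem hD hx
  have hyy := sq_of_mem hD hy
  have hinv := inv_mul_eq hD hx hy
  have hsq := sq_mul_eq hD hx hy hxy
  have hsq' := sq_mul_eq hD hy hx (fun c => hxy c.symm)
  rcases hp with hp | hp | hp <;> rcases hq with hq | hq | hq <;> rw [hp, hq] at hpq <;> rw [hp, hq]
  · exact absurd rfl hpq
  · left; rfl
  · right
    rw [hinv, ← mul_assoc, ← mul_assoc, hxx, one_mul]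
  · right; exact hinv.symm
  · exact absurd rfl hpq
  · left
    calc y * (x * y * x) = (y * x) * (y * x) := by simp only [mul_assoc]
      _ = x * y := hsq'
  · left
    rw [mul_assoc, hxx, mul_one]
  · right
    rw [hinv]
    calc (x * y * x) * y = (x * y) * (x * y) := by simp only [mul_assoc]
      _ = y * x := hsq
  · exact absurd rfl hpq

include hD hconj hloc in
/-- Products of twins commute. -/
theorem commute_twin_products {x y x' y' : G} (h : Twin D x y) (h' : Twin D x' y') :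
    Commute (x * y) (x' * y') := by
  have hnxy := h.not_commute
  have hxx := sq_of_mem hD h.1
  have hyy := sq_of_mem hD h.2.1
  by_cases hX : x' ∈ XA D x y
  · rcases hX with hX | hX
    · -- x' on the line of x
      have e : Dd D x' = Dd D x := Dd_eq_of_mem_line hD hconj h hX
      have hy'l : y' = x ∨ y' = y ∨ y' = x * y * x := by
        by_cases hyx : y' = x
        · exact Or.inl hyx
        · have ht : Twin D x y' := ⟨h.1, h'.2.1, fun h => hyx h.symm, e.symm.trans h'.2.2.2⟩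
          exact Or.inr (twin_cases hD hconj hloc h ht)
      rcases prod_line hD h.1 h.2.1 hnxy hX hy'l h'.2.2.1 with e1 | e1
      · rw [e1]
      · rw [e1]; exact (Commute.refl _).inv_right
    · -- x' a partner of x
      have e := Dd_of_mem_Dd_twin hD hconj hloc h hX
      have e' : Dd D y' = {x, y, x * y * x} := h'.2.2.2.symm.trans e
      have c1 : Commute x' x := by
        have : x ∈ Dd D x' := by rw [e]; exact Or.inl rfl
        exact this.2.2
      have c2 : Commute x' y := by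
        have : y ∈ Dd D x' := by rw [e]; exact Or.inr (Or.inl rfl)
        exact this.2.2
      have c3 : Commute y' x := by
        have : x ∈ Dd D y' := by rw [e']; exact Or.inl rfl
        exact this.2.2
      have c4 : Commute y' y := by
        have : y ∈ Dd D y' := by rw [e']; exact Or.inr (Or.inl rfl)
        exact this.2.2
      exact ((c1.mul_right c2).symm).mul_right ((c3.mul_right c4).symm)
  · -- x' far
    have hy'X := notMem_of_twin hD hconj hloc h hX h'
    obtain ⟨w', hw'⟩ := exists_mem_Dd hD hconj hloc h'.1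
    have hw'y : w' ∈ Dd D y' := h'.2.2.2 ▸ hw'
    have hw'X := notMem_of_mem_Dd hD hconj hloc h h'.1 hX hw'
    have fx := far_of_notMem hD hconj hloc h h'.1 hX
    have fy := far_of_notMem hD hconj hloc h h'.2.1 hy'X
    have fw := far_of_notMem hD hconj hloc h hw'.1 hw'X
    have hx'x' := sq_of_mem hD h'.1
    have hy'y' := sq_of_mem hD h'.2.1
    have hw'w' := sq_of_mem hD hw'.1
    -- conjugation by x' * y' preserves the line
    have hline : ∀ p, (p = x ∨ p = y ∨ p = x * y * x) →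
        let p' := (x' * y') * p * (x' * y')⁻¹
        (p' = x ∨ p' = y ∨ p' = x * y * x) := by
      intro p hp p'
      have hpX : p ∈ XA D x y := Or.inl hp
      have hpD : p ∈ D := by
        rcases hp with rfl | rfl | rfl
        · exact h.1
        · exact h.2.1
        · exact conj_inv_mem hD hconj h.1 h.2.1
      have s1 : (w' * y') * p * (w' * y') ∈ Dd D p :=
        s4_lemma hD hconj hw'.1 h'.2.1 hpD hw'y.2.2.symm hw'y.2.1 (fw p hpX) (fy p hpX)
      have s1' : (w' * y') * p * (w' * y') ∈ Dd D x := by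
        rwa [Dd_eq_of_mem_line hD hconj h hp] at s1
      have s1X : (w' * y') * p * (w' * y') ∈ XA D x y := Or.inr s1'
      have s2 : (x' * w') * ((w' * y') * p * (w' * y')) * (x' * w') ∈
          Dd D ((w' * y') * p * (w' * y')) :=
        s4_lemma hD hconj h'.1 hw'.1 s1.1 hw'.2.2 hw'.2.1.symm (fx _ s1X) (fw _ s1X)
      rw [Dd_of_mem_Dd_twin hD hconj hloc h s1'] at s2
      have e : p' = (x' * w') * ((w' * y') * p * (w' * y')) * (x' * w') := by
        show (x' * y') * p * (x' * y')⁻¹ = _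
        rw [inv_mul_eq hD h'.1 h'.2.1]
        have e1 : (x' * w') * (w' * y') = x' * y' := by
          rw [mul_assoc, ← mul_assoc w', hw'w', one_mul]
        have e2 : (w' * y') * (x' * w') = y' * x' := by
          rw [hw'y.2.2.symm.eq, hw'.2.2.symm.eq.symm, mul_assoc, ← mul_assoc w', hw'w', one_mul]
        rw [conj_conj_eq e1 e2]
      rw [e]
      exact s2
    have hx1 := hline x (Or.inl rfl)
    have hy1 := hline y (Or.inr (Or.inl rfl))
    have hne : (x' * y') * x * (x' * y')⁻¹ ≠ (x' * y') * y * (x' * y')⁻¹ := by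
      intro heq
      exact h.2.2.1 (mul_left_cancel (mul_right_cancel heq))
    have hprod : (x' * y') * (x * y) * (x' * y')⁻¹ =
        ((x' * y') * x * (x' * y')⁻¹) * ((x' * y') * y * (x' * y')⁻¹) := by group
    have h3' : (x' * y') ^ 3 = 1 := cube_of_not_commute hD h'.1 h'.2.1 h'.not_commute
    have h3 : (x * y) ^ 3 = 1 := cube_of_not_commute hD h.1 h.2.1 hnxy
    rcases prod_line hD h.1 h.2.1 hnxy hx1 hy1 hne with e1 | e1
    · rw [← hprod] at e1
      show (x * y) * (x' * y') = (x' * y') * (x * y)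
      calc (x * y) * (x' * y') = ((x' * y') * (x * y) * (x' * y')⁻¹) * (x' * y') := by rw [e1]
        _ = (x' * y') * (x * y) := by simp only [mul_assoc, inv_mul_cancel, mul_one]
    · exfalso
      rw [← hprod] at e1
      have h4 : x * y = (x * y)⁻¹ := inv_conj_cube e1 h3'
      -- x * y = (x * y)⁻¹ and (x*y)^3 = 1 give x * y = 1
      have h5 : (x * y) ^ 2 = 1 := by
        rw [pow_two]
        nth_rewrite 1 [h4]
        exact inv_mul_cancel _
      have h6 : x * y = 1 := eq_one_of_pow_two_pow_of_pow_three (k := 1) (by simpa using h5) h3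
      apply h.2.2.1
      have : x = y⁻¹ := eq_inv_of_mul_eq_one_left h6
      rw [this, inv_eq_of_mul_eq_one_left hyy]

end Loc

/-- Products of twins. -/
def TwinProd (D : Set G) : Set G := {u | ∃ x y, Twin D x y ∧ u = x * y}

/-- The subgroup generated by the products of twins. -/
def NA (D : Set G) : Subgroup G := Subgroup.closure (TwinProd D)

section Loc2

variable (hD : IsThreeTranspositionSet D) (hconj : ∀ g : G, ∀ d ∈ D, g * d * g⁻¹ ∈ D)
  (hloc : ∀ d ∈ D, Nonempty (↥(Subgroup.closure (Dd D d)) ≃* Perm (Fin 3)))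

theorem twinProd_mem_NA {x y : G} (h : Twin D x y) : x * y ∈ NA D :=
  Subgroup.subset_closure ⟨x, y, h, rfl⟩

include hconj in
theorem NA_normal : (NA D).Normal := by
  apply normal_closure_of_conj_invariant
  rintro g _ ⟨x, y, h, rfl⟩
  refine ⟨g * x * g⁻¹, g * y * g⁻¹, h.conj hconj g, ?_⟩
  group

include hD hconj hloc in
theorem NA_isPGroup : IsPGroup 3 (NA D) := by
  apply isPGroup_three_closure_of_commuting
  · rintro _ ⟨x, y, h, rfl⟩
    exact cube_of_not_commute hD h.1 h.2.1 h.not_commute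
  · rintro _ ⟨x, y, h, rfl⟩ _ ⟨x', y', h', rfl⟩
    exact commute_twin_products hD hconj hloc h h'

include hD in
theorem conj_inj {d y x₁ x₂ : G} (hd : d ∈ D) (hy : y ∈ D) (hx₁ : x₁ ∈ Dd D d) (hx₂ : x₂ ∈ Dd D d)
    (hy1 : ¬ Commute y x₁) (hy2 : ¬ Commute y x₂)
    (heq : (d * x₁) * y * (d * x₁) = (d * x₂) * y * (d * x₂)) : x₁ = x₂ := by
  by_contra hne
  have hdd := sq_of_mem hD hd
  apply not_commute_mul hD hy hx₂.1 hx₁.1 hy2 hy1 (Ne.symm hne)
  have hx11 := sq_of_mem hD hx₁.1
  have hx22 := sq_of_mem hD hx₂.1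
  have e1 : (d * x₂) * (d * x₁) = x₂ * x₁ := mul_mul_eq_of_commute hdd hx₂.2.2
  have e2 : (d * x₁) * (d * x₂) = x₁ * x₂ := mul_mul_eq_of_commute hdd hx₁.2.2
  have e3 : (d * x₂) * (d * x₂) = 1 := by rw [mul_mul_eq_of_commute hdd hx₂.2.2, hx22]
  have h1 : (x₂ * x₁) * y * (x₁ * x₂) = y := by
    calc (x₂ * x₁) * y * (x₁ * x₂) = (d * x₂) * ((d * x₁) * y * (d * x₁)) * (d * x₂) :=
          (conj_conj_eq e1 e2).symm
      _ = (d * x₂) * ((d * x₂) * y * (d * x₂)) * (d * x₂) := by rw [heq]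
      _ = ((d * x₂) * (d * x₂)) * y * ((d * x₂) * (d * x₂)) := by simp only [mul_assoc]
      _ = y := by rw [e3, one_mul, mul_one]
  show y * (x₂ * x₁) = (x₂ * x₁) * y
  have h2 : (x₁ * x₂) * (x₂ * x₁) = 1 := by
    rw [mul_assoc, ← mul_assoc x₂, hx22, one_mul, hx11]
  calc y * (x₂ * x₁) = ((x₂ * x₁) * y * (x₁ * x₂)) * (x₂ * x₁) := by rw [h1]
    _ = (x₂ * x₁) * y := by rw [mul_assoc, h2, mul_one]

include hD hconj hloc in
/-- A member outside the six points is centralized by a "diagonal" element. -/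
theorem exists_g {d e y : G} (h : Twin D d e) (hy : y ∈ D) (hyX : y ∉ XA D d e) :
    ∃ a₁ ∈ Dd D d, ∃ a₂ ∈ Dd D d, a₁ ≠ a₂ ∧ Commute ((d * e) * (a₁ * a₂)) y := by
  obtain ⟨a, b, ha, hb, hnab, hDd⟩ := Dd_line hD hconj hloc h.1
  have hc := mem_Dd_conj hD hconj ha hb
  obtain ⟨n1, n2, n3⟩ := ne_conj_of_not_commute hD ha.1 hnab
  have far := far_of_notMem hD hconj hloc h hy hyX
  have hdd := sq_of_mem hD h.1
  have hee := sq_of_mem hD h.2.1
  have haa := sq_of_mem hD ha.1
  have hyd : ¬ Commute y d := fun c => far d (Or.inl (Or.inl rfl)) c.symm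
  have hye : ¬ Commute y e := fun c => far e (Or.inl (Or.inr (Or.inl rfl))) c.symm
  have hyW : ∀ x ∈ Dd D d, ¬ Commute y x := fun x hx c => far x (Or.inr hx) c.symm
  have hs : ∀ x ∈ Dd D d, (d * x) * y * (d * x) ∈ Dd D y := fun x hx =>
    s4_lemma hD hconj h.1 hx.1 hy hx.2.2 hx.2.1.symm hyd (hyW x hx)
  have e3 := Dd_eq_of_three hD hconj hloc hy (hs a ha) (hs b hb) (hs _ hc)
    (fun hh => n1 (conj_inj hD h.1 hy ha hb (hyW a ha) (hyW b hb) hh))
    (fun hh => n2 (conj_inj hD h.1 hy ha hc (hyW a ha) (hyW _ hc) hh))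
    (fun hh => n3 (conj_inj hD h.1 hy hb hc (hyW b hb) (hyW _ hc) hh))
  have hae : a ∈ Dd D e := h.2.2.2 ▸ ha
  have hq : (e * a) * y * (e * a) ∈ Dd D y :=
    s4_lemma hD hconj h.2.1 ha.1 hy hae.2.2 hae.2.1.symm hye (hyW a ha)
  -- the key computation
  have key : ∀ a' ∈ Dd D d, (e * a) * y * (e * a) = (d * a') * y * (d * a') →
      Commute ((d * e) * (a' * a)) y := by
    intro a' ha' heq
    have ha'e : a' ∈ Dd D e := h.2.2.2 ▸ ha'
    have ha'a' := sq_of_mem hD ha'.1
    have m1 : (e * a) * (e * a) = 1 := by rw [mul_mul_eq_of_commute hee hae.2.2, haa]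
    have m2 : (d * a') * (d * a') = 1 := by rw [mul_mul_eq_of_commute hdd ha'.2.2, ha'a']
    have e1 : (d * a') * (e * a) = (d * e) * (a' * a) := by
      rw [mul_assoc, ← mul_assoc a', ha'e.2.2.eq.symm]; simp only [mul_assoc]
    have e2 : (e * a) * (d * a') = ((d * e) * (a' * a))⁻¹ := by
      rw [← e1, mul_inv_rev]
      congr 1
      · exact (inv_eq_of_mul_eq_one_left m1).symm
      · exact (inv_eq_of_mul_eq_one_left m2).symm
    have h1 : ((d * e) * (a' * a)) * y * ((d * e) * (a' * a))⁻¹ = y := by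
      calc ((d * e) * (a' * a)) * y * ((d * e) * (a' * a))⁻¹
          = (d * a') * ((e * a) * y * (e * a)) * (d * a') := (conj_conj_eq e1 e2).symm
        _ = (d * a') * ((d * a') * y * (d * a')) * (d * a') := by rw [heq]
        _ = ((d * a') * (d * a')) * y * ((d * a') * (d * a')) := by simp only [mul_assoc]
        _ = y := by rw [m2, one_mul, mul_one]
    show ((d * e) * (a' * a)) * y = y * ((d * e) * (a' * a))
    calc ((d * e) * (a' * a)) * y
        = (((d * e) * (a' * a)) * y * ((d * e) * (a' * a))⁻¹) * ((d * e) * (a' * a)) := by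
          simp only [mul_assoc, inv_mul_cancel, mul_one]
      _ = y * ((d * e) * (a' * a)) := by rw [h1]
  have hbad : (e * a) * y * (e * a) ≠ (d * a) * y * (d * a) := by
    intro heq
    have := key a ha heq
    rw [haa, mul_one] at this
    exact not_commute_mul hD hy h.1 h.2.1 hyd hye h.2.2.1 this.symm
  rw [e3] at hq
  rcases hq with hq | hq | hq
  · exact absurd hq hbad
  · exact ⟨b, hb, a, ha, n1.symm, key b hb hq⟩
  · exact ⟨_, hc, a, ha, n2.symm, key _ hc hq⟩

include hD hconj hloc in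
/-- With twins, `D` consists of the six points. -/
theorem caseA_subset
    (hcore : ∀ d ∈ D, Nat.card (Cfsg.pCore 3 ↥(Subgroup.centralizer ({d} : Set G))) = 3)
    {d e : G} (h : Twin D d e) : D ⊆ XA D d e := by
  intro y hy
  by_contra hyX
  have far := far_of_notMem hD hconj hloc h hy hyX
  have hdd := sq_of_mem hD h.1
  have hee := sq_of_mem hD h.2.1
  have hyy := sq_of_mem hD hy
  have hyd : ¬ Commute y d := fun c => far d (Or.inl (Or.inl rfl)) c.symm
  have hyconj : y = (d * y) * d * (d * y)⁻¹ :=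
    conj_of_not_commute_eq hD hy h.1 (fun c => hyd c.symm)
  have hty : Twin D y ((d * y) * e * (d * y)⁻¹) := by
    have := h.conj hconj (d * y)
    rwa [← hyconj] at this
  obtain ⟨y', hy'def⟩ : ∃ y', y' = (d * y) * e * (d * y)⁻¹ := ⟨_, rfl⟩
  rw [← hy'def] at hty
  obtain ⟨w, w', hw, hw', hnww', -⟩ := Dd_line hD hconj hloc hy
  have hww' : w ≠ w' := fun hh => hnww' (hh ▸ Commute.refl w)
  have htw : Twin D w w' := twin_of_mem_Dd hD hconj hloc hty hw hw' hww'
  have hwX : w ∉ XA D d e := notMem_of_mem_Dd hD hconj hloc h hy hyX hw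
  have hwwsq := sq_of_mem hD hw.1
  obtain ⟨a₁, ha₁, a₂, ha₂, hne, hgy⟩ := exists_g hD hconj hloc h hy hyX
  obtain ⟨b₁, hb₁, b₂, hb₂, hne', hgw⟩ := exists_g hD hconj hloc h hw.1 hwX
  have hN := NA_normal (D := D) hconj
  have hN3 := NA_isPGroup hD hconj hloc
  have hk : d * e ∈ NA D := twinProd_mem_NA h
  have hgyN : (d * e) * (a₁ * a₂) ∈ NA D :=
    mul_mem hk (twinProd_mem_NA (twin_of_mem_Dd hD hconj hloc h ha₁ ha₂ hne))
  have hgwN : (d * e) * (b₁ * b₂) ∈ NA D :=
    mul_mem hk (twinProd_mem_NA (twin_of_mem_Dd hD hconj hloc h hb₁ hb₂ hne'))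
  have hg1 : ∀ c₁ ∈ Dd D d, ∀ c₂ ∈ Dd D d, (d * e) * (c₁ * c₂) ≠ 1 := by
    intro c₁ hc₁ c₂ hc₂ h1
    apply h.not_commute
    have hc : Commute d (d * e) := by
      have e1 : d * e = (c₁ * c₂)⁻¹ := eq_inv_of_mul_eq_one_left h1
      rw [e1]; exact (hc₁.2.2.mul_right hc₂.2.2).inv_right
    have h2 : d * (d * e) = d * e * d := hc.eq
    rw [← mul_assoc, hdd, one_mul] at h2
    show d * e = e * d
    calc d * e = d * (d * e * d) := by rw [← h2]
      _ = e * d := by rw [← mul_assoc, ← mul_assoc, hdd, one_mul]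
  have hna : ¬ Commute a₁ a₂ := not_commute_of_mem_Dd hD hconj hloc h.1 ha₁ ha₂ hne
  have hDd := Dd_eq_pair hD hconj hloc h.1 ha₁ ha₂ hne
  have hb₁l : b₁ = a₁ ∨ b₁ = a₂ ∨ b₁ = a₁ * a₂ * a₁ := by rw [hDd] at hb₁; exact hb₁
  have hb₂l : b₂ = a₁ ∨ b₂ = a₂ ∨ b₂ = a₁ * a₂ * a₁ := by rw [hDd] at hb₂; exact hb₂
  rcases prod_line hD ha₁.1 ha₂.1 hna hb₁l hb₂l hne' with e1 | e1
  · -- same diagonal: contradiction
    rw [e1] at hgw
    have hv : w * w' ∈ NA D := twinProd_mem_NA htw
    have hvy : Commute (w * w') y := (hw.2.2.mul_right hw'.2.2).symm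
    have hz := mem_zpowers_of_core hN hN3 (hcore y hy) hgyN hgy (hg1 a₁ ha₁ a₂ ha₂) hv hvy
    obtain ⟨k, hk'⟩ := Subgroup.mem_zpowers_iff.1 hz
    have hcw : Commute (w * w') w := by rw [← hk']; exact hgw.zpow_left k
    apply hnww'
    have h3 : w * w' * w = w * (w * w') := hcw.eq
    rw [← mul_assoc, hwwsq, one_mul] at h3
    show w * w' = w' * w
    calc w * w' = w * (w * w' * w) := by rw [h3]
      _ = w' * w := by rw [← mul_assoc, ← mul_assoc, hwwsq, one_mul]
  · -- opposite diagonals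
    have hgw1 := hg1 b₁ hb₁ b₂ hb₂
    rw [e1] at hgw hgwN hgw1
    have hκd : Commute (a₁ * a₂) d := (ha₁.2.2.mul_right ha₂.2.2).symm
    have ha₁e : a₁ ∈ Dd D e := h.2.2.2 ▸ ha₁
    have ha₂e : a₂ ∈ Dd D e := h.2.2.2 ▸ ha₂
    have hκe : Commute (a₁ * a₂) e := (ha₁e.2.2.mul_right ha₂e.2.2).symm
    have e2 : d * ((d * e) * (a₁ * a₂)) * d = ((d * e) * (a₁ * a₂)⁻¹)⁻¹ := by
      rw [mul_inv_rev, inv_inv, inv_mul_eq hD h.1 h.2.1]
      calc d * ((d * e) * (a₁ * a₂)) * d = (d * d) * e * ((a₁ * a₂) * d) := by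
            simp only [mul_assoc]
        _ = e * (d * (a₁ * a₂)) := by rw [hdd, one_mul, hκd.eq]
        _ = (e * d) * (a₁ * a₂) := by rw [mul_assoc]
        _ = (a₁ * a₂) * (e * d) := ((hκe.mul_right hκd).eq).symm
    have hz : Commute ((d * e) * (a₁ * a₂)⁻¹) (d * y * d) := by
      have c1 : Commute (d * ((d * e) * (a₁ * a₂)) * d) (d * y * d) := by
        have := (Commute.conj_iff d).2 hgy
        rwa [inv_eq_of_mul_eq_one_left hdd] at this
      rw [e2] at c1
      exact (Commute.inv_left_iff).1 c1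
    have hv' : y * y' ∈ NA D := twinProd_mem_NA hty
    have hwy' : w ∈ Dd D y' := hty.2.2.2 ▸ hw
    have hvw : Commute (y * y') w := hw.2.2.mul_left hwy'.2.2
    have hz' := mem_zpowers_of_core hN hN3 (hcore w hw.1) hgwN hgw hgw1 hv' hvw
    obtain ⟨k, hk'⟩ := Subgroup.mem_zpowers_iff.1 hz'
    have c2 : Commute (y * y') (d * y * d) := by rw [← hk']; exact hz.zpow_left k
    have hzD : d * y * d ∈ D := conj_inv_mem hD hconj h.1 hy
    have hzy : ¬ Commute (d * y * d) y := by
      intro c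
      apply hyd
      have hb := braid hD h.1 hy (fun c => hyd c.symm)
      rw [hb] at c
      have h3 : y * d * y * y = y * (y * d * y) := c.eq
      show y * d = d * y
      calc y * d = y * d * y * y := by rw [mul_assoc (y * d), hyy, mul_one]
        _ = y * (y * d * y) := h3
        _ = d * y := by rw [← mul_assoc, ← mul_assoc, hyy, one_mul]
    by_cases hzy' : Commute (d * y * d) y'
    · apply hzy
      have hy'y' := sq_of_mem hD hty.2.1
      have hc : Commute (d * y * d) ((y * y') * y') := c2.symm.mul_right hzy'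
      rwa [mul_assoc y y' y', hy'y', mul_one] at hc
    · exact not_commute_mul hD hzD hy hty.2.1 hzy hzy' hty.2.2.1 c2.symm

end Loc2

theorem perm3_center : ∀ σ : Perm (Fin 3), (∀ τ : Perm (Fin 3), σ * τ = τ * σ) → σ = 1 := by
  decide

section Loc3

variable (hD : IsThreeTranspositionSet D) (hconj : ∀ g : G, ∀ d ∈ D, g * d * g⁻¹ ∈ D)
  (hloc : ∀ d ∈ D, Nonempty (↥(Subgroup.closure (Dd D d)) ≃* Perm (Fin 3)))

include hD hconj hloc in
/-- The case with twins: `⟨D⟩ ≅ Sym(3) × Sym(3)`. -/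
theorem caseA
    (hcore : ∀ d ∈ D, Nat.card (Cfsg.pCore 3 ↥(Subgroup.centralizer ({d} : Set G))) = 3)
    {d e : G} (h : Twin D d e) :
    Nonempty (↥(Subgroup.closure D) ≃* Perm (Fin 3) × Perm (Fin 3)) := by
  have hsub := caseA_subset hD hconj hloc hcore h
  obtain ⟨a, ha⟩ := exists_mem_Dd hD hconj hloc h.1
  have hDa := Dd_of_mem_Dd_twin hD hconj hloc h ha
  obtain ⟨e1⟩ := hloc d h.1
  obtain ⟨e2⟩ := hloc a ha.1
  have hDeq : D = Dd D a ∪ Dd D d := by
    apply Set.Subset.antisymm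
    · intro y hy
      rcases hsub hy with hy' | hy'
      · left; rw [hDa]; exact hy'
      · right; exact hy'
    · rintro y (hy | hy)
      · exact hy.1
      · exact hy.1
  have hcl : Subgroup.closure D = Subgroup.closure (Dd D d) ⊔ Subgroup.closure (Dd D a) := by
    conv_lhs => rw [hDeq]
    rw [Subgroup.closure_union, sup_comm]
  have hcomm : ∀ (p : Subgroup.closure (Dd D d)) (q : Subgroup.closure (Dd D a)),
      Commute ((Subgroup.closure (Dd D d)).subtype p) ((Subgroup.closure (Dd D a)).subtype q) := by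
    have hle : Subgroup.closure (Dd D a) ≤ Subgroup.centralizer (Subgroup.closure (Dd D d) : Set G) := by
      rw [Subgroup.centralizer_closure, Subgroup.closure_le]
      intro v hv
      rw [SetLike.mem_coe, Subgroup.mem_centralizer_iff]
      intro w hw
      have : v ∈ Dd D w := by
        rw [Dd_of_mem_Dd_twin hD hconj hloc h hw, ← hDa]; exact hv
      exact this.2.2.eq
    intro p q
    have := Subgroup.mem_centralizer_iff.1 (hle q.2) p.1 p.2
    exact this
  have hdisj : Disjoint (Subgroup.closure (Dd D d)).subtype.range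
      (Subgroup.closure (Dd D a)).subtype.range := by
    rw [Subgroup.range_subtype, Subgroup.range_subtype, Subgroup.disjoint_def]
    intro x hx1 hx2
    have hcen : ∀ τ : Perm (Fin 3), e1 ⟨x, hx1⟩ * τ = τ * e1 ⟨x, hx1⟩ := by
      intro τ
      obtain ⟨p, rfl⟩ := e1.surjective τ
      rw [← map_mul, ← map_mul]
      congr 1
      apply Subtype.ext
      exact (hcomm p ⟨x, hx2⟩).eq.symm
    have h1 := perm3_center _ hcen
    have h2 : (⟨x, hx1⟩ : Subgroup.closure (Dd D d)) = 1 := (MulEquiv.map_eq_one_iff e1).1 h1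
    exact congrArg Subtype.val h2
  have hinj : Function.Injective
      ((Subgroup.closure (Dd D d)).subtype.noncommCoprod (Subgroup.closure (Dd D a)).subtype hcomm) := by
    rw [MonoidHom.noncommCoprod_injective]
    exact ⟨Subtype.coe_injective, Subtype.coe_injective, hdisj⟩
  have hrange : Subgroup.closure D =
      ((Subgroup.closure (Dd D d)).subtype.noncommCoprod (Subgroup.closure (Dd D a)).subtype hcomm).range := by
    rw [MonoidHom.noncommCoprod_range, Subgroup.range_subtype, Subgroup.range_subtype, hcl]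
  exact ⟨((MulEquiv.subgroupCongr hrange).trans (MonoidHom.ofInjective hinj).symm).trans
    (MulEquiv.prodCongr e1 e2)⟩

end Loc3

end Cfsg.Agent.Helper89.LocS3
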