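import Mathlib

/-!
# S3614 (helper58 architect, board #10017), piece (EXR)
-/

set_option autoImplicit false

namespace Cfsg.Agent.Helper89.N4

open MulAction
open scoped Pointwise

/-- (EXR) a `(t+1)`-transitive finite group has an element of every prime order dividing
`|Ω| - t` -/
theorem exists_orderOf_eq_of_dvd {G Ω : Type*} [Group G] [Finite G] [MulAction G Ω] [Fintype Ω]
    (t : ℕ) (ht : IsMultiplyPretransitive G Ω (t + 1)) (htΩ : t < Fintype.card Ω) {r : ℕ}
    [Fact r.Prime] (hr : r ∣ Fintype.card Ω - t) : ∃ ρ : G, orderOf ρ = r := by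
  classical
  obtain ⟨s, -, hs⟩ := Finset.exists_subset_card_eq (s := (Finset.univ : Finset Ω)) (n := t + 1)
    (by rw [Finset.card_univ]; omega)
  have hsn : (s : Set Ω).ncard = t + 1 := by rw [Set.ncard_coe_finset, hs]
  have hidx := ht.index_of_fixingSubgroup_mul hsn
  rw [Nat.card_eq_fintype_card] at hidx
  set N := Fintype.card Ω with hN
  have hfac : (N - (t + 1)).factorial * N.descFactorial (t + 1) = N.factorial :=
    Nat.factorial_mul_descFactorial (by omega)
  have hidx' : (fixingSubgroup G (s : Set Ω)).index = N.descFactorial (t + 1) := by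
    apply Nat.eq_of_mul_eq_mul_right (Nat.factorial_pos (N - (t + 1)))
    rw [hidx, ← hfac, mul_comm]
  have hdvd : r ∣ Nat.card G := by
    refine dvd_trans hr (dvd_trans ?_ (Subgroup.index_dvd_card (fixingSubgroup G (s : Set Ω))))
    rw [hidx', Nat.descFactorial_succ]
    exact dvd_mul_right _ _
  exact exists_prime_orderOf_dvd_card' r hdvd

end Cfsg.Agent.Helper89.N4
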