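import Mathlib

set_option autoImplicit false

/-!
# S2517 (C7) piece (ARB) `semi_arith` — helper89 for helper99
-/

namespace Cfsg.Agent.Helper89.O9

/-- (ARB) arithmetic of the sign argument -/
theorem semi_arith (q p N : ℕ) (hq : Odd q) (hp : p.Prime) (hpq : ∃ a, q = p ^ a) (hN : N ∣ q ^ 7 - q ^ 3)
    (hpN : ¬ p ∣ N) (h2 : Even N → Even ((q ^ 7 - q ^ 3) / N)) : N ∣ (q ^ 4 - 1) / 2 := by
  obtain ⟨a, rfl⟩ := hpq
  have hfac : (p ^ a) ^ 7 - (p ^ a) ^ 3 = (p ^ a) ^ 3 * ((p ^ a) ^ 4 - 1) := by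
    rw [Nat.mul_sub, ← pow_add, mul_one]
  have hcop : Nat.Coprime N ((p ^ a) ^ 3) := by
    apply Nat.Coprime.pow_right
    apply Nat.Coprime.pow_right
    exact ((Nat.Prime.coprime_iff_not_dvd hp).mpr hpN).symm
  have hNM : N ∣ (p ^ a) ^ 4 - 1 := by
    rw [hfac] at hN
    exact hcop.dvd_of_dvd_mul_left hN
  obtain ⟨t, ht⟩ := hNM
  -- `(p^a)^4 - 1` is even
  have hMeven : Even ((p ^ a) ^ 4 - 1) := by
    have h4 : Odd ((p ^ a) ^ 4) := hq.pow
    obtain ⟨m, hm⟩ := h4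
    rw [hm]; exact ⟨m, by omega⟩
  rcases Nat.even_or_odd N with hNe | hNo
  · -- `N` even: `t` is even
    rcases Nat.eq_zero_or_pos N with hN0 | hNpos
    · rw [hN0, zero_mul] at ht
      rw [ht, hN0]
      exact dvd_refl _
    have hquot : ((p ^ a) ^ 7 - (p ^ a) ^ 3) / N = (p ^ a) ^ 3 * t := by
      rw [hfac, ht, mul_left_comm, Nat.mul_div_cancel_left _ hNpos]
    have he := h2 hNe
    rw [hquot] at he
    have hodd3 : Odd ((p ^ a) ^ 3) := hq.pow
    have hte : Even t := by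
      rcases Nat.even_mul.mp he with h | h
      · exact absurd h (Nat.not_even_iff_odd.mpr hodd3)
      · exact h
    obtain ⟨s, hs⟩ := hte
    refine ⟨s, ?_⟩
    rw [ht, hs]
    have : N * (s + s) = 2 * (N * s) := by ring
    rw [this, Nat.mul_div_cancel_left _ (by norm_num : 0 < 2)]
  · -- `N` odd
    obtain ⟨m, hm⟩ := hMeven
    have hm2 : (p ^ a) ^ 4 - 1 = 2 * m := by omega
    have hNm : N ∣ 2 * m := by rw [← hm2, ht]; exact dvd_mul_right _ _
    have hc2 : Nat.Coprime N 2 := hNo.coprime_two_right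
    have := hc2.dvd_of_dvd_mul_left hNm
    rw [hm2, Nat.mul_div_cancel_left _ (by norm_num : 0 < 2)]
    exact this

end Cfsg.Agent.Helper89.O9
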