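import Mathlib
import Cfsg.Agent.Helper99.O9.Defs
import Cfsg.Agent.Helper99.O9.C7Defs

set_option autoImplicit false
set_option linter.unusedSimpArgs false
set_option linter.unnecessarySeqFocus false
set_option linter.unusedSectionVars false
set_option linter.unusedVariables false

/-!
# S2517 (C7) piece (ARO3) `arO3` — helper89 for helper99

Closure of the exponent lists `LrO`, half-dimension 3 (pure ℕ), modelled on helper94's `Sg.ar3`.
-/

namespace Cfsg.Agent.Helper89.O9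

open Cfsg.Agent.Helper99.O9

/-- (ARO3) -/
theorem arO3 (q p : ℕ) (hq : Odd q) (hq3 : 3 ≤ q) (hp : p.Prime) (hp2 : p ≠ 2) (k μ e N' : ℕ)
    (hk : 1 ≤ k) (hμ : 1 ≤ μ) (hkμ : k * μ ≤ 3) (he : e = q ^ k + 1 ∨ e = q ^ k - 1)
    (hN' : N' ∈ LrO (3 - k * μ) q p) :
    ∃ N ∈ LrO 3 q p, Nat.lcm (e * p ^ Nat.clog p μ) N' ∣ N := by
  obtain ⟨h, rfl⟩ := hq
  have hp3 : 3 ≤ p := by
    have := hp.two_le
    omega
  have s1 : 2 * h + 1 - 1 = 2 * h := by omega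
  have s2 : (2 * h + 1) ^ 2 - 1 = 4 * (h * (h + 1)) := Nat.sub_eq_of_eq_add (by ring)
  have s3 : (2 * h + 1) ^ 3 - 1 = 2 * h * (4 * h ^ 2 + 6 * h + 3) := Nat.sub_eq_of_eq_add (by ring)
  have d2 : ((2 * h + 1) ^ 2 + 1) * (2 * h + 1 - 1) / 2 = (2 * h ^ 2 + 2 * h + 1) * (2 * h) := by
    rw [s1]
    apply Nat.div_eq_of_eq_mul_right (by norm_num)
    ring
  have d3 : ((2 * h + 1) ^ 2 + 1) * (2 * h + 1 + 1) / 2 = (2 * h ^ 2 + 2 * h + 1) * (2 * h + 2) := by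
    apply Nat.div_eq_of_eq_mul_right (by norm_num)
    ring
  have c1 : Nat.clog p 1 = 0 := Nat.clog_one_right p
  have c2 : Nat.clog p 2 = 1 := Nat.clog_eq_one (le_refl 2) hp.two_le
  have c3 : Nat.clog p 3 = 1 := Nat.clog_eq_one (by norm_num) hp3
  have m0 : 2 * h * (4 * h ^ 2 + 6 * h + 3) ∈ LrO 3 (2 * h + 1) p := by
    rw [LrO_three]; simp only [List.mem_cons]; left; exact s3.symm
  have m1 : (2 * h + 1) ^ 3 + 1 ∈ LrO 3 (2 * h + 1) p := by
    rw [LrO_three]; simp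
  have m2 : (2 * h ^ 2 + 2 * h + 1) * (2 * h) ∈ LrO 3 (2 * h + 1) p := by
    rw [LrO_three]; simp only [List.mem_cons]; right; right; left; exact d2.symm
  have m3 : (2 * h ^ 2 + 2 * h + 1) * (2 * h + 2) ∈ LrO 3 (2 * h + 1) p := by
    rw [LrO_three]; simp only [List.mem_cons]; right; right; right; left; exact d3.symm
  have m4 : p * (4 * (h * (h + 1))) ∈ LrO 3 (2 * h + 1) p := by
    rw [LrO_three]; simp only [List.mem_cons]; right; right; right; right; left; rw [s2]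
  have hcases : (k = 1 ∧ μ = 1) ∨ (k = 1 ∧ μ = 2) ∨ (k = 1 ∧ μ = 3) ∨ (k = 2 ∧ μ = 1) ∨
      (k = 3 ∧ μ = 1) := by
    have hk3 : k ≤ 3 := by nlinarith
    have hμ3 : μ ≤ 3 := by nlinarith
    interval_cases k <;> interval_cases μ <;> omega
  rcases hcases with ⟨rfl, rfl⟩ | ⟨rfl, rfl⟩ | ⟨rfl, rfl⟩ | ⟨rfl, rfl⟩ | ⟨rfl, rfl⟩
  · -- k = 1, μ = 1
    change N' ∈ LrO 2 (2 * h + 1) p at hN'
    rw [LrO_two] at hN'
    simp only [List.mem_cons, List.mem_singleton, List.not_mem_nil, or_false] at hN'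
    rcases he with he | he
    · subst e
      rcases hN' with h' | h' | h' | h'
      all_goals (subst N'; try simp only [s1, s2, s3, c1, c2, c3, pow_zero, pow_one, mul_one])
      · exact ⟨_, m4, Nat.lcm_dvd ⟨p * (2 * h), by ring⟩ ⟨p, by ring⟩⟩
      · exact ⟨_, m3, Nat.lcm_dvd ⟨2 * h ^ 2 + 2 * h + 1, by ring⟩ ⟨h + 1, by ring⟩⟩
      · exact ⟨_, m4, Nat.lcm_dvd ⟨p * (2 * h), by ring⟩ ⟨2 * h + 2, by ring⟩⟩
      · exact ⟨_, m4, Nat.lcm_dvd ⟨p * (2 * h), by ring⟩ ⟨2 * h, by ring⟩⟩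
    · subst e
      rcases hN' with h' | h' | h' | h'
      all_goals (subst N'; try simp only [s1, s2, s3, c1, c2, c3, pow_zero, pow_one, mul_one])
      · exact ⟨_, m4, Nat.lcm_dvd ⟨p * (2 * (h + 1)), by ring⟩ ⟨p, by ring⟩⟩
      · exact ⟨_, m2, Nat.lcm_dvd ⟨2 * h ^ 2 + 2 * h + 1, by ring⟩ ⟨h, by ring⟩⟩
      · exact ⟨_, m4, Nat.lcm_dvd ⟨p * (2 * (h + 1)), by ring⟩ ⟨2 * h + 2, by ring⟩⟩
      · exact ⟨_, m4, Nat.lcm_dvd ⟨p * (2 * (h + 1)), by ring⟩ ⟨2 * h, by ring⟩⟩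
  · -- k = 1, μ = 2
    change N' ∈ LrO 1 (2 * h + 1) p at hN'
    rw [LrO_one] at hN'
    simp only [List.mem_cons, List.mem_singleton, List.not_mem_nil, or_false] at hN'
    rcases he with he | he
    · subst e
      rcases hN' with h' | h'
      all_goals (subst N'; try simp only [s1, s2, s3, c1, c2, c3, pow_zero, pow_one, mul_one])
      · exact ⟨_, m4, Nat.lcm_dvd ⟨2 * h, by ring⟩ ⟨p * (2 * (h + 1)), by ring⟩⟩
      · exact ⟨_, m4, Nat.lcm_dvd ⟨2 * h, by ring⟩ ⟨p * (2 * h), by ring⟩⟩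
    · subst e
      rcases hN' with h' | h'
      all_goals (subst N'; try simp only [s1, s2, s3, c1, c2, c3, pow_zero, pow_one, mul_one])
      · exact ⟨_, m4, Nat.lcm_dvd ⟨2 * (h + 1), by ring⟩ ⟨p * (2 * (h + 1)), by ring⟩⟩
      · exact ⟨_, m4, Nat.lcm_dvd ⟨2 * (h + 1), by ring⟩ ⟨p * (2 * h), by ring⟩⟩
  · -- k = 1, μ = 3
    change N' ∈ LrO 0 (2 * h + 1) p at hN'
    rw [LrO_zero] at hN'
    simp only [List.mem_cons, List.mem_singleton, List.not_mem_nil, or_false] at hN'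
    rcases he with he | he
    · subst e
      subst N'
      simp only [s1, s2, s3, c1, c2, c3, pow_zero, pow_one, mul_one]
      exact ⟨_, m4, Nat.lcm_dvd ⟨2 * h, by ring⟩ ⟨p * (4 * (h * (h + 1))), by ring⟩⟩
    · subst e
      subst N'
      simp only [s1, s2, s3, c1, c2, c3, pow_zero, pow_one, mul_one]
      exact ⟨_, m4, Nat.lcm_dvd ⟨2 * (h + 1), by ring⟩ ⟨p * (4 * (h * (h + 1))), by ring⟩⟩
  · -- k = 2, μ = 1
    change N' ∈ LrO 1 (2 * h + 1) p at hN'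
    rw [LrO_one] at hN'
    simp only [List.mem_cons, List.mem_singleton, List.not_mem_nil, or_false] at hN'
    rcases he with he | he
    · subst e
      rcases hN' with h' | h'
      all_goals (subst N'; try simp only [s1, s2, s3, c1, c2, c3, pow_zero, pow_one, mul_one])
      · exact ⟨_, m2, Nat.lcm_dvd ⟨h, by ring⟩ ⟨2 * h ^ 2 + 2 * h + 1, by ring⟩⟩
      · exact ⟨_, m3, Nat.lcm_dvd ⟨h + 1, by ring⟩ ⟨2 * h ^ 2 + 2 * h + 1, by ring⟩⟩
    · subst e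
      rcases hN' with h' | h'
      all_goals (subst N'; try simp only [s1, s2, s3, c1, c2, c3, pow_zero, pow_one, mul_one])
      · exact ⟨_, m4, Nat.lcm_dvd ⟨p, by ring⟩ ⟨p * (2 * (h + 1)), by ring⟩⟩
      · exact ⟨_, m4, Nat.lcm_dvd ⟨p, by ring⟩ ⟨p * (2 * h), by ring⟩⟩
  · -- k = 3, μ = 1
    change N' ∈ LrO 0 (2 * h + 1) p at hN'
    rw [LrO_zero] at hN'
    simp only [List.mem_cons, List.mem_singleton, List.not_mem_nil, or_false] at hN'
    rcases he with he | he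
    · subst e
      subst N'
      simp only [s1, s2, s3, c1, c2, c3, pow_zero, pow_one, mul_one]
      exact ⟨_, m1, Nat.lcm_dvd ⟨1, by ring⟩ ⟨(2 * h + 1) ^ 3 + 1, by ring⟩⟩
    · subst e
      subst N'
      simp only [s1, s2, s3, c1, c2, c3, pow_zero, pow_one, mul_one]
      exact ⟨_, m0, Nat.lcm_dvd ⟨1, by ring⟩ ⟨2 * h * (4 * h ^ 2 + 6 * h + 3), by ring⟩⟩

end Cfsg.Agent.Helper89.O9
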