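import Mathlib
import Cfsg.Agent.Helper99.O9.Defs
import Cfsg.Agent.Helper99.O9.C7Defs
import Cfsg.Agent.Helper44.Spinor

set_option autoImplicit false
set_option linter.unusedSectionVars false
set_option linter.unusedVariables false

/-!
# S2517 (C7) piece (CHEV2) `charpoly_eval_neg_one` — helper89 for helper99
-/

namespace Cfsg.Agent.Helper89.O9

open Matrix Polynomial QuadraticMap Cfsg.Agent.Helper44 Cfsg.Agent.Helper44.QType Cfsg.Agent.Helper94
open Cfsg.Agent.Helper99.O9

universe u

variable {F : Type u} [Field F] [Fintype F]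

/-- (CHEV2) -/
theorem charpoly_eval_neg_one {P : OPair F} (hf : P.Fpf') : P.M.charpoly.eval (-1) ≠ 0 := by
  rw [Matrix.eval_charpoly]
  have h1 : IsUnit (P.M + 1) := P.fpf'_def.mp hf
  have h2 : IsUnit (P.M + 1).det := (Matrix.isUnit_iff_isUnit_det _).mp h1
  have h3 : (Matrix.scalar P.ι (-1 : F) - P.M) = -(P.M + 1) := by
    ext i j
    by_cases hij : i = j
    · subst hij; simp [Matrix.scalar_apply]; ring
    · simp [Matrix.scalar_apply, hij]
  rw [h3, Matrix.det_neg]
  exact mul_ne_zero (pow_ne_zero _ (by norm_num)) h2.ne_zero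

end Cfsg.Agent.Helper89.O9
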