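import Mathlib
import Cfsg.Agent.Helper99.O9.Defs
import Cfsg.Agent.Helper99.O9.C7Defs
import Cfsg.Agent.Helper44.Spinor

set_option autoImplicit false
set_option linter.unusedSectionVars false
set_option linter.unusedVariables false

/-!
# S2517 (C7) piece (CHORD) `ord_dvd_of_charpoly_dvd` — helper89 for helper99
-/

namespace Cfsg.Agent.Helper89.O9

open Matrix Polynomial QuadraticMap Cfsg.Agent.Helper44 Cfsg.Agent.Helper44.QType Cfsg.Agent.Helper94
open Cfsg.Agent.Helper99.O9

universe u

variable {F : Type u} [Field F] [Fintype F]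

/-- (CHORD) Cayley–Hamilton -/
theorem ord_dvd_of_charpoly_dvd {P : OPair F} {N : ℕ} (h : P.M.charpoly ∣ X ^ N - 1) : P.ord ∣ N := by
  obtain ⟨r, hr⟩ := h
  have h1 : aeval P.M (X ^ N - 1 : F[X]) = 0 := by
    rw [hr, map_mul, Matrix.aeval_self_charpoly, zero_mul]
  have h2 : P.M ^ N = 1 := by
    have : aeval P.M (X ^ N - 1 : F[X]) = P.M ^ N - 1 := by simp
    rw [this, sub_eq_zero] at h1
    exact h1
  have h3 : P.g ^ N = 1 := by
    apply Subtype.ext
    apply Units.ext
    simpa [OPair.M] using h2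
  exact orderOf_dvd_of_pow_eq_one h3

end Cfsg.Agent.Helper89.O9
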