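-- helper89: piece (O2) of board post #11709 (for helper5, S2549): the isometries of the binary form
-- `Nf` are the rotations and the rotations composed with the conjugation (pure field algebra).
import Mathlib
import Cfsg.Agent.Helper5.OmBN.Defs

set_option autoImplicit false

namespace Cfsg.Agent.Helper89.OmBN

open Matrix Cfsg.Agent.Helper5.OmBN

variable {F : Type*} [Field F] {α β : F}

/-- (O2) -/
theorem rot_or_rot_c0 (hdisc : 4 * β - α ^ 2 ≠ 0) (p q r s : F) (h1 : Nf α β p q = 1)
    (h2 : Nf α β r s = β) (h3 : Nb α β p q r s = α) :
    (r = -β * q ∧ s = p + α * q) ∨ (r = α * p + β * q ∧ s = -p) := by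
  unfold Nf at h1 h2
  unfold Nb at h3
  -- the rotated pair
  obtain ⟨r', hr'⟩ : ∃ r' : F, r' = (p + α * q) * r + β * q * s := ⟨_, rfl⟩
  obtain ⟨s', hs'⟩ : ∃ s' : F, s' = p * s - q * r := ⟨_, rfl⟩
  have hr : r = p * r' - β * q * s' := by
    rw [hr', hs']; linear_combination (-r) * h1
  have hs : s = q * r' + (p + α * q) * s' := by
    rw [hr', hs']; linear_combination (-s) * h1
  have E1 : r' ^ 2 + α * r' * s' + β * s' ^ 2 = β := by
    rw [hr', hs']
    linear_combination (r ^ 2 + α * r * s + β * s ^ 2) * h1 + h2
  have E2 : 2 * r' + α * s' = α := by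
    rw [hr', hs']; linear_combination h3
  have hss : (s' - 1) * (s' + 1) = 0 := by
    have : (4 * β - α ^ 2) * ((s' - 1) * (s' + 1)) = 0 := by
      linear_combination 4 * E1 - (2 * r' + α * s' + α) * E2
    rcases mul_eq_zero.1 this with h | h
    · exact absurd h hdisc
    · exact h
  have hrr : r' * (r' + α * s') = 0 := by
    linear_combination E1 - β * hss
  rcases mul_eq_zero.1 hss with hs1 | hs1
  · -- `s' = 1`
    have hs1' : s' = 1 := by linear_combination hs1
    rw [hs1'] at hrr E2 hr hs
    have h2r : 2 * r' = 0 := by linear_combination E2
    rcases mul_eq_zero.1 hrr with h0 | h0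
    · left
      rw [h0] at hr hs
      exact ⟨by linear_combination hr, by linear_combination hs⟩
    · have hra : r' = -α := by linear_combination h0
      have h2α : (2 : F) * α = 0 := by
        rw [hra] at h2r; linear_combination -h2r
      rcases mul_eq_zero.1 h2α with h2 | hα
      · right
        rw [hra] at hr hs
        refine ⟨?_, ?_⟩
        · linear_combination hr + (-α * p - β * q) * h2
        · linear_combination hs + p * h2
      · left
        rw [hra, hα] at hr hs
        rw [hα]
        exact ⟨by linear_combination hr, by linear_combination hs⟩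
  · -- `s' = -1`
    have hs1' : s' = -1 := by linear_combination hs1
    rw [hs1'] at hrr E2 hr hs
    have h2r : 2 * r' = 2 * α := by linear_combination E2
    rcases mul_eq_zero.1 hrr with h0 | h0
    · have h2α : (2 : F) * α = 0 := by
        rw [h0] at h2r; linear_combination -h2r
      rcases mul_eq_zero.1 h2α with h2 | hα
      · left
        rw [h0] at hr hs
        refine ⟨?_, ?_⟩
        · linear_combination hr + (β * q) * h2
        · linear_combination hs + (-(p + α * q)) * h2
      · right
        rw [h0] at hr hs
        rw [hα] at hs
        rw [hα]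
        exact ⟨by linear_combination hr, by linear_combination hs⟩
    · right
      have hra : r' = α := by linear_combination h0
      rw [hra] at hr hs
      exact ⟨by linear_combination hr, by linear_combination hs⟩

end Cfsg.Agent.Helper89.OmBN
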