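import Cfsg.Agent.Helper88.PSp4Hyp
import Cfsg.Agent.Helper37.SL2Sylow2

/-! (Qe1) of helper88's S5320 plan (#5347): a Sylow 2-subgroup of `SL₂(F)` of order `8` is
`{±1, ±x, ±y, ±xy}`. -/

set_option autoImplicit false

namespace Cfsg.Agent.Helper89.PSp4Qe1

open Matrix Equiv Cfsg.Agent.Helper42 Cfsg.Agent.Helper88.PSp4F QuaternionGroup

variable {F : Type*} [Field F]

theorem q8_cases : ∀ q : QuaternionGroup 2, q = 1 ∨ q = a 2 ∨ q = a 1 ∨ q = a 2 * a 1 ∨
    q = xa 0 ∨ q = a 2 * xa 0 ∨ q = a 1 * xa 0 ∨ q = a 2 * (a 1 * xa 0) := by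
  decide

theorem q8_rel : (a 1 : QuaternionGroup 2) * a 1 = a 2 ∧ (xa 0 : QuaternionGroup 2) * xa 0 = a 2 ∧
    (xa 0 : QuaternionGroup 2) * a 1 = a 2 * (a 1 * xa 0) ∧ (a 2 : QuaternionGroup 2) * a 2 = 1 ∧
    (a 2 : QuaternionGroup 2) ≠ 1 := by
  decide

theorem q8data_of_equiv (h2 : (2 : F) ≠ 0) (Q : Subgroup (SL2 F)) (e : ↥Q ≃* QuaternionGroup 2) :
    ∃ x y : SL2 F, Q8Data Q x y := by
  let φ : QuaternionGroup 2 → SL2 F := fun q => ((e.symm q : ↥Q) : SL2 F)
  have φmul : ∀ q r, φ (q * r) = φ q * φ r := by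
    intro q r
    simp only [φ, map_mul, Subgroup.coe_mul]
  have φone : φ 1 = 1 := by simp [φ]
  have φmem : ∀ q, φ q ∈ Q := fun q => (e.symm q).2
  have φinj : Function.Injective φ := by
    intro q r hqr
    exact e.symm.injective (Subtype.ext hqr)
  have φsurj : ∀ g ∈ Q, ∃ q, φ q = g := by
    intro g hg
    refine ⟨e ⟨g, hg⟩, ?_⟩
    simp [φ]
  obtain ⟨r1, r2, r3, r4, r5⟩ := q8_rel
  -- the central involution
  have hN : φ (a 2) = negOneSL F := by
    apply Cfsg.Agent.Helper37.SL2Q.eq_of_orderOf_two h2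
    · apply orderOf_eq_prime
      · rw [pow_two, ← φmul, r4, φone]
      · intro hc
        rw [← φone] at hc
        exact r5 (φinj hc)
    · apply orderOf_eq_prime
      · rw [pow_two]
        exact negOneSL_mul_self
      · exact negOneSL_ne_one h2
  refine ⟨φ (a 1), φ (xa 0), ⟨?_, ?_, ?_, ?_⟩⟩
  · rw [← φmul, r1, hN]
  · rw [← φmul, r2, hN]
  · rw [← φmul, r3, φmul, φmul, hN]
  · intro g
    constructor
    · intro hg
      obtain ⟨q, rfl⟩ := φsurj g hg
      rcases q8_cases q with rfl | rfl | rfl | rfl | rfl | rfl | rfl | rfl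
      · left; exact φone
      · right; left; exact hN
      · right; right; left; rfl
      · right; right; right; left; rw [φmul, hN]
      · right; right; right; right; left; rfl
      · right; right; right; right; right; left; rw [φmul, hN]
      · right; right; right; right; right; right; left; rw [φmul]
      · right; right; right; right; right; right; right; rw [φmul, φmul, hN]
    · rintro (rfl | rfl | rfl | rfl | rfl | rfl | rfl | rfl)
      · exact Q.one_mem
      · rw [← hN]; exact φmem _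
      · exact φmem _
      · rw [← hN, ← φmul]; exact φmem _
      · exact φmem _
      · rw [← hN, ← φmul]; exact φmem _
      · rw [← φmul]; exact φmem _
      · rw [← hN, ← φmul, ← φmul]; exact φmem _

/-- (Qe1) -/
theorem exists_q8Data [Fintype F] (hF : Odd (Fintype.card F)) (Q : Sylow 2 (SL2 F))
    (h8 : ¬ 16 ∣ Nat.card (Q : Subgroup (SL2 F))) :
    ∃ x y : SL2 F, Q8Data (Q : Subgroup (SL2 F)) x y := by
  have h2 : (2 : F) ≠ 0 := Cfsg.Agent.Helper37.two_ne_zero_of_odd_card hF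
  obtain ⟨k, hk1, ⟨e⟩⟩ := Cfsg.Agent.Helper37.SL2Q.sylow_two_quaternion hF Q
  have hk : k = 1 := by
    by_contra hne
    have hk2 : 2 ≤ k := by omega
    apply h8
    haveI : NeZero (2 ^ k) := ⟨by positivity⟩
    rw [Nat.card_congr e.toEquiv, Nat.card_eq_fintype_card, QuaternionGroup.card]
    obtain ⟨j, rfl⟩ := Nat.exists_eq_add_of_le hk2
    exact ⟨2 ^ j, by ring⟩
  subst hk
  exact q8data_of_equiv h2 _ e

end Cfsg.Agent.Helper89.PSp4Qe1
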