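import Cfsg.Agent.Helper88.PSp4Hyp
import Cfsg.Agent.Helper89.PSp4G4b

/-! (Qe2) of helper88's S5320 plan (#5347): the element `w = (1 + x + y + xy)/2` of `SL₂(F)`
normalizing `Q₈ = ⟨x, y⟩`. -/

set_option autoImplicit false

namespace Cfsg.Agent.Helper89.PSp4Qe2

open Matrix Equiv Cfsg.Agent.Helper42 Cfsg.Agent.Helper88.PSp4F

variable {F : Type*} [Field F]

/-- an element of `SL₂(F)` of square `-1` has trace zero (`2 ≠ 0`). -/
theorem trace_zero (h2 : (2 : F) ≠ 0) (A : SL2 F) (hA : A * A = negOneSL F) :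
    A.1 1 1 = - A.1 0 0 := by
  obtain ⟨hdet, e00, e01, e10, e11⟩ := Cfsg.Agent.Helper89.PSp4G4b.entries A hA
  by_contra hne
  have hs : A.1 0 0 + A.1 1 1 ≠ 0 := fun h => hne (by linear_combination h)
  have hb : A.1 0 1 = 0 := by
    have h3 : (A.1 0 0 + A.1 1 1) * A.1 0 1 = 0 := by linear_combination e01
    exact (mul_eq_zero.1 h3).resolve_left hs
  have h4 : (A.1 0 0 - A.1 1 1) * (A.1 0 0 + A.1 1 1) = 0 := by linear_combination e00 - e11
  have had : A.1 0 0 = A.1 1 1 := by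
    rcases mul_eq_zero.1 h4 with h | h
    · linear_combination h
    · exact absurd h hs
  apply h2
  rw [hb] at e00 hdet
  rw [← had] at hdet
  linear_combination e00 - hdet

theorem det_one_add (h2 : (2 : F) ≠ 0) (A : SL2 F) (hA : A * A = negOneSL F) :
    (1 + A.1).det = 2 := by
  have hd := trace_zero h2 A hA
  have hdet : A.1 0 0 * A.1 1 1 - A.1 0 1 * A.1 1 0 = 1 := by
    have := A.2
    rw [Matrix.det_fin_two] at this
    exact this
  rw [Matrix.det_fin_two]
  simp only [Matrix.add_apply, Matrix.one_apply_eq, Matrix.one_apply_ne, ne_eq, zero_ne_one,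
    one_ne_zero, not_false_eq_true, zero_add]
  rw [hd] at hdet ⊢
  linear_combination hdet

/-- ring identities in the quaternion relations -/
theorem ring_id1 {R : Type*} [Ring R] (X Y : R) (hX : X * X = -1) (hY : Y * Y = -1)
    (hYX : Y * X = -(X * Y)) : (1 + X) * (1 + Y) * X = Y * ((1 + X) * (1 + Y)) := by
  have hX' : ∀ Z : R, X * (X * Z) = -Z := fun Z => by rw [← mul_assoc, hX]; simp
  have hY' : ∀ Z : R, Y * (Y * Z) = -Z := fun Z => by rw [← mul_assoc, hY]; simp
  have hYX' : ∀ Z : R, Y * (X * Z) = -(X * (Y * Z)) := fun Z => by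
    rw [← mul_assoc, hYX]; simp [mul_assoc]
  simp only [mul_add, add_mul, mul_one, one_mul, mul_assoc, hX, hY, hYX, hX', hY', hYX',
    mul_neg, neg_mul, neg_neg]
  abel

theorem ring_id2 {R : Type*} [Ring R] (X Y : R) (hX : X * X = -1) (hY : Y * Y = -1)
    (hYX : Y * X = -(X * Y)) : (1 + X) * (1 + Y) * Y = X * Y * ((1 + X) * (1 + Y)) := by
  have hX' : ∀ Z : R, X * (X * Z) = -Z := fun Z => by rw [← mul_assoc, hX]; simp
  have hY' : ∀ Z : R, Y * (Y * Z) = -Z := fun Z => by rw [← mul_assoc, hY]; simp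
  have hYX' : ∀ Z : R, Y * (X * Z) = -(X * (Y * Z)) := fun Z => by
    rw [← mul_assoc, hYX]; simp [mul_assoc]
  simp only [mul_add, add_mul, mul_one, one_mul, mul_assoc, hX, hY, hYX, hX', hY', hYX',
    mul_neg, neg_mul, neg_neg]
  abel

theorem negOneSL_val : (negOneSL F).1 = -1 := by
  show Matrix.scalar (Fin 2) (-1 : F) = -1
  ext i j
  fin_cases i <;> fin_cases j <;> simp

theorem negOneSL_comm (g : SL2 F) : g * negOneSL F = negOneSL F * g :=
  (Subgroup.mem_center_iff.mp negOneSL_mem_center) g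

/-- (Qe2) -/
theorem exists_omData (h2 : (2 : F) ≠ 0) {Q : Subgroup (SL2 F)} {x y : SL2 F} (h : Q8Data Q x y) :
    ∃ w : SL2 F, OmData x y w ∧ w ∈ Subgroup.normalizer (Q : Set (SL2 F)) := by
  have hX : x.1 * x.1 = -1 := by
    have := congrArg Subtype.val h.hx
    rw [negOneSL_val] at this
    exact this
  have hY : y.1 * y.1 = -1 := by
    have := congrArg Subtype.val h.hy
    rw [negOneSL_val] at this
    exact this
  have hYX : y.1 * x.1 = -(x.1 * y.1) := by
    have := congrArg Subtype.val h.hxy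
    rw [Matrix.SpecialLinearGroup.coe_mul, Matrix.SpecialLinearGroup.coe_mul,
      Matrix.SpecialLinearGroup.coe_mul, negOneSL_val] at this
    rw [this]
    simp
  have hdet : ((2 : F)⁻¹ • ((1 + x.1) * (1 + y.1))).det = 1 := by
    rw [Matrix.det_smul, Matrix.det_mul, det_one_add h2 x h.hx, det_one_add h2 y h.hy,
      Fintype.card_fin]
    field_simp
  let w : SL2 F := ⟨(2 : F)⁻¹ • ((1 + x.1) * (1 + y.1)), hdet⟩
  have hwx : w * x = y * w := by
    apply Subtype.ext
    show ((2 : F)⁻¹ • ((1 + x.1) * (1 + y.1))) * x.1 = y.1 * ((2 : F)⁻¹ • ((1 + x.1) * (1 + y.1)))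
    rw [Matrix.smul_mul, Matrix.mul_smul, ring_id1 x.1 y.1 hX hY hYX]
  have hwy : w * y = x * y * w := by
    apply Subtype.ext
    show ((2 : F)⁻¹ • ((1 + x.1) * (1 + y.1))) * y.1 =
      x.1 * y.1 * ((2 : F)⁻¹ • ((1 + x.1) * (1 + y.1)))
    rw [Matrix.smul_mul, Matrix.mul_smul, ring_id2 x.1 y.1 hX hY hYX]
  have c1 : w * x * w⁻¹ = y := by rw [hwx]; group
  have c2 : w * y * w⁻¹ = x * y := by rw [hwy]; group
  set N := negOneSL F with hNdef
  have hNN : N * N = 1 := negOneSL_mul_self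
  have hNc : ∀ g : SL2 F, g * N = N * g := negOneSL_comm
  have c3 : w * (x * y) * w⁻¹ = x := by
    have : w * (x * y) * w⁻¹ = (w * x * w⁻¹) * (w * y * w⁻¹) := by group
    rw [this, c1, c2, ← mul_assoc, h.hxy, mul_assoc, mul_assoc, h.hy, ← hNc, mul_assoc, hNN,
      mul_one]
  have cN : ∀ g : SL2 F, w * (N * g) * w⁻¹ = N * (w * g * w⁻¹) := by
    intro g
    rw [← mul_assoc, hNc w]
    group
  have d1 : w⁻¹ * y * w = x := by rw [← c1]; group
  have d2 : w⁻¹ * (x * y) * w = y := by rw [← c2]; group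
  have d3 : w⁻¹ * x * w = x * y := by
    nth_rewrite 1 [← c3]
    group
  have dN : ∀ g : SL2 F, w⁻¹ * (N * g) * w = N * (w⁻¹ * g * w) := by
    intro g
    rw [← mul_assoc, hNc w⁻¹]
    group
  have conj_mem : ∀ g ∈ Q, w * g * w⁻¹ ∈ Q := by
    intro g hg
    rcases (h.mem g).1 hg with rfl | rfl | rfl | rfl | rfl | rfl | rfl | rfl
    · rw [mul_one, mul_inv_cancel]; exact Q.one_mem
    · have : w * N * w⁻¹ = N := by rw [hNc w]; group
      rw [this]; exact hg
    · rw [c1]; exact (h.mem _).2 (by tauto)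
    · rw [cN, c1]; exact (h.mem _).2 (by tauto)
    · rw [c2]; exact (h.mem _).2 (by tauto)
    · rw [cN, c2]; exact (h.mem _).2 (by tauto)
    · rw [c3]; exact (h.mem _).2 (by tauto)
    · rw [cN, c3]; exact (h.mem _).2 (by tauto)
  have conj_mem' : ∀ g ∈ Q, w⁻¹ * g * w ∈ Q := by
    intro g hg
    rcases (h.mem g).1 hg with rfl | rfl | rfl | rfl | rfl | rfl | rfl | rfl
    · rw [mul_one, inv_mul_cancel]; exact Q.one_mem
    · have : w⁻¹ * N * w = N := by rw [hNc w⁻¹]; group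
      rw [this]; exact hg
    · rw [d3]; exact (h.mem _).2 (by tauto)
    · rw [dN, d3]; exact (h.mem _).2 (by tauto)
    · rw [d1]; exact (h.mem _).2 (by tauto)
    · rw [dN, d1]; exact (h.mem _).2 (by tauto)
    · rw [d2]; exact (h.mem _).2 (by tauto)
    · rw [dN, d2]; exact (h.mem _).2 (by tauto)
  refine ⟨w, ⟨rfl, c1, c2⟩, ?_⟩
  rw [Subgroup.mem_normalizer_iff]
  intro g
  constructor
  · exact conj_mem g
  · intro hg
    have := conj_mem' _ hg
    have h3 : w⁻¹ * (w * g * w⁻¹) * w = g := by group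
    rwa [h3] at this

end Cfsg.Agent.Helper89.PSp4Qe2
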