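import Mathlib
import Cfsg.Prelude.Def_FischerSpaces
import Cfsg.Agent.Helper89.Kei
import Cfsg.Agent.S5344

/-!
# 3-transposition groups whose commuting graph is a perfect matching (helper89)

If every member `x` of a conjugation-invariant generating set `D` of 3-transpositions commutes with
exactly one other member `x'`, and `x'` commutes with exactly `x`, then `G ≅ Sym(4)`.
-/

set_option autoImplicit false

namespace Cfsg.Agent.Helper89.PairS4

open Cfsg Equiv Cfsg.Agent.Helper89

variable {G : Type*} [Group G] {D : Set G}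

/-- `x'` is the unique commuting partner of `x` and conversely. -/
def Partner (D : Set G) (x x' : G) : Prop :=
  x ∈ D ∧ x' ∈ D ∧ x ≠ x' ∧ Commute x x' ∧ (∀ e ∈ D, Commute x e → e = x ∨ e = x') ∧
    (∀ e ∈ D, Commute x' e → e = x ∨ e = x')

theorem s4_rel1 : (swap 0 1 * swap 2 3 : Perm (Fin 4)) * (swap 1 2 * swap 0 3) * (swap 0 2 * swap 1 3) = 1 := by
  decide

theorem s4_rel2 : (swap 1 2 : Perm (Fin 4)) * (swap 0 1 * swap 2 3) * (swap 1 2)⁻¹ =
    (swap 0 1 * swap 2 3) * (swap 1 2 * swap 0 3) := by decide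

theorem s4_rel3 : (swap 0 1 * swap 2 3 : Perm (Fin 4)) * (swap 1 2 * swap 0 3) =
    (swap 1 2 * swap 0 3) * (swap 0 1 * swap 2 3) := by decide

theorem s4_disjoint : ∀ i j : Fin 4, i ≠ j → ∃ k l : Fin 4, k ≠ l ∧
    (swap k l : Perm (Fin 4)) ≠ swap i j ∧
    (swap i j : Perm (Fin 4)) * swap k l = swap k l * swap i j := by decide

theorem main (hD : IsThreeTranspositionSet D) (hconj : ∀ g : G, ∀ d ∈ D, g * d * g⁻¹ ∈ D)
    (hgen : Subgroup.closure D = ⊤) (hpart : ∀ x ∈ D, ∃ x', Partner D x x')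
    {d d' e : G} (hdd' : Partner D d d') (he : e ∈ D) (hde : ¬ Commute d e) :
    Nonempty (G ≃* Perm (Fin 4)) := by
  have hed' : ¬ Commute e d' := by
    intro c
    rcases hdd'.2.2.2.2.2 e he c.symm with h | h
    · exact hde (h ▸ Commute.refl d)
    · exact hde (h ▸ hdd'.2.2.2.1)
  obtain ⟨φ, hinj, h0, h1, h2⟩ :=
    Cfsg.Agent.S5344.result hD hdd'.1 he hdd'.2.1 hdd'.2.2.1 hdd'.2.2.2.1 hde hed'
  -- images of transpositions under an embedding of Sym(4) sending (0 1) into D
  have hswap : ∀ (ψ : Perm (Fin 4) →* G), ψ (swap 0 1) ∈ D → ∀ i j : Fin 4, i ≠ j →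
      ψ (swap i j) ∈ D := by
    intro ψ h01 i j hij
    obtain ⟨g, hg⟩ := isConj_iff.1 (Equiv.Perm.isConj_swap (show (0 : Fin 4) ≠ 1 by decide) hij)
    rw [← hg, map_mul, map_mul, map_inv]
    exact hconj _ _ h01
  have hsw := hswap φ (h0 ▸ hdd'.1)
  -- members commuting with a transposition image
  have hcomm : ∀ i j : Fin 4, i ≠ j → ∀ g ∈ D, Commute (φ (swap i j)) g →
      ∃ k l : Fin 4, k ≠ l ∧ g = φ (swap k l) := by
    intro i j hij g hg hc
    obtain ⟨k, l, hkl, hne, hcm⟩ := s4_disjoint i j hij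
    obtain ⟨x', hx'⟩ := hpart _ (hsw i j hij)
    have hc2 : Commute (φ (swap i j)) (φ (swap k l)) := by
      show φ _ * φ _ = φ _ * φ _
      rw [← map_mul, ← map_mul, hcm]
    have e1 : φ (swap k l) = x' := by
      rcases hx'.2.2.2.2.1 _ (hsw k l hkl) hc2 with h | h
      · exact absurd (hinj h) hne
      · exact h
    rcases hx'.2.2.2.2.1 g hg hc with h | h
    · exact ⟨i, j, hij, h⟩
    · exact ⟨k, l, hkl, by rw [h, e1]⟩
  -- every member of D is a transposition image
  have hDX : ∀ g ∈ D, ∃ k l : Fin 4, k ≠ l ∧ g = φ (swap k l) := by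
    intro g hg
    by_contra hgX
    have hnc : ∀ i j : Fin 4, i ≠ j → ¬ Commute (φ (swap i j)) g :=
      fun i j hij hc => hgX (hcomm i j hij g hg hc)
    obtain ⟨g', hg'⟩ := hpart g hg
    have hgg := sq_of_mem hD hg
    have hg'g' := sq_of_mem hD hg'.2.1
    have hginv : g⁻¹ = g := inv_eq_of_mul_eq_one_left hgg
    -- the key relation for a pair of disjoint transposition images
    have key : ∀ i j k l : Fin 4, i ≠ j → k ≠ l → (swap i j : Perm (Fin 4)) ≠ swap k l →
        (swap i j : Perm (Fin 4)) * swap k l = swap k l * swap i j →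
        g * (φ (swap i j) * φ (swap k l)) * g⁻¹ = (φ (swap i j) * φ (swap k l)) * (g * g') ∧
        Commute (φ (swap i j) * φ (swap k l)) (g * g') := by
      intro i j k l hij hkl hne hcm
      have hx := hsw i j hij
      have hx' := hsw k l hkl
      have hxx' : φ (swap i j) ≠ φ (swap k l) := fun h => hne (hinj h)
      have hc : Commute (φ (swap i j)) (φ (swap k l)) := by
        show φ _ * φ _ = φ _ * φ _
        rw [← map_mul, ← map_mul, hcm]
      obtain ⟨ψ, ψinj, p0, p1, p2⟩ := Cfsg.Agent.S5344.result hD hx hg hx' hxx' hc (hnc i j hij)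
        (fun c => hnc k l hkl c.symm)
      have hψsw := hswap ψ (p0 ▸ hx)
      have e03 : ψ (swap 0 3) = g' := by
        have hc3 : Commute g (ψ (swap 0 3)) := by
          rw [← p1]
          show ψ _ * ψ _ = ψ _ * ψ _
          rw [← map_mul, ← map_mul]
          congr 1
          decide
        rcases hg'.2.2.2.2.1 _ (hψsw 0 3 (by decide)) hc3 with h | h
        · rw [← p1] at h
          exact absurd (ψinj h) (by decide)
        · exact h
      constructor
      · rw [← p0, ← p2, ← e03, ← p1]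
        simp only [← map_mul, ← map_inv]
        rw [s4_rel2]
      · rw [← p0, ← p2, ← e03, ← p1]
        show _ * _ = _ * _
        simp only [← map_mul]
        rw [s4_rel3]
    obtain ⟨k1, c1⟩ := key 0 1 2 3 (by decide) (by decide) (by decide) (by decide)
    obtain ⟨k2, c2⟩ := key 1 2 0 3 (by decide) (by decide) (by decide) (by decide)
    obtain ⟨k3, c3⟩ := key 0 2 1 3 (by decide) (by decide) (by decide) (by decide)
    have hrel : (φ (swap 0 1) * φ (swap 2 3)) * (φ (swap 1 2) * φ (swap 0 3)) *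
        (φ (swap 0 2) * φ (swap 1 3)) = 1 := by
      rw [← map_mul, ← map_mul, ← map_mul, ← map_mul, ← map_mul, s4_rel1, map_one]
    have htg : (g * g') * (g * g') = 1 := by
      rw [hg'.2.2.2.1.symm.mul_mul_mul_comm, hgg, hg'g', one_mul]
    have h5 : g * ((φ (swap 0 1) * φ (swap 2 3)) * (φ (swap 1 2) * φ (swap 0 3)) *
        (φ (swap 0 2) * φ (swap 1 3))) * g⁻¹ = g * g' := by
      have : g * ((φ (swap 0 1) * φ (swap 2 3)) * (φ (swap 1 2) * φ (swap 0 3)) *
          (φ (swap 0 2) * φ (swap 1 3))) * g⁻¹ =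
          (g * (φ (swap 0 1) * φ (swap 2 3)) * g⁻¹) * (g * (φ (swap 1 2) * φ (swap 0 3)) * g⁻¹) *
          (g * (φ (swap 0 2) * φ (swap 1 3)) * g⁻¹) := by group
      rw [this, k1, k2, k3]
      -- (t1 tg)(t2 tg)(t3 tg) = t1 t2 t3 tg
      calc (φ (swap 0 1) * φ (swap 2 3)) * (g * g') * ((φ (swap 1 2) * φ (swap 0 3)) * (g * g')) *
            ((φ (swap 0 2) * φ (swap 1 3)) * (g * g'))
          = (φ (swap 0 1) * φ (swap 2 3)) * ((g * g') * (φ (swap 1 2) * φ (swap 0 3))) *
            ((g * g') * (φ (swap 0 2) * φ (swap 1 3))) * (g * g') := by simp only [mul_assoc]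
        _ = (φ (swap 0 1) * φ (swap 2 3)) * ((φ (swap 1 2) * φ (swap 0 3)) * (g * g')) *
            ((φ (swap 0 2) * φ (swap 1 3)) * (g * g')) * (g * g') := by rw [c2.eq, c3.eq]
        _ = (φ (swap 0 1) * φ (swap 2 3)) * (φ (swap 1 2) * φ (swap 0 3)) *
            ((g * g') * (φ (swap 0 2) * φ (swap 1 3))) * ((g * g') * (g * g')) := by
              simp only [mul_assoc]
        _ = (φ (swap 0 1) * φ (swap 2 3)) * (φ (swap 1 2) * φ (swap 0 3)) *
            ((φ (swap 0 2) * φ (swap 1 3)) * (g * g')) * ((g * g') * (g * g')) := by rw [c3.eq]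
        _ = ((φ (swap 0 1) * φ (swap 2 3)) * (φ (swap 1 2) * φ (swap 0 3)) *
            (φ (swap 0 2) * φ (swap 1 3))) * (g * g') * ((g * g') * (g * g')) := by
              simp only [mul_assoc]
        _ = g * g' := by rw [hrel, htg, one_mul, mul_one]
    rw [hrel, mul_one, mul_inv_cancel] at h5
    apply hg'.2.2.1
    have : g = g'⁻¹ := eq_inv_of_mul_eq_one_left h5.symm
    rw [this, inv_eq_of_mul_eq_one_left hg'g']
  -- surjectivity
  have hsurj : Function.Surjective φ := by
    rw [← MonoidHom.range_eq_top, eq_top_iff, ← hgen, Subgroup.closure_le]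
    intro g hg
    obtain ⟨k, l, -, rfl⟩ := hDX g hg
    exact ⟨_, rfl⟩
  exact ⟨(MulEquiv.ofBijective φ ⟨hinj, hsurj⟩).symm⟩

end Cfsg.Agent.Helper89.PairS4
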