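import Mathlib
import Cfsg.Agent.Helper9.PsuA.Defs
import Cfsg.Agent.Helper43.PsuM.RDefs
import Cfsg.Agent.Helper96.StLift.Basic
import Cfsg.Agent.Helper84.RU3.Defs
import Cfsg.Agent.Helper86.RU3TR
import Cfsg.Agent.Helper13.U3O_HC
import Cfsg.Agent.Helper53.U3O_FAC

/-!
# S2089 block A-p (helper9's farm), leaf (S1) `lc_u_z` — helper89
-/

set_option autoImplicit false
set_option linter.unusedSectionVars false
set_option linter.unusedVariables false

namespace Cfsg.Agent.Helper89.PsuA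

open scoped commutatorElement
open Cfsg.Agent.Helper46.U3O Cfsg.Agent.Helper84.RU3 Cfsg.Agent.Helper9.PsuA Cfsg.Agent.Helper96.StLift

universe u

section abstract

variable {K : Type*} [Field K] (bar : K →+* K) [BarInv K bar] {G : Type*} [Group G] {Γ : Type*} [Group Γ]
  (d : Datum bar G) (τ : Γ →* G) (hτ : Function.Surjective τ) (hc : τ.ker ≤ Subgroup.center Γ)

omit [Group Γ] in
/-- central elements of `HeisO bar` commute with everything, also after applying `d.u` -/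
theorem S1_commute (x z : HeisO bar) (hz : z.a = 0) : Commute (d.u x) (d.u z) := by
  have h1 : x * z = z * x := by
    rw [HeisO.comm_iff, hz, map_zero, mul_zero, zero_mul]
  show d.u x * d.u z = d.u z * d.u x
  rw [← map_mul, ← map_mul, h1]

include hc in
/-- (S1) lifts of `U` commute with lifts of `Z`. -/
theorem lc_u_z (hf1 : ∃ l : Kˣ, nu bar l = 1 ∧ mu bar l ≠ 1) (hf2 : ∀ a : K, ∃ x : HeisO bar, x.a = a)
    (hf3 : ∀ z : HeisO bar, z.a = 0 → ∃ x y : HeisO bar, z = ⁅x, y⁆)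
    (x z : HeisO bar) (hz : z.a = 0) : lc hτ (d.u x) (d.u z) = 1 := by
  -- (a)
  have ha : ∀ x x' z : HeisO bar, z.a = 0 →
      lc hτ (d.u (x * x')) (d.u z) = lc hτ (d.u x') (d.u z) * lc hτ (d.u x) (d.u z) := by
    intro x x' z hz
    rw [map_mul]
    exact lc_mul_left_of_commute hτ hc (S1_commute bar d x' z hz)
  -- (d)
  have hd : ∀ z' z : HeisO bar, z'.a = 0 → z.a = 0 → lc hτ (d.u z') (d.u z) = 1 := by
    intro z' z hz' hz
    obtain ⟨x₁, x₂, rfl⟩ := hf3 z hz
    rw [map_commutatorElement]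
    exact lc_spare hτ hc (S1_commute bar d x₁ z' hz').symm (S1_commute bar d x₂ z' hz').symm
  -- (b)
  obtain ⟨l, hnu, hmu⟩ := hf1
  obtain ⟨g, hg⟩ := hτ (d.t l)
  have hb1 : ∀ x z : HeisO bar, z.a = 0 →
      lc hτ (d.u (actH bar l x)) (d.u z) = lc hτ (d.u x) (d.u z) := by
    intro x z hz
    have h1 := lc_conj hτ hc g (d.u x) (d.u z)
    rw [hg, d.conj, d.conj] at h1
    have hzz : actH bar l z = z := by
      apply HeisO.ext
      · rw [actH_a, hz, mul_zero]
      · rw [actH_b, hnu, one_mul]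
    rw [hzz] at h1
    have hcen := lc_mem_center hτ hc (S1_commute bar d x z hz)
    rw [Subgroup.mem_center_iff] at hcen
    rw [← h1, hcen g, mul_inv_cancel_right]
  have hb : ∀ x z : HeisO bar, z.a = 0 →
      lc hτ (d.u (actH bar l x * x⁻¹)) (d.u z) = 1 := by
    intro x z hz
    rw [ha _ _ z hz, hb1 x z hz, ← ha x x⁻¹ z hz, mul_inv_cancel, map_one]
    exact lc_one_left hτ hc _
  -- (c)
  have hmu' : mu bar l - 1 ≠ 0 := sub_ne_zero.mpr hmu
  obtain ⟨x₀, hx₀⟩ := hf2 (x.a / (mu bar l - 1))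
  have hwa : (actH bar l x₀ * x₀⁻¹).a = x.a := by
    rw [HeisO.mul_a, actH_a, HeisO.inv_a, hx₀]
    field_simp
    ring
  have hz'a : ((actH bar l x₀ * x₀⁻¹)⁻¹ * x).a = 0 := by
    rw [HeisO.mul_a, HeisO.inv_a, hwa]
    ring
  have hx : x = (actH bar l x₀ * x₀⁻¹) * ((actH bar l x₀ * x₀⁻¹)⁻¹ * x) := by group
  rw [hx, ha _ _ z hz, hb x₀ z hz, hd _ z hz'a hz, one_mul]

end abstract

end Cfsg.Agent.Helper89.PsuA
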