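import Mathlib
import Cfsg.Agent.Helper9.PsuA.Defs
import Cfsg.Agent.Helper43.PsuM.RDefs
import Cfsg.Agent.Helper96.StLift.Basic
import Cfsg.Agent.Helper84.RU3.Defs
import Cfsg.Agent.Helper86.RU3TR
import Cfsg.Agent.Helper13.U3O_HC
import Cfsg.Agent.Helper53.U3O_FAC

/-!
# S2089 block A-p (helper9's farm), leaf (S4) `comm_le` — helper89
-/

set_option autoImplicit false
set_option linter.unusedSectionVars false
set_option linter.unusedVariables false

namespace Cfsg.Agent.Helper89.PsuA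

open scoped commutatorElement
open Cfsg.Agent.Helper46.U3O Cfsg.Agent.Helper84.RU3 Cfsg.Agent.Helper9.PsuA Cfsg.Agent.Helper96.StLift

universe u

section abstract

variable {K : Type*} [Field K] (bar : K →+* K) [BarInv K bar] {G : Type*} [Group G] {Γ : Type*} [Group Γ]
  (d : Datum bar G) (τ : Γ →* G) (hτ : Function.Surjective τ) (hc : τ.ker ≤ Subgroup.center Γ)

omit [Group Γ] in
/-- `d.u z` lies in the image of the centre when `z.a = 0` -/
theorem S4_mem_Z (z : HeisO bar) (hz : z.a = 0) : d.u z ∈ (ZH bar).map d.u :=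
  ⟨z, hz, rfl⟩

/-- the `a`-coordinate of a commutator vanishes -/
theorem S4_comm_a (x y : HeisO bar) : (⁅x, y⁆ : HeisO bar).a = 0 := by
  rw [commutatorElement_def]
  simp only [HeisO.mul_a, HeisO.inv_a]
  ring

include hτ hc in
/-- (S4) `[Û, Û] ≤ Z̃ := [Ẑ, T̂]`, given that `Û` centralises `Ẑ` (hS2, from (S1)). -/
theorem comm_le (hS2 : ∀ g₁ g₂ : Γ, τ g₁ ∈ d.u.range → τ g₂ ∈ (ZH bar).map d.u → Commute g₁ g₂)
    (hf2 : ∀ a : K, ∃ x : HeisO bar, x.a = a)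
    (hf6 : ∃ l₁ l₂ : Kˣ, mu bar l₂ = 1 + mu bar l₁ ∧ mu bar l₁ ^ 2 + mu bar l₁ + 1 ≠ 0)
    (hkap : ∀ (C N : Subgroup Γ), (∀ x ∈ C, ∀ y ∈ C, x * y = y * x) → N ≤ C → ∀ ℓ : K → K → Γ, (∀ a b, ℓ a b ∈ C) →
      (∀ a a' b, ℓ (a + a') b = ℓ a b * ℓ a' b) → (∀ a b b', ℓ a (b + b') = ℓ a b * ℓ a b') →
      ∀ s₁ s₂ : K, s₂ = 1 + s₁ → s₁ ^ 2 + s₁ + 1 ≠ 0 →
      (∀ a b, ℓ (s₁ * a) (s₁ * b) * (ℓ a b)⁻¹ ∈ N) → (∀ a b, ℓ (s₂ * a) (s₂ * b) * (ℓ a b)⁻¹ ∈ N) →
      ∀ a b, ℓ a b ∈ N) :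
    ⁅d.u.range.comap τ, d.u.range.comap τ⁆ ≤ ⁅((ZH bar).map d.u).comap τ, d.t.range.comap τ⁆ := by
  -- `Z ≤ U` downstairs
  have hZU : (ZH bar).map d.u ≤ d.u.range := by
    rintro _ ⟨z, -, rfl⟩
    exact ⟨z, rfl⟩
  -- (1) values of `c` lie in `Zh`
  have hcZ : ∀ x y : HeisO bar, lc hτ (d.u x) (d.u y) ∈ ((ZH bar).map d.u).comap τ := by
    intro x y
    rw [Subgroup.mem_comap, map_lc, ← map_commutatorElement]
    exact S4_mem_Z bar d _ (S4_comm_a bar x y)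
  -- (2) `Zh` is commutative
  have hZcomm : ∀ w₁ ∈ ((ZH bar).map d.u).comap τ, ∀ w₂ ∈ ((ZH bar).map d.u).comap τ,
      w₁ * w₂ = w₂ * w₁ := by
    intro w₁ h₁ w₂ h₂
    exact (hS2 w₁ w₂ (hZU (Subgroup.mem_comap.mp h₁)) (Subgroup.mem_comap.mp h₂)).eq
  -- (5) central arguments give trivial `c`
  have hc_z_left : ∀ z y : HeisO bar, z.a = 0 → lc hτ (d.u z) (d.u y) = 1 := by
    intro z y hz
    obtain ⟨gz, hgz⟩ := hτ (d.u z)
    obtain ⟨gy, hgy⟩ := hτ (d.u y)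
    rw [← lc_eq' hτ hc hgz hgy, commutatorElement_eq_one_iff_commute]
    exact (hS2 gy gz (by rw [hgy]; exact ⟨y, rfl⟩) (by rw [hgz]; exact S4_mem_Z bar d z hz)).symm
  have hc_z_right : ∀ x z : HeisO bar, z.a = 0 → lc hτ (d.u x) (d.u z) = 1 := by
    intro x z hz
    obtain ⟨gz, hgz⟩ := hτ (d.u z)
    obtain ⟨gx, hgx⟩ := hτ (d.u x)
    rw [← lc_eq' hτ hc hgx hgz, commutatorElement_eq_one_iff_commute]
    exact hS2 gx gz (by rw [hgx]; exact ⟨x, rfl⟩) (by rw [hgz]; exact S4_mem_Z bar d z hz)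
  -- (4) bimultiplicativity
  have hmul_left : ∀ x x' y : HeisO bar, lc hτ (d.u (x * x')) (d.u y) =
      lc hτ (d.u x) (d.u y) * lc hτ (d.u x') (d.u y) := by
    intro x x' y
    obtain ⟨gx, hgx⟩ := hτ (d.u x)
    rw [map_mul, ← hgx, lc_mul_left hτ hc, hgx]
    have h1 : Commute gx (lc hτ (d.u x') (d.u y)) :=
      hS2 gx _ (by rw [hgx]; exact ⟨x, rfl⟩) (Subgroup.mem_comap.mp (hcZ x' y))
    rw [h1.eq, mul_inv_cancel_right]
    exact hZcomm _ (hcZ x' y) _ (hcZ x y)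
  have hmul_right : ∀ x y y' : HeisO bar, lc hτ (d.u x) (d.u (y * y')) =
      lc hτ (d.u x) (d.u y) * lc hτ (d.u x) (d.u y') := by
    intro x y y'
    obtain ⟨gy, hgy⟩ := hτ (d.u y)
    rw [map_mul, ← hgy, lc_mul_right hτ hc, hgy]
    have h1 : Commute gy (lc hτ (d.u x) (d.u y')) :=
      hS2 gy _ (by rw [hgy]; exact ⟨y, rfl⟩) (Subgroup.mem_comap.mp (hcZ x y'))
    rw [h1.eq, mul_inv_cancel_right]
  -- (6) `c x y` only depends on `x.a`, `y.a`
  have hdep_left : ∀ x x' y : HeisO bar, x.a = x'.a →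
      lc hτ (d.u x) (d.u y) = lc hτ (d.u x') (d.u y) := by
    intro x x' y hxx
    have h1 : x' = x * (x⁻¹ * x') := by group
    have h2 : (x⁻¹ * x').a = 0 := by
      rw [HeisO.mul_a, HeisO.inv_a, hxx]
      ring
    rw [h1, hmul_left, hc_z_left _ y h2, mul_one]
  have hdep_right : ∀ x y y' : HeisO bar, y.a = y'.a →
      lc hτ (d.u x) (d.u y) = lc hτ (d.u x) (d.u y') := by
    intro x y y' hyy
    have h1 : y' = y * (y⁻¹ * y') := by group
    have h2 : (y⁻¹ * y').a = 0 := by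
      rw [HeisO.mul_a, HeisO.inv_a, hyy]
      ring
    rw [h1, hmul_right, hc_z_right x _ h2, mul_one]
  -- (7) the biadditive map
  have hXa : ∀ a : K, (Classical.choose (hf2 a)).a = a := fun a => Classical.choose_spec (hf2 a)
  have hcℓ : ∀ x y : HeisO bar, lc hτ (d.u x) (d.u y) =
      lc hτ (d.u (Classical.choose (hf2 x.a))) (d.u (Classical.choose (hf2 y.a))) := by
    intro x y
    rw [hdep_left x (Classical.choose (hf2 x.a)) y (hXa x.a).symm,
      hdep_right _ y (Classical.choose (hf2 y.a)) (hXa y.a).symm]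
  have hl : ∀ a a' b : K,
      lc hτ (d.u (Classical.choose (hf2 (a + a')))) (d.u (Classical.choose (hf2 b))) =
      lc hτ (d.u (Classical.choose (hf2 a))) (d.u (Classical.choose (hf2 b))) *
      lc hτ (d.u (Classical.choose (hf2 a'))) (d.u (Classical.choose (hf2 b))) := by
    intro a a' b
    rw [← hmul_left]
    apply hdep_left
    rw [HeisO.mul_a, hXa, hXa, hXa]
  have hr : ∀ a b b' : K,
      lc hτ (d.u (Classical.choose (hf2 a))) (d.u (Classical.choose (hf2 (b + b')))) =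
      lc hτ (d.u (Classical.choose (hf2 a))) (d.u (Classical.choose (hf2 b))) *
      lc hτ (d.u (Classical.choose (hf2 a))) (d.u (Classical.choose (hf2 b'))) := by
    intro a b b'
    rw [← hmul_right]
    apply hdep_right
    rw [HeisO.mul_a, hXa, hXa, hXa]
  -- (9) `Zt ≤ Zh`
  have hZtZh : ⁅((ZH bar).map d.u).comap τ, d.t.range.comap τ⁆ ≤ ((ZH bar).map d.u).comap τ := by
    rw [Subgroup.commutator_le]
    intro w hw g hg
    rw [Subgroup.mem_comap] at hw hg ⊢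
    obtain ⟨z, hz, hzw⟩ := hw
    obtain ⟨l, hl⟩ := hg
    rw [commutatorElement_def, map_mul, map_mul, map_mul, map_inv, map_inv, ← hzw, ← hl]
    have h1 : d.u z * d.t l * (d.u z)⁻¹ * (d.t l)⁻¹ = d.u z * (d.t l * d.u z⁻¹ * (d.t l)⁻¹) := by
      rw [map_inv]
      group
    rw [h1, d.conj, ← map_mul]
    refine ⟨_, ?_, rfl⟩
    show (z * actH bar l z⁻¹).a = 0
    have hz' : z.a = 0 := hz
    rw [HeisO.mul_a, actH_a, HeisO.inv_a, hz']
    ring
  -- (8) the torus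
  have htor : ∀ (l : Kˣ) (a b : K),
      lc hτ (d.u (Classical.choose (hf2 (mu bar l * a)))) (d.u (Classical.choose (hf2 (mu bar l * b)))) *
      (lc hτ (d.u (Classical.choose (hf2 a))) (d.u (Classical.choose (hf2 b))))⁻¹ ∈
      ⁅((ZH bar).map d.u).comap τ, d.t.range.comap τ⁆ := by
    intro l a b
    obtain ⟨g, hg⟩ := hτ (d.t l)
    have h1 := lc_conj hτ hc g (d.u (Classical.choose (hf2 a))) (d.u (Classical.choose (hf2 b)))
    rw [hg, d.conj, d.conj] at h1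
    have h2 : lc hτ (d.u (actH bar l (Classical.choose (hf2 a))))
        (d.u (actH bar l (Classical.choose (hf2 b)))) =
        lc hτ (d.u (Classical.choose (hf2 (mu bar l * a)))) (d.u (Classical.choose (hf2 (mu bar l * b)))) := by
      rw [hdep_left _ (Classical.choose (hf2 (mu bar l * a))) _ (by rw [actH_a, hXa, hXa]),
        hdep_right _ _ (Classical.choose (hf2 (mu bar l * b))) (by rw [actH_a, hXa, hXa])]
    rw [← h2, ← h1]
    have h3 : g * lc hτ (d.u (Classical.choose (hf2 a))) (d.u (Classical.choose (hf2 b))) * g⁻¹ *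
        (lc hτ (d.u (Classical.choose (hf2 a))) (d.u (Classical.choose (hf2 b))))⁻¹ =
        ⁅g, lc hτ (d.u (Classical.choose (hf2 a))) (d.u (Classical.choose (hf2 b)))⁆ := by
      rw [commutatorElement_def]
    rw [h3, Subgroup.commutator_comm]
    exact Subgroup.commutator_mem_commutator (Subgroup.mem_comap.mpr (by rw [hg]; exact ⟨l, rfl⟩))
      (hcZ _ _)
  -- (10) `kap`
  obtain ⟨l₁, l₂, h12, hs⟩ := hf6
  have hkey := hkap (((ZH bar).map d.u).comap τ) ⁅((ZH bar).map d.u).comap τ, d.t.range.comap τ⁆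
    hZcomm hZtZh
    (fun a b => lc hτ (d.u (Classical.choose (hf2 a))) (d.u (Classical.choose (hf2 b))))
    (fun a b => hcZ _ _) hl hr (mu bar l₁) (mu bar l₂) h12 hs (htor l₁) (htor l₂)
  -- (11) conclusion
  rw [Subgroup.commutator_le]
  intro g₁ hg₁ g₂ hg₂
  obtain ⟨x₁, hx₁⟩ := Subgroup.mem_comap.mp hg₁
  obtain ⟨x₂, hx₂⟩ := Subgroup.mem_comap.mp hg₂
  rw [lc_eq' hτ hc hx₁.symm hx₂.symm, hcℓ]
  exact hkey x₁.a x₂.a

end abstract

end Cfsg.Agent.Helper89.PsuA
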