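import Cfsg.Agent.Helper78.PsuII.Stmts
import Cfsg.Agent.Helper30.PsuM_PL1
import Cfsg.Agent.Helper93.PsuM_PL2
import Cfsg.Agent.Helper31.PsuM_PL3
import Cfsg.Agent.Helper93.PsuM_PL4
import Cfsg.Agent.Helper93.PsuM_PL5
import Cfsg.Agent.Helper89.PsuM_PL6
import Cfsg.Prelude.Def_LieExceptional

/-!
# S2089 block II part A (helper78's farm), piece (AF) `complement` — helper89
-/

set_option autoImplicit false
set_option linter.unusedSectionVars false
set_option linter.unusedVariables false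

namespace Cfsg.Agent.Helper89.PsuII

open Cfsg.Agent.Helper43.PsuM Cfsg.Agent.Helper78.PsuII

universe u

/-- elements of `A ⊔ B` are products `a * b` when `B` normalises `A` -/
theorem AF_exists_mul_of_mem_sup {Γ : Type*} [Group Γ] {A B : Subgroup Γ}
    (hnorm : ∀ b ∈ B, ∀ a ∈ A, b * a * b⁻¹ ∈ A) {g : Γ} (hg : g ∈ A ⊔ B) :
    ∃ a ∈ A, ∃ b ∈ B, g = a * b := by
  let M : Subgroup Γ :=
    { carrier := {g | ∃ a ∈ A, ∃ b ∈ B, g = a * b}
      mul_mem' := by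
        rintro _ _ ⟨a, ha, b, hb, rfl⟩ ⟨a', ha', b', hb', rfl⟩
        exact ⟨a * (b * a' * b⁻¹), mul_mem ha (hnorm b hb a' ha'), b * b', mul_mem hb hb', by group⟩
      one_mem' := ⟨1, one_mem _, 1, one_mem _, by simp⟩
      inv_mem' := by
        rintro _ ⟨a, ha, b, hb, rfl⟩
        refine ⟨b⁻¹ * a⁻¹ * b⁻¹⁻¹, hnorm b⁻¹ (inv_mem hb) a⁻¹ (inv_mem ha), b⁻¹, inv_mem hb, by group⟩ }
  have hle : A ⊔ B ≤ M :=
    sup_le (fun a ha => ⟨a, ha, 1, one_mem _, by simp⟩) (fun b hb => ⟨1, one_mem _, b, hb, by simp⟩)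
  exact hle hg

section lift

variable {Γ G : Type u} [Group Γ] [Group G] [Finite Γ] {r : ℕ} (τ : Γ →* G)
  (hτ : Function.Surjective τ) (hc : τ.ker ≤ Subgroup.center Γ) (p : ℕ) [Fact p.Prime]
  (hcop : (Nat.card τ.ker).Coprime p) (D : RData G r) (hD : D.IsSplit p) (hG : GFacts D p)

include hτ hc hcop hD hG

/-- (AF) the subgroup `⟨Ũ, Ñ⟩` is a complement to the kernel. -/
theorem complement (hLF : LFacts τ p D) (hHF : HFacts τ p D) (hHI : HIso τ p D)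
    (hNF : NFacts τ p D) (hNI : NInf τ p D) (hB : Bruhat τ p D) :
    (Ut τ p D ⊔ Nt τ p D) ⊓ τ.ker = ⊥ ∧ (Ut τ p D ⊔ Nt τ p D).map τ = ⊤ := by
  -- `τ B̃ ≤ U ⊔ H`
  have hBmap : ∀ b ∈ Bt τ p D, τ b ∈ D.U ⊔ D.H := by
    intro b hb
    have h1 : (Bt τ p D).map τ ≤ D.U ⊔ D.H := by
      unfold Bt
      rw [Subgroup.map_sup]
      apply sup_le_sup
      · rintro _ ⟨u, hu, rfl⟩
        exact hLF.Ut_map u hu
      · rintro _ ⟨h, hh, rfl⟩
        exact hHF.map_le h hh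
    exact h1 (Subgroup.mem_map_of_mem τ hb)
  have hHtNt : Ht τ p D ≤ Nt τ p D := le_sup_left
  have hHtBt : Ht τ p D ≤ Bt τ p D := le_sup_right
  constructor
  · rw [eq_bot_iff]
    rintro z ⟨hz, hzk⟩
    have hzk' : τ z = 1 := MonoidHom.mem_ker.mp hzk
    obtain ⟨b, hb, ν, hν, b', hb', rfl⟩ := hB z hz
    -- `τ ν ∈ (U ⊔ H) ∩ N`
    have h1 : τ ν = (τ b)⁻¹ * (τ b')⁻¹ := by
      rw [map_mul, map_mul] at hzk'
      calc τ ν = (τ b)⁻¹ * (τ b * τ ν * τ b') * (τ b')⁻¹ := by group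
        _ = (τ b)⁻¹ * (τ b')⁻¹ := by rw [hzk', mul_one]
    have h2 : τ ν ∈ D.U ⊔ D.H := by
      rw [h1]
      exact mul_mem (inv_mem (hBmap b hb)) (inv_mem (hBmap b' hb'))
    have h3 : τ ν ∈ D.H := hD.B_inf_N _ h2 (hNF.map_N ν hν)
    have h4 : ν ∈ Ht τ p D := hNI ν hν h3
    have h5 : b * ν * b' ∈ Bt τ p D := mul_mem (mul_mem hb (hHtBt h4)) hb'
    -- `B̃ = Ũ H̃`
    obtain ⟨u, hu, h, hh, huh⟩ := AF_exists_mul_of_mem_sup
      (A := Ut τ p D) (B := Ht τ p D)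
      (fun h hh u hu => hHF.norm_U h (hHF.map_le h hh) u hu) h5
    rw [huh] at hzk' ⊢
    rw [map_mul] at hzk'
    have h6 : τ u = (τ h)⁻¹ := eq_inv_of_mul_eq_one_left hzk'
    have h7 : τ u = 1 := by
      apply hD.U_inf_H _ (hLF.Ut_map u hu)
      rw [h6]
      exact inv_mem (hHF.map_le h hh)
    have h8 : u = 1 := hLF.Ut_inj u hu h7
    have h9 : τ h = 1 := by
      rw [h7, one_mul] at hzk'
      exact hzk'
    have h10 : h = 1 := hHI.inj h hh h9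
    rw [h8, h10, one_mul]
    exact Subgroup.one_mem _
  · rw [eq_top_iff, ← hD.gen]
    have hU : D.U ≤ (Ut τ p D ⊔ Nt τ p D).map τ := by
      have h1 := Cfsg.Agent.Helper31.PsuM.plift_map τ hτ hc p hcop D.U hD.pU
      intro u hu
      rw [← h1] at hu
      obtain ⟨g, hg, rfl⟩ := hu
      exact Subgroup.mem_map_of_mem τ (Subgroup.mem_sup_left hg)
    have hH : D.H ≤ (Ut τ p D ⊔ Nt τ p D).map τ := by
      intro h hh
      obtain ⟨g, hg, rfl⟩ := hHI.surj h hh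
      exact Subgroup.mem_map_of_mem τ (Subgroup.mem_sup_right (hHtNt hg))
    have hs : ∀ i, D.s i ∈ (Ut τ p D ⊔ Nt τ p D).map τ := by
      intro i
      obtain ⟨a, ha⟩ := hNF.nonempty i
      have ha' : a ∈ Nt τ p D := by
        apply Subgroup.mem_sup_right
        apply Subgroup.subset_closure
        exact Set.mem_iUnion.mpr ⟨i, ha⟩
      have h1 : τ a ∈ (Ut τ p D ⊔ Nt τ p D).map τ :=
        Subgroup.mem_map_of_mem τ (Subgroup.mem_sup_right ha')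
      have h2 : τ a * (D.s i)⁻¹ ∈ (Ut τ p D ⊔ Nt τ p D).map τ := hH ha.2
      have h3 : D.s i = (τ a * (D.s i)⁻¹)⁻¹ * τ a := by group
      rw [h3]
      exact mul_mem (inv_mem h2) h1
    apply sup_le hU
    unfold RData.N
    apply sup_le hH
    rw [Subgroup.closure_le]
    rintro _ ⟨i, rfl⟩
    exact hs i

end lift

end Cfsg.Agent.Helper89.PsuII
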