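import Cfsg.Agent.Helper78.PsuII.Stmts
import Cfsg.Agent.Helper30.PsuM_PL1
import Cfsg.Agent.Helper93.PsuM_PL2
import Cfsg.Agent.Helper31.PsuM_PL3
import Cfsg.Agent.Helper93.PsuM_PL4
import Cfsg.Agent.Helper93.PsuM_PL5
import Cfsg.Agent.Helper89.PsuM_PL6
import Cfsg.Prelude.Def_LieExceptional

/-!
# S2089 block II part A (helper78's farm), piece (AI) `hIso` — helper89
-/

set_option autoImplicit false
set_option linter.unusedSectionVars false
set_option linter.unusedVariables false

namespace Cfsg.Agent.Helper89.PsuII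

open Cfsg.Agent.Helper43.PsuM Cfsg.Agent.Helper78.PsuII

universe u

/-- elements of `A ⊔ B` are products `a * b` when `B` normalises `A` -/
theorem AI_exists_mul_of_mem_sup {Γ : Type*} [Group Γ] {A B : Subgroup Γ}
    (hnorm : ∀ b ∈ B, ∀ a ∈ A, b * a * b⁻¹ ∈ A) {g : Γ} (hg : g ∈ A ⊔ B) :
    ∃ a ∈ A, ∃ b ∈ B, g = a * b := by
  let M : Subgroup Γ :=
    { carrier := {g | ∃ a ∈ A, ∃ b ∈ B, g = a * b}
      mul_mem' := by
        rintro _ _ ⟨a, ha, b, hb, rfl⟩ ⟨a', ha', b', hb', rfl⟩
        exact ⟨a * (b * a' * b⁻¹), mul_mem ha (hnorm b hb a' ha'), b * b', mul_mem hb hb', by group⟩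
      one_mem' := ⟨1, one_mem _, 1, one_mem _, by simp⟩
      inv_mem' := by
        rintro _ ⟨a, ha, b, hb, rfl⟩
        refine ⟨b⁻¹ * a⁻¹ * b⁻¹⁻¹, hnorm b⁻¹ (inv_mem hb) a⁻¹ (inv_mem ha), b⁻¹, inv_mem hb, by group⟩ }
  have hle : A ⊔ B ≤ M :=
    sup_le (fun a ha => ⟨a, ha, 1, one_mem _, by simp⟩) (fun b hb => ⟨1, one_mem _, b, hb, by simp⟩)
  exact hle hg

section lift

variable {Γ G : Type u} [Group Γ] [Group G] [Finite Γ] {r : ℕ} (τ : Γ →* G)
  (hτ : Function.Surjective τ) (hc : τ.ker ≤ Subgroup.center Γ) (p : ℕ) [Fact p.Prime]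
  (hcop : (Nat.card τ.ker).Coprime p) (D : RData G r) (hD : D.IsSplit p) (hG : GFacts D p)

include hτ hc hcop hD hG

/-- (AI) `τ : H̃ → H` is bijective. -/
theorem hIso (hLF : LFacts τ p D) (hHF : HFacts τ p D) : HIso τ p D := by
  -- `τ H̃_i ≤ H_i`
  have hmapHi : ∀ i, ∀ g ∈ Hit τ p D i, τ g ∈ D.Hi i := by
    intro i g hg
    exact Subgroup.mem_inf.mpr ⟨(Subgroup.mem_inf.mp hg).2, hLF.map_le i g (Subgroup.mem_inf.mp hg).1⟩
  have hHit_le : ∀ i, Hit τ p D i ≤ Ht τ p D := fun i => le_iSup (fun i => Hit τ p D i) i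
  refine ⟨?_, ?_⟩
  · -- injectivity: induction over the partial suprema
    have key : ∀ k : ℕ, ∀ g ∈ (⨆ j : {j : Fin r // j.val < k}, Hit τ p D j.1), τ g = 1 → g = 1 := by
      intro k
      induction k with
      | zero =>
        intro g hg _
        have hbot : (⨆ j : {j : Fin r // j.val < 0}, Hit τ p D j.1) = ⊥ := by
          rw [eq_bot_iff]
          apply iSup_le
          rintro ⟨j, hj⟩
          exact absurd hj (Nat.not_lt_zero _)
        rw [hbot] at hg
        exact Subgroup.mem_bot.mp hg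
      | succ k ih =>
        intro g hg hg1
        by_cases hk : k < r
        · -- `P (k+1) ≤ P k ⊔ H̃_k`
          have hle : (⨆ j : {j : Fin r // j.val < k + 1}, Hit τ p D j.1) ≤
              (⨆ j : {j : Fin r // j.val < k}, Hit τ p D j.1) ⊔ Hit τ p D ⟨k, hk⟩ := by
            apply iSup_le
            rintro ⟨j, hj⟩
            rcases Nat.lt_succ_iff_lt_or_eq.mp hj with h1 | h1
            · exact le_sup_of_le_left
                (le_iSup (fun j : {j : Fin r // j.val < k} => Hit τ p D j.1) ⟨j, h1⟩)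
            · have : j = ⟨k, hk⟩ := Fin.ext h1
              subst this
              exact le_sup_right
          have hPk_le : (⨆ j : {j : Fin r // j.val < k}, Hit τ p D j.1) ≤ Ht τ p D :=
            iSup_le fun j => hHit_le j.1
          obtain ⟨a, ha, b, hb, rfl⟩ := AI_exists_mul_of_mem_sup
            (A := ⨆ j : {j : Fin r // j.val < k}, Hit τ p D j.1) (B := Hit τ p D ⟨k, hk⟩)
            (by
              intro b hb a ha
              have h1 := hHF.comm b (hHit_le _ hb) a (hPk_le ha)
              rw [h1, mul_inv_cancel_right]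
              exact ha) (hle hg)
          -- downstairs
          have hmapP : τ a ∈ (⨆ j : {j : Fin r // j < (⟨k, hk⟩ : Fin r)}, D.Hi j.1) := by
            have h1 : (⨆ j : {j : Fin r // j.val < k}, Hit τ p D j.1).map τ ≤
                (⨆ j : {j : Fin r // j < (⟨k, hk⟩ : Fin r)}, D.Hi j.1) := by
              rw [Subgroup.map_iSup]
              apply iSup_le
              rintro ⟨j, hj⟩
              have h2 : (Hit τ p D j).map τ ≤ D.Hi j := by
                rintro _ ⟨g, hg, rfl⟩
                exact hmapHi j g hg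
              exact h2.trans (le_iSup (fun j : {j : Fin r // j < (⟨k, hk⟩ : Fin r)} => D.Hi j.1)
                ⟨j, Fin.lt_def.mpr hj⟩)
            exact h1 (Subgroup.mem_map_of_mem τ ha)
          rw [map_mul] at hg1
          have hb1 : τ b = (τ a)⁻¹ := eq_inv_of_mul_eq_one_right hg1
          have hb2 : τ b = 1 := by
            apply hD.H_indep ⟨k, hk⟩ (τ b) (hmapHi _ b hb)
            rw [hb1]
            exact inv_mem hmapP
          have hb3 : b = 1 := hLF.inj ⟨k, hk⟩ b (Subgroup.mem_inf.mp hb).1 hb2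
          have ha1 : τ a = 1 := by
            rw [hb2, mul_one] at hg1
            exact hg1
          rw [hb3, mul_one]
          exact ih a ha ha1
        · -- `k ≥ r`: nothing new
          have hle : (⨆ j : {j : Fin r // j.val < k + 1}, Hit τ p D j.1) ≤
              (⨆ j : {j : Fin r // j.val < k}, Hit τ p D j.1) := by
            apply iSup_le
            rintro ⟨j, hj⟩
            have h1 : j.val < k := lt_of_lt_of_le j.isLt (not_lt.mp hk)
            exact le_iSup (fun j : {j : Fin r // j.val < k} => Hit τ p D j.1) ⟨j, h1⟩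
          exact ih g (hle hg) hg1
    intro g hg hg1
    apply key r g _ hg1
    have hle : Ht τ p D ≤ (⨆ j : {j : Fin r // j.val < r}, Hit τ p D j.1) := by
      unfold Ht
      apply iSup_le
      intro i
      exact le_iSup (fun j : {j : Fin r // j.val < r} => Hit τ p D j.1) ⟨i, i.isLt⟩
    exact hle hg
  · -- surjectivity
    intro h hh
    have h1 : (⨆ i, D.Hi i) ≤ (Ht τ p D).map τ := by
      apply iSup_le
      intro i a ha
      obtain ⟨g, hg, rfl⟩ := hLF.surj i a (Subgroup.mem_inf.mp ha).2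
      have hgH : g ∈ Hit τ p D i :=
        Subgroup.mem_inf.mpr ⟨hg, Subgroup.mem_comap.mpr (Subgroup.mem_inf.mp ha).1⟩
      exact Subgroup.mem_map_of_mem τ (hHit_le i hgH)
    obtain ⟨g, hg, hgh⟩ := h1 (hD.H_gen hh)
    exact ⟨g, hg, hgh⟩

end lift

end Cfsg.Agent.Helper89.PsuII
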