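import Cfsg.Agent.Helper78.PsuII.Stmts
import Cfsg.Agent.Helper30.PsuM_PL1
import Cfsg.Agent.Helper93.PsuM_PL2
import Cfsg.Agent.Helper31.PsuM_PL3
import Cfsg.Agent.Helper93.PsuM_PL4
import Cfsg.Agent.Helper93.PsuM_PL5
import Cfsg.Agent.Helper89.PsuM_PL6
import Cfsg.Prelude.Def_LieExceptional

/-!
# S2089 block II part A (helper78's farm), piece (AS) `ker_eq_bot_of_complement` — helper89
-/

set_option autoImplicit false
set_option linter.unusedSectionVars false
set_option linter.unusedVariables false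

namespace Cfsg.Agent.Helper89.PsuII

open Cfsg.Agent.Helper43.PsuM Cfsg.Agent.Helper78.PsuII

universe u

section lift

variable {Γ G : Type u} [Group Γ] [Group G] [Finite Γ] {r : ℕ} (τ : Γ →* G)
  (hτ : Function.Surjective τ) (hc : τ.ker ≤ Subgroup.center Γ) (p : ℕ) [Fact p.Prime]
  (hcop : (Nat.card τ.ker).Coprime p) (D : RData G r) (hD : D.IsSplit p) (hG : GFacts D p)

include hτ hc hcop hD hG

omit hcop hD hG [Finite Γ] [Fact p.Prime] in
/-- (AS) a stem extension with a complement is trivial -/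
theorem ker_eq_bot_of_complement (hstem : τ.ker ≤ commutator Γ) (C : Subgroup Γ)
    (h1 : C ⊓ τ.ker = ⊥) (h2 : C.map τ = ⊤) : τ.ker = ⊥ := by
  have hlift : ∀ g : Γ, ∃ c ∈ C, τ c = τ g := by
    intro g
    have : τ g ∈ C.map τ := by rw [h2]; exact Subgroup.mem_top _
    obtain ⟨c, hc', hcg⟩ := this
    exact ⟨c, hc', hcg⟩
  have hcomm : commutator Γ ≤ C := by
    rw [commutator_def, Subgroup.commutator_le]
    intro g₁ _ g₂ _
    obtain ⟨c₁, hc₁, e₁⟩ := hlift g₁
    obtain ⟨c₂, hc₂, e₂⟩ := hlift g₂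
    rw [Cfsg.Agent.Helper96.StLift.commutator_eq_of_map_eq hc e₁.symm e₂.symm]
    exact Subgroup.commutator_le_self C (Subgroup.commutator_mem_commutator hc₁ hc₂)
  rw [eq_bot_iff, ← h1]
  exact le_inf (hstem.trans hcomm) le_rfl

end lift

end Cfsg.Agent.Helper89.PsuII
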