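import Cfsg.Agent.Helper89.PsuIo_OWcore
import Cfsg.Agent.Helper57.PsuIo_OCONJ

/-!
# S2089 block I-odd, MODEL part, piece (OW): `Yset_fix`, `Yset_triv`, `Xr_fixed`
-/

set_option autoImplicit false

namespace Cfsg.Agent.Helper89.PsuIo

open Matrix
open scoped commutatorElement
open Cfsg.Agent.Helper43.PsuM Cfsg.Agent.Helper58.PsuIo Cfsg.Agent.Helper58.PsuIo.Od

universe u

variable {F : Type*} [Field F] {m : ℕ} {σ : F →+* F}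

theorem OW_conj (hσ : ∀ x, σ (σ x) = x) (d : Fin m → F) (hd : ∀ i, d i ≠ 0) : OWConj σ d :=
  fun h => Cfsg.Agent.Helper57.PsuIo.tO_conj_qO hσ d hd h

/-- (OW1) -/
theorem Yset_fix (hσ : ∀ x, σ (σ x) = x) {θ : F} (hθ : θ + σ θ = 1) (d : Fin m → F)
    (hd : ∀ i, d i ≠ 0) (i : Fin m) (hw : d i ≠ cw σ d) :
    ∀ x ∈ Yset σ i, ∃ x' ∈ Qsub m σ, ∃ z' ∈ Zsub m σ, x = ⁅tO σ d, x'⁆ * z' :=
  Yset_fix_of hσ hθ d hd (OW_conj hσ d hd) i hw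

/-- (OW2) -/
theorem Yset_triv (hσ : ∀ x, σ (σ x) = x) (d : Fin m → F) (hd : ∀ i, d i ≠ 0) (j : Fin m)
    (hw : d j = cw σ d) : ∀ x ∈ Yset σ j, ⁅tO σ d, x⁆ ∈ Zsub m σ :=
  Yset_triv_of hσ d hd (OW_conj hσ d hd) j hw

/-- (OW3) -/
theorem Xr_fixed (hσ : ∀ x, σ (σ x) = x) (d : Fin m → F) (hd : ∀ i, d i ≠ 0)
    (r : Fin m × Fin m) (hw : d r.1 * σ (d r.2) = 1) :
    ∀ z ∈ Xr σ r, tO σ d * z * (tO σ d)⁻¹ = z :=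
  Xr_fixed_of hσ d (OW_conj hσ d hd) r hw

end Cfsg.Agent.Helper89.PsuIo
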