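import Cfsg.Agent.Helper89.PsuIo_OO3core
import Cfsg.Agent.Helper89.PsuIo_OW
import Cfsg.Agent.Helper29.PsuIo_OT

/-!
# S2089 block I-odd, MODEL part, piece (OO3): `hO3_model`
-/

set_option autoImplicit false

namespace Cfsg.Agent.Helper89.PsuIo

open Matrix
open scoped commutatorElement
open Cfsg.Agent.Helper43.PsuM Cfsg.Agent.Helper58.PsuIo Cfsg.Agent.Helper58.PsuIo.Od

universe u

variable {F : Type*} [Field F] {m : ℕ} {σ : F →+* F}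

/-- (OO3) -/
theorem hO3_model (hσ : ∀ x, σ (σ x) = x) {θ : F} (hθ : θ + σ θ = 1)
    (hd3 : ∀ a b : Fin m, a ≠ b → ∃ d : Fin m → F, (∀ l, d l ≠ 0) ∧ d a = d b ∧ ∀ i, d i ≠ cw σ d) :
    ∀ g ∈ Sgen m σ, ∃ Hg : Subgroup (SUo m σ), Hg ≤ Tsub m σ ∧ (∀ h ∈ Hg, Commute g h) ∧
      ∀ i, ∀ x ∈ Yset σ i, ∃ h ∈ Hg, ∃ x' ∈ Qsub m σ, ∃ z' ∈ Zsub m σ, x = ⁅h, x'⁆ * z' :=
  hO3_of (fun d hd => Cfsg.Agent.Helper29.PsuIo.tO_mem_Tsub hσ d hd)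
    (fun d hd i j a => Cfsg.Agent.Helper57.PsuIo.tO_conj_xO hσ d hd i j a)
    (fun d hd i hw => Yset_fix hσ hθ d hd i hw) hd3

end Cfsg.Agent.Helper89.PsuIo
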