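import Cfsg.Agent.Helper58.PsuIo.OdDefs
import Cfsg.Agent.Helper58.PsuIo.AbsDefs
import Cfsg.Agent.Helper5.SuBN.Defs

/-!
# S2089 block I-odd, MODEL part, piece (OO3) `hO3_model`: the core, with the three API lemmas
`tO_mem_Tsub` (OT1), `tO_conj_xO` (OCONJ3), `Yset_fix` (OW1) as hypotheses
-/

set_option autoImplicit false

namespace Cfsg.Agent.Helper89.PsuIo

open Matrix
open scoped commutatorElement
open Cfsg.Agent.Helper43.PsuM Cfsg.Agent.Helper58.PsuIo Cfsg.Agent.Helper58.PsuIo.Od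

universe u

variable {F : Type*} [Field F] {m : ℕ} {σ : F →+* F}

/-- (OO3) from (OT1), (OCONJ3), (OW1) -/
theorem hO3_of
    (hOT1 : ∀ (d : Fin m → F), (∀ i, d i ≠ 0) → tO σ d ∈ Tsub m σ)
    (hOCONJ3 : ∀ (d : Fin m → F), (∀ i, d i ≠ 0) → ∀ (i j : Fin m) (a : F),
      tO σ d * xO σ i j a * (tO σ d)⁻¹ = xO σ i j (d i * a * (d j)⁻¹))
    (hOW1 : ∀ (d : Fin m → F), (∀ i, d i ≠ 0) → ∀ (i : Fin m), d i ≠ cw σ d →
      ∀ x ∈ Yset σ i, ∃ x' ∈ Qsub m σ, ∃ z' ∈ Zsub m σ, x = ⁅tO σ d, x'⁆ * z')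
    (hd3 : ∀ a b : Fin m, a ≠ b → ∃ d : Fin m → F, (∀ l, d l ≠ 0) ∧ d a = d b ∧ ∀ i, d i ≠ cw σ d) :
    ∀ g ∈ Sgen m σ, ∃ Hg : Subgroup (SUo m σ), Hg ≤ Tsub m σ ∧ (∀ h ∈ Hg, Commute g h) ∧
      ∀ i, ∀ x ∈ Yset σ i, ∃ h ∈ Hg, ∃ x' ∈ Qsub m σ, ∃ z' ∈ Zsub m σ, x = ⁅h, x'⁆ * z' := by
  rintro g ⟨a, b, hab, t, rfl⟩
  obtain ⟨d, hd0, hdab, hdw⟩ := hd3 a b (ne_of_lt hab)
  refine ⟨Subgroup.zpowers (tO σ d), ?_, ?_, ?_⟩
  · rw [Subgroup.zpowers_le]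
    exact hOT1 d hd0
  · have hcomm : Commute (xO σ a b t) (tO σ d) := by
      have h1 := hOCONJ3 d hd0 a b t
      have h2 : d a * t * (d b)⁻¹ = t := by
        rw [hdab, mul_comm (d b) t, mul_assoc, mul_inv_cancel₀ (hd0 b), mul_one]
      rw [h2] at h1
      have h3 : tO σ d * xO σ a b t = xO σ a b t * tO σ d := by
        rw [← h1, inv_mul_cancel_right, h1]
      exact h3.symm
    intro h hh
    obtain ⟨k, rfl⟩ := Subgroup.mem_zpowers_iff.1 hh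
    exact hcomm.zpow_right k
  · intro i x hx
    obtain ⟨x', hx', z', hz', e⟩ := hOW1 d hd0 i (hdw i) x hx
    exact ⟨tO σ d, Subgroup.mem_zpowers _, x', hx', z', hz', e⟩

end Cfsg.Agent.Helper89.PsuIo
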