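import Cfsg.Agent.Helper58.PsuIo.OdDefs
import Cfsg.Agent.Helper58.PsuIo.AbsDefs
import Cfsg.Agent.Helper5.SuBN.Defs
import Cfsg.Agent.Helper5.PsuM_AISO
import Cfsg.Agent.Helper65.PsuM_HU
import Cfsg.Agent.Helper31.StLG34

/-!
# S2089 block I-odd, MODEL part, pieces (OPERF) `Hsub_perfect` and (OHU) `huniv_Hsub`
-/

set_option autoImplicit false

namespace Cfsg.Agent.Helper89.PsuIo

open Matrix
open scoped commutatorElement
open Cfsg.Agent.Helper43.PsuM Cfsg.Agent.Helper58.PsuIo Cfsg.Agent.Helper58.PsuIo.Od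

universe u

variable {F : Type*} [Field F] {m : ℕ} {σ : F →+* F}

/-- local copy of (OH1): the embedding is injective -/
theorem OPERF_emb_injective : Function.Injective (emb (m := m) σ) := by
  intro g h hgh
  apply Ev.mat_injective
  have h1 : mat (emb σ g) = mat (emb σ h) := by rw [hgh]
  rw [mat_emb, mat_emb] at h1
  unfold embM at h1
  exact (Matrix.fromBlocks_inj.1 h1).1

/-- perfectness passes along a surjective homomorphism onto a range -/
theorem OPERF_range_perfect {A B : Type*} [Group A] [Group B] (f : A →* B)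
    (hA : commutator A = ⊤) : ⁅f.range, f.range⁆ = f.range := by
  rw [MonoidHom.range_eq_map, ← Subgroup.map_commutator, ← commutator_def, hA]

/-- perfectness passes along an isomorphism -/
theorem OPERF_perfect_congr {A B : Type*} [Group A] [Group B] (e : A ≃* B)
    (hA : commutator A = ⊤) : commutator B = ⊤ := by
  have h1 : (⊤ : Subgroup B) = (⊤ : Subgroup A).map e.toMonoidHom := by
    rw [← MonoidHom.range_eq_map]
    exact ((MonoidHom.range_eq_top (f := e.toMonoidHom)).2 e.surjective).symm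
  rw [commutator_def, h1, ← Subgroup.map_commutator, ← commutator_def, hA]

section finite

variable {K : Type u} [Field K] [Fintype K] {q : ℕ} {σ : K →+* K}

/-- (OPERF) -/
theorem Hsub_perfect (hσ : ∀ x, σ (σ x) = x)
    (hperf : commutator (Cfsg.Agent.Helper5.SuBN.UG (2 * m) σ) = ⊤) :
    ⁅Hsub m σ, Hsub m σ⁆ = Hsub m σ := by
  rw [two_mul] at hperf
  obtain ⟨e⟩ := Cfsg.Agent.Helper5.PsuM.nonempty_mulEquiv_UG (m := m) (σ := σ) hσ
  have h1 : commutator (Ev.SUe m σ) = ⊤ := OPERF_perfect_congr e.symm hperf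
  exact OPERF_range_perfect (emb σ) h1

/-- (OHU) -/
theorem huniv_Hsub (hσ : ∀ x, σ (σ x) = x)
    (hEven : NoStem (Cfsg.Agent.Helper5.SuBN.UG (2 * m) σ))
    (hperf : commutator (Cfsg.Agent.Helper5.SuBN.UG (2 * m) σ) = ⊤) :
    ∀ (E : Type u) [Group E] (π : E →* ↥(Hsub m σ)), Function.Surjective π →
      π.ker ≤ Subgroup.center E → ∃ s : ↥(Hsub m σ) →* E, π.comp s = MonoidHom.id ↥(Hsub m σ) := by
  rw [two_mul] at hperf hEven
  obtain ⟨e⟩ := Cfsg.Agent.Helper5.PsuM.nonempty_mulEquiv_UG (m := m) (σ := σ) hσ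
  have e2 : Ev.SUe m σ ≃* ↥(Hsub m σ) := MonoidHom.ofInjective (OPERF_emb_injective (σ := σ))
  have hfin : Finite (Cfsg.Agent.Helper5.SuBN.UG (m + m) σ) := inferInstance
  exact Cfsg.Agent.Helper65.PsuM.huniv_congr (e.symm.trans e2)
    (fun E _ p hp hc =>
      Cfsg.Agent.Helper31.StLG34.section_of_stem_trivial hperf hEven E p hp hc)

end finite

end Cfsg.Agent.Helper89.PsuIo
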