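import Cfsg.Agent.Helper58.PsuIo.OdDefs
import Cfsg.Agent.Helper58.PsuIo.AbsDefs
import Cfsg.Agent.Helper5.SuBN.Defs
import Cfsg.Agent.Helper55.PsuIo_OMAT
import Cfsg.Agent.Helper55.PsuIo_OQ
import Cfsg.Agent.Helper80.PsuIo_OZ
import Cfsg.Agent.Helper55.PsuM_AROOTa

/-!
# S2089 block I-odd, MODEL part, piece (OW): weights of the torus on `Yset i` and `Xr r`
(core, with (OCONJ2) `tO_conj_qO` as a hypothesis)
-/

set_option autoImplicit false

namespace Cfsg.Agent.Helper89.PsuIo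

open Matrix
open scoped commutatorElement
open Cfsg.Agent.Helper43.PsuM Cfsg.Agent.Helper58.PsuIo Cfsg.Agent.Helper58.PsuIo.Od
open Cfsg.Agent.Helper55.PsuIo Cfsg.Agent.Helper80.PsuIo

universe u

variable {F : Type*} [Field F] {m : ℕ} {σ : F →+* F}

/-- the statement of (OCONJ2) for a fixed `d` -/
def OWConj (σ : F →+* F) (d : Fin m → F) : Prop :=
  ∀ {y : Fin m → F} {B : Matrix (Fin m) (Fin m) F}, QP σ y B →
    QP σ (fun i => d i * y i * (cw σ d)⁻¹)
        (Matrix.diagonal d * B * Matrix.diagonal (fun i => σ (d i))) ∧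
      tO σ d * qO σ y B * (tO σ d)⁻¹ = qO σ (fun i => d i * y i * (cw σ d)⁻¹)
        (Matrix.diagonal d * B * Matrix.diagonal (fun i => σ (d i)))

theorem OW_cw_ne_zero (hσ : ∀ x, σ (σ x) = x) (d : Fin m → F) (hd : ∀ i, d i ≠ 0) :
    cw σ d ≠ 0 := by
  intro h
  have := OM_cw_mul hσ d hd
  rw [h, zero_mul] at this
  exact zero_ne_one this

/-- the commutator `⁅tO σ d, qO σ y B⁆` -/
theorem OW_comm (hσ : ∀ x, σ (σ x) = x) (d : Fin m → F) (hC : OWConj σ d)
    {y : Fin m → F} {B : Matrix (Fin m) (Fin m) F} (h : QP σ y B) :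
    ∃ B3, QP σ ((fun i => d i * y i * (cw σ d)⁻¹) + -y) B3 ∧
      ⁅tO σ d, qO σ y B⁆ = qO σ ((fun i => d i * y i * (cw σ d)⁻¹) + -y) B3 := by
  obtain ⟨h1, e1⟩ := hC h
  have h2 := QP_inv hσ h
  have e2 := qO_inv hσ h
  refine ⟨_, QP_mul hσ h1 h2, ?_⟩
  rw [commutatorElement_def, e1, e2]
  exact qO_mul hσ h1 h2

/-- (OW1) core -/
theorem Yset_fix_of (hσ : ∀ x, σ (σ x) = x) {θ : F} (hθ : θ + σ θ = 1) (d : Fin m → F)
    (hd : ∀ i, d i ≠ 0) (hC : OWConj σ d) (i : Fin m) (hw : d i ≠ cw σ d) :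
    ∀ x ∈ Yset σ i, ∃ x' ∈ Qsub m σ, ∃ z' ∈ Zsub m σ, x = ⁅tO σ d, x'⁆ * z' := by
  rintro x ⟨y, B, hQP, hsupp, rfl⟩
  have hc0 : cw σ d ≠ 0 := OW_cw_ne_zero hσ d hd
  have hl : d i * (cw σ d)⁻¹ - 1 ≠ 0 := by
    intro h
    apply hw
    have h1 : d i * (cw σ d)⁻¹ = 1 := sub_eq_zero.1 h
    calc d i = d i * (cw σ d)⁻¹ * cw σ d := by rw [mul_assoc, inv_mul_cancel₀ hc0, mul_one]
      _ = cw σ d := by rw [h1, one_mul]
  obtain ⟨y', hy'⟩ : ∃ y' : Fin m → F, y' = fun l => (d i * (cw σ d)⁻¹ - 1)⁻¹ * y l := ⟨_, rfl⟩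
  obtain ⟨B', hQP'⟩ : ∃ B', QP σ y' B' := ⟨_, OZ_exists_QP hσ hθ y'⟩
  obtain ⟨B3, hB3, e3⟩ := OW_comm hσ d hC hQP'
  have hy : (fun l => d l * y' l * (cw σ d)⁻¹) + -y' = y := by
    funext l
    rw [Pi.add_apply, Pi.neg_apply, hy']
    beta_reduce
    by_cases hli : l = i
    · subst hli
      field_simp
      ring
    · rw [hsupp l hli]
      ring
  rw [hy] at hB3 e3
  obtain ⟨hS, e4⟩ := OZ_qO_eq_mul_Z hσ hQP hB3
  refine ⟨qO σ y' B', Subgroup.subset_closure ⟨y', B', rfl⟩, qO σ 0 (B - B3),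
    (mem_Zsub_iff hσ _).2 ⟨_, hS, rfl⟩, ?_⟩
  rw [e3]
  exact e4

/-- (OW2) core -/
theorem Yset_triv_of (hσ : ∀ x, σ (σ x) = x) (d : Fin m → F) (hd : ∀ i, d i ≠ 0)
    (hC : OWConj σ d) (j : Fin m) (hw : d j = cw σ d) :
    ∀ x ∈ Yset σ j, ⁅tO σ d, x⁆ ∈ Zsub m σ := by
  rintro x ⟨y, B, hQP, hsupp, rfl⟩
  have hc0 : cw σ d ≠ 0 := OW_cw_ne_zero hσ d hd
  obtain ⟨B3, hB3, e3⟩ := OW_comm hσ d hC hQP
  have hy : (fun l => d l * y l * (cw σ d)⁻¹) + -y = 0 := by
    funext l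
    rw [Pi.add_apply, Pi.neg_apply, Pi.zero_apply]
    by_cases hlj : l = j
    · subst hlj
      rw [hw]
      field_simp
      ring
    · rw [hsupp l hlj]
      ring
  rw [hy] at hB3 e3
  rw [e3]
  exact (mem_Zsub_iff hσ _).2 ⟨B3, (QP_zero_left B3).1 hB3, rfl⟩

/-- conjugation of a central element `qO σ 0 B` by the torus -/
theorem OW_conj_Z (d : Fin m → F) (hC : OWConj σ d)
    {B : Matrix (Fin m) (Fin m) F} (hB : B ∈ Ev.SkewH m σ) :
    tO σ d * qO σ 0 B * (tO σ d)⁻¹ =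
      qO σ 0 (Matrix.diagonal d * B * Matrix.diagonal (fun i => σ (d i))) := by
  obtain ⟨-, e1⟩ := hC ((QP_zero_left B).2 hB)
  rw [e1]
  congr 1
  funext l
  rw [Pi.zero_apply, mul_zero, zero_mul]

theorem OW_diag_single (d e : Fin m → F) (j k : Fin m) (c : F) :
    Matrix.diagonal d * Matrix.single j k c * Matrix.diagonal e =
      Matrix.single j k (d j * c * e k) := by
  ext a b
  rw [Matrix.mul_diagonal, Matrix.diagonal_mul, Matrix.single_apply, Matrix.single_apply]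
  by_cases h : j = a ∧ k = b
  · obtain ⟨rfl, rfl⟩ := h
    simp
  · rw [if_neg h, if_neg h, mul_zero, zero_mul]

/-- (OW3) core -/
theorem Xr_fixed_of (hσ : ∀ x, σ (σ x) = x) (d : Fin m → F)
    (hC : OWConj σ d)
    (r : Fin m × Fin m) (hw : d r.1 * σ (d r.2) = 1) :
    ∀ z ∈ Xr σ r, tO σ d * z * (tO σ d)⁻¹ = z := by
  have key : Xr σ r ≤ Subgroup.centralizer {tO σ d} := by
    unfold Xr
    split_ifs with h12
    · rw [Subgroup.map_le_iff_le_comap, Ev.Xl, Subgroup.closure_le]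
      rintro g ⟨c, hc, rfl⟩
      rw [SetLike.mem_coe, Subgroup.mem_comap, Subgroup.mem_centralizer_iff]
      intro t ht
      rw [Set.mem_singleton_iff] at ht
      subst ht
      have hS : Matrix.single r.1 r.1 c ∈ Ev.SkewH m σ :=
        Cfsg.Agent.Helper55.PsuM.single_mem_SkewH r.1 hc
      have e0 : emb σ (Ev.zE σ r.1 c) = qO σ 0 (Matrix.single r.1 r.1 c) := by
        rw [Ev.zE, ← qO_zero_left hσ hS]
      have e1 := OW_conj_Z d hC hS
      rw [OW_diag_single] at e1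
      have e2 : d r.1 * c * σ (d r.1) = c := by
        have : d r.1 * σ (d r.1) = 1 := by
          have := hw
          rw [← h12] at this
          exact this
        calc d r.1 * c * σ (d r.1) = c * (d r.1 * σ (d r.1)) := by ring
          _ = c := by rw [this, mul_one]
      rw [e2] at e1
      rw [e0]
      calc tO σ d * qO σ 0 (Matrix.single r.1 r.1 c)
          = tO σ d * qO σ 0 (Matrix.single r.1 r.1 c) * (tO σ d)⁻¹ * tO σ d := by group
        _ = qO σ 0 (Matrix.single r.1 r.1 c) * tO σ d := by rw [e1]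
    · rw [Subgroup.closure_le]
      rintro g ⟨t, rfl⟩
      rw [SetLike.mem_coe, Subgroup.mem_centralizer_iff]
      intro t' ht
      rw [Set.mem_singleton_iff] at ht
      subst ht
      have hS : Matrix.single r.1 r.2 t - Matrix.single r.2 r.1 (σ t) ∈ Ev.SkewH m σ :=
        Cfsg.Agent.Helper55.PsuM.single_sub_mem_SkewH hσ h12 t
      have e0 : emb σ (Ev.cE σ r.1 r.2 t) =
          qO σ 0 (Matrix.single r.1 r.2 t - Matrix.single r.2 r.1 (σ t)) := by
        rw [Ev.cE, ← qO_zero_left hσ hS]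
      have e1 := OW_conj_Z d hC hS
      rw [Matrix.mul_sub, Matrix.sub_mul, OW_diag_single, OW_diag_single] at e1
      have e2 : d r.1 * t * σ (d r.2) = t := by
        calc d r.1 * t * σ (d r.2) = t * (d r.1 * σ (d r.2)) := by ring
          _ = t := by rw [hw, mul_one]
      have e3 : d r.2 * σ t * σ (d r.1) = σ t := by
        have h1 : σ (d r.1) * d r.2 = 1 := by
          have := congrArg σ hw
          rw [map_mul, hσ, map_one] at this
          exact this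
        calc d r.2 * σ t * σ (d r.1) = σ t * (σ (d r.1) * d r.2) := by ring
          _ = σ t := by rw [h1, mul_one]
      rw [e2, e3] at e1
      rw [e0]
      calc tO σ d * qO σ 0 (Matrix.single r.1 r.2 t - Matrix.single r.2 r.1 (σ t))
          = tO σ d * qO σ 0 (Matrix.single r.1 r.2 t - Matrix.single r.2 r.1 (σ t)) *
              (tO σ d)⁻¹ * tO σ d := by group
        _ = qO σ 0 (Matrix.single r.1 r.2 t - Matrix.single r.2 r.1 (σ t)) * tO σ d := by rw [e1]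
  intro z hz
  have h := Subgroup.mem_centralizer_iff.1 (key hz) (tO σ d) (Set.mem_singleton _)
  rw [h, mul_inv_cancel_right]

end Cfsg.Agent.Helper89.PsuIo
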