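import Cfsg.Agent.Helper43.PsuM.RDefs

/-!
# S2089 block R piece (PL6), core — helper89 for helper43

`τ` restricted to `plift τ p X` is an isomorphism onto `X`, given (PL2) and (PL3) as hypotheses.
-/

set_option autoImplicit false

namespace Cfsg.Agent.Helper89.PsuM

open Cfsg.Agent.Helper43.PsuM

universe u

/-- (PL6), core: from (PL2) `plift τ p X ⊓ τ.ker = ⊥` and (PL3) `(plift τ p X).map τ = X`. -/
theorem exists_plift_equiv_core {Γ G : Type u} [Group Γ] [Group G] (τ : Γ →* G) (p : ℕ)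
    (X : Subgroup G) (h2 : plift τ p X ⊓ τ.ker = ⊥) (h3 : (plift τ p X).map τ = X) :
    ∃ e : ↥X ≃* ↥(plift τ p X), ∀ x : ↥X, τ (e x : Γ) = x := by
  have hmem : ∀ g : ↥(plift τ p X), (τ.comp (plift τ p X).subtype) g ∈ X := by
    intro g
    have : τ (g : Γ) ∈ (plift τ p X).map τ := ⟨g, g.2, rfl⟩
    rw [h3] at this
    exact this
  have hinj : Function.Injective ((τ.comp (plift τ p X).subtype).codRestrict X hmem) := by
    rw [injective_iff_map_eq_one]
    intro g hg
    have h1 : τ (g : Γ) = 1 := congrArg Subtype.val hg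
    have h4 : (g : Γ) ∈ plift τ p X ⊓ τ.ker := ⟨g.2, MonoidHom.mem_ker.mpr h1⟩
    rw [h2, Subgroup.mem_bot] at h4
    exact Subtype.ext h4
  have hsurj : Function.Surjective ((τ.comp (plift τ p X).subtype).codRestrict X hmem) := by
    rintro ⟨x, hx⟩
    have hx' : x ∈ (plift τ p X).map τ := by rw [h3]; exact hx
    obtain ⟨g, hg, rfl⟩ := hx'
    exact ⟨⟨g, hg⟩, Subtype.ext rfl⟩
  refine ⟨(MulEquiv.ofBijective _ ⟨hinj, hsurj⟩).symm, fun x => ?_⟩
  have h5 := (MulEquiv.ofBijective _ ⟨hinj, hsurj⟩).apply_symm_apply x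
  exact congrArg Subtype.val h5

end Cfsg.Agent.Helper89.PsuM
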