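import Mathlib

/-! (ARA) of helper9's S1158 plan (#5498): arithmetic of the small Ree tori. -/

set_option autoImplicit false

namespace Cfsg.Agent.Helper89.ReeARA

theorem ree_arith_seventh (Gd n N a : ℕ) (ha : 7 ≤ a) (hN : N ∣ 6 * a) (hN0 : 0 < N)
    (hn : n * N = Gd * (a - 1)) : Gd ≤ 7 * n := by
  obtain ⟨a', rfl⟩ : ∃ a', a = a' + 1 := ⟨a - 1, by omega⟩
  rw [Nat.add_sub_cancel] at hn
  have hNle : N ≤ 6 * (a' + 1) := Nat.le_of_dvd (by omega) hN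
  have h1 : Gd * a' ≤ 7 * n * a' := by
    calc Gd * a' = n * N := hn.symm
      _ ≤ n * (6 * (a' + 1)) := Nat.mul_le_mul_left _ hNle
      _ ≤ n * (7 * a') := Nat.mul_le_mul_left _ (by omega)
      _ = 7 * n * a' := by ring
  exact Nat.le_of_mul_le_mul_right h1 (by omega)

theorem P_eq (r : ℕ) : (r + 2) ^ 2 - (r + 2) + 1 = r ^ 2 + 3 * r + 3 := by
  have : (r + 2) ^ 2 = r ^ 2 + 3 * r + 2 + (r + 2) := by ring
  rw [this, Nat.add_sub_cancel]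

theorem ree_arith_one (q Gd n N a : ℕ) (hq : 27 ≤ q) (hq3 : 3 ∣ q) (hGd : 0 < Gd) (ha : 7 ≤ a)
    (haP : a ∣ q ^ 2 - q + 1) (haN : a ∣ N) (hN : N ∣ 6 * a) (hn : n * N = Gd * (a - 1))
    (hNb : 3 * (q ^ 2 - q + 1) * n = Gd * (q * (q - 2))) : False := by
  obtain ⟨r, rfl⟩ : ∃ r, q = r + 2 := ⟨q - 2, by omega⟩
  obtain ⟨a', rfl⟩ : ∃ a', a = a' + 1 := ⟨a - 1, by omega⟩
  rw [Nat.add_sub_cancel] at hn hNb
  rw [P_eq] at haP hNb
  obtain ⟨e, rfl⟩ := haN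
  obtain ⟨b, hb⟩ := haP
  have he6 : e ∣ 6 := by
    rw [mul_comm 6] at hN
    exact (Nat.mul_dvd_mul_iff_left (by omega)).mp hN
  -- cancel
  have h1 : 3 * (r ^ 2 + 3 * r + 3) * a' * Gd = (r + 2) * r * (a' + 1) * e * Gd := by
    calc 3 * (r ^ 2 + 3 * r + 3) * a' * Gd = 3 * (r ^ 2 + 3 * r + 3) * (Gd * a') := by ring
      _ = 3 * (r ^ 2 + 3 * r + 3) * (n * ((a' + 1) * e)) := by rw [hn]
      _ = (3 * (r ^ 2 + 3 * r + 3) * n) * ((a' + 1) * e) := by ring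
      _ = (Gd * ((r + 2) * r)) * ((a' + 1) * e) := by rw [hNb]
      _ = (r + 2) * r * (a' + 1) * e * Gd := by ring
  have h2 : 3 * (r ^ 2 + 3 * r + 3) * a' = (r + 2) * r * (a' + 1) * e :=
    Nat.eq_of_mul_eq_mul_right hGd h1
  rw [hb] at h2
  have h3 : (a' + 1) * (3 * b * a') = (a' + 1) * ((r + 2) * r * e) := by
    calc (a' + 1) * (3 * b * a') = 3 * ((a' + 1) * b) * a' := by ring
      _ = (r + 2) * r * (a' + 1) * e := h2
      _ = (a' + 1) * ((r + 2) * r * e) := by ring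
  have h4 : 3 * b * a' = (r + 2) * r * e := Nat.eq_of_mul_eq_mul_left (by omega) h3
  -- `P = a' b + b`
  have hPb : r ^ 2 + 3 * r + 3 = a' * b + b := by rw [hb]; ring
  have h7b : 7 * b ≤ r ^ 2 + 3 * r + 3 := by
    rw [hb]
    exact Nat.mul_le_mul_right b ha
  set Q2 := (r + 2) * r with hQ2
  have hPQ : r ^ 2 + 3 * r + 3 = Q2 + r + 3 := by rw [hQ2]; ring
  have hQ25 : 25 * r ≤ Q2 := by
    rw [hQ2]
    have : 25 ≤ r + 2 := by omega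
    exact Nat.mul_le_mul_right r this
  have h5 : 3 * (a' * b) = Q2 * e := by rw [← h4]; ring
  have he : e = 1 ∨ e = 2 ∨ e = 3 ∨ e = 6 := by
    have hle : e ≤ 6 := Nat.le_of_dvd (by norm_num) he6
    interval_cases e <;> simp_all <;> omega
  rcases he with rfl | rfl | rfl | rfl
  · omega
  · omega
  · -- `b = r + 3`
    have hbq : b = r + 3 := by omega
    have hdvd : (r + 3) ∣ r ^ 2 + 3 * r + 3 := ⟨a' + 1, by rw [hb, hbq]; ring⟩
    have hdvd2 : (r + 3) ∣ r ^ 2 + 3 * r := ⟨r, by ring⟩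
    have hdvd3 : (r + 3) ∣ 3 := (Nat.dvd_add_right hdvd2).mp hdvd
    have := Nat.le_of_dvd (by norm_num) hdvd3
    omega
  · omega

theorem ree_arith_three (q Gd n₁ n₂ n₃ Nb : ℕ) (hq : 27 ≤ q) (hGd : 0 < Gd) (h1 : Gd ≤ 7 * n₁)
    (h2 : Gd ≤ 7 * n₂) (h3 : Gd ≤ 7 * n₃) (hle : n₁ + n₂ + n₃ ≤ Nb)
    (hNb : 3 * (q ^ 2 - q + 1) * Nb = Gd * (q * (q - 2))) : False := by
  obtain ⟨r, rfl⟩ : ∃ r, q = r + 2 := ⟨q - 2, by omega⟩
  rw [Nat.add_sub_cancel] at hNb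
  rw [P_eq] at hNb
  set P := r ^ 2 + 3 * r + 3 with hP
  set Q2 := (r + 2) * r with hQ2
  have hPQ : P = Q2 + r + 3 := by rw [hP, hQ2]; ring
  have hA : 3 * Gd ≤ 7 * Nb := by omega
  have hB : 3 * P * (3 * Gd) ≤ 7 * (Gd * Q2) := by
    calc 3 * P * (3 * Gd) ≤ 3 * P * (7 * Nb) := Nat.mul_le_mul_left _ hA
      _ = 7 * (3 * P * Nb) := by ring
      _ = 7 * (Gd * Q2) := by rw [hNb]
  have hC : Gd * Q2 < Gd * P := by
    apply Nat.mul_lt_mul_of_pos_left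
    · omega
    · exact hGd
  have hD : 3 * P * (3 * Gd) = 9 * (Gd * P) := by ring
  omega

end Cfsg.Agent.Helper89.ReeARA
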