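import Mathlib

/-! (DC2) of helper9's S1158 plan (#5498): `G = B ∪ BnB` implies that `G` is 2-transitive on
`G ⧸ B`. -/

set_option autoImplicit false

namespace Cfsg.Agent.Helper89.ReeDC2

theorem exists_rep {G : Type*} [Group G] (B : Subgroup G) (n : G)
    (h : ∀ g : G, g ∉ B → ∃ b ∈ B, ∃ b' ∈ B, g = b * n * b') (x y : G ⧸ B) (hxy : x ≠ y) :
    ∃ c : G, x = (c : G ⧸ B) ∧ y = ((c * n : G) : G ⧸ B) := by
  obtain ⟨a, rfl⟩ := QuotientGroup.mk_surjective x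
  obtain ⟨c, rfl⟩ := QuotientGroup.mk_surjective y
  have hnot : a⁻¹ * c ∉ B := by
    intro hc
    exact hxy (QuotientGroup.eq.mpr hc)
  obtain ⟨b, hb, b', hb', hbb⟩ := h _ hnot
  refine ⟨a * b, ?_, ?_⟩
  · apply QuotientGroup.eq.mpr
    have : a⁻¹ * (a * b) = b := by group
    rw [this]
    exact hb
  · apply QuotientGroup.eq.mpr
    have hc : c = a * (b * n * b') := by rw [← hbb]; group
    have : c⁻¹ * (a * b * n) = b'⁻¹ := by rw [hc]; group
    rw [this]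
    exact B.inv_mem hb'

/-- (DC2) -/
theorem two_transitive_of_double_coset {G : Type*} [Group G] (B : Subgroup G) (n : G)
    (h : ∀ g : G, g ∉ B → ∃ b ∈ B, ∃ b' ∈ B, g = b * n * b') :
    ∀ x y x' y' : G ⧸ B, x ≠ y → x' ≠ y' → ∃ g : G, g • x = x' ∧ g • y = y' := by
  intro x y x' y' hxy hxy'
  obtain ⟨c, rfl, rfl⟩ := exists_rep B n h x y hxy
  obtain ⟨c', rfl, rfl⟩ := exists_rep B n h x' y' hxy'
  refine ⟨c' * c⁻¹, ?_, ?_⟩
  · rw [MulAction.Quotient.smul_mk, smul_eq_mul]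
    congr 1
    group
  · rw [MulAction.Quotient.smul_mk, smul_eq_mul]
    congr 1
    group

end Cfsg.Agent.Helper89.ReeDC2
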