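import Mathlib
import Cfsg.Prelude.Def_FischerSpaces
import Cfsg.Agent.Helper14.Reflection
import Cfsg.Agent.Helper13.Isom

/-!
# Reflections of an orthogonal space: conjugation formula, the braid relation over `ZMod 3`,
and existence of vectors of prescribed norm orthogonal to a given orthogonal family
-/

set_option autoImplicit false

namespace Cfsg.Agent.Helper89

open Matrix Cfsg.Agent.Helper14

section General

variable {F : Type*} [Field F] {ι : Type} [Fintype ι] [DecidableEq ι]

/-- Conjugating a reflection by an isometry gives the reflection in the image vector. -/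
theorem reflection_conj (Q : QuadraticForm F (ι → F)) (K K' : Matrix ι ι F) (hK : K * K' = 1)
    (hiso : ∀ x, Q (K *ᵥ x) = Q x) (w : ι → F) :
    K * Cfsg.reflectionMatrix (⇑Q) w * K' = Cfsg.reflectionMatrix (⇑Q) (K *ᵥ w) := by
  apply Matrix.toLin'.injective
  apply LinearMap.ext
  intro x
  rw [Matrix.toLin'_apply, Matrix.toLin'_apply, ← Matrix.mulVec_mulVec, ← Matrix.mulVec_mulVec,
    reflectionMatrix_mulVec, reflectionMatrix_mulVec, Matrix.mulVec_sub, Matrix.mulVec_smul,
    Matrix.mulVec_mulVec, hK, Matrix.one_mulVec, hiso]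
  have hx : x = K *ᵥ (K' *ᵥ x) := by rw [Matrix.mulVec_mulVec, hK, Matrix.one_mulVec]
  have hp : QuadraticMap.polar (⇑Q) (K *ᵥ w) x = QuadraticMap.polar (⇑Q) w (K' *ᵥ x) := by
    conv_lhs => rw [hx]
    exact Cfsg.Agent.Helper13.polar_mulVec_of_isometry Q K hiso _ _
  rw [hp]

/-- The reflection only depends on the line spanned by the vector. -/
theorem reflection_smul (Q : QuadraticForm F (ι → F)) (u : ι → F) (hu : Q u ≠ 0) (a : F)
    (ha : a ≠ 0) : Cfsg.reflectionMatrix (⇑Q) (a • u) = Cfsg.reflectionMatrix (⇑Q) u := by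
  apply Matrix.toLin'.injective
  apply LinearMap.ext
  intro x
  rw [Matrix.toLin'_apply, Matrix.toLin'_apply, reflectionMatrix_mulVec, reflectionMatrix_mulVec,
    QuadraticMap.map_smul, QuadraticMap.polar_smul_left, smul_smul]
  congr 2
  simp only [smul_eq_mul]
  field_simp

end General

section ModThree

variable {n : ℕ}

theorem zmod3_mul_self_of_ne : ∀ e : ZMod 3, e ≠ 0 → e * e = 1 := by decide

/-- The braid relation for reflections in two non-orthogonal vectors of the same norm. -/
theorem reflection_braid (Q : QuadraticForm (ZMod 3) (Fin n → ZMod 3)) {c : ZMod 3} (hc : c ≠ 0)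
    {v w : Fin n → ZMod 3} (hv : Q v = c) (hw : Q w = c)
    (hvw : QuadraticMap.polar (⇑Q) v w ≠ 0) :
    Cfsg.reflectionMatrix (⇑Q) v * Cfsg.reflectionMatrix (⇑Q) w * Cfsg.reflectionMatrix (⇑Q) v =
      Cfsg.reflectionMatrix (⇑Q) w * Cfsg.reflectionMatrix (⇑Q) v *
        Cfsg.reflectionMatrix (⇑Q) w := by
  have hv0 : Q v ≠ 0 := hv ▸ hc
  have hw0 : Q w ≠ 0 := hw ▸ hc
  rw [reflection_conj Q _ _ (reflectionMatrix_mul_self Q v hv0)
      (reflectionMatrix_isometry Q v hv0) w,
    reflection_conj Q _ _ (reflectionMatrix_mul_self Q w hw0)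
      (reflectionMatrix_isometry Q w hw0) v]
  set e : ZMod 3 := c⁻¹ * QuadraticMap.polar (⇑Q) v w with he
  have he0 : e ≠ 0 := mul_ne_zero (inv_ne_zero hc) hvw
  have hee := zmod3_mul_self_of_ne e he0
  have h1 : Cfsg.reflectionMatrix (⇑Q) v *ᵥ w = w - e • v := by
    rw [reflectionMatrix_mulVec, hv]
  have h2 : Cfsg.reflectionMatrix (⇑Q) w *ᵥ v = v - e • w := by
    rw [reflectionMatrix_mulVec, hw, QuadraticMap.polar_comm]
  have h3 : v - e • w = (-e) • (w - e • v) := by
    rw [smul_sub, smul_smul, neg_mul, hee, neg_smul, neg_smul, one_smul]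
    abel
  have hns : Q (w - e • v) ≠ 0 := by
    rw [← h1, reflectionMatrix_isometry Q v hv0]; exact hw0
  rw [h1, h2, h3, reflection_smul Q _ hns _ (neg_ne_zero.mpr he0)]

/-- Given a finite family of pairwise orthogonal non-singular vectors, smaller than the dimension,
there is a non-singular vector orthogonal to all of them. -/
theorem exists_nonsing_orth (Q : QuadraticForm (ZMod 3) (Fin n → ZMod 3))
    (hQ : (QuadraticMap.polarBilin Q).Nondegenerate) (S : Finset (Fin n → ZMod 3))
    (hS : ∀ s ∈ S, Q s ≠ 0)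
    (horth : ∀ s ∈ S, ∀ t ∈ S, s ≠ t → QuadraticMap.polar (⇑Q) s t = 0) (hcard : S.card < n) :
    ∃ z, Q z ≠ 0 ∧ ∀ s ∈ S, QuadraticMap.polar (⇑Q) s z = 0 := by
  classical
  by_contra hcon
  push Not at hcon
  -- hcon : ∀ z, Q z ≠ 0 → ∃ s ∈ S, polar s z ≠ 0
  have hzero : ∀ z, (∀ s ∈ S, QuadraticMap.polar (⇑Q) s z = 0) → Q z = 0 := by
    intro z hz
    by_contra h
    obtain ⟨s, hs, hne⟩ := hcon z h
    exact hne (hz s hs)
  let Φ : (Fin n → ZMod 3) →ₗ[ZMod 3] (S → ZMod 3) :=
    LinearMap.pi fun s : S => QuadraticMap.polarBilin Q s.1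
  have hfin : Module.finrank (ZMod 3) (S → ZMod 3) < Module.finrank (ZMod 3) (Fin n → ZMod 3) := by
    rw [Module.finrank_fintype_fun_eq_card, Module.finrank_fintype_fun_eq_card, Fintype.card_coe,
      Fintype.card_fin]
    exact hcard
  have hker := LinearMap.ker_ne_bot_of_finrank_lt (f := Φ) hfin
  obtain ⟨x, hxk, hx0⟩ := Submodule.exists_mem_ne_zero_of_ne_bot hker
  have hxS : ∀ s ∈ S, QuadraticMap.polar (⇑Q) s x = 0 := by
    intro s hs
    have := congrFun (LinearMap.mem_ker.mp hxk) ⟨s, hs⟩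
    simpa [Φ] using this
  apply hx0
  apply hQ.1 x
  intro y
  rw [QuadraticMap.polarBilin_apply_apply]
  -- project y onto the orthogonal of S
  set p : Fin n → ZMod 3 := ∑ s ∈ S,
    (QuadraticMap.polar (⇑Q) s y / QuadraticMap.polar (⇑Q) s s) • s with hp
  have hy' : ∀ t ∈ S, QuadraticMap.polar (⇑Q) t (y - p) = 0 := by
    intro t ht
    rw [QuadraticMap.polar_sub_right, hp]
    have hsum : QuadraticMap.polar (⇑Q) t (∑ s ∈ S,
        (QuadraticMap.polar (⇑Q) s y / QuadraticMap.polar (⇑Q) s s) • s) =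
        ∑ s ∈ S, (QuadraticMap.polar (⇑Q) s y / QuadraticMap.polar (⇑Q) s s) *
          QuadraticMap.polar (⇑Q) t s := by
      have := map_sum (QuadraticMap.polarBilin Q t)
        (fun s => (QuadraticMap.polar (⇑Q) s y / QuadraticMap.polar (⇑Q) s s) • s) S
      simp only [QuadraticMap.polarBilin_apply_apply, map_smul, smul_eq_mul] at this
      exact this
    rw [hsum, Finset.sum_eq_single t]
    · have htt : QuadraticMap.polar (⇑Q) t t ≠ 0 := by
        rw [QuadraticMap.polar_self]
        have h2 : (2 : ZMod 3) ≠ 0 := by decide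
        simpa using mul_ne_zero h2 (hS t ht)
      rw [div_mul_cancel₀ _ htt, sub_self]
    · intro s hs hst
      rw [horth t ht s hs (Ne.symm hst), mul_zero]
    · intro h; exact absurd ht h
  have hxp : QuadraticMap.polar (⇑Q) x p = 0 := by
    have := map_sum (QuadraticMap.polarBilin Q x)
      (fun s => (QuadraticMap.polar (⇑Q) s y / QuadraticMap.polar (⇑Q) s s) • s) S
    simp only [QuadraticMap.polarBilin_apply_apply, map_smul, smul_eq_mul] at this
    rw [hp, this]
    apply Finset.sum_eq_zero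
    intro s hs
    rw [QuadraticMap.polar_comm (⇑Q) x s, hxS s hs, mul_zero]
  have hxy' : QuadraticMap.polar (⇑Q) x (y - p) = 0 := by
    have h1 : Q x = 0 := hzero x hxS
    have h2 : Q (y - p) = 0 := hzero _ hy'
    have h3 : Q (x + (y - p)) = 0 := by
      apply hzero
      intro s hs
      rw [QuadraticMap.polar_add_right, hxS s hs, hy' s hs, add_zero]
    rw [QuadraticMap.polar, h1, h2, h3]; ring
  have : QuadraticMap.polar (⇑Q) x y =
      QuadraticMap.polar (⇑Q) x (y - p) + QuadraticMap.polar (⇑Q) x p := by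
    rw [← QuadraticMap.polar_add_right, sub_add_cancel]
  rw [this, hxy', hxp, add_zero]

theorem zmod3_cases_norm : ∀ a b c : ZMod 3, a ≠ 0 → b ≠ 0 → c ≠ 0 → a = c ∨ b = c ∨ a + b = c := by
  decide

/-- A vector of prescribed non-zero norm orthogonal to a small orthogonal family. -/
theorem exists_norm_orth (Q : QuadraticForm (ZMod 3) (Fin n → ZMod 3))
    (hQ : (QuadraticMap.polarBilin Q).Nondegenerate) (S : Finset (Fin n → ZMod 3))
    (hS : ∀ s ∈ S, Q s ≠ 0)
    (horth : ∀ s ∈ S, ∀ t ∈ S, s ≠ t → QuadraticMap.polar (⇑Q) s t = 0) (hcard : S.card + 1 < n)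
    {c : ZMod 3} (hc : c ≠ 0) :
    ∃ z, Q z = c ∧ ∀ s ∈ S, QuadraticMap.polar (⇑Q) s z = 0 := by
  classical
  obtain ⟨z1, hz1, ho1⟩ := exists_nonsing_orth Q hQ S hS horth (by omega)
  have hz1S : z1 ∉ S := by
    intro h
    have := ho1 z1 h
    rw [QuadraticMap.polar_self] at this
    have h2 : (2 : ZMod 3) ≠ 0 := by decide
    exact (mul_ne_zero h2 hz1) (by simpa using this)
  obtain ⟨z2, hz2, ho2⟩ := exists_nonsing_orth Q hQ (insert z1 S)
    (by
      intro s hs
      rcases Finset.mem_insert.mp hs with h | h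
      · rw [h]; exact hz1
      · exact hS s h)
    (by
      intro s hs t ht hst
      rcases Finset.mem_insert.mp hs with h | h
      · rcases Finset.mem_insert.mp ht with h' | h'
        · exact absurd (h.trans h'.symm) hst
        · rw [h, QuadraticMap.polar_comm]; exact ho1 t h'
      · rcases Finset.mem_insert.mp ht with h' | h'
        · rw [h']; exact ho1 s h
        · exact horth s h t h' hst)
    (by rw [Finset.card_insert_of_notMem hz1S]; omega)
  have h12 : QuadraticMap.polar (⇑Q) z1 z2 = 0 := ho2 z1 (Finset.mem_insert_self _ _)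
  have ho2' : ∀ s ∈ S, QuadraticMap.polar (⇑Q) s z2 = 0 :=
    fun s hs => ho2 s (Finset.mem_insert_of_mem hs)
  rcases zmod3_cases_norm (Q z1) (Q z2) c hz1 hz2 hc with h | h | h
  · exact ⟨z1, h, ho1⟩
  · exact ⟨z2, h, ho2'⟩
  · refine ⟨z1 + z2, ?_, ?_⟩
    · rw [QuadraticMap.map_add (⇑Q), h12, add_zero, h]
    · intro s hs
      rw [QuadraticMap.polar_add_right, ho1 s hs, ho2' s hs, add_zero]

end ModThree

end Cfsg.Agent.Helper89
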