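import Mathlib
import Cfsg.Prelude.Def_FischerSpaces
import Cfsg.Agent.Helper89.ReflConj
import Cfsg.Agent.Helper14.ReflGen
import Cfsg.Agent.Helper44.Spinor

/-!
# The subgroup generated by the reflections of a given norm over `ZMod 3` has index two
-/

set_option autoImplicit false

namespace Cfsg.Agent.Helper89

open Matrix Cfsg.Agent.Helper14 Cfsg.Agent.Helper44

section ReflIndex

variable {n : ℕ} (Q : QuadraticForm (ZMod 3) (Fin n → ZMod 3))

theorem refl_mem_reflectionSubgroup {c : ZMod 3} (u : Fin n → ZMod 3) (hu : Q u ≠ 0)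
    (huc : Q u = c) : refl Q u hu ∈ Cfsg.reflectionSubgroup (⇑Q) c :=
  Subgroup.subset_closure ⟨u, huc, rfl⟩

theorem three_eq_zero_zmod3 : (3 : ZMod 3) = 0 := by decide

theorem zmod3_inv_of_ne (e : ZMod 3) (he : e ≠ 0) : e⁻¹ = e :=
  inv_eq_of_mul_eq_one_right (zmod3_mul_self_of_ne e he)

/-- The product of the reflections in two orthogonal vectors of the same norm `d` is the product
of the reflections in their sum and difference, which have norm `-d`. -/
theorem reflectionMatrix_mul_orth {d : ZMod 3} (hd : d ≠ 0) {a b : Fin n → ZMod 3}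
    (ha : Q a = d) (hb : Q b = d) (hab : QuadraticMap.polar (⇑Q) a b = 0) :
    Cfsg.reflectionMatrix (⇑Q) a * Cfsg.reflectionMatrix (⇑Q) b =
      Cfsg.reflectionMatrix (⇑Q) (a + b) * Cfsg.reflectionMatrix (⇑Q) (a - b) := by
  have hQp : Q (a + b) = -d := by
    rw [QuadraticMap.map_add (⇑Q), ha, hb, hab]
    linear_combination d * three_eq_zero_zmod3
  have hQm : Q (a - b) = -d := by
    rw [sub_eq_add_neg, QuadraticMap.map_add (⇑Q), QuadraticMap.map_neg,
      QuadraticMap.polar_neg_right, ha, hb, hab]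
    linear_combination d * three_eq_zero_zmod3
  have hba : QuadraticMap.polar (⇑Q) b a = 0 := by rw [QuadraticMap.polar_comm]; exact hab
  apply Matrix.toLin'.injective
  apply LinearMap.ext
  intro x
  rw [Matrix.toLin'_apply, Matrix.toLin'_apply, ← Matrix.mulVec_mulVec, ← Matrix.mulVec_mulVec]
  simp only [reflectionMatrix_mulVec]
  rw [hQp, hQm, ha, hb, zmod3_inv_of_ne _ hd, zmod3_inv_of_ne _ (neg_ne_zero.mpr hd)]
  simp only [QuadraticMap.polar_sub_right, QuadraticMap.polar_smul_right,
    QuadraticMap.polar_add_left, QuadraticMap.polar_sub_left, hab, hba,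
    QuadraticMap.polar_self, ha, hb]
  ext i
  simp only [Pi.sub_apply, Pi.add_apply, Pi.smul_apply, smul_eq_mul]
  linear_combination (-(d * QuadraticMap.polar (⇑Q) b x * b i +
    d * QuadraticMap.polar (⇑Q) a x * a i)) * three_eq_zero_zmod3

/-- The product of the reflections in two orthogonal vectors of norm `d` lies in the subgroup
generated by the reflections of norm `-d`. -/
theorem refl_mul_refl_orth_mem {d : ZMod 3} (hd : d ≠ 0) {a b : Fin n → ZMod 3}
    (ha : Q a = d) (hb : Q b = d) (hab : QuadraticMap.polar (⇑Q) a b = 0) :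
    refl Q a (ha ▸ hd) * refl Q b (hb ▸ hd) ∈ Cfsg.reflectionSubgroup (⇑Q) (-d) := by
  have hQp : Q (a + b) = -d := by
    rw [QuadraticMap.map_add (⇑Q), ha, hb, hab]
    linear_combination d * three_eq_zero_zmod3
  have hQm : Q (a - b) = -d := by
    rw [sub_eq_add_neg, QuadraticMap.map_add (⇑Q), QuadraticMap.map_neg,
      QuadraticMap.polar_neg_right, ha, hb, hab]
    linear_combination d * three_eq_zero_zmod3
  have hnd : -d ≠ 0 := neg_ne_zero.mpr hd
  have hEq : refl Q a (ha ▸ hd) * refl Q b (hb ▸ hd) =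
      refl Q (a + b) (hQp ▸ hnd) * refl Q (a - b) (hQm ▸ hnd) :=
    Subtype.ext (Units.ext (reflectionMatrix_mul_orth Q hd ha hb hab))
  rw [hEq]
  exact mul_mem (refl_mem_reflectionSubgroup Q _ _ hQp) (refl_mem_reflectionSubgroup Q _ _ hQm)

theorem exists_norm_orth_three (hn : 5 ≤ n) (hQ : (QuadraticMap.polarBilin Q).Nondegenerate)
    {a e1 e2 : Fin n → ZMod 3} (ha : Q a ≠ 0) (h1 : Q e1 ≠ 0) (h2 : Q e2 ≠ 0)
    (ha1 : QuadraticMap.polar (⇑Q) a e1 = 0) (ha2 : QuadraticMap.polar (⇑Q) a e2 = 0)
    (h12 : QuadraticMap.polar (⇑Q) e1 e2 = 0) {d : ZMod 3} (hd : d ≠ 0) :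
    ∃ z, Q z = d ∧ QuadraticMap.polar (⇑Q) a z = 0 ∧ QuadraticMap.polar (⇑Q) e1 z = 0 ∧
      QuadraticMap.polar (⇑Q) e2 z = 0 := by
  classical
  have h1a : QuadraticMap.polar (⇑Q) e1 a = 0 := by rw [QuadraticMap.polar_comm]; exact ha1
  have h2a : QuadraticMap.polar (⇑Q) e2 a = 0 := by rw [QuadraticMap.polar_comm]; exact ha2
  have h21 : QuadraticMap.polar (⇑Q) e2 e1 = 0 := by rw [QuadraticMap.polar_comm]; exact h12
  obtain ⟨z, hz, hzo⟩ := exists_norm_orth Q hQ {a, e1, e2}
    (by
      intro s hs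
      simp only [Finset.mem_insert, Finset.mem_singleton] at hs
      rcases hs with rfl | rfl | rfl <;> assumption)
    (by
      intro s hs t ht hst
      simp only [Finset.mem_insert, Finset.mem_singleton] at hs ht
      rcases hs with rfl | rfl | rfl <;> rcases ht with rfl | rfl | rfl <;>
        first | exact absurd rfl hst | assumption)
    (by
      have := Finset.card_le_three (a := a) (b := e1) (c := e2)
      omega) hd
  exact ⟨z, hz, hzo a (by simp), hzo e1 (by simp), hzo e2 (by simp)⟩

theorem zmod3_exists_sign : ∀ p q : ZMod 3, p ≠ 0 → ∃ s : ZMod 3, s ≠ 0 ∧ p + s * q ≠ 0 := by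
  decide

theorem zmod3_e2_ne : ∀ B q : ZMod 3, B ≠ 0 → q ≠ 0 →
    (B * (2 * q)) * (B * (2 * q)) * q - (B * (2 * q)) * B ≠ 0 := by
  decide

/-- A vector of prescribed norm orthogonal to a non-singular vector `a` and to a singular vector
`r` orthogonal to `a`. -/
theorem exists_norm_orth_pair (hn : 5 ≤ n) (hQ : (QuadraticMap.polarBilin Q).Nondegenerate)
    {a r : Fin n → ZMod 3} (ha : Q a ≠ 0) (hr : Q r = 0)
    (har : QuadraticMap.polar (⇑Q) a r = 0) {d : ZMod 3} (hd : d ≠ 0) :
    ∃ z, Q z = d ∧ QuadraticMap.polar (⇑Q) a z = 0 ∧ QuadraticMap.polar (⇑Q) r z = 0 := by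
  classical
  by_cases hr0 : r = 0
  · obtain ⟨z, hz, hzo⟩ := exists_norm_orth Q hQ {a}
      (by intro s hs; rw [Finset.mem_singleton.mp hs]; exact ha)
      (by
        intro s hs t ht hst
        exact absurd ((Finset.mem_singleton.mp hs).trans (Finset.mem_singleton.mp ht).symm) hst)
      (by rw [Finset.card_singleton]; omega) hd
    refine ⟨z, hz, hzo a (Finset.mem_singleton_self a), ?_⟩
    rw [hr0, QuadraticMap.polar_zero_left]
  · have h2 : (2 : ZMod 3) ≠ 0 := by decide
    have hra : QuadraticMap.polar (⇑Q) r a = 0 := by rw [QuadraticMap.polar_comm]; exact har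
    have haa : QuadraticMap.polar (⇑Q) a a ≠ 0 := by
      rw [QuadraticMap.polar_self]
      simpa using mul_ne_zero h2 ha
    have hrr : QuadraticMap.polar (⇑Q) r r = 0 := by
      rw [QuadraticMap.polar_self, hr]; simp
    obtain ⟨y, hy⟩ : ∃ y, QuadraticMap.polar (⇑Q) r y ≠ 0 := by
      by_contra h
      push Not at h
      exact hr0 (hQ.1 r (fun y => by rw [QuadraticMap.polarBilin_apply_apply]; exact h y))
    -- project `y` to the orthogonal of `a`
    set y' : Fin n → ZMod 3 :=
      y - (QuadraticMap.polar (⇑Q) a y * QuadraticMap.polar (⇑Q) a a) • a with hy'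
    have hay' : QuadraticMap.polar (⇑Q) a y' = 0 := by
      rw [hy', QuadraticMap.polar_sub_right, QuadraticMap.polar_smul_right, smul_eq_mul,
        mul_assoc, zmod3_mul_self_of_ne _ haa, mul_one, sub_self]
    have hry' : QuadraticMap.polar (⇑Q) r y' = QuadraticMap.polar (⇑Q) r y := by
      rw [hy', QuadraticMap.polar_sub_right, QuadraticMap.polar_smul_right, hra, smul_zero,
        sub_zero]
    obtain ⟨s, hs0, hs⟩ := zmod3_exists_sign (QuadraticMap.polar (⇑Q) r y') (Q y')
      (by rw [hry']; exact hy)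
    set e1 : Fin n → ZMod 3 := r + s • y' with he1
    have hQe1 : Q e1 = s * (QuadraticMap.polar (⇑Q) r y' + s * Q y') := by
      rw [he1, QuadraticMap.map_add (⇑Q), QuadraticMap.map_smul, hr,
        QuadraticMap.polar_smul_right, smul_eq_mul, smul_eq_mul]
      ring
    have hQe1' : Q e1 ≠ 0 := by rw [hQe1]; exact mul_ne_zero hs0 hs
    have hae1 : QuadraticMap.polar (⇑Q) a e1 = 0 := by
      rw [he1, QuadraticMap.polar_add_right, QuadraticMap.polar_smul_right, har, hay', smul_zero,
        add_zero]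
    have hre1 : QuadraticMap.polar (⇑Q) r e1 ≠ 0 := by
      rw [he1, QuadraticMap.polar_add_right, QuadraticMap.polar_smul_right, hrr, zero_add,
        smul_eq_mul, hry']
      exact mul_ne_zero hs0 hy
    have he1r : QuadraticMap.polar (⇑Q) e1 r ≠ 0 := by rw [QuadraticMap.polar_comm]; exact hre1
    have he1e1 : QuadraticMap.polar (⇑Q) e1 e1 ≠ 0 := by
      rw [QuadraticMap.polar_self]
      simpa using mul_ne_zero h2 hQe1'
    set μ : ZMod 3 := QuadraticMap.polar (⇑Q) e1 r * QuadraticMap.polar (⇑Q) e1 e1 with hμ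
    set e2 : Fin n → ZMod 3 := r - μ • e1 with he2
    have he1e2 : QuadraticMap.polar (⇑Q) e1 e2 = 0 := by
      rw [he2, QuadraticMap.polar_sub_right, QuadraticMap.polar_smul_right, smul_eq_mul, hμ,
        mul_assoc, zmod3_mul_self_of_ne _ he1e1, mul_one, sub_self]
    have hae2 : QuadraticMap.polar (⇑Q) a e2 = 0 := by
      rw [he2, QuadraticMap.polar_sub_right, QuadraticMap.polar_smul_right, har, hae1, smul_zero,
        sub_zero]
    have hQe2 : Q e2 ≠ 0 := by
      have hval : Q e2 = μ * μ * Q e1 - μ * QuadraticMap.polar (⇑Q) e1 r := by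
        rw [he2, sub_eq_add_neg, ← neg_smul, QuadraticMap.map_add (⇑Q), QuadraticMap.map_smul, hr,
          QuadraticMap.polar_smul_right, QuadraticMap.polar_comm (⇑Q) r e1, smul_eq_mul,
          smul_eq_mul]
        ring
      have hμ' : μ = QuadraticMap.polar (⇑Q) e1 r * (2 * Q e1) := by
        rw [hμ, QuadraticMap.polar_self, two_smul, two_mul]
      rw [hval, hμ']
      exact zmod3_e2_ne _ _ he1r hQe1'
    obtain ⟨z, hz, hza, hz1, hz2⟩ := exists_norm_orth_three Q hn hQ ha hQe1' hQe2 hae1 hae2 he1e2 hd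
    refine ⟨z, hz, hza, ?_⟩
    have hrdecomp : r = e2 + μ • e1 := by rw [he2, sub_add_cancel]
    rw [hrdecomp, QuadraticMap.polar_add_left, QuadraticMap.polar_smul_left, hz1, hz2, smul_zero,
      add_zero]

theorem zmod3_singular_calc : ∀ d p : ZMod 3, d ≠ 0 → p ≠ 0 →
    d + (-(p * d)) * (-(p * d)) * d - (-(p * d)) * p = 0 := by
  decide

/-- The key lemma: the product of two reflections of norm `d` lies in the subgroup generated by
the reflections of norm `-d`. -/
theorem refl_mul_refl_mem (hn : 5 ≤ n) (hQ : (QuadraticMap.polarBilin Q).Nondegenerate)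
    {d : ZMod 3} (hd : d ≠ 0) {a b : Fin n → ZMod 3} (ha : Q a = d) (hb : Q b = d) :
    refl Q a (ha ▸ hd) * refl Q b (hb ▸ hd) ∈ Cfsg.reflectionSubgroup (⇑Q) (-d) := by
  by_cases hab : QuadraticMap.polar (⇑Q) a b = 0
  · exact refl_mul_refl_orth_mem Q hd ha hb hab
  · have ha0 : Q a ≠ 0 := ha ▸ hd
    set p : ZMod 3 := QuadraticMap.polar (⇑Q) a b with hp
    set t : ZMod 3 := -(p * d) with ht
    set r : Fin n → ZMod 3 := b - t • a with hr
    have hQr : Q r = 0 := by
      have hval : Q r = d + t * t * d - t * p := by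
        rw [hr, sub_eq_add_neg, ← neg_smul, QuadraticMap.map_add (⇑Q), QuadraticMap.map_smul, ha,
          hb, QuadraticMap.polar_smul_right, QuadraticMap.polar_comm (⇑Q) b a, ← hp, smul_eq_mul,
          smul_eq_mul]
        ring
      rw [hval, ht]
      exact zmod3_singular_calc d p hd hab
    have har : QuadraticMap.polar (⇑Q) a r = 0 := by
      rw [hr, QuadraticMap.polar_sub_right, QuadraticMap.polar_smul_right,
        QuadraticMap.polar_self, ha, ← hp, ht, smul_eq_mul, two_smul]
      have hdd := zmod3_mul_self_of_ne d hd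
      linear_combination (2 * p) * hdd + p * three_eq_zero_zmod3
    obtain ⟨z, hz, hza, hzr⟩ := exists_norm_orth_pair Q hn hQ ha0 hQr har hd
    have hbz : QuadraticMap.polar (⇑Q) b z = 0 := by
      have hbdecomp : b = r + t • a := by rw [hr, sub_add_cancel]
      rw [hbdecomp, QuadraticMap.polar_add_left, QuadraticMap.polar_smul_left, hzr, hza,
        smul_zero, add_zero]
    have hzb : QuadraticMap.polar (⇑Q) z b = 0 := by rw [QuadraticMap.polar_comm]; exact hbz
    have hEq : refl Q a (ha ▸ hd) * refl Q b (hb ▸ hd) =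
        (refl Q a (ha ▸ hd) * refl Q z (hz ▸ hd)) * (refl Q z (hz ▸ hd) * refl Q b (hb ▸ hd)) := by
      rw [mul_assoc, ← mul_assoc (refl Q z _), refl_mul_self, one_mul]
    rw [hEq]
    exact mul_mem (refl_mul_refl_orth_mem Q hd ha hz hza) (refl_mul_refl_orth_mem Q hd hz hb hzb)

/-- Conjugating a reflection by a reflection. -/
theorem refl_conj_refl {b w : Fin n → ZMod 3} (hb : Q b ≠ 0) (hw : Q w ≠ 0) :
    refl Q b hb * refl Q w hw * refl Q b hb =
      refl Q (Cfsg.reflectionMatrix (⇑Q) b *ᵥ w)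
        (by rw [reflectionMatrix_isometry Q b hb]; exact hw) :=
  Subtype.ext (Units.ext (reflection_conj Q _ _ (reflectionMatrix_mul_self Q b hb)
    (reflectionMatrix_isometry Q b hb) w))

theorem zmod3_not_isSquare_neg_mul_self (c : ZMod 3) (hc : c ≠ 0) : ¬ IsSquare (-c * c) := by
  rw [neg_mul, zmod3_mul_self_of_ne c hc]
  rintro ⟨r, hr⟩
  revert r
  decide

theorem zmod3_eq_or_eq_neg : ∀ c x : ZMod 3, c ≠ 0 → x ≠ 0 → x = c ∨ x = -c := by decide

/-- The subgroup generated by the reflections of norm `c` has index two in the isometry group. -/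
theorem index_reflectionSubgroup (hn : 5 ≤ n) (hQ : (QuadraticMap.polarBilin Q).Nondegenerate)
    {c : ZMod 3} (hc : c ≠ 0) : (Cfsg.reflectionSubgroup (⇑Q) c).index = 2 := by
  classical
  have h2 : (2 : ZMod 3) ≠ 0 := by decide
  have hnc : -c ≠ 0 := neg_ne_zero.mpr hc
  rw [Subgroup.index_eq_two_iff_exists_notMem_and']
  obtain ⟨b, hb, -⟩ := exists_norm_orth Q hQ ∅ (by simp) (by simp) (by simp; omega) hnc
  have hb0 : Q b ≠ 0 := hb ▸ hnc
  refine ⟨refl Q b hb0, ?_, ?_⟩
  · intro hmem
    have hker : Cfsg.reflectionSubgroup (⇑Q) c ≤ (signChar (⇑Q) (-c)).ker := by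
      unfold Cfsg.reflectionSubgroup
      rw [Subgroup.closure_le]
      rintro g ⟨v, hv, hg⟩
      have hv0 : Q v ≠ 0 := hv ▸ hc
      have hgv : g = refl Q v hv0 := Subtype.ext (Units.ext hg)
      rw [hgv, SetLike.mem_coe, MonoidHom.mem_ker]
      apply signChar_refl_of_not_isSquare Q h2 hnc v hv0
      rw [hv]
      exact zmod3_not_isSquare_neg_mul_self c hc
    have h1 := hker hmem
    rw [MonoidHom.mem_ker, signChar_refl_of_isSquare Q h2 hnc b hb0
      (by rw [hb, neg_mul_neg, zmod3_mul_self_of_ne c hc]; exact ⟨1, by simp⟩)] at h1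
    exact absurd h1 (by decide)
  · intro g
    obtain ⟨l, rfl⟩ := exists_reflIso_list h2 Q hQ g
    induction l with
    | nil =>
      right
      rw [List.map_nil, List.prod_nil]
      exact one_mem _
    | cons w l ih =>
      rw [List.map_cons, List.prod_cons]
      set g' := (l.map (reflIso Q)).prod with hg'
      have hww : reflIso Q w = refl Q w.1 w.2 := rfl
      rw [hww]
      have hbb : refl Q b hb0 * refl Q b hb0 = 1 := refl_mul_self Q b hb0
      rcases zmod3_eq_or_eq_neg c (Q w.1) hc w.2 with hwc | hwc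
      · -- norm c: the reflection lies in the subgroup
        have hwR : refl Q w.1 w.2 ∈ Cfsg.reflectionSubgroup (⇑Q) c :=
          refl_mem_reflectionSubgroup Q _ _ hwc
        rcases ih with ih | ih
        · left
          have hEq : refl Q b hb0 * (refl Q w.1 w.2 * g') =
              (refl Q b hb0 * refl Q w.1 w.2 * refl Q b hb0) * (refl Q b hb0 * g') := by
            rw [mul_assoc (refl Q b hb0 * refl Q w.1 w.2), ← mul_assoc (refl Q b hb0) (refl Q b hb0),
              hbb, one_mul, mul_assoc]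
          rw [hEq, refl_conj_refl Q hb0 w.2]
          refine mul_mem (refl_mem_reflectionSubgroup Q _ _ ?_) ih
          rw [reflectionMatrix_isometry Q b hb0]
          exact hwc
        · right
          exact mul_mem hwR ih
      · -- norm -c
        rcases ih with ih | ih
        · right
          have hEq : refl Q w.1 w.2 * g' =
              (refl Q w.1 w.2 * refl Q b hb0) * (refl Q b hb0 * g') := by
            rw [mul_assoc, ← mul_assoc (refl Q b hb0) (refl Q b hb0), hbb, one_mul]
          rw [hEq]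
          have hK := refl_mul_refl_mem Q hn hQ hnc hwc hb
          rw [neg_neg] at hK
          exact mul_mem hK ih
        · left
          have hK := refl_mul_refl_mem Q hn hQ hnc hb hwc
          rw [neg_neg] at hK
          rw [← mul_assoc]
          exact mul_mem hK ih

end ReflIndex

end Cfsg.Agent.Helper89
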