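import Mathlib
import Cfsg.Prelude.Def_FischerSpaces
import Cfsg.Agent.Helper89.ReflIndex

/-!
# Geometry of vectors of a fixed norm in an orthogonal space over `ZMod 3`
-/

set_option autoImplicit false

namespace Cfsg.Agent.Helper89

open Matrix Cfsg.Agent.Helper14

section ReflGeom

variable {n : ℕ} (Q : QuadraticForm (ZMod 3) (Fin n → ZMod 3))

/-- If two reflections agree, every vector orthogonal to the centre of one is orthogonal to the
centre of the other. -/
theorem polar_eq_zero_of_reflectionMatrix_eq {u v y : Fin n → ZMod 3}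
    (h : Cfsg.reflectionMatrix (⇑Q) u = Cfsg.reflectionMatrix (⇑Q) v) (hu : Q u ≠ 0)
    (hvy : QuadraticMap.polar (⇑Q) v y = 0) : QuadraticMap.polar (⇑Q) u y = 0 := by
  have h1 := reflectionMatrix_apply_of_polar_eq_zero Q v y hvy
  rw [← h, reflectionMatrix_mulVec] at h1
  have h2 : ((Q u)⁻¹ * QuadraticMap.polar (⇑Q) u y) • u = 0 := by
    have := sub_eq_self.mp h1
    exact this
  have hu0 : u ≠ 0 := by
    rintro rfl
    exact hu (map_zero Q)
  rcases smul_eq_zero.mp h2 with h3 | h3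
  · rcases mul_eq_zero.mp h3 with h4 | h4
    · exact absurd (inv_eq_zero.mp h4) hu
    · exact h4
  · exact absurd h3 hu0

/-- Two non-orthogonal vectors of the same norm have a common orthogonal vector of any prescribed
non-zero norm. -/
theorem exists_norm_orth_of_polar_ne (hn : 5 ≤ n) (hQ : (QuadraticMap.polarBilin Q).Nondegenerate)
    {d : ZMod 3} (hd : d ≠ 0) {a b : Fin n → ZMod 3} (ha : Q a = d) (hb : Q b = d)
    (hab : QuadraticMap.polar (⇑Q) a b ≠ 0) {d' : ZMod 3} (hd' : d' ≠ 0) :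
    ∃ z, Q z = d' ∧ QuadraticMap.polar (⇑Q) a z = 0 ∧ QuadraticMap.polar (⇑Q) b z = 0 := by
  have ha0 : Q a ≠ 0 := ha ▸ hd
  obtain ⟨p, hp⟩ : ∃ p, p = QuadraticMap.polar (⇑Q) a b := ⟨_, rfl⟩
  obtain ⟨t, ht⟩ : ∃ t, t = -(p * d) := ⟨_, rfl⟩
  obtain ⟨r, hr⟩ : ∃ r, r = b - t • a := ⟨_, rfl⟩
  have hQr : Q r = 0 := by
    have hval : Q r = d + t * t * d - t * p := by
      rw [hr, sub_eq_add_neg, ← neg_smul, QuadraticMap.map_add (⇑Q), QuadraticMap.map_smul, ha,
        hb, QuadraticMap.polar_smul_right, QuadraticMap.polar_comm (⇑Q) b a, ← hp, smul_eq_mul,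
        smul_eq_mul]
      ring
    rw [hval, ht]
    exact zmod3_singular_calc d p hd (hp ▸ hab)
  have har : QuadraticMap.polar (⇑Q) a r = 0 := by
    rw [hr, QuadraticMap.polar_sub_right, QuadraticMap.polar_smul_right,
      QuadraticMap.polar_self, ha, ← hp, ht, smul_eq_mul, two_smul]
    have hdd := zmod3_mul_self_of_ne d hd
    linear_combination (2 * p) * hdd + p * three_eq_zero_zmod3
  obtain ⟨z, hz, hza, hzr⟩ := exists_norm_orth_pair Q hn hQ ha0 hQr har hd'
  refine ⟨z, hz, hza, ?_⟩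
  have hbdecomp : b = r + t • a := by rw [hr, sub_add_cancel]
  rw [hbdecomp, QuadraticMap.polar_add_left, QuadraticMap.polar_smul_left, hzr, hza,
    smul_zero, add_zero]

theorem zmod3_norm_calc : ∀ c y q : ZMod 3, q ≠ 0 → y + ((c - y) * q) * q = c := by decide

/-- For two non-orthogonal vectors `v`, `w` of norm `c` with different reflections, some vector
of norm `c` is orthogonal to `v` but not to `w`. -/
theorem exists_norm_orth_left_not_right (hQ : (QuadraticMap.polarBilin Q).Nondegenerate)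
    {c : ZMod 3} (hc : c ≠ 0) {v w : Fin n → ZMod 3} (hv : Q v = c) (hw : Q w = c)
    (hvw : QuadraticMap.polar (⇑Q) v w ≠ 0)
    (hne : Cfsg.reflectionMatrix (⇑Q) w ≠ Cfsg.reflectionMatrix (⇑Q) v) :
    ∃ u, Q u = c ∧ QuadraticMap.polar (⇑Q) u v = 0 ∧ QuadraticMap.polar (⇑Q) u w ≠ 0 := by
  have h2 : (2 : ZMod 3) ≠ 0 := by decide
  have hv0 : Q v ≠ 0 := hv ▸ hc
  obtain ⟨p, hp⟩ : ∃ p, p = QuadraticMap.polar (⇑Q) v w := ⟨_, rfl⟩
  obtain ⟨t, ht⟩ : ∃ t, t = -(p * c) := ⟨_, rfl⟩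
  obtain ⟨r, hr⟩ : ∃ r, r = w - t • v := ⟨_, rfl⟩
  have hQr : Q r = 0 := by
    have hval : Q r = c + t * t * c - t * p := by
      rw [hr, sub_eq_add_neg, ← neg_smul, QuadraticMap.map_add (⇑Q), QuadraticMap.map_smul, hv,
        hw, QuadraticMap.polar_smul_right, QuadraticMap.polar_comm (⇑Q) w v, ← hp, smul_eq_mul,
        smul_eq_mul]
      ring
    rw [hval, ht]
    exact zmod3_singular_calc c p hc (hp ▸ hvw)
  have hvr : QuadraticMap.polar (⇑Q) v r = 0 := by
    rw [hr, QuadraticMap.polar_sub_right, QuadraticMap.polar_smul_right,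
      QuadraticMap.polar_self, hv, ← hp, ht, smul_eq_mul, two_smul]
    have hcc := zmod3_mul_self_of_ne c hc
    linear_combination (2 * p) * hcc + p * three_eq_zero_zmod3
  have hrv : QuadraticMap.polar (⇑Q) r v = 0 := by rw [QuadraticMap.polar_comm]; exact hvr
  have hrr : QuadraticMap.polar (⇑Q) r r = 0 := by
    rw [QuadraticMap.polar_self, hQr]; simp
  have hr0 : r ≠ 0 := by
    intro h0
    apply hne
    have hwt : w = t • v := by
      have := hr.symm
      rw [h0, sub_eq_zero] at this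
      exact this
    have ht0 : t ≠ 0 := by
      rw [ht]
      exact neg_ne_zero.mpr (mul_ne_zero (hp ▸ hvw) hc)
    rw [hwt]
    exact reflection_smul Q v hv0 t ht0
  obtain ⟨y0, hy0⟩ : ∃ y, QuadraticMap.polar (⇑Q) r y ≠ 0 := by
    by_contra h
    push Not at h
    exact hr0 (hQ.1 r (fun y => by rw [QuadraticMap.polarBilin_apply_apply]; exact h y))
  have hvv : QuadraticMap.polar (⇑Q) v v ≠ 0 := by
    rw [QuadraticMap.polar_self]
    simpa using mul_ne_zero h2 hv0
  obtain ⟨y, hy⟩ : ∃ y, y = y0 - (QuadraticMap.polar (⇑Q) v y0 * QuadraticMap.polar (⇑Q) v v) • v :=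
    ⟨_, rfl⟩
  have hvy : QuadraticMap.polar (⇑Q) v y = 0 := by
    rw [hy, QuadraticMap.polar_sub_right, QuadraticMap.polar_smul_right, smul_eq_mul,
      mul_assoc, zmod3_mul_self_of_ne _ hvv, mul_one, sub_self]
  have hry : QuadraticMap.polar (⇑Q) r y ≠ 0 := by
    rw [hy, QuadraticMap.polar_sub_right, QuadraticMap.polar_smul_right, hrv, smul_zero, sub_zero]
    exact hy0
  obtain ⟨q, hq⟩ : ∃ q, q = QuadraticMap.polar (⇑Q) r y := ⟨_, rfl⟩
  have hq0 : q ≠ 0 := hq ▸ hry
  obtain ⟨u, hu⟩ : ∃ u, u = y + ((c - Q y) * q) • r := ⟨_, rfl⟩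
  have hur : QuadraticMap.polar (⇑Q) u r = q := by
    rw [hu, QuadraticMap.polar_add_left, QuadraticMap.polar_smul_left, hrr, smul_zero, add_zero,
      QuadraticMap.polar_comm, hq]
  have huv : QuadraticMap.polar (⇑Q) u v = 0 := by
    rw [hu, QuadraticMap.polar_add_left, QuadraticMap.polar_smul_left, hrv, smul_zero, add_zero,
      QuadraticMap.polar_comm]
    exact hvy
  refine ⟨u, ?_, huv, ?_⟩
  · rw [hu, QuadraticMap.map_add (⇑Q), QuadraticMap.map_smul, hQr, QuadraticMap.polar_smul_right,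
      QuadraticMap.polar_comm (⇑Q) y r, ← hq, smul_eq_mul, smul_eq_mul, mul_zero, add_zero]
    exact zmod3_norm_calc c (Q y) q hq0
  · have hwdecomp : w = r + t • v := by rw [hr, sub_add_cancel]
    rw [hwdecomp, QuadraticMap.polar_add_right, QuadraticMap.polar_smul_right, huv, smul_zero,
      add_zero, hur]
    exact hq0

/-- For two orthogonal vectors `v`, `w` of norm `c`, some vector of norm `c` is orthogonal to `w`
but not to `v`, and its reflection differs from that of `v`. -/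
theorem exists_norm_orth_right_not_left (hn : 5 ≤ n)
    (hQ : (QuadraticMap.polarBilin Q).Nondegenerate) {c : ZMod 3} (hc : c ≠ 0)
    {v w : Fin n → ZMod 3} (hv : Q v = c) (hw : Q w = c)
    (hvw : QuadraticMap.polar (⇑Q) v w = 0) :
    ∃ u, Q u = c ∧ QuadraticMap.polar (⇑Q) u w = 0 ∧ QuadraticMap.polar (⇑Q) u v ≠ 0 ∧
      Cfsg.reflectionMatrix (⇑Q) u ≠ Cfsg.reflectionMatrix (⇑Q) v := by
  classical
  have h2 : (2 : ZMod 3) ≠ 0 := by decide
  have hv0 : Q v ≠ 0 := hv ▸ hc
  have hw0 : Q w ≠ 0 := hw ▸ hc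
  have hnc : -c ≠ 0 := neg_ne_zero.mpr hc
  have hvv : QuadraticMap.polar (⇑Q) v v ≠ 0 := by
    rw [QuadraticMap.polar_self]
    simpa using mul_ne_zero h2 hv0
  obtain ⟨z1, hz1, hz1o⟩ := exists_norm_orth Q hQ {v, w}
    (by
      intro s hs
      simp only [Finset.mem_insert, Finset.mem_singleton] at hs
      rcases hs with rfl | rfl <;> assumption)
    (by
      intro s hs t ht hst
      simp only [Finset.mem_insert, Finset.mem_singleton] at hs ht
      rcases hs with rfl | rfl <;> rcases ht with rfl | rfl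
      · exact absurd rfl hst
      · exact hvw
      · rw [QuadraticMap.polar_comm]; exact hvw
      · exact absurd rfl hst)
    (by
      have := Finset.card_le_two (a := v) (b := w)
      omega) hc
  have hvz1 : QuadraticMap.polar (⇑Q) v z1 = 0 := hz1o v (by simp)
  have hwz1 : QuadraticMap.polar (⇑Q) w z1 = 0 := hz1o w (by simp)
  have hz10 : Q z1 ≠ 0 := hz1 ▸ hc
  obtain ⟨z2, hz2, hvz2, hwz2, hz1z2⟩ :=
    exists_norm_orth_three Q hn hQ hv0 hw0 hz10 hvw hvz1 hwz1 hnc
  have hz1z1 : QuadraticMap.polar (⇑Q) z1 z1 ≠ 0 := by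
    rw [QuadraticMap.polar_self]
    simpa using mul_ne_zero h2 hz10
  obtain ⟨u, hu⟩ : ∃ u, u = v + z1 + z2 := ⟨_, rfl⟩
  have hQu : Q u = c := by
    rw [hu, QuadraticMap.map_add (⇑Q), QuadraticMap.map_add (⇑Q), hv, hz1, hz2, hvz1,
      QuadraticMap.polar_add_left, hvz2, hz1z2]
    ring
  have huw : QuadraticMap.polar (⇑Q) u w = 0 := by
    rw [hu, QuadraticMap.polar_add_left, QuadraticMap.polar_add_left, hvw,
      QuadraticMap.polar_comm (⇑Q) z1 w, hwz1, QuadraticMap.polar_comm (⇑Q) z2 w, hwz2]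
    ring
  have huv : QuadraticMap.polar (⇑Q) u v ≠ 0 := by
    rw [hu, QuadraticMap.polar_add_left, QuadraticMap.polar_add_left,
      QuadraticMap.polar_comm (⇑Q) z1 v, hvz1, QuadraticMap.polar_comm (⇑Q) z2 v, hvz2, add_zero,
      add_zero]
    exact hvv
  have huz1 : QuadraticMap.polar (⇑Q) u z1 ≠ 0 := by
    rw [hu, QuadraticMap.polar_add_left, QuadraticMap.polar_add_left, hvz1,
      QuadraticMap.polar_comm (⇑Q) z2 z1, hz1z2, zero_add, add_zero]
    exact hz1z1
  refine ⟨u, hQu, huw, huv, ?_⟩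
  intro h
  exact huz1 (polar_eq_zero_of_reflectionMatrix_eq Q h (hQu ▸ hc) hvz1)

end ReflGeom

end Cfsg.Agent.Helper89
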