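import Mathlib
import Cfsg.Prelude.Def_FischerSpaces
import Cfsg.Agent.Helper89.TranspLines

/-!
# A 3-string of 3-transpositions spans a dual affine plane of order two
-/

set_option autoImplicit false

namespace Cfsg.Agent.Helper89

open Cfsg Cfsg.LineSystem

/-- The transposition of `Fin 4` attached to a two-element subset. -/
def swapOfPair (s : DualAffinePoint) : Equiv.Perm (Fin 4) :=
  if 0 ∈ s.val then
    (if 1 ∈ s.val then Equiv.swap 0 1 else if 2 ∈ s.val then Equiv.swap 0 2 else Equiv.swap 0 3)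
  else if 1 ∈ s.val then (if 2 ∈ s.val then Equiv.swap 1 2 else Equiv.swap 1 3)
  else Equiv.swap 2 3

set_option maxRecDepth 1000000 in
theorem swapOfPair_conj : ∀ s : DualAffinePoint, ∃ g : Equiv.Perm (Fin 4),
    swapOfPair s = g * Equiv.swap 0 1 * g⁻¹ := by
  decide

set_option maxRecDepth 1000000 in
theorem swapOfPair_inj : ∀ s t : DualAffinePoint, swapOfPair s = swapOfPair t → s = t := by
  decide

set_option maxRecDepth 1000000 in
theorem swapOfPair_third : ∀ v w u : DualAffinePoint, DualThird v w u →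
    ¬ (swapOfPair v * swapOfPair w = swapOfPair w * swapOfPair v) ∧
      swapOfPair u = swapOfPair w * swapOfPair v * (swapOfPair w)⁻¹ := by
  decide

set_option maxRecDepth 1000000 in
theorem swapOfPair_commute : ∀ v w : DualAffinePoint, (∀ u, ¬ DualThird v w u) →
    swapOfPair v * swapOfPair w = swapOfPair w * swapOfPair v := by
  decide

set_option maxRecDepth 1000000 in
theorem dual_line_exists : ∀ i : Fin 4, ∃ v w u : DualAffinePoint,
    DualThird v w u ∧ i ∉ v.val ∧ i ∉ w.val ∧ i ∉ u.val := by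
  decide

/-- The six points of the dual affine plane. -/
def pt01 : DualAffinePoint := ⟨{0, 1}, by decide⟩
def pt12 : DualAffinePoint := ⟨{1, 2}, by decide⟩
def pt23 : DualAffinePoint := ⟨{2, 3}, by decide⟩
def pt02 : DualAffinePoint := ⟨{0, 2}, by decide⟩
def pt13 : DualAffinePoint := ⟨{1, 3}, by decide⟩
def pt03 : DualAffinePoint := ⟨{0, 3}, by decide⟩

theorem swapOfPair_pt01 : swapOfPair pt01 = Equiv.swap 0 1 := by decide
theorem swapOfPair_pt12 : swapOfPair pt12 = Equiv.swap 1 2 := by decide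
theorem swapOfPair_pt23 : swapOfPair pt23 = Equiv.swap 2 3 := by decide
theorem dualThird_01_12 : DualThird pt01 pt12 pt02 := by decide
theorem dualThird_12_23 : DualThird pt12 pt23 pt13 := by decide
theorem dualThird_02_23 : DualThird pt02 pt23 pt03 := by decide
theorem dual_pt_cases : ∀ s : DualAffinePoint,
    s = pt01 ∨ s = pt12 ∨ s = pt23 ∨ s = pt02 ∨ s = pt13 ∨ s = pt03 := by decide

theorem dual_lines_three : ∀ l ∈ dualAffinePlaneTwo, ∃ v w u : DualAffinePoint,
    IsThird dualAffinePlaneTwo v w u ∧ l = {v, w, u} := by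
  rintro l ⟨i, rfl⟩
  obtain ⟨v, w, u, h, hv, hw, hu⟩ := dual_line_exists i
  refine ⟨v, w, u, isThird_dual_iff.mpr h, ?_⟩
  ext s
  constructor
  · intro hs
    exact dual_line_three v w u i ⟨h.1, h.2.1, h.2.2.1, hv, hw, hu⟩ s hs
  · rintro (rfl | rfl | rfl) <;> assumption

variable {G : Type*} [Group G] {D : Set G}

/-- A 3-string `x - y - z` spans a subspace isomorphic to the dual affine plane of order 2. -/
theorem s4_plane (hD : IsThreeTranspositionSet D)
    (hconj : ∀ g : G, ∀ d ∈ D, g * d * g⁻¹ ∈ D) {x y z : D} (hxz : x ≠ z)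
    (hc : Commute x.1 z.1) (hxy : ¬ Commute x.1 y.1) (hyz : ¬ Commute y.1 z.1) :
    ∃ S : Set D, IsSubspace (threeTranspositionLines D) S ∧
      Isomorphic (restrict (threeTranspositionLines D) S) dualAffinePlaneTwo ∧
      x ∈ S ∧ y ∈ S ∧ z ∈ S ∧
      ∀ T : Set D, IsSubspace (threeTranspositionLines D) T → x ∈ T → y ∈ T → z ∈ T → S ⊆ T := by
  obtain ⟨φ, hφ, h01, h12, h23⟩ := Cfsg.Agent.S5344.result hD x.2 y.2 z.2
    (fun e => hxz (Subtype.ext e)) hc hxy hyz
  have hmem : ∀ s : DualAffinePoint, φ (swapOfPair s) ∈ D := by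
    intro s
    obtain ⟨g, hg⟩ := swapOfPair_conj s
    rw [hg, map_mul, map_mul, map_inv, h01]
    exact hconj _ _ x.2
  let q : DualAffinePoint → D := fun s => ⟨φ (swapOfPair s), hmem s⟩
  have hqv : ∀ s, (q s).1 = φ (swapOfPair s) := fun s => rfl
  have hq : Function.Injective q := by
    intro s t hst
    have : φ (swapOfPair s) = φ (swapOfPair t) := congrArg Subtype.val hst
    exact swapOfPair_inj s t (hφ this)
  have ha : ∀ v w u, IsThird dualAffinePlaneTwo v w u → Tri (q v).1 (q w).1 (q u).1 := by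
    intro v w u h
    obtain ⟨h1, h2⟩ := swapOfPair_third v w u (isThird_dual_iff.mp h)
    refine ⟨?_, ?_⟩
    · intro hcom
      apply h1
      apply hφ
      rw [map_mul, map_mul]
      exact hcom.eq
    · rw [hqv, hqv, hqv, h2, cj, map_mul, map_mul, map_inv]
  have hb : ∀ v w, (∀ u, ¬ IsThird dualAffinePlaneTwo v w u) → Commute (q v).1 (q w).1 := by
    intro v w h
    have h1 := swapOfPair_commute v w fun u hu => h u (isThird_dual_iff.mpr hu)
    show φ (swapOfPair v) * φ (swapOfPair w) = φ (swapOfPair w) * φ (swapOfPair v)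
    rw [← map_mul, ← map_mul, h1]
  obtain ⟨hsub, hiso⟩ := model_iso hD hconj dualAffinePlaneTwo q hq dual_lines_three ha hb
  have hx : q pt01 = x := Subtype.ext (by rw [hqv, swapOfPair_pt01, h01])
  have hy : q pt12 = y := Subtype.ext (by rw [hqv, swapOfPair_pt12, h12])
  have hz : q pt23 = z := Subtype.ext (by rw [hqv, swapOfPair_pt23, h23])
  refine ⟨Set.range q, hsub, hiso, ⟨pt01, hx⟩, ⟨pt12, hy⟩, ⟨pt23, hz⟩, ?_⟩
  intro T hT hxT hyT hzT
  have t01 : q pt01 ∈ T := hx ▸ hxT
  have t12 : q pt12 ∈ T := hy ▸ hyT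
  have t23 : q pt23 ∈ T := hz ▸ hzT
  have t02 : q pt02 ∈ T := mem_of_subspace_of_tri hD hconj hT t01 t12
    (ha _ _ _ (isThird_dual_iff.mpr dualThird_01_12))
  have t13 : q pt13 ∈ T := mem_of_subspace_of_tri hD hconj hT t12 t23
    (ha _ _ _ (isThird_dual_iff.mpr dualThird_12_23))
  have t03 : q pt03 ∈ T := mem_of_subspace_of_tri hD hconj hT t02 t23
    (ha _ _ _ (isThird_dual_iff.mpr dualThird_02_23))
  rintro _ ⟨s, rfl⟩
  rcases dual_pt_cases s with rfl | rfl | rfl | rfl | rfl | rfl <;> assumption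

end Cfsg.Agent.Helper89
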