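import Cfsg.Agent.Helper62.SC3.Defs3

/-!
# S3331 block M wave 0, bundle (BAS3) (helper89 for helper62)
-/

set_option autoImplicit false
set_option linter.unusedSectionVars false

namespace Cfsg.Agent.Helper89.SC3

open Cfsg.Agent.Helper62.SC3

universe u

variable {G : Type u} [Group G] [Finite G]

omit [Finite G] in
theorem BAS3_t_mul_t (S : Setup G) : S.t * S.t = 1 := by
  have h := pow_orderOf_eq_one S.t
  rw [S.ht, pow_two] at h
  exact h

omit [Finite G] in
theorem BAS3_t_inv (S : Setup G) : S.t⁻¹ = S.t := inv_eq_of_mul_eq_one_left (BAS3_t_mul_t S)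

omit [Finite G] in
theorem BAS3_mem_conjT (S : Setup G) (M : Subgroup G) (g : G) :
    g ∈ conjT S M ↔ S.t * g * S.t ∈ M := by
  unfold conjT
  constructor
  · rintro ⟨m, hm, rfl⟩
    have : S.t * ((MulAut.conj S.t).toMonoidHom m) * S.t = m := by
      change S.t * (S.t * m * S.t⁻¹) * S.t = m
      rw [BAS3_t_inv]
      calc S.t * (S.t * m * S.t) * S.t = (S.t * S.t) * m * (S.t * S.t) := by group
        _ = m := by rw [BAS3_t_mul_t, one_mul, mul_one]
    rw [this]
    exact hm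
  · intro h
    refine ⟨S.t * g * S.t, h, ?_⟩
    change S.t * (S.t * g * S.t) * S.t⁻¹ = g
    rw [BAS3_t_inv]
    calc S.t * (S.t * g * S.t) * S.t = (S.t * S.t) * g * (S.t * S.t) := by group
      _ = g := by rw [BAS3_t_mul_t, one_mul, mul_one]

omit [Finite G] in
theorem BAS3_t_x_t (S : Setup G) : S.t * S.x * S.t = S.x⁻¹ := by
  have h := S.htx
  rw [BAS3_t_inv] at h
  exact h

omit [Finite G] in
theorem BAS3_t_xinv_t (S : Setup G) : S.t * S.x⁻¹ * S.t = S.x := by
  rw [← BAS3_t_x_t S]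
  calc S.t * (S.t * S.x * S.t) * S.t = (S.t * S.t) * S.x * (S.t * S.t) := by group
    _ = S.x := by rw [BAS3_t_mul_t, one_mul, mul_one]

theorem BAS_inv3_bot (S : Setup G) : Inv3 S (⊥ : Subgroup G) := by
  refine ⟨?_, ?_⟩
  · rw [Subgroup.mem_normalizer_iff]
    intro h
    rw [Subgroup.mem_bot, Subgroup.mem_bot]
    constructor
    · rintro rfl; group
    · intro h1
      have : h = S.x⁻¹ * (S.x * h * S.x⁻¹) * S.x := by group
      rw [this, h1]; group
  · rw [Subgroup.card_bot]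
    exact Nat.coprime_one_left 3

theorem BAS_inv3_inf_of_mem (S : Setup G) {B L : Subgroup G} (hB : Inv3 S B)
    (hL : S.x ∈ Subgroup.normalizer (L : Set G)) : Inv3 S (B ⊓ L) := by
  refine ⟨?_, ?_⟩
  · have h1 := Subgroup.mem_normalizer_iff.1 hB.1
    have h2 := Subgroup.mem_normalizer_iff.1 hL
    rw [Subgroup.mem_normalizer_iff]
    intro h
    rw [Subgroup.mem_inf, Subgroup.mem_inf, h1 h, h2 h]
  · exact Nat.Coprime.coprime_dvd_left (Subgroup.card_dvd_of_le inf_le_left) hB.2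

theorem BAS_inv3_inf (S : Setup G) {B C : Subgroup G} (hB : Inv3 S B) (hC : Inv3 S C) :
    Inv3 S (B ⊓ C) := BAS_inv3_inf_of_mem S hB hC.1

theorem BAS_card_conjT (S : Setup G) (M : Subgroup G) : Nat.card (conjT S M) = Nat.card M := by
  unfold conjT
  exact Nat.card_congr (M.equivMapOfInjective _ (MulAut.conj S.t).injective).symm.toEquiv

theorem BAS_inv3_conjT (S : Setup G) {B : Subgroup G} (hB : Inv3 S B) : Inv3 S (conjT S B) := by
  refine ⟨?_, ?_⟩
  · have hxi : S.x⁻¹ ∈ Subgroup.normalizer (B : Set G) := Subgroup.inv_mem _ hB.1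
    have h1 := Subgroup.mem_normalizer_iff.1 hxi
    rw [Subgroup.mem_normalizer_iff]
    intro h
    rw [BAS3_mem_conjT, BAS3_mem_conjT, h1 (S.t * h * S.t), inv_inv]
    have e : S.t * (S.x * h * S.x⁻¹) * S.t = S.x⁻¹ * (S.t * h * S.t) * S.x := by
      calc S.t * (S.x * h * S.x⁻¹) * S.t
          = S.t * S.x * (1 : G) * h * (1 : G) * S.x⁻¹ * S.t := by group
        _ = S.t * S.x * (S.t * S.t) * h * (S.t * S.t) * S.x⁻¹ * S.t := by rw [BAS3_t_mul_t]
        _ = (S.t * S.x * S.t) * (S.t * h * S.t) * (S.t * S.x⁻¹ * S.t) := by group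
        _ = S.x⁻¹ * (S.t * h * S.t) * S.x := by rw [BAS3_t_x_t, BAS3_t_xinv_t]
    rw [e]
  · rw [BAS_card_conjT]
    exact hB.2

theorem BAS_conjT_conjT (S : Setup G) (M : Subgroup G) : conjT S (conjT S M) = M := by
  ext g
  rw [BAS3_mem_conjT, BAS3_mem_conjT]
  have : S.t * (S.t * g * S.t) * S.t = g := by
    calc S.t * (S.t * g * S.t) * S.t = (S.t * S.t) * g * (S.t * S.t) := by group
      _ = g := by rw [BAS3_t_mul_t, one_mul, mul_one]
  rw [this]

omit [Finite G] in
theorem BAS3_conjT_mono (S : Setup G) {A B : Subgroup G} (h : A ≤ B) : conjT S A ≤ conjT S B :=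
  Subgroup.map_mono h

theorem BAS_isMax3_conjT (S : Setup G) {M : Subgroup G} (hM : IsMax3 S M) :
    IsMax3 S (conjT S M) := by
  refine ⟨BAS_inv3_conjT S hM.1, ?_⟩
  intro B hB hle
  have h1 : M ≤ conjT S B := by
    have := BAS3_conjT_mono S hle
    rw [BAS_conjT_conjT] at this
    exact this
  have h2 := hM.2 (conjT S B) (BAS_inv3_conjT S hB) h1
  rw [← h2, BAS_conjT_conjT]

theorem BAS_conjT_eq_iff (S : Setup G) (M : Subgroup G) :
    conjT S M = M ↔ S.t ∈ Subgroup.normalizer (M : Set G) := by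
  rw [Subgroup.mem_normalizer_iff]
  constructor
  · intro h g
    rw [BAS3_t_inv]
    conv_rhs => rw [← h]
    rw [BAS3_mem_conjT]
    have : S.t * (S.t * g * S.t) * S.t = g := by
      calc S.t * (S.t * g * S.t) * S.t = (S.t * S.t) * g * (S.t * S.t) := by group
        _ = g := by rw [BAS3_t_mul_t, one_mul, mul_one]
    rw [this]
  · intro h
    ext g
    rw [BAS3_mem_conjT, h g, BAS3_t_inv]

theorem BAS_exists_isMax3 (S : Setup G) {B : Subgroup G} (hB : Inv3 S B) :
    ∃ M : Subgroup G, IsMax3 S M ∧ B ≤ M := by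
  have hwf : WellFounded ((· > ·) : Subgroup G → Subgroup G → Prop) := wellFounded_gt
  obtain ⟨M, ⟨hM1, hM2⟩, hmin⟩ := hwf.has_min {B' : Subgroup G | Inv3 S B' ∧ B ≤ B'} ⟨B, hB, le_refl B⟩
  refine ⟨M, ⟨hM1, ?_⟩, hM2⟩
  intro B' hB' hle
  have h1 : ¬ B' > M := hmin B' ⟨hB', le_trans hM2 hle⟩
  exact (eq_of_le_of_not_lt hle h1).symm

end Cfsg.Agent.Helper89.SC3
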