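import Cfsg.Agent.Helper62.SC3.Defs3
import Cfsg.Agent.Helper1.FpfThompson

/-!
# S3331 block M wave 0, piece (NIL) (helper89 for helper62): an `x`-invariant `3'`-subgroup is nilpotent
-/

set_option autoImplicit false
set_option linter.unusedSectionVars false

namespace Cfsg.Agent.Helper89.SC3

open Cfsg.Agent.Helper62.SC3

universe u

variable {G : Type u} [Group G] [Finite G]

omit [Finite G] in
theorem NIL_conj_mem (S : Setup G) {B : Subgroup G} (hB : Inv3 S B) {b : G} (hb : b ∈ B) :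
    S.x * b * S.x⁻¹ ∈ B := (Subgroup.mem_normalizer_iff.1 hB.1 b).1 hb

omit [Finite G] in
theorem NIL_conj_mem' (S : Setup G) {B : Subgroup G} (hB : Inv3 S B) {b : G} (hb : b ∈ B) :
    S.x⁻¹ * b * S.x ∈ B := by
  have h := (Subgroup.mem_normalizer_iff.1 (Subgroup.inv_mem _ hB.1) b).1 hb
  rw [inv_inv] at h
  exact h

/-- conjugation by `x` on an invariant subgroup -/
def NIL_phi (S : Setup G) {B : Subgroup G} (hB : Inv3 S B) : ↥B ≃* ↥B where
  toFun b := ⟨S.x * b.1 * S.x⁻¹, NIL_conj_mem S hB b.2⟩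
  invFun b := ⟨S.x⁻¹ * b.1 * S.x, NIL_conj_mem' S hB b.2⟩
  left_inv b := by
    apply Subtype.ext
    change S.x⁻¹ * (S.x * b.1 * S.x⁻¹) * S.x = b.1
    group
  right_inv b := by
    apply Subtype.ext
    change S.x * (S.x⁻¹ * b.1 * S.x) * S.x⁻¹ = b.1
    group
  map_mul' a b := by
    apply Subtype.ext
    change S.x * (a.1 * b.1) * S.x⁻¹ = (S.x * a.1 * S.x⁻¹) * (S.x * b.1 * S.x⁻¹)
    group

omit [Finite G] in
theorem NIL_phi_apply (S : Setup G) {B : Subgroup G} (hB : Inv3 S B) (b : ↥B) :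
    ((NIL_phi S hB) b).1 = S.x * b.1 * S.x⁻¹ := rfl

theorem NIL_inv3_nilpotent (S : Setup G) {B : Subgroup G} (hB : Inv3 S B) :
    Group.IsNilpotent ↥B := by
  have hx3 : S.x ^ 3 = 1 := by rw [← S.hx]; exact pow_orderOf_eq_one _
  refine Cfsg.Agent.Helper1.fpf_prime_nilpotent Nat.prime_three (NIL_phi S hB) ?_ ?_
  · intro b hb
    have h1 : S.x * b.1 * S.x⁻¹ = b.1 := congrArg Subtype.val hb
    have h2 : b.1 ∈ Subgroup.centralizer ({S.x} : Set G) := by
      rw [Subgroup.mem_centralizer_iff]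
      intro y hy
      rw [Set.mem_singleton_iff] at hy
      subst hy
      calc S.x * b.1 = S.x * b.1 * S.x⁻¹ * S.x := by group
        _ = b.1 * S.x := by rw [h1]
    rw [S.hC] at h2
    -- the order of `b` divides 3 and `|B|`
    have h3 : orderOf b.1 ∣ 3 := by
      have := orderOf_dvd_natCard (⟨b.1, h2⟩ : Subgroup.zpowers S.x)
      rw [Nat.card_zpowers, S.hx] at this
      rwa [Subgroup.orderOf_mk] at this
    have h4 : orderOf b.1 ∣ Nat.card B := by
      have := orderOf_dvd_natCard b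
      rwa [← Subgroup.orderOf_coe] at this
    have h5 : orderOf b.1 = 1 := Nat.eq_one_of_dvd_coprimes hB.2 h4 h3
    apply Subtype.ext
    exact orderOf_eq_one_iff.1 h5
  · ext b
    have h1 : ∀ c : ↥B, (((NIL_phi S hB) ^ 3) c).1 = S.x ^ 3 * c.1 * (S.x ^ 3)⁻¹ := by
      intro c
      rw [pow_succ, pow_succ, pow_one, MulAut.mul_apply, MulAut.mul_apply, NIL_phi_apply,
        NIL_phi_apply, NIL_phi_apply, pow_succ, pow_succ, pow_one]
      group
    rw [h1, hx3, inv_one, one_mul, mul_one]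
    rfl

end Cfsg.Agent.Helper89.SC3
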