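import Cfsg.Agent.Helper62.SC3.Defs3
import Cfsg.Agent.Helper59.SC3_BAS1
import Cfsg.Agent.Helper59.SC3_BAS2
import Cfsg.Agent.Helper89.SC3_BAS3

/-!
# S3331 block M wave 1a, piece (P333) (helper89 for helper62): the number of pairs `(a, b)` of elements of
order 3 with `a * b = x` is the number of elements lying in some `x`-invariant `3'`-subgroup
-/

set_option autoImplicit false
set_option linter.unusedSectionVars false

namespace Cfsg.Agent.Helper89.SC3

open Cfsg.Agent.Helper62.SC3 Cfsg.Agent.Helper59.SC3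

universe u

variable {G : Type u} [Group G] [Finite G]

/-- every element of the coset `B x⁻¹` is a `B`-conjugate of `x⁻¹` -/
theorem P333_exists_conj (S : Setup G) {B : Subgroup G} (hB : Inv3 S B) {g : G} (hg : g ∈ B) :
    ∃ m : G, g * S.x⁻¹ = m * S.x⁻¹ * m⁻¹ := by
  have hxi : S.x⁻¹ ∈ Subgroup.normalizer (B : Set G) := Subgroup.inv_mem _ hB.1
  have hmem : ∀ m : ↥B, m.1 * (S.x⁻¹ * m.1⁻¹ * S.x) ∈ B := by
    intro m
    refine B.mul_mem m.2 ?_
    have := (Subgroup.mem_normalizer_iff.1 hxi m.1⁻¹).1 (B.inv_mem m.2)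
    rwa [inv_inv] at this
  let f : ↥B → ↥B := fun m => ⟨m.1 * (S.x⁻¹ * m.1⁻¹ * S.x), hmem m⟩
  have hinj : Function.Injective f := by
    intro m n hmn
    have h1 : m.1 * (S.x⁻¹ * m.1⁻¹ * S.x) = n.1 * (S.x⁻¹ * n.1⁻¹ * S.x) := congrArg Subtype.val hmn
    have h2 : (n.1⁻¹ * m.1) * S.x = S.x * (n.1⁻¹ * m.1) := by
      have h3 : n.1⁻¹ * m.1 * S.x⁻¹ = S.x⁻¹ * (n.1⁻¹ * m.1) := by
        have : n.1⁻¹ * (m.1 * (S.x⁻¹ * m.1⁻¹ * S.x)) * (S.x⁻¹ * m.1) =
            n.1⁻¹ * (n.1 * (S.x⁻¹ * n.1⁻¹ * S.x)) * (S.x⁻¹ * m.1) := by rw [h1]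
        calc n.1⁻¹ * m.1 * S.x⁻¹ = n.1⁻¹ * (m.1 * (S.x⁻¹ * m.1⁻¹ * S.x)) * (S.x⁻¹ * m.1) := by group
          _ = n.1⁻¹ * (n.1 * (S.x⁻¹ * n.1⁻¹ * S.x)) * (S.x⁻¹ * m.1) := this
          _ = S.x⁻¹ * (n.1⁻¹ * m.1) := by group
      calc (n.1⁻¹ * m.1) * S.x = S.x * (S.x⁻¹ * (n.1⁻¹ * m.1)) * S.x := by group
        _ = S.x * (n.1⁻¹ * m.1 * S.x⁻¹) * S.x := by rw [h3]
        _ = S.x * (n.1⁻¹ * m.1) := by group
    have h4 := BAS_inv3_fpf S hB (B.mul_mem (B.inv_mem n.2) m.2) h2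
    apply Subtype.ext
    exact (inv_mul_eq_one.1 h4).symm
  obtain ⟨m, hm⟩ := Finite.surjective_of_injective hinj ⟨g, hg⟩
  refine ⟨m.1, ?_⟩
  have h1 : m.1 * (S.x⁻¹ * m.1⁻¹ * S.x) = g := congrArg Subtype.val hm
  rw [← h1]
  group

/-- the elements of `B x⁻¹` have order 3 -/
theorem P333_orderOf (S : Setup G) {B : Subgroup G} (hB : Inv3 S B) {g : G} (hg : g ∈ B) :
    orderOf (g * S.x⁻¹) = 3 := by
  obtain ⟨m, hm⟩ := P333_exists_conj S hB hg
  rw [hm]
  have : m * S.x⁻¹ * m⁻¹ = MulAut.conj m S.x⁻¹ := rfl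
  rw [this, MulEquiv.orderOf_eq, orderOf_inv, S.hx]

omit [Finite G] in
theorem P333_pow3 {a : G} (ha : orderOf a = 3) : a * a * a = 1 := by
  have := pow_orderOf_eq_one a
  rw [ha, pow_succ, pow_two] at this
  exact this

/-- the key: an element `a` of order 3 with `a⁻¹ x` of order 3 has `a x` in an invariant `3'`-subgroup -/
theorem P333_mem (S : Setup G) {a : G} (ha : orderOf a = 3) (hb : orderOf (a⁻¹ * S.x) = 3) :
    ∃ B : Subgroup G, Inv3 S B ∧ a * S.x ∈ B := by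
  have hx3 : S.x * S.x * S.x = 1 := P333_pow3 S.hx
  have ha3 : a * a * a = 1 := P333_pow3 ha
  have hb3 : (a⁻¹ * S.x) * (a⁻¹ * S.x) * (a⁻¹ * S.x) = 1 := P333_pow3 hb
  have hxx : S.x * S.x = S.x⁻¹ := eq_inv_of_mul_eq_one_left hx3
  have haa : a * a = a⁻¹ := eq_inv_of_mul_eq_one_left ha3
  -- `(a x⁻¹)^3 = 1`
  have hr : (a * S.x⁻¹ * a) * (S.x⁻¹ * a * S.x⁻¹) = 1 := by
    have h1 : ((a⁻¹ * S.x) * (a⁻¹ * S.x) * (a⁻¹ * S.x))⁻¹ = 1 := by rw [hb3, inv_one]
    have h2 : (a * S.x⁻¹ * a) * (S.x⁻¹ * a * S.x⁻¹) =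
        a * ((a⁻¹ * S.x) * (a⁻¹ * S.x) * (a⁻¹ * S.x))⁻¹ * a⁻¹ := by group
    rw [h2, h1, mul_one, mul_inv_cancel]
  -- the three generators
  obtain ⟨v0, hv0⟩ : ∃ v0, v0 = a * S.x := ⟨_, rfl⟩
  obtain ⟨v1, hv1⟩ : ∃ v1, v1 = S.x * a := ⟨_, rfl⟩
  obtain ⟨v2, hv2⟩ : ∃ v2, v2 = S.x⁻¹ * a * S.x⁻¹ := ⟨_, rfl⟩
  have c1 : S.x * v0 * S.x⁻¹ = v1 := by rw [hv0, hv1]; group
  have c2 : S.x * v1 * S.x⁻¹ = v2 := by
    rw [hv1, hv2]
    calc S.x * (S.x * a) * S.x⁻¹ = (S.x * S.x) * a * S.x⁻¹ := by group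
      _ = S.x⁻¹ * a * S.x⁻¹ := by rw [hxx]
  have c3 : S.x * v2 * S.x⁻¹ = v0 := by
    rw [hv2, hv0]
    calc S.x * (S.x⁻¹ * a * S.x⁻¹) * S.x⁻¹ = a * (S.x * S.x)⁻¹ := by group
      _ = a * S.x := by rw [hxx, inv_inv]
  have k01 : v0 * v1 = v1 * v0 := by
    rw [hv0, hv1]
    calc a * S.x * (S.x * a) = a * (S.x * S.x) * a := by group
      _ = a * S.x⁻¹ * a := by rw [hxx]
      _ = (S.x⁻¹ * a * S.x⁻¹)⁻¹ := eq_inv_of_mul_eq_one_left hr
      _ = S.x * a⁻¹ * S.x := by group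
      _ = S.x * (a * a) * S.x := by rw [haa]
      _ = S.x * a * (a * S.x) := by group
  have k12 : v1 * v2 = v2 * v1 := by
    rw [← c1, ← c2, ← c1]
    calc S.x * v0 * S.x⁻¹ * (S.x * (S.x * v0 * S.x⁻¹) * S.x⁻¹)
        = S.x * (v0 * (S.x * v0 * S.x⁻¹)) * S.x⁻¹ := by group
      _ = S.x * (v0 * v1) * S.x⁻¹ := by rw [c1]
      _ = S.x * (v1 * v0) * S.x⁻¹ := by rw [k01]
      _ = S.x * ((S.x * v0 * S.x⁻¹) * v0) * S.x⁻¹ := by rw [c1]
      _ = S.x * (S.x * v0 * S.x⁻¹) * S.x⁻¹ * (S.x * v0 * S.x⁻¹) := by group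
  have k20 : v2 * v0 = v0 * v2 := by
    rw [← c3, ← c2]
    calc S.x * v1 * S.x⁻¹ * (S.x * (S.x * v1 * S.x⁻¹) * S.x⁻¹)
        = S.x * (v1 * (S.x * v1 * S.x⁻¹)) * S.x⁻¹ := by group
      _ = S.x * (v1 * v2) * S.x⁻¹ := by rw [c2]
      _ = S.x * (v2 * v1) * S.x⁻¹ := by rw [k12]
      _ = S.x * ((S.x * v1 * S.x⁻¹) * v1) * S.x⁻¹ := by rw [c2]
      _ = S.x * (S.x * v1 * S.x⁻¹) * S.x⁻¹ * (S.x * v1 * S.x⁻¹) := by group
  -- the abelian `x`-invariant subgroup
  obtain ⟨A0, hA0⟩ : ∃ A0 : Subgroup G, A0 = Subgroup.closure ({v0, v1, v2} : Set G) := ⟨_, rfl⟩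
  have hcomm : ∀ u ∈ ({v0, v1, v2} : Set G), ∀ v ∈ ({v0, v1, v2} : Set G), u * v = v * u := by
    intro u hu v hv
    simp only [Set.mem_insert_iff, Set.mem_singleton_iff] at hu hv
    rcases hu with rfl | rfl | rfl <;> rcases hv with rfl | rfl | rfl
    · rfl
    · exact k01
    · exact k20.symm
    · exact k01.symm
    · rfl
    · exact k12
    · exact k20
    · exact k12.symm
    · rfl
  have hab : ∀ u ∈ A0, ∀ v ∈ A0, u * v = v * u := by
    have hinst : IsMulCommutative ↥(Subgroup.closure ({v0, v1, v2} : Set G)) :=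
      Subgroup.isMulCommutative_closure hcomm
    intro u hu v hv
    rw [hA0] at hu hv
    exact setLike_mul_comm hu hv
  have hv0A : v0 ∈ A0 := by rw [hA0]; exact Subgroup.subset_closure (by simp)
  have hv1A : v1 ∈ A0 := by rw [hA0]; exact Subgroup.subset_closure (by simp)
  have hv2A : v2 ∈ A0 := by rw [hA0]; exact Subgroup.subset_closure (by simp)
  -- `x A0 x⁻¹ ≤ A0`
  have hconj : ∀ h ∈ A0, S.x * h * S.x⁻¹ ∈ A0 := by
    have hle : A0 ≤ A0.comap (MulAut.conj S.x).toMonoidHom := by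
      conv_lhs => rw [hA0]
      rw [Subgroup.closure_le]
      intro u hu
      simp only [Set.mem_insert_iff, Set.mem_singleton_iff] at hu
      rw [SetLike.mem_coe, Subgroup.mem_comap]
      change S.x * u * S.x⁻¹ ∈ A0
      rcases hu with rfl | rfl | rfl
      · rw [c1]; exact hv1A
      · rw [c2]; exact hv2A
      · rw [c3]; exact hv0A
    intro h hh
    exact hle hh
  have hnorm : S.x ∈ Subgroup.normalizer (A0 : Set G) := by
    rw [Subgroup.mem_normalizer_iff]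
    intro h
    constructor
    · exact hconj h
    · intro hh
      have h1 := hconj _ (hconj _ hh)
      have h2 : S.x * (S.x * (S.x * h * S.x⁻¹) * S.x⁻¹) * S.x⁻¹ = h := by
        calc S.x * (S.x * (S.x * h * S.x⁻¹) * S.x⁻¹) * S.x⁻¹
            = (S.x * S.x * S.x) * h * (S.x * S.x * S.x)⁻¹ := by group
          _ = h := by rw [hx3, inv_one, one_mul, mul_one]
      rwa [h2] at h1
  by_cases h3 : (Nat.card A0).Coprime 3
  · exact ⟨A0, ⟨hnorm, h3⟩, by rw [← hv0]; exact hv0A⟩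
  · -- `3 ∣ |A0|`: then `A0` has order 3 and `a x = 1`
    have : Fact (Nat.Prime 3) := ⟨Nat.prime_three⟩
    have hdvd : 3 ∣ Nat.card A0 := by
      by_contra hnd
      exact h3 ((Nat.Prime.coprime_iff_not_dvd Nat.prime_three).2 hnd).symm
    obtain ⟨y, hy⟩ := exists_prime_orderOf_dvd_card' 3 hdvd
    have hy' : orderOf y.1 = 3 := by rw [Subgroup.orderOf_coe]; exact hy
    have hCy := BAS_centralizer_order3 S hy'
    have hle : A0 ≤ Subgroup.zpowers y.1 := by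
      intro u hu
      rw [← hCy, Subgroup.mem_centralizer_singleton_iff]
      exact hab u hu y.1 y.2
    -- `v0 = 1`
    have hv0one : v0 = 1 := by
      by_contra hne
      -- `v0` has order 3 and generates `A0`
      have hv0y : v0 ∈ Subgroup.zpowers y.1 := hle hv0A
      have ho : orderOf v0 = 3 := by
        have h1 : orderOf v0 ∣ 3 := by
          have := orderOf_dvd_natCard (⟨v0, hv0y⟩ : Subgroup.zpowers y.1)
          rw [Nat.card_zpowers, hy'] at this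
          rwa [Subgroup.orderOf_mk] at this
        rcases (Nat.dvd_prime Nat.prime_three).1 h1 with h | h
        · exact absurd (orderOf_eq_one_iff.1 h) hne
        · exact h
      have hCv := BAS_centralizer_order3 S ho
      -- `x v0 x⁻¹ = v1` commutes with `v0`, so lies in `⟨v0⟩`
      have hv1z : v1 ∈ Subgroup.zpowers v0 := by
        rw [← hCv, Subgroup.mem_centralizer_singleton_iff]
        exact k01.symm
      -- hence `x` normalises `⟨v0⟩`, of order 3; an element of order 3 centralises it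
      have hv1c : v1 = v0 ∨ v1 = v0⁻¹ := by
        obtain ⟨k, hk⟩ := hv1z
        have hk' : v0 ^ k = v1 := hk
        have h3' : v0 ^ (3 : ℤ) = 1 := by
          have := pow_orderOf_eq_one v0
          rw [ho] at this
          exact_mod_cast this
        have hmod : v0 ^ k = v0 ^ (k % 3) := by
          conv_lhs => rw [← Int.emod_add_mul_ediv k 3]
          rw [zpow_add, zpow_mul, h3', one_zpow, mul_one]
        have hlt : k % 3 < 3 := Int.emod_lt_of_pos k (by norm_num)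
        have hge : 0 ≤ k % 3 := Int.emod_nonneg k (by norm_num)
        have hv1ne : v1 ≠ 1 := by
          intro h1
          apply hne
          have : S.x * v0 * S.x⁻¹ = 1 := by rw [c1, h1]
          have h2 : v0 = S.x⁻¹ * (S.x * v0 * S.x⁻¹) * S.x := by group
          rw [h2, this]; group
        have hcases : k % 3 = 0 ∨ k % 3 = 1 ∨ k % 3 = 2 := by omega
        rcases hcases with h0 | h1 | h2
        · exfalso; apply hv1ne; rw [← hk', hmod, h0, zpow_zero]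
        · left; rw [← hk', hmod, h1, zpow_one]
        · right
          rw [← hk', hmod, h2]
          have : v0 ^ (2 : ℤ) * v0 = 1 := by
            have := h3'
            rw [show (3 : ℤ) = 2 + 1 by norm_num, zpow_add, zpow_one] at this
            exact this
          exact eq_inv_of_mul_eq_one_left this
      have hcx : v0 * S.x = S.x * v0 := by
        rcases hv1c with h | h
        · -- `x v0 x⁻¹ = v0`
          have : S.x * v0 * S.x⁻¹ = v0 := by rw [c1, h]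
          calc v0 * S.x = (S.x * v0 * S.x⁻¹) * S.x := by rw [this]
            _ = S.x * v0 := by group
        · -- `x v0 x⁻¹ = v0⁻¹`: then `v0 = x³ v0 x⁻³ = v0⁻¹`, impossible
          exfalso
          have e1 : S.x * v0 * S.x⁻¹ = v0⁻¹ := by rw [c1, h]
          have e2 : S.x * v0⁻¹ * S.x⁻¹ = v0 := by
            have : S.x * v0⁻¹ * S.x⁻¹ = (S.x * v0 * S.x⁻¹)⁻¹ := by group
            rw [this, e1, inv_inv]
          have e3 : v0 = v0⁻¹ := by
            calc v0 = (S.x * S.x * S.x) * v0 * (S.x * S.x * S.x)⁻¹ := by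
                  rw [hx3, inv_one, one_mul, mul_one]
              _ = S.x * (S.x * (S.x * v0 * S.x⁻¹) * S.x⁻¹) * S.x⁻¹ := by group
              _ = v0⁻¹ := by rw [e1, e2, e1]
          have e4 : v0 * v0 = 1 := by
            calc v0 * v0 = v0 * v0⁻¹ := by rw [← e3]
              _ = 1 := mul_inv_cancel v0
          have e5 : orderOf v0 ∣ 2 := orderOf_dvd_of_pow_eq_one (by rw [pow_two]; exact e4)
          rw [ho] at e5
          norm_num at e5
      -- so `v0 ∈ ⟨x⟩`, and `a ∈ ⟨x⟩`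
      have hv0x : v0 ∈ Subgroup.zpowers S.x := by
        rw [← S.hC, Subgroup.mem_centralizer_singleton_iff]
        exact hcx
      rcases BAS2_mem_zpowers_cases S hv0x with h | h | h
      · exact hne h
      · -- `a x = x`, `a = 1`
        have : a = 1 := by
          have h1 : a * S.x = S.x := by rw [← hv0]; exact h
          calc a = a * S.x * S.x⁻¹ := by group
            _ = 1 := by rw [h1, mul_inv_cancel]
        rw [this, orderOf_one] at ha
        norm_num at ha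
      · -- `a x = x⁻¹`, `a = x⁻² = x`, `b = a⁻¹ x = 1`
        have h1 : a * S.x = S.x⁻¹ := by rw [← hv0]; exact h
        have h2 : a = S.x := by
          calc a = a * S.x * S.x⁻¹ := by group
            _ = S.x⁻¹ * S.x⁻¹ := by rw [h1]
            _ = (S.x * S.x)⁻¹ := by group
            _ = S.x := by rw [hxx, inv_inv]
        rw [h2, inv_mul_cancel, orderOf_one] at hb
        norm_num at hb
    refine ⟨⊥, BAS_inv3_bot S, ?_⟩
    rw [← hv0, hv0one]
    exact Subgroup.one_mem _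

/-- (P333) -/
theorem P333_pairs3_x (S : Setup G) :
    pairs3 S.x = Nat.card {g : G // ∃ B : Subgroup G, Inv3 S B ∧ g ∈ B} := by
  unfold pairs3
  refine Nat.card_congr
    { toFun := fun ab => ⟨ab.1.1 * S.x, ?_⟩
      invFun := fun g => ⟨(g.1 * S.x⁻¹, S.x * g.1⁻¹ * S.x), ?_⟩
      left_inv := ?_
      right_inv := ?_ }
  · obtain ⟨⟨a, b⟩, ha, hb, hab⟩ := ab
    have hb' : b = a⁻¹ * S.x := by
      change a * b = S.x at hab
      rw [← hab]; group
    change orderOf b = 3 at hb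
    rw [hb'] at hb
    exact P333_mem S ha hb
  · obtain ⟨g, B, hB, hg⟩ := g
    refine ⟨P333_orderOf S hB hg, ?_, ?_⟩
    · -- `x g⁻¹ x = x (g⁻¹ x⁻¹) x⁻¹` up to `x² = x⁻¹`
      have hx3 : S.x * S.x * S.x = 1 := P333_pow3 S.hx
      have hxx : S.x * S.x = S.x⁻¹ := eq_inv_of_mul_eq_one_left hx3
      have e : S.x * g⁻¹ * S.x = MulAut.conj S.x (g⁻¹ * S.x⁻¹) := by
        change S.x * g⁻¹ * S.x = S.x * (g⁻¹ * S.x⁻¹) * S.x⁻¹
        calc S.x * g⁻¹ * S.x = S.x * g⁻¹ * (S.x * S.x)⁻¹⁻¹ * (S.x * S.x)⁻¹ * S.x := by group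
          _ = S.x * g⁻¹ * (S.x⁻¹)⁻¹⁻¹ * (S.x⁻¹)⁻¹ * S.x := by rw [hxx]
          _ = S.x * g⁻¹ * S.x⁻¹ * (S.x * S.x) := by group
          _ = S.x * g⁻¹ * S.x⁻¹ * S.x⁻¹ := by rw [hxx]
          _ = S.x * (g⁻¹ * S.x⁻¹) * S.x⁻¹ := by group
      change orderOf (S.x * g⁻¹ * S.x) = 3
      rw [e, MulEquiv.orderOf_eq]
      exact P333_orderOf S hB (B.inv_mem hg)
    · change g * S.x⁻¹ * (S.x * g⁻¹ * S.x) = S.x
      group
  · rintro ⟨⟨a, b⟩, ha, hb, hab⟩
    apply Subtype.ext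
    change (a * S.x * S.x⁻¹, S.x * (a * S.x)⁻¹ * S.x) = (a, b)
    change a * b = S.x at hab
    rw [← hab]
    congr 1 <;> group
  · rintro ⟨g, hg⟩
    apply Subtype.ext
    change g * S.x⁻¹ * S.x = g
    group

end Cfsg.Agent.Helper89.SC3
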