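import Mathlib
import Cfsg.Prelude.Def_Local
import Cfsg.Prelude.Def_SolvableStructure
import Cfsg.Agent.Lib.Cores
import Cfsg.Agent.Helper62.PSolvDual
import Cfsg.Agent.S1324

/-!
# (B1a) of helper71's S4394 plan (#5897)

The Hall–Higman reduction in `Y = Γ / O_p(Γ)`: an elementary abelian `p`-subgroup that centralizes
every proper invariant subgroup of `O_{p'}(Y)` has order at most `p`.
-/

set_option autoImplicit false

namespace Cfsg.Agent.Helper89.Sch

open Cfsg

universe u

/-- (B1a) the Hall–Higman reduction in `Y = Γ / O_p(Γ)`: an elementary abelian `p`-subgroup that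
centralizes every proper invariant subgroup of `O_{p'}(Y)` has order at most `p`. -/
theorem card_le_of_minimal {Y : Type u} [Group Y] [Finite Y] {p : ℕ} [Fact p.Prime]
    (hY : Cfsg.IsPSolvable p Y) (hOp : Cfsg.pCore p Y = ⊥) (T : Subgroup Y)
    (hT : Cfsg.IsElementaryAbelian p T)
    (hmin : ∀ L : Subgroup Y, L ≤ Cfsg.pPrimeCore p Y → L ≠ Cfsg.pPrimeCore p Y →
      T ≤ Subgroup.normalizer (L : Set Y) → T ≤ Subgroup.centralizer (L : Set Y)) :
    Nat.card T ≤ p := by
  classical
  have hp : p.Prime := Fact.out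
  by_contra hlt
  push_neg at hlt
  set K : Subgroup Y := Cfsg.pPrimeCore p Y with hK
  haveI hKchar : K.Characteristic := Cfsg.Agent.Lib.pPrimeCore_characteristic p
  haveI hKn : K.Normal := Subgroup.normal_of_characteristic _
  have hKcop : (Nat.card K).Coprime p := Cfsg.Agent.Lib.card_pPrimeCore_coprime p
  have hcK : Subgroup.centralizer (K : Set Y) ≤ K :=
    Cfsg.Agent.Helper62.centralizer_pPrimeCore_le_of_isPSolvable hY hOp
  -- `|T| = p ^ n` with `n ≥ 2`
  obtain ⟨n, hn⟩ := Cfsg.Agent.Lib.isElementaryAbelian_card_eq_pow hT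
  have hn2 : 2 ≤ n := by
    by_contra h
    push_neg at h
    have : n = 0 ∨ n = 1 := by omega
    rcases this with h0 | h1
    · rw [h0, pow_zero] at hn; rw [hn] at hlt; exact absurd hlt (by have := hp.one_lt; omega)
    · rw [h1, pow_one] at hn; rw [hn] at hlt; exact lt_irrefl _ hlt
  have hA2 : p ^ 2 ≤ Nat.card ↥T := by
    rw [hn]; exact Nat.pow_le_pow_right hp.pos hn2
  -- `T ⊓ K = ⊥`
  have hTK : T ⊓ K = ⊥ := by
    have hTp : IsPGroup p T := Cfsg.Agent.Lib.isElementaryAbelian_isPGroup hT
    have hcop : (Nat.card T).Coprime (Nat.card K) := by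
      rw [hn]; exact Nat.Coprime.pow_left n hKcop.symm
    exact (Subgroup.disjoint_of_coprime_natCard hcop).eq_bot
  have hX : ¬ p ∣ Nat.card ↥K := by
    intro hd
    have := Nat.Coprime.eq_one_of_dvd hKcop.symm hd
    exact hp.one_lt.ne' this
  have hAX : T ≤ Subgroup.normalizer (K : Set Y) := by
    intro t _
    exact (Subgroup.normalizer_eq_top (H := K)).symm ▸ Subgroup.mem_top t
  have hgen := Cfsg.Agent.S1324.result p T K hT hA2 hX hAX
  -- every `L_B` is centralized by `T`
  have hcent : ∀ B : {B : Subgroup Y // B ≤ T ∧ B.relIndex T ≤ p},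
      K ⊓ Subgroup.centralizer ((B : Subgroup Y) : Set Y) ≤ Subgroup.centralizer (T : Set Y) := by
    rintro ⟨B, hBT, hBp⟩
    rw [Subgroup.le_centralizer_iff]
    -- `B ≠ ⊥`
    have hBne : B ≠ ⊥ := by
      intro hB
      have h1 : B.relIndex T = Nat.card T := by
        rw [hB, Subgroup.relIndex_bot_left]
      rw [h1] at hBp
      exact absurd hlt (not_lt.mpr hBp)
    apply hmin _ inf_le_left
    · -- `L_B ≠ K`
      intro hL
      have hKc : K ≤ Subgroup.centralizer ((B : Subgroup Y) : Set Y) := by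
        rw [← hL]; exact inf_le_right
      have hBK : B ≤ K := (Subgroup.le_centralizer_iff.mp hKc).trans hcK
      have : B ≤ T ⊓ K := le_inf hBT hBK
      rw [hTK] at this
      exact hBne (le_bot_iff.mp this)
    · -- `T` normalizes `L_B`
      intro t ht
      rw [Subgroup.mem_normalizer_iff]
      have hcomm : ∀ b ∈ B, t * b = b * t := fun b hb =>
        Cfsg.Agent.Lib.isElementaryAbelian_commute hT ht (hBT hb)
      intro x
      rw [Subgroup.mem_inf, Subgroup.mem_inf]
      constructor
      · rintro ⟨hxK, hxC⟩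
        refine ⟨hKn.conj_mem x hxK t, ?_⟩
        rw [Subgroup.mem_centralizer_iff] at hxC ⊢
        intro b hb
        have h1 := hxC b hb
        have h2 := hcomm b hb
        have h3 : b * t⁻¹ = t⁻¹ * b := by
          have : t⁻¹ * (t * b) * t⁻¹ = t⁻¹ * (b * t) * t⁻¹ := by rw [h2]
          simpa [mul_assoc] using this
        calc b * (t * x * t⁻¹) = (b * t) * x * t⁻¹ := by group
          _ = (t * b) * x * t⁻¹ := by rw [h2]
          _ = t * (b * x) * t⁻¹ := by group
          _ = t * (x * b) * t⁻¹ := by rw [h1]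
          _ = t * x * (b * t⁻¹) := by group
          _ = t * x * (t⁻¹ * b) := by rw [h3]
          _ = t * x * t⁻¹ * b := by group
      · rintro ⟨hxK, hxC⟩
        have hxK' : x ∈ K := by
          have := hKn.conj_mem _ hxK t⁻¹
          simpa [mul_assoc] using this
        refine ⟨hxK', ?_⟩
        rw [Subgroup.mem_centralizer_iff] at hxC ⊢
        intro b hb
        have h1 := hxC b hb
        have h2 := hcomm b hb
        have h3 : b * t⁻¹ = t⁻¹ * b := by
          have : t⁻¹ * (t * b) * t⁻¹ = t⁻¹ * (b * t) * t⁻¹ := by rw [h2]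
          simpa [mul_assoc] using this
        -- b * x = t⁻¹ * (b * (t x t⁻¹)) * t
        calc b * x = t⁻¹ * ((t * b) * x * t⁻¹) * t := by group
          _ = t⁻¹ * ((b * t) * x * t⁻¹) * t := by rw [h2]
          _ = t⁻¹ * (b * (t * x * t⁻¹)) * t := by group
          _ = t⁻¹ * ((t * x * t⁻¹) * b) * t := by rw [h1]
          _ = x * (t⁻¹ * b) * t := by group
          _ = x * (b * t⁻¹) * t := by rw [h3]
          _ = x * b := by group
  have hKT : K ≤ Subgroup.centralizer (T : Set Y) := by
    rw [hgen]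
    exact iSup_le hcent
  have hTK' : T ≤ K := (Subgroup.le_centralizer_iff.mp hKT).trans hcK
  have hTbot : T = ⊥ := by
    have : T ≤ T ⊓ K := le_inf le_rfl hTK'
    rw [hTK] at this
    exact le_bot_iff.mp this
  rw [hTbot, Subgroup.card_bot] at hlt
  exact absurd hlt (by have := hp.one_lt; omega)

end Cfsg.Agent.Helper89.Sch
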