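import Mathlib
import Cfsg.Prelude.Def_Local
import Cfsg.Prelude.Def_SolvableStructure
import Cfsg.Agent.Lib.Cores
import Cfsg.Agent.Helper11.PSolvable
import Cfsg.Agent.Helper62.PSolvDual
import Cfsg.Agent.Helper89.SchB1a

/-!
# (B1b) of helper71's S4394 plan (#5897): `|S : O_p(Γ)| = p` in a minimal configuration.
-/

set_option autoImplicit false

namespace Cfsg.Agent.Helper89.Sch

open scoped commutatorElement Pointwise
open Cfsg

universe u

/-- cardinality of the image of a subgroup containing the kernel. -/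
theorem card_map_mk_mul {Γ : Type u} [Group Γ] [Finite Γ] (R S : Subgroup Γ) [R.Normal]
    (hRS : R ≤ S) :
    Nat.card (S.map (QuotientGroup.mk' R)) * Nat.card R = Nat.card S := by
  classical
  have hcomap : (S.map (QuotientGroup.mk' R)).comap (QuotientGroup.mk' R) = S := by
    rw [Subgroup.comap_map_eq, QuotientGroup.ker_mk']
    exact sup_eq_left.mpr hRS
  have hidx : (S.map (QuotientGroup.mk' R)).index = S.index := by
    rw [← Subgroup.index_comap_of_surjective _ (QuotientGroup.mk'_surjective R), hcomap]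
  have h1 : Nat.card (S.map (QuotientGroup.mk' R)) * (S.map (QuotientGroup.mk' R)).index
      = Nat.card (Γ ⧸ R) := Subgroup.card_mul_index _
  have h2 : Nat.card S * S.index = Nat.card Γ := Subgroup.card_mul_index _
  have h3 : Nat.card Γ = Nat.card (Γ ⧸ R) * Nat.card R :=
    Subgroup.card_eq_card_quotient_mul_card_subgroup R
  have hpos : 0 < S.index := Nat.pos_of_ne_zero Subgroup.index_ne_zero_of_finite
  rw [hidx] at h1
  have : Nat.card (S.map (QuotientGroup.mk' R)) * Nat.card R * S.index = Nat.card S * S.index := by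
    rw [h2, h3, ← h1]; ring
  exact Nat.eq_of_mul_eq_mul_right hpos this

/-- (B1b) `|S : O_p(Γ)| = p` in a minimal configuration. -/
theorem card_eq_mul_pCore {Γ : Type u} [Group Γ] [Finite Γ] {p : ℕ} [Fact p.Prime]
    (hΓ : Cfsg.IsPSolvable p Γ) (S : Sylow p Γ)
    (hne : ¬ (S : Subgroup Γ) ≤ Cfsg.pCore p Γ)
    (hpow : ∀ x ∈ (S : Subgroup Γ), x ^ p ∈ Cfsg.pCore p Γ)
    (hcomm : ∀ x ∈ (S : Subgroup Γ), ∀ y ∈ (S : Subgroup Γ), ⁅x, y⁆ ∈ Cfsg.pCore p Γ)
    (ih : ∀ H : Subgroup Γ, (S : Subgroup Γ) ≤ H → H ≠ ⊤ →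
      ∀ h ∈ H, ∀ s ∈ (S : Subgroup Γ), h * s * h⁻¹ ∈ (S : Subgroup Γ)) :
    Nat.card (S : Subgroup Γ) = p * Nat.card (Cfsg.pCore p Γ) := by
  classical
  have hp : p.Prime := Fact.out
  set R : Subgroup Γ := Cfsg.pCore p Γ with hR
  haveI hRchar : R.Characteristic := Cfsg.Agent.Lib.pCore_characteristic p
  haveI hRn : R.Normal := Subgroup.normal_of_characteristic _
  have hRS : R ≤ (S : Subgroup Γ) := Cfsg.Agent.Lib.pCore_le_sylow S
  set π : Γ →* Γ ⧸ R := QuotientGroup.mk' R with hπ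
  have hπs : Function.Surjective π := QuotientGroup.mk'_surjective R
  have hker : ∀ g : Γ, π g = 1 ↔ g ∈ R := fun g => by
    rw [hπ, QuotientGroup.mk'_apply, QuotientGroup.eq_one_iff]
  set T : Subgroup (Γ ⧸ R) := (S : Subgroup Γ).map π with hT
  have hYsol : Cfsg.IsPSolvable p (Γ ⧸ R) := Cfsg.Agent.Helper11.isPSolvable_quotient R hΓ
  have hYO : Cfsg.pCore p (Γ ⧸ R) = ⊥ := Cfsg.Agent.Helper62.pCore_quotient_pCore_eq_bot p
  set K : Subgroup (Γ ⧸ R) := Cfsg.pPrimeCore p (Γ ⧸ R) with hK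
  haveI hKchar : K.Characteristic := Cfsg.Agent.Lib.pPrimeCore_characteristic p
  haveI hKn : K.Normal := Subgroup.normal_of_characteristic _
  have hKcop : (Nat.card K).Coprime p := Cfsg.Agent.Lib.card_pPrimeCore_coprime p
  -- `T` is elementary abelian
  have hTel : Cfsg.IsElementaryAbelian p T := by
    refine ⟨⟨⟨?_⟩⟩, ?_⟩
    · rintro ⟨a, ha⟩ ⟨b, hb⟩
      obtain ⟨x, hx, rfl⟩ := ha
      obtain ⟨y, hy, rfl⟩ := hb
      apply Subtype.ext
      show π x * π y = π y * π x
      have h := (hker _).2 (hcomm x hx y hy)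
      rw [commutatorElement_def, map_mul, map_mul, map_mul, map_inv, map_inv] at h
      have : π x * π y = (π x * π y * (π x)⁻¹ * (π y)⁻¹) * (π y * π x) := by group
      rw [this, h, one_mul]
    · rintro a ⟨x, hx, rfl⟩
      rw [← map_pow]
      exact (hker _).2 (hpow x hx)
  have hTp : IsPGroup p T := Cfsg.Agent.Lib.isElementaryAbelian_isPGroup hTel
  -- `T ⊓ K = ⊥`
  obtain ⟨n, hn⟩ := Cfsg.Agent.Lib.isElementaryAbelian_card_eq_pow hTel
  have hTKbot : T ⊓ K = ⊥ := by
    have hcop : (Nat.card T).Coprime (Nat.card K) := by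
      rw [hn]; exact Nat.Coprime.pow_left n hKcop.symm
    exact (Subgroup.disjoint_of_coprime_natCard hcop).eq_bot
  -- cardinalities
  have hcard : Nat.card T * Nat.card R = Nat.card (S : Subgroup Γ) := card_map_mk_mul R S hRS
  -- `T ≠ ⊥`
  have hTne : T ≠ ⊥ := by
    intro hTb
    apply hne
    intro s hs
    have : π s ∈ T := ⟨s, hs, rfl⟩
    rw [hTb, Subgroup.mem_bot] at this
    exact (hker s).1 this
  -- the minimality hypothesis of (B1a)
  have hmin : ∀ L : Subgroup (Γ ⧸ R), L ≤ K → L ≠ K →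
      T ≤ Subgroup.normalizer (L : Set (Γ ⧸ R)) → T ≤ Subgroup.centralizer (L : Set (Γ ⧸ R)) := by
    intro L hLK hLne hTL
    set Lt : Subgroup Γ := L.comap π with hLt
    have hLT : L ⊓ T = ⊥ := by
      have : L ⊓ T ≤ T ⊓ K := le_inf inf_le_right (inf_le_left.trans hLK)
      rw [hTKbot] at this
      exact le_bot_iff.mp this
    -- `S` normalizes `Lt`
    have hSLt : ∀ s ∈ (S : Subgroup Γ), ∀ h ∈ Lt, s * h * s⁻¹ ∈ Lt := by
      intro s hs h hh
      rw [hLt, Subgroup.mem_comap] at hh ⊢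
      have hsT : π s ∈ T := ⟨s, hs, rfl⟩
      have := (Subgroup.mem_normalizer_iff.mp (hTL hsT) (π h)).1 hh
      simpa [map_mul, map_inv] using this
    -- `H = Lt ⊔ S` is proper
    set H : Subgroup Γ := Lt ⊔ (S : Subgroup Γ) with hH
    have hHne : H ≠ ⊤ := by
      intro hHt
      apply hLne
      apply le_antisymm hLK
      intro y hy
      obtain ⟨g, rfl⟩ := hπs y
      have hg : g ∈ H := hHt ▸ Subgroup.mem_top g
      -- `H = Lt * S` since `S` normalizes `Lt`
      have hSN : (S : Subgroup Γ) ≤ Subgroup.normalizer (Lt : Set Γ) := by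
        intro s hs
        rw [Subgroup.mem_normalizer_iff]
        intro h
        constructor
        · intro hh; exact hSLt s hs h hh
        · intro hh
          have := hSLt s⁻¹ ((S : Subgroup Γ).inv_mem hs) _ hh
          simpa [mul_assoc] using this
      have hmul : (H : Set Γ) = (Lt : Set Γ) * ((S : Subgroup Γ) : Set Γ) := by
        rw [hH]; exact Subgroup.coe_mul_of_right_le_normalizer_left Lt (S : Subgroup Γ) hSN
      have hg' : g ∈ (H : Set Γ) := hg
      rw [hmul] at hg'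
      obtain ⟨l, hl, s, hs, rfl⟩ := hg'
      have hl' : π l ∈ L := hl
      have hsT : π s ∈ T := ⟨s, hs, rfl⟩
      have hsK : π s ∈ K := by
        have h1 : π s = (π l)⁻¹ * π (l * s) := by rw [map_mul]; group
        rw [h1]
        exact K.mul_mem (K.inv_mem (hLK hl')) hy
      have hs1 : π s = 1 := by
        have : π s ∈ T ⊓ K := ⟨hsT, hsK⟩
        rw [hTKbot, Subgroup.mem_bot] at this
        exact this
      rw [map_mul, hs1, mul_one]
      exact hl'
    have hih := ih H le_sup_right hHne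
    -- now `T` centralizes `L`
    rintro t ⟨s, hs, rfl⟩
    rw [Subgroup.mem_centralizer_iff]
    intro y hy
    obtain ⟨h, rfl⟩ := hπs y
    have hhLt : h ∈ Lt := hy
    have hc1 : h * s * h⁻¹ * s⁻¹ ∈ (S : Subgroup Γ) :=
      (S : Subgroup Γ).mul_mem (hih h (le_sup_left (a := Lt) hhLt) s hs) ((S : Subgroup Γ).inv_mem hs)
    have hc2 : h * s * h⁻¹ * s⁻¹ ∈ Lt := by
      have h1 : s * h⁻¹ * s⁻¹ ∈ Lt := hSLt s hs h⁻¹ (Lt.inv_mem hhLt)
      have h2 : h * s * h⁻¹ * s⁻¹ = h * (s * h⁻¹ * s⁻¹) := by group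
      rw [h2]; exact Lt.mul_mem hhLt h1
    have hc : π (h * s * h⁻¹ * s⁻¹) = 1 := by
      have : π (h * s * h⁻¹ * s⁻¹) ∈ L ⊓ T := ⟨hc2, ⟨_, hc1, rfl⟩⟩
      rw [hLT, Subgroup.mem_bot] at this
      exact this
    rw [map_mul, map_mul, map_mul, map_inv, map_inv] at hc
    have : π h * π s = (π h * π s * (π h)⁻¹ * (π s)⁻¹) * (π s * π h) := by group
    rw [this, hc, one_mul]
  have hle : Nat.card T ≤ p := card_le_of_minimal hYsol hYO T hTel hmin
  have hTp' : Nat.card T = p := by
    rw [hn] at hle ⊢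
    have hn1 : n ≠ 0 := by
      intro h0
      apply hTne
      rw [h0, pow_zero] at hn
      exact Subgroup.card_eq_one.mp hn
    have hn1' : n = 1 := by
      by_contra hne1
      have h2 : 2 ≤ n := by omega
      have : p ^ 2 ≤ p ^ n := Nat.pow_le_pow_right hp.pos h2
      have hp2 : p < p ^ 2 := by
        have := hp.one_lt
        nlinarith
      omega
    rw [hn1', pow_one]
  rw [← hcard, hTp']

end Cfsg.Agent.Helper89.Sch
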