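import Cfsg.Agent.Helper56.T2T.Defs
import Cfsg.Agent.Helper24.T2T_FST
import Cfsg.Agent.Helper76.T2T_CNT

/-!
# S2197 (Tits group has no faithful 2-transitive action) piece (L5) — helper89 (hedge) for helper56

The orbit equation of `F = ⟨x1, x2⟩ ≅ 5^2` on `Ω`.
-/

set_option autoImplicit false

namespace Cfsg.Agent.Helper89.T2T

open Cfsg.Agent.Helper56.T2T

universe u v
variable {G : Type u} [Group G] {Ω : Type v} [MulAction G Ω]

theorem L5_pow_fix (g : G) (ω : Ω) (h : g • ω = ω) (n : ℕ) : g ^ n • ω = ω := by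
  induction n with
  | zero => simp
  | succ n ih => rw [pow_succ, mul_smul, h, ih]

theorem L5_inv_fix (g : G) (ω : Ω) (h : g • ω = ω) : g⁻¹ • ω = ω := by
  rw [inv_smul_eq_iff, h]

theorem L5_pow_trick (d : G) (hd : d ^ 5 = 1) (e : ℕ) (he0 : 0 < e) (he5 : e < 5) :
    (d ^ e) ^ (e ^ 3) = d := by
  rw [← pow_mul, pow_eq_pow_mod _ hd]
  have : (e * e ^ 3) % 5 = 1 := by interval_cases e <;> rfl
  rw [this, pow_one]

theorem L5_fix_of_pow_fix (d : G) (hd : d ^ 5 = 1) (e : ℕ) (he0 : 0 < e) (he5 : e < 5) (ω : Ω)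
    (h : d ^ e • ω = ω) : d • ω = ω := by
  have := L5_pow_fix (d ^ e) ω h (e ^ 3)
  rwa [L5_pow_trick d hd e he0 he5] at this

/-- the six lines -/
def L5_line (L : Loc5 G) : Option (Fin 5) → G
  | none => L.x1
  | some i => L.x1 ^ (i : ℕ) * L.x2

theorem L5_line_pow (L : Loc5 G) (d : Option (Fin 5)) : L5_line L d ^ 5 = 1 := by
  cases d with
  | none => exact L.x1_pow
  | some i =>
    have hc : Commute (L.x1 ^ (i : ℕ)) L.x2 := Commute.pow_left L.comm _
    show (L.x1 ^ (i : ℕ) * L.x2) ^ 5 = 1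
    rw [hc.mul_pow, ← pow_mul, mul_comm, pow_mul, L.x1_pow, one_pow, L.x2_pow, one_mul]

theorem L5_x1_mem (L : Loc5 G) : L.x1 ∈ L.F := Subgroup.subset_closure (by simp)

theorem L5_x2_mem (L : Loc5 G) : L.x2 ∈ L.F := Subgroup.subset_closure (by simp)

theorem L5_line_mem (L : Loc5 G) (d : Option (Fin 5)) : L5_line L d ∈ L.F := by
  cases d with
  | none => exact L5_x1_mem L
  | some i => exact mul_mem (pow_mem (L5_x1_mem L) _) (L5_x2_mem L)

theorem L5_F_comm (L : Loc5 G) : ∀ a ∈ L.F, ∀ b ∈ L.F, a * b = b * a := by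
  have hS : ∀ a ∈ ({L.x1, L.x2} : Set G), ∀ b ∈ ({L.x1, L.x2} : Set G), a * b = b * a := by
    intro a ha b hb
    rcases ha with rfl | ha <;> rcases hb with rfl | hb
    · rfl
    · rw [Set.mem_singleton_iff] at hb; rw [hb]; exact L.comm
    · rw [Set.mem_singleton_iff] at ha; rw [ha]; exact L.comm.symm
    · rw [Set.mem_singleton_iff] at ha hb; rw [ha, hb]
  have hcomm : IsMulCommutative (Subgroup.closure ({L.x1, L.x2} : Set G)) :=
    Subgroup.isMulCommutative_closure hS
  intro a ha b hb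
  exact congrArg Subtype.val
    (hcomm.is_comm.comm (⟨a, ha⟩ : Subgroup.closure ({L.x1, L.x2} : Set G)) ⟨b, hb⟩)

theorem L5_mem_fix_iff (L : Loc5 G) (ω : Ω) :
    ω ∈ MulAction.fixedPoints L.F Ω ↔ (L.x1 • ω = ω ∧ L.x2 • ω = ω) := by
  constructor
  · intro h
    exact ⟨h ⟨L.x1, L5_x1_mem L⟩, h ⟨L.x2, L5_x2_mem L⟩⟩
  · rintro ⟨h1, h2⟩ ⟨a, ha⟩
    have hle : L.F ≤ MulAction.stabilizer G ω := by
      rw [Loc5.F, Subgroup.closure_le]
      intro g hg
      rcases hg with rfl | hg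
      · exact h1
      · rw [Set.mem_singleton_iff] at hg; rw [hg]; exact h2
    exact hle ha

theorem L5_two_lines (L : Loc5 G) (d d' : Option (Fin 5)) (hdd : d ≠ d') (ω : Ω)
    (h : L5_line L d • ω = ω) (h' : L5_line L d' • ω = ω) :
    L.x1 • ω = ω ∧ L.x2 • ω = ω := by
  have key : ∀ i : ℕ, L.x1 • ω = ω → (L.x1 ^ i * L.x2) • ω = ω → L.x2 • ω = ω := by
    intro i h1 h2
    have h3 := L5_inv_fix _ ω (L5_pow_fix L.x1 ω h1 i)
    calc L.x2 • ω = ((L.x1 ^ i)⁻¹ * (L.x1 ^ i * L.x2)) • ω := by rw [inv_mul_cancel_left]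
      _ = ω := by rw [mul_smul, h2, h3]
  have key2 : ∀ i j : ℕ, i < j → j < 5 → (L.x1 ^ i * L.x2) • ω = ω →
      (L.x1 ^ j * L.x2) • ω = ω → L.x1 • ω = ω := by
    intro i j hij hj hi hj'
    have e : L.x1 ^ j * L.x2 = L.x1 ^ (j - i) * (L.x1 ^ i * L.x2) := by
      rw [← mul_assoc, ← pow_add, Nat.sub_add_cancel hij.le]
    have : L.x1 ^ (j - i) • ω = ω := by
      calc L.x1 ^ (j - i) • ω = L.x1 ^ (j - i) • ((L.x1 ^ i * L.x2) • ω) := by rw [hi]
        _ = (L.x1 ^ j * L.x2) • ω := by rw [← mul_smul, ← e]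
        _ = ω := hj'
    exact L5_fix_of_pow_fix L.x1 L.x1_pow (j - i) (by omega) (by omega) ω this
  cases d with
  | none =>
    cases d' with
    | none => exact absurd rfl hdd
    | some j => exact ⟨h, key j h h'⟩
  | some i =>
    cases d' with
    | none => exact ⟨h', key i h' h⟩
    | some j =>
      have hij : (i : ℕ) ≠ (j : ℕ) := fun e => hdd (by rw [Fin.ext e])
      rcases Nat.lt_or_gt_of_ne hij with hlt | hgt
      · have h1 := key2 i j hlt j.2 h h'
        exact ⟨h1, key i h1 h⟩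
      · have h1 := key2 j i hgt i.2 h' h
        exact ⟨h1, key i h1 h⟩

theorem L5_card_line (L : Loc5 G) [Fintype Ω] [DecidableEq Ω] (d : Option (Fin 5))
    [DecidablePred fun ω : Ω => L5_line L d • ω = ω] [DecidablePred fun ω : Ω => L.x1 • ω = ω] :
    (Finset.univ.filter (fun ω : Ω => L5_line L d • ω = ω)).card
      = (Finset.univ.filter (fun ω : Ω => L.x1 • ω = ω)).card := by
  cases d with
  | none => congr
  | some i =>
    symm
    apply Finset.card_equiv (MulAction.toPerm (L.m i))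
    intro ω
    simp only [Finset.mem_filter, Finset.mem_univ, true_and, MulAction.toPerm_apply]
    have hd := L5_line_pow L (some i)
    have he := L.e_pos i
    constructor
    · intro h
      apply L5_fix_of_pow_fix _ hd (L.e i) he.1 he.2
      show (L.x1 ^ (i : ℕ) * L.x2) ^ L.e i • (L.m i • ω) = L.m i • ω
      rw [← L.m_x1 i, mul_smul, mul_smul, inv_smul_smul, h]
    · intro h
      have h2 : (L.x1 ^ (i : ℕ) * L.x2) ^ L.e i • (L.m i • ω) = L.m i • ω := L5_pow_fix _ _ h _
      rw [← L.m_x1 i, mul_smul, mul_smul, inv_smul_smul] at h2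
      exact smul_left_cancel _ h2

theorem L5_card_stab_one (A : Subgroup G) (ω : Ω) (h : ∀ a ∈ A, a • ω = ω → a = 1) :
    Nat.card {a : A // (a : G) • ω = ω} = 1 := by
  rw [Nat.card_eq_one_iff_unique]
  refine ⟨⟨fun a b => ?_⟩, ⟨⟨1, by simp⟩⟩⟩
  apply Subtype.ext; apply Subtype.ext
  rw [h a.1.1 a.1.2 a.2, h b.1.1 b.1.2 b.2]

theorem L5_free_R (L : Loc5 G) (ω : Ω) (hω : ∀ d, L5_line L d • ω ≠ ω) :
    ∀ a ∈ L.F, a • ω = ω → a = 1 := by
  intro a ha hfix
  obtain ⟨i, j, hi, hj, rfl⟩ := (Cfsg.Agent.Helper24.T2T.F_normal_form L).1 a ha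
  rcases Nat.eq_zero_or_pos j with rfl | hj0
  · rcases Nat.eq_zero_or_pos i with rfl | hi0
    · simp
    · exfalso
      rw [pow_zero, mul_one] at hfix
      exact hω none (L5_fix_of_pow_fix L.x1 L.x1_pow i hi0 hi ω hfix)
  · exfalso
    have hc : Commute (L.x1 ^ i) (L.x2 ^ j) := (show Commute L.x1 L.x2 from L.comm).pow_pow i j
    have h1 : (L.x1 ^ i * L.x2 ^ j) ^ (j ^ 3) = L.x1 ^ ((i * j ^ 3) % 5) * L.x2 := by
      rw [hc.mul_pow, ← pow_mul, ← pow_mul, pow_eq_pow_mod (i * j ^ 3) L.x1_pow,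
        pow_eq_pow_mod (j * j ^ 3) L.x2_pow]
      have : (j * j ^ 3) % 5 = 1 := by interval_cases j <;> rfl
      rw [this, pow_one]
    have h2 := L5_pow_fix _ ω hfix (j ^ 3)
    rw [h1] at h2
    exact hω (some ⟨(i * j ^ 3) % 5, Nat.mod_lt _ (by norm_num)⟩) h2

theorem L5_free_X (L : Loc5 G) (ω : Ω) (h2 : L.x2 • ω ≠ ω) :
    ∀ a ∈ Subgroup.zpowers L.x2, a • ω = ω → a = 1 := by
  intro a ha hfix
  have hfin : IsOfFinOrder L.x2 := isOfFinOrder_iff_pow_eq_one.mpr ⟨5, by norm_num, L.x2_pow⟩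
  rw [← hfin.mem_powers_iff_mem_zpowers, Submonoid.mem_powers_iff] at ha
  obtain ⟨k, rfl⟩ := ha
  rw [pow_eq_pow_mod k L.x2_pow] at hfix ⊢
  rcases Nat.eq_zero_or_pos (k % 5) with h0 | h0
  · rw [h0, pow_zero]
  · exfalso
    exact h2 (L5_fix_of_pow_fix L.x2 L.x2_pow (k % 5) h0 (Nat.mod_lt _ (by norm_num)) ω hfix)

/-- invariance of the fixed sets of lines under `F` -/
theorem L5_line_inv (L : Loc5 G) (d : Option (Fin 5)) (a : G) (ha : a ∈ L.F) (ω : Ω) :
    L5_line L d • (a • ω) = a • ω ↔ L5_line L d • ω = ω := by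
  have hc : L5_line L d * a = a * L5_line L d := L5_F_comm L _ (L5_line_mem L d) _ ha
  constructor
  · intro h
    rw [← mul_smul, hc, mul_smul] at h
    exact smul_left_cancel _ h
  · intro h
    rw [← mul_smul, hc, mul_smul, h]

/-- invariance of fixed sets of elements of `F` under `F` -/
theorem L5_gen_inv (L : Loc5 G) (g : G) (hg : g ∈ L.F) (a : G) (ha : a ∈ L.F) (ω : Ω) :
    g • (a • ω) = a • ω ↔ g • ω = ω := by
  have hc : g * a = a * g := L5_F_comm L _ hg _ ha
  constructor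
  · intro h
    rw [← mul_smul, hc, mul_smul] at h
    exact smul_left_cancel _ h
  · intro h
    rw [← mul_smul, hc, mul_smul, h]

/-- (L5) the orbit equation of `F` on `Ω`. -/
theorem orbit_equation (L : Loc5 G) [Fintype Ω] :
    ∃ m5 m25 : ℕ, Fintype.card Ω = (MulAction.fixedPoints L.F Ω).ncard + 30 * m5 + 25 * m25 ∧
      (m5 = 0 → m25 = 0 → ∀ ω : Ω, L.x1 • ω = ω) := by
  classical
  have hf : (MulAction.fixedPoints L.F Ω).ncard
      = (Finset.univ.filter (fun ω : Ω => L.x1 • ω = ω ∧ L.x2 • ω = ω)).card := by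
    rw [← Set.ncard_coe_finset]
    congr 1
    ext ω
    rw [L5_mem_fix_iff]
    simp
  -- decomposition of `Ω`
  have huniv : (Finset.univ : Finset Ω)
      = (Finset.univ.filter (fun ω : Ω => L.x1 • ω = ω ∧ L.x2 • ω = ω)
        ∪ Finset.univ.biUnion (fun d : Option (Fin 5) => Finset.univ.filter (fun ω : Ω =>
            L5_line L d • ω = ω ∧ ¬ (L.x1 • ω = ω ∧ L.x2 • ω = ω))))
        ∪ Finset.univ.filter (fun ω : Ω => ∀ d, L5_line L d • ω ≠ ω) := by
    ext ω
    simp only [Finset.mem_univ, Finset.mem_union, Finset.mem_biUnion, Finset.mem_filter, true_and,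
      true_iff]
    by_cases hp : L.x1 • ω = ω ∧ L.x2 • ω = ω
    · left; left; exact hp
    · by_cases hr : ∀ d, L5_line L d • ω ≠ ω
      · right; exact hr
      · left; right
        push Not at hr
        obtain ⟨d, hd⟩ := hr
        exact ⟨d, hd, hp⟩
  have hdisj1 : Disjoint (Finset.univ.filter (fun ω : Ω => L.x1 • ω = ω ∧ L.x2 • ω = ω))
      (Finset.univ.biUnion (fun d : Option (Fin 5) => Finset.univ.filter (fun ω : Ω =>
            L5_line L d • ω = ω ∧ ¬ (L.x1 • ω = ω ∧ L.x2 • ω = ω)))) := by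
    rw [Finset.disjoint_left]
    intro ω h1 h2
    simp only [Finset.mem_biUnion, Finset.mem_filter, Finset.mem_univ, true_and] at h1 h2
    obtain ⟨d, -, hnp⟩ := h2
    exact hnp h1
  have hdisj2 : Disjoint (Finset.univ.filter (fun ω : Ω => L.x1 • ω = ω ∧ L.x2 • ω = ω)
        ∪ Finset.univ.biUnion (fun d : Option (Fin 5) => Finset.univ.filter (fun ω : Ω =>
            L5_line L d • ω = ω ∧ ¬ (L.x1 • ω = ω ∧ L.x2 • ω = ω))))
      (Finset.univ.filter (fun ω : Ω => ∀ d, L5_line L d • ω ≠ ω)) := by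
    rw [Finset.disjoint_left]
    intro ω h1 h2
    simp only [Finset.mem_filter, Finset.mem_univ, true_and] at h2
    rcases Finset.mem_union.mp h1 with h | h
    · simp only [Finset.mem_filter, Finset.mem_univ, true_and] at h
      exact h2 none h.1
    · simp only [Finset.mem_biUnion, Finset.mem_filter, Finset.mem_univ, true_and] at h
      obtain ⟨d, hd, -⟩ := h
      exact h2 d hd
  have hSdisj : ((Finset.univ : Finset (Option (Fin 5))) : Set (Option (Fin 5))).PairwiseDisjoint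
      (fun d : Option (Fin 5) => Finset.univ.filter (fun ω : Ω =>
            L5_line L d • ω = ω ∧ ¬ (L.x1 • ω = ω ∧ L.x2 • ω = ω))) := by
    intro d _ d' _ hdd
    show Disjoint _ _
    rw [Finset.disjoint_left]
    intro ω h1 h2
    simp only [Finset.mem_filter, Finset.mem_univ, true_and] at h1 h2
    exact h1.2 (L5_two_lines L d d' hdd ω h1.1 h2.1)
  have hcard : Fintype.card Ω
      = (Finset.univ.filter (fun ω : Ω => L.x1 • ω = ω ∧ L.x2 • ω = ω)).card
        + ∑ d : Option (Fin 5), (Finset.univ.filter (fun ω : Ω =>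
            L5_line L d • ω = ω ∧ ¬ (L.x1 • ω = ω ∧ L.x2 • ω = ω))).card
        + (Finset.univ.filter (fun ω : Ω => ∀ d, L5_line L d • ω ≠ ω)).card := by
    have h := congrArg Finset.card huniv
    rw [Finset.card_union_of_disjoint hdisj2, Finset.card_union_of_disjoint hdisj1,
      Finset.card_biUnion hSdisj] at h
    rw [← Finset.card_univ]; exact h
  -- all `S d` have the same cardinality
  have hSd : ∀ d : Option (Fin 5), (Finset.univ.filter (fun ω : Ω =>
            L5_line L d • ω = ω ∧ ¬ (L.x1 • ω = ω ∧ L.x2 • ω = ω))).card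
        + (Finset.univ.filter (fun ω : Ω => L.x1 • ω = ω ∧ L.x2 • ω = ω)).card
      = (Finset.univ.filter (fun ω : Ω => L.x1 • ω = ω)).card := by
    intro d
    have hsplit : Finset.univ.filter (fun ω : Ω => L5_line L d • ω = ω)
        = Finset.univ.filter (fun ω : Ω =>
            L5_line L d • ω = ω ∧ ¬ (L.x1 • ω = ω ∧ L.x2 • ω = ω))
          ∪ Finset.univ.filter (fun ω : Ω => L.x1 • ω = ω ∧ L.x2 • ω = ω) := by
      ext ω
      simp only [Finset.mem_filter, Finset.mem_univ, true_and, Finset.mem_union]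
      constructor
      · intro h
        by_cases hp : L.x1 • ω = ω ∧ L.x2 • ω = ω
        · right; exact hp
        · left; exact ⟨h, hp⟩
      · rintro (h | h)
        · exact h.1
        · exact (L5_mem_fix_iff L ω).mpr h ⟨_, L5_line_mem L d⟩
    have hdj : Disjoint (Finset.univ.filter (fun ω : Ω =>
            L5_line L d • ω = ω ∧ ¬ (L.x1 • ω = ω ∧ L.x2 • ω = ω)))
        (Finset.univ.filter (fun ω : Ω => L.x1 • ω = ω ∧ L.x2 • ω = ω)) := by
      rw [Finset.disjoint_left]
      intro ω h1 h2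
      simp only [Finset.mem_filter, Finset.mem_univ, true_and] at h1 h2
      exact h1.2 h2
    rw [← L5_card_line L d, hsplit, Finset.card_union_of_disjoint hdj]
  have hSeq : ∀ d : Option (Fin 5), (Finset.univ.filter (fun ω : Ω =>
            L5_line L d • ω = ω ∧ ¬ (L.x1 • ω = ω ∧ L.x2 • ω = ω))).card
      = (Finset.univ.filter (fun ω : Ω =>
            L5_line L none • ω = ω ∧ ¬ (L.x1 • ω = ω ∧ L.x2 • ω = ω))).card := by
    intro d
    have h1 := hSd d
    have h2 := hSd none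
    omega
  have hsum : ∑ d : Option (Fin 5), (Finset.univ.filter (fun ω : Ω =>
            L5_line L d • ω = ω ∧ ¬ (L.x1 • ω = ω ∧ L.x2 • ω = ω))).card
      = 6 * (Finset.univ.filter (fun ω : Ω =>
            L5_line L none • ω = ω ∧ ¬ (L.x1 • ω = ω ∧ L.x2 • ω = ω))).card := by
    rw [Finset.sum_congr rfl (fun d _ => hSeq d), Finset.sum_const, Finset.card_univ,
      Fintype.card_option, Fintype.card_fin, smul_eq_mul]
  -- `5 ∣ c`
  have hx2ne : L.x2 ≠ 1 := fun h => L.indep (by rw [h]; exact one_mem _)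
  have : Fact (Nat.Prime 5) := ⟨by norm_num⟩
  have hcard5 : Nat.card (Subgroup.zpowers L.x2) = 5 := by
    rw [Nat.card_zpowers, orderOf_eq_prime L.x2_pow hx2ne]
  have hfin5 : Finite (Subgroup.zpowers L.x2) := Nat.finite_of_card_ne_zero (by rw [hcard5]; norm_num)
  have hzle : Subgroup.zpowers L.x2 ≤ L.F := by
    rw [Subgroup.zpowers_le]; exact L5_x2_mem L
  have h5 : 5 ∣ (Finset.univ.filter (fun ω : Ω =>
            L5_line L none • ω = ω ∧ ¬ (L.x1 • ω = ω ∧ L.x2 • ω = ω))).card := by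
    have := Cfsg.Agent.Helper76.T2T.dvd_ncard_of_stabilizer_card (Subgroup.zpowers L.x2)
      (↑(Finset.univ.filter (fun ω : Ω =>
            L5_line L none • ω = ω ∧ ¬ (L.x1 • ω = ω ∧ L.x2 • ω = ω))) : Set Ω)
      (by
        intro a ha ω hω
        simp only [Finset.mem_coe, Finset.mem_filter, Finset.mem_univ, true_and] at hω ⊢
        have haF := hzle ha
        refine ⟨(L5_gen_inv L _ (L5_line_mem L none) a haF ω).mpr hω.1, ?_⟩
        intro hp
        apply hω.2
        exact ⟨(L5_gen_inv L _ (L5_x1_mem L) a haF ω).mp hp.1,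
          (L5_gen_inv L _ (L5_x2_mem L) a haF ω).mp hp.2⟩)
      1
      (by
        intro ω hω
        simp only [Finset.mem_coe, Finset.mem_filter, Finset.mem_univ, true_and] at hω
        apply L5_card_stab_one
        apply L5_free_X L ω
        intro h2
        exact hω.2 ⟨hω.1, h2⟩)
    rw [hcard5, one_mul, Set.ncard_coe_finset] at this
    exact this
  -- `25 ∣ r`
  have hcard25 : Nat.card L.F = 25 := (Cfsg.Agent.Helper24.T2T.F_normal_form L).2.2
  have hfin25 : Finite L.F := Nat.finite_of_card_ne_zero (by rw [hcard25]; norm_num)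
  have h25 : 25 ∣ (Finset.univ.filter (fun ω : Ω => ∀ d, L5_line L d • ω ≠ ω)).card := by
    have := Cfsg.Agent.Helper76.T2T.dvd_ncard_of_stabilizer_card L.F
      (↑(Finset.univ.filter (fun ω : Ω => ∀ d, L5_line L d • ω ≠ ω)) : Set Ω)
      (by
        intro a ha ω hω
        simp only [Finset.mem_coe, Finset.mem_filter, Finset.mem_univ, true_and] at hω ⊢
        intro d hd
        exact hω d ((L5_gen_inv L _ (L5_line_mem L d) a ha ω).mp hd))
      1
      (by
        intro ω hω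
        simp only [Finset.mem_coe, Finset.mem_filter, Finset.mem_univ, true_and] at hω
        exact L5_card_stab_one _ ω (L5_free_R L ω hω))
    rw [hcard25, one_mul, Set.ncard_coe_finset] at this
    exact this
  obtain ⟨m5, hm5⟩ := h5
  obtain ⟨m25, hm25⟩ := h25
  refine ⟨m5, m25, ?_, ?_⟩
  · rw [hf, hcard, hsum, hm5, hm25]; ring
  · intro h0 h0' ω
    rw [hsum, hm5, hm25, h0, h0'] at hcard
    have hall : Finset.univ.filter (fun ω : Ω => L.x1 • ω = ω ∧ L.x2 • ω = ω) = Finset.univ := by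
      apply Finset.eq_univ_of_card
      omega
    have : ω ∈ Finset.univ.filter (fun ω : Ω => L.x1 • ω = ω ∧ L.x2 • ω = ω) := by
      rw [hall]; exact Finset.mem_univ ω
    simp only [Finset.mem_filter, Finset.mem_univ, true_and] at this
    exact this.1

end Cfsg.Agent.Helper89.T2T
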