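import Mathlib
import Cfsg.Agent.Helper1.CoprimeAction

/-! (W4) of helper21's S3797 plan (#5260): coprime action, fixed point in a fixed coset. -/

set_option autoImplicit false

namespace Cfsg.Agent.Helper89.THW4

open Subgroup

universe u

/-- (W4) coprime action, fixed point in a fixed coset (via Schur–Zassenhaus conjugacy). -/
theorem exists_fixed_in_coset_coprime {G : Type u} [Group G] [Finite G] (D R : Subgroup G)
    (hRD : R ≤ normalizer (D : Set G)) (hcop : (Nat.card R).Coprime (Nat.card D))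
    (hsol : Group.IsSolvable D ∨ Group.IsSolvable R) (x : G)
    (hx : ∀ r ∈ R, x⁻¹ * (r * x * r⁻¹) ∈ D) :
    ∃ d ∈ D, ∀ r ∈ R, r * (x * d) * r⁻¹ = x * d := by
  have hinv : ∀ a ∈ R, ∃ d ∈ D, a * x⁻¹ * a⁻¹ = d * x⁻¹ := by
    intro a ha
    refine ⟨(x⁻¹ * (a * x * a⁻¹))⁻¹, D.inv_mem (hx a ha), ?_⟩
    group
  obtain ⟨d, hd, hc⟩ := Cfsg.Agent.Helper1.exists_mem_coset_centralizer R D hRD hcop hsol.symm
    x⁻¹ hinv
  refine ⟨d⁻¹, D.inv_mem hd, ?_⟩
  intro r hr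
  have h1 : r * (d * x⁻¹) = (d * x⁻¹) * r := by
    have := (Subgroup.mem_centralizer_iff.mp hc) r hr
    exact this
  have h2 : x * d⁻¹ = (d * x⁻¹)⁻¹ := by group
  rw [h2]
  have h3 : r * (d * x⁻¹)⁻¹ * r⁻¹ = (r * (d * x⁻¹) * r⁻¹)⁻¹ := by group
  rw [h3, h1]
  group

end Cfsg.Agent.Helper89.THW4
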