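import Mathlib
import Cfsg.Agent.Helper95.TIC.Defs
import Cfsg.Agent.Lib.Cores

/-!
# (NIL) of helper95's S4064 farm (#12259): a finite `TIC`-group with non-trivial centre is nilpotent
-/

set_option autoImplicit false

namespace Cfsg.Agent.Helper89.TICent

open Subgroup Cfsg.Agent.Helper95.TICent

variable {G : Type*} [Group G]

/-- (NIL) A finite `TIC`-group with a non-trivial centre is nilpotent. -/
theorem TIC.nilpotent_of_central [Finite G] (h : TIC G) {z : G} (hz1 : z ≠ 1)
    (hz : ∀ g : G, g * z = z * g) : Group.IsNilpotent G := by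
  -- every centralizer is normalized by everything
  have hnorm : ∀ x g : G, g ∈ normalizer ((centralizer ({x} : Set G) : Subgroup G) : Set G) := by
    intro x g
    have hzC : z ∈ centralizer ({x} : Set G) := by
      rw [mem_centralizer_singleton_iff]
      exact (hz x).symm
    apply h.mem_normalizer hzC hz1
    have : g * z * g⁻¹ = z := by rw [hz g]; group
    rw [this]
    exact hzC
  -- conjugates of `x` commute with `x`
  have hconj : ∀ x g : G, (g * x * g⁻¹) * x = x * (g * x * g⁻¹) := by
    intro x g
    have hx : x ∈ centralizer ({x} : Set G) := mem_centralizer_singleton_iff.mpr rfl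
    have := (mem_normalizer_iff.mp (hnorm x g) x).mp hx
    exact mem_centralizer_singleton_iff.mp this
  -- any two conjugates of `x` commute
  have hconj2 : ∀ x a b : G, (a * x * a⁻¹) * (b * x * b⁻¹) = (b * x * b⁻¹) * (a * x * a⁻¹) := by
    intro x a b
    have h1 := hconj x (a⁻¹ * b)
    have e1 : a * x * a⁻¹ * (b * x * b⁻¹) = a * (x * (a⁻¹ * b * x * (a⁻¹ * b)⁻¹)) * a⁻¹ := by group
    have e2 : b * x * b⁻¹ * (a * x * a⁻¹) = a * ((a⁻¹ * b * x * (a⁻¹ * b)⁻¹) * x) * a⁻¹ := by group
    rw [e1, e2, h1]
  -- the Fitting subgroup is everything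
  have htop : Cfsg.fittingSubgroup G = ⊤ := by
    rw [eq_top_iff]
    intro x _
    have hcomm : ∀ u ∈ Group.conjugatesOfSet ({x} : Set G), ∀ v ∈ Group.conjugatesOfSet ({x} : Set G),
        u * v = v * u := by
      intro u hu v hv
      obtain ⟨a, ha, hau⟩ := Group.mem_conjugatesOfSet_iff.mp hu
      obtain ⟨b, hb, hbv⟩ := Group.mem_conjugatesOfSet_iff.mp hv
      rw [Set.mem_singleton_iff] at ha hb
      rw [ha] at hau
      rw [hb] at hbv
      obtain ⟨c, rfl⟩ := isConj_iff.mp hau
      obtain ⟨d, rfl⟩ := isConj_iff.mp hbv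
      exact hconj2 x c d
    have hnil : Group.IsNilpotent (normalClosure ({x} : Set G)) := by
      have hmc : IsMulCommutative (normalClosure ({x} : Set G)) := isMulCommutative_closure hcomm
      letI : CommGroup (normalClosure ({x} : Set G)) :=
        { (inferInstance : Group (normalClosure ({x} : Set G))) with
          mul_comm := fun a b => mul_comm' a b }
      exact CommGroup.isNilpotent
    have hle := Cfsg.Agent.Lib.le_fittingSubgroup (normalClosure_normal (s := ({x} : Set G))) hnil
    exact hle (subset_normalClosure (Set.mem_singleton x))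
  have hF := Cfsg.Agent.Lib.isNilpotent_fittingSubgroup (G := G)
  rw [htop] at hF
  exact (Group.isNilpotent_congr Subgroup.topEquiv).mp hF

end Cfsg.Agent.Helper89.TICent
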