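import Mathlib
import Cfsg.Agent.Helper89.TT59Defs
import Cfsg.Agent.Helper12.TT59IM
import Cfsg.Agent.Helper12.TT59M23
import Cfsg.Agent.Helper12.TT59M4
import Cfsg.Agent.Helper12.TT59KS
import Cfsg.Agent.Helper97.TT59LA
import Cfsg.Agent.Helper69.TT59RS

/-!
# S5559: the module reduction (assembly of the pieces (KS), (IM), (QL), (M2), (M3), (M4), (RS), (LA2))
-/

set_option autoImplicit false

namespace Cfsg.Agent.Helper89.TT59

open Cfsg.Agent.Helper12.TT59 Cfsg.Agent.Helper69.TT59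
  Cfsg.Agent.Helper97.TT59

/-- `ρ d ≠ 1` as soon as `P` acts nontrivially -/
theorem rho_d_ne_one {K : Type*} [Group K] {W : Type*} [Group W] (ρ : K →* MulAut W) {D : Set K}
    (hD : Cfsg.IsThreeTranspositionClass D) {P : Subgroup K} {d : K} (hd : d ∈ D)
    (hS : Setup P d) (hDI : D = {e | ∃ s ∈ Inv P d, e = d * s})
    (hnt : ∃ x ∈ P, ρ x ≠ 1) : ρ d ≠ 1 := by
  intro h1
  obtain ⟨x, hxP, hx⟩ := hnt
  apply hx
  -- `ρ` is trivial on `D`
  have hDtriv : ∀ e ∈ D, ρ e = 1 := by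
    intro e he
    obtain ⟨d0, hd0, hDc⟩ := hD.2.1
    rw [hDc] at he hd
    have he' : IsConj d0 e := he
    have hd' : IsConj d0 d := hd
    obtain ⟨g, hg⟩ := isConj_iff.mp he'
    obtain ⟨g', hg'⟩ := isConj_iff.mp hd'
    have h2 : ρ d0 = 1 := by
      have : ρ (g' * d0 * g'⁻¹) = 1 := by rw [hg']; exact h1
      rw [map_mul, map_mul, map_inv] at this
      have h3 : ρ d0 = (ρ g')⁻¹ * (ρ g' * ρ d0 * (ρ g')⁻¹) * ρ g' := by group
      rw [h3, this]; group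
    rw [← hg, map_mul, map_mul, h2, mul_one, map_inv, mul_inv_cancel]
  -- hence on `Inv P d`, hence on `P`
  have hItriv : ∀ s ∈ Inv P d, ρ s = 1 := by
    intro s hs
    have hds : d * s ∈ D := by rw [hDI]; exact ⟨s, hs, rfl⟩
    have := hDtriv _ hds
    rwa [map_mul, h1, one_mul] at this
  have hle : Subgroup.closure (Inv P d) ≤ ρ.ker := by
    rw [Subgroup.closure_le]
    intro s hs
    exact MonoidHom.mem_ker.mpr (hItriv s hs)
  rw [hS.gen] at hle
  exact MonoidHom.mem_ker.mp (hle hxP)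


/-- **the module reduction** -/
theorem card_Inv_le_nine_of_module {K : Type*} [Group K] [Finite K] {W : Type*} [Group W]
    [Finite W] (hWc : ∀ a b : W, a * b = b * a) (hW2 : ∀ w : W, w * w = 1) (ρ : K →* MulAut W)
    {D : Set K} (hD : Cfsg.IsThreeTranspositionClass D)
    (P : Subgroup K) [hPn : P.Normal] (hP3 : IsPGroup 3 P) (hidx : ∃ k : ℕ, P.index = 2 ^ k)
    {d : K} (hd : d ∈ D)
    (hstar : ∀ s ∈ Inv P d, s ≠ 1 → ∀ w : W, ρ s w = w → ρ d w = w)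
    (hfaith : ∀ x ∈ P, ρ x = 1 → x = 1) (hP : P ≠ ⊥) :
    Nat.card (Inv P d) ≤ 9 ∧
      ∀ s ∈ Inv P d, ∀ t ∈ Inv P d, s * t = t * s → s = 1 ∨ t ∈ Subgroup.zpowers s := by
  classical
  obtain ⟨hS, hDI⟩ := setup_of_class hD P hP3 hidx hd
  have hnt : ∃ x ∈ P, ρ x ≠ 1 := by
    obtain ⟨x, hx⟩ := (Subgroup.ne_bot_iff_exists_ne_one).mp hP
    exact ⟨(x : K), x.2, fun h => hx (Subtype.ext (hfaith x x.2 h))⟩
  have hρd : ρ d ≠ 1 := rho_d_ne_one ρ hD hd hS hDI hnt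
  have hcomm := no_inverted_rank_two hWc hW2 ρ hS hstar hρd
  refine ⟨?_, hcomm⟩
  -- a minimal invariant subgroup on which `P` acts nontrivially
  let good : Set (Subgroup W) :=
    {W' | (∀ k : K, ∀ w ∈ W', ρ k w ∈ W') ∧ ∃ x ∈ P, ∃ w ∈ W', ρ x w ≠ w}
  have hgood_top : (⊤ : Subgroup W) ∈ good := by
    refine ⟨fun _ _ _ => Subgroup.mem_top _, ?_⟩
    obtain ⟨x, hxP, hx⟩ := hnt
    have : ∃ w, ρ x w ≠ w := by
      by_contra hcon
      push Not at hcon
      exact hx (MulEquiv.ext hcon)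
    obtain ⟨w, hw⟩ := this
    exact ⟨x, hxP, w, Subgroup.mem_top _, hw⟩
  obtain ⟨W', hW'min⟩ := (Set.toFinite good).exists_minimal ⟨⊤, hgood_top⟩
  obtain ⟨hW'inv, hW'nt⟩ := hW'min.1
  have hmin' : ∀ V : Subgroup W, (∀ k : K, ∀ w ∈ V, ρ k w ∈ V) → V ≤ W' → V ≠ W' →
      ∀ x ∈ P, ∀ w ∈ V, ρ x w = w := by
    intro V hVinv hVle hVne x hxP w hwV
    by_contra hcon
    have hVgood : V ∈ good := ⟨hVinv, x, hxP, w, hwV, hcon⟩
    exact hVne (le_antisymm hVle (hW'min.2 hVgood hVle))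
  -- the restricted action and its kernel
  obtain ⟨ρ', hρ'⟩ := exists_restrict ρ W' hW'inv
  have hWc' : ∀ a b : ↥W', a * b = b * a := fun a b => Subtype.ext (hWc a b)
  have hW2' : ∀ w : ↥W', w * w = 1 := fun w => Subtype.ext (hW2 w)
  have hstar' : ∀ s ∈ Inv P d, s ≠ 1 → ∀ w : ↥W', ρ' s w = w → ρ' d w = w := by
    intro s hs hs1 w hw
    apply Subtype.ext
    rw [hρ']
    apply hstar s hs hs1
    rw [← hρ', hw]
  have hnt' : ∃ x ∈ P, ρ' x ≠ 1 := by
    obtain ⟨x, hxP, w, hwW', hw⟩ := hW'nt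
    refine ⟨x, hxP, fun h => hw ?_⟩
    have := hρ' x ⟨w, hwW'⟩
    rw [h] at this
    exact this.symm
  have hρ'd : ρ' d ≠ 1 := rho_d_ne_one ρ' hD hd hS hDI hnt'
  have hker := ker_le_fixed ρ' hS hstar' hρ'd
  -- the quotient
  let N : Subgroup K := ρ'.ker
  let φ : K →* K ⧸ N := QuotientGroup.mk' N
  have hφ : Function.Surjective φ := QuotientGroup.mk'_surjective N
  let ρq : K ⧸ N →* MulAut ↥W' := QuotientGroup.kerLift ρ'
  have hρq : Function.Injective ρq := QuotientGroup.kerLift_injective ρ'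
  have hρqφ : ∀ k : K, ρq (φ k) = ρ' k := fun k => QuotientGroup.kerLift_mk ρ' k
  have hne : ∀ a ∈ D, φ a ≠ 1 := by
    intro a ha h
    have h1 : ρ' a = 1 := by rw [← hρqφ, h, map_one]
    -- `a` is conjugate to `d`
    obtain ⟨d0, hd0, hDc⟩ := hD.2.1
    rw [hDc] at ha hd
    have ha' : IsConj d0 a := ha
    have hd' : IsConj d0 d := hd
    obtain ⟨g, hg⟩ := isConj_iff.mp (ha'.symm.trans hd')
    apply hρ'd
    rw [← hg, map_mul, map_mul, h1, mul_one, map_inv, mul_inv_cancel]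
  have hDq := class_map hD φ hφ hne
  haveI hPqn : (P.map φ).Normal := hPn.map φ hφ
  have hPq3 : IsPGroup 3 (P.map φ) := hP3.map φ
  have hidxq : ∃ k : ℕ, (P.map φ).index = 2 ^ k := by
    obtain ⟨k, hk⟩ := hidx
    have hdvd : (P.map φ).index ∣ P.index := Subgroup.index_map_dvd P hφ
    rw [hk] at hdvd
    obtain ⟨j, -, hj⟩ := (Nat.dvd_prime_pow Nat.prime_two).mp hdvd
    exact ⟨j, hj⟩
  have hdq : φ d ∈ φ '' D := ⟨d, hd, rfl⟩
  obtain ⟨hSq, -⟩ := setup_of_class hDq (P.map φ) hPq3 hidxq hdq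
  -- the hypotheses of the key lemma in the quotient
  have hstarq : ∀ s ∈ Inv (P.map φ) (φ d), s ≠ 1 → ∀ w : ↥W', ρq s w = w → ρq (φ d) w = w := by
    intro s' hs' hs'1 w hw
    obtain ⟨s, hs, rfl⟩ := exists_Inv_lift φ hφ hP3 hS.dd s' hs'
    have hs1 : s ≠ 1 := by
      rintro rfl
      exact hs'1 (map_one φ)
    rw [hρqφ] at hw ⊢
    exact hstar' s hs hs1 w hw
  have hminq : ∀ V : Subgroup ↥W', (∀ k : K ⧸ N, ∀ w ∈ V, ρq k w ∈ V) → V ≠ ⊤ →
      ∀ x ∈ P.map φ, ∀ w ∈ V, ρq x w = w := by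
    intro V hVinv hVne x' hx' w hwV
    obtain ⟨x, hxP, rfl⟩ := Subgroup.mem_map.mp hx'
    rw [hρqφ]
    apply Subtype.ext
    rw [hρ']
    apply hmin' (V.map W'.subtype)
    · intro k v hv
      obtain ⟨v', hv', rfl⟩ := Subgroup.mem_map.mp hv
      refine Subgroup.mem_map.mpr ⟨ρ' k v', ?_, ?_⟩
      · have := hVinv (φ k) v' hv'
        rwa [hρqφ] at this
      · rw [Subgroup.subtype_apply, hρ', Subgroup.subtype_apply]
    · intro v hv
      obtain ⟨v', -, rfl⟩ := Subgroup.mem_map.mp hv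
      exact v'.2
    · intro h
      apply hVne
      rw [eq_top_iff]
      intro v _
      have hv : (v : W) ∈ V.map W'.subtype := by rw [h]; exact v.2
      obtain ⟨v', hv', hvv'⟩ := Subgroup.mem_map.mp hv
      have : v' = v := Subtype.ext hvv'
      rwa [this] at hv'
    · exact hxP
    · exact Subgroup.mem_map.mpr ⟨w, hwV, rfl⟩
  have hdq1 : ρq (φ d) ≠ 1 := by rw [hρqφ]; exact hρ'd
  have hcommq := no_inverted_rank_two hWc' hW2' ρq hSq hstarq hdq1
  have hZq := center_rank_one hWc' hW2' ρq hρq hSq hstarq hminq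
  have h9q := card_Inv_le_nine hSq hcommq hZq
  -- transfer back
  have hinj : Function.Injective
      (fun s : Inv P d => (⟨φ s.1, ⟨Subgroup.mem_map.mpr ⟨s.1, s.2.1, rfl⟩, by
        rw [← map_mul, ← map_mul, s.2.2, map_inv]⟩⟩ : Inv (P.map φ) (φ d))) := by
    intro s t hst
    have h1 : φ s.1 = φ t.1 := congrArg Subtype.val hst
    have hx : (s.1)⁻¹ * t.1 ∈ N := by
      rw [← QuotientGroup.eq]
      exact h1
    obtain ⟨-, hfix⟩ := hker _ hx
    -- `d (s⁻¹ t) d = s t⁻¹`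
    have hs2 := s.2.2
    have ht2 := t.2.2
    have hdd := hS.dd
    have e1 : d * ((s.1)⁻¹ * t.1) * d = s.1 * (t.1)⁻¹ := by
      have hsi : d * (s.1)⁻¹ * d = s.1 := by
        have : (d * s.1 * d)⁻¹ = d * (s.1)⁻¹ * d := by
          rw [mul_inv_rev, mul_inv_rev, inv_eq_of_mul_eq_one_left hdd, mul_assoc]
        rw [← this, hs2, inv_inv]
      calc d * ((s.1)⁻¹ * t.1) * d = (d * (s.1)⁻¹ * d) * (d * t.1 * d) := by
            simp only [mul_assoc]
            rw [← mul_assoc d d, hdd, one_mul]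
        _ = s.1 * (t.1)⁻¹ := by rw [hsi, ht2]
    rw [e1] at hfix
    -- `s t⁻¹ = s⁻¹ t` gives `s² = t²`, and cubes are trivial
    have hs3 := hS.pow_three s.2
    have ht3 := hS.pow_three t.2
    have h2 : s.1 * s.1 = t.1 * t.1 := by
      have : s.1 * (s.1 * (t.1)⁻¹) * t.1 = s.1 * ((s.1)⁻¹ * t.1) * t.1 := by rw [hfix]
      simpa [mul_assoc] using this
    apply Subtype.ext
    have hsinv : s.1 = (s.1 * s.1)⁻¹ := by
      rw [eq_inv_iff_mul_eq_one, ← pow_two, ← pow_succ']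
      exact hs3
    have htinv : t.1 = (t.1 * t.1)⁻¹ := by
      rw [eq_inv_iff_mul_eq_one, ← pow_two, ← pow_succ']
      exact ht3
    rw [hsinv, htinv, h2]
  haveI : Finite (Inv (P.map φ) (φ d)) := Set.toFinite _
  exact (Nat.card_le_card_of_injective _ hinj).trans h9q

end Cfsg.Agent.Helper89.TT59
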