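-- The relation "same commuting set" on a set of 3-transpositions, and O_2 (helper89).
import Mathlib
import Cfsg.Prelude.Def_FischerSpaces
import Cfsg.Agent.Helper89.ThreeTransp
import Cfsg.Agent.Helper89.Dihedral
import Cfsg.Agent.S5344
import Cfsg.Agent.S0199
import Cfsg.Agent.Lib.Cores

set_option autoImplicit false

namespace Cfsg.Agent.Helper89

open Equiv

variable {G : Type*} [Group G]

/-- `a` and `b` commute with exactly the same members of `D`. -/
def SameComm (D : Set G) (a b : G) : Prop := ∀ y ∈ D, Commute a y ↔ Commute b y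

theorem SameComm.symm {D : Set G} {a b : G} (h : SameComm D a b) : SameComm D b a :=
  fun y hy => (h y hy).symm

theorem SameComm.conj {D : Set G} (hconj : ∀ g : G, ∀ d ∈ D, g * d * g⁻¹ ∈ D) {a b : G}
    (h : SameComm D a b) (g : G) : SameComm D (g * a * g⁻¹) (g * b * g⁻¹) := by
  intro y hy
  have hy' : g⁻¹ * y * g⁻¹⁻¹ ∈ D := hconj g⁻¹ y hy
  have key : ∀ z : G, Commute (g * z * g⁻¹) y ↔ Commute z (g⁻¹ * y * g⁻¹⁻¹) := by
    intro z
    have : y = g * (g⁻¹ * y * g⁻¹⁻¹) * g⁻¹ := by group
    conv_lhs => rw [this]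
    exact Commute.conj_iff g
  rw [key a, key b]
  exact h _ hy'

/-- conjugation by an involution written without inverses -/
theorem SameComm.conj_inv {D : Set G} (hconj : ∀ g : G, ∀ d ∈ D, g * d * g⁻¹ ∈ D) {a b c : G}
    (h : SameComm D a b) (hc : c * c = 1) : SameComm D (c * a * c) (c * b * c) := by
  have := h.conj hconj c
  rwa [inv_eq_of_mul_eq_one_left hc] at this

theorem mul_mul_self_mem {D : Set G} (hconj : ∀ g : G, ∀ d ∈ D, g * d * g⁻¹ ∈ D) {a c : G}
    (ha : a ∈ D) (hc : c * c = 1) : c * a * c ∈ D := by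
  have := hconj c a ha
  rwa [inv_eq_of_mul_eq_one_left hc] at this

/-- If `a ~ b` and `c ~ e` (same commuting sets, `a ≠ b`, `c ≠ e`) in a conjugation-invariant set of
3-transpositions, then `(ab · ce)^4 = 1`. -/
theorem key4 {D : Set G} (hD : Cfsg.IsThreeTranspositionSet D) (hconj : ∀ g : G, ∀ d ∈ D, g * d * g⁻¹ ∈ D)
    {a b c e : G} (ha : a ∈ D) (hb : b ∈ D) (hc : c ∈ D) (he : e ∈ D)
    (hab : SameComm D a b) (hce : SameComm D c e) (hne : a ≠ b) :
    ((a * b) * (c * e)) ^ 4 = 1 := by
  have haa := mul_self_of_orderOf_two (hD.1 a ha)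
  have hbb := mul_self_of_orderOf_two (hD.1 b hb)
  have hcc := mul_self_of_orderOf_two (hD.1 c hc)
  have hee := mul_self_of_orderOf_two (hD.1 e he)
  have cab : Commute a b := ((hab a ha).1 (Commute.refl a)).symm
  have cce : Commute c e := ((hce c hc).1 (Commute.refl c)).symm
  have hx2 : (a * b) * (a * b) = 1 := by
    rw [← pow_two]; exact mul_sq_eq_one_of_commute haa hbb cab
  have hx'2 : (c * e) * (c * e) = 1 := by
    rw [← pow_two]; exact mul_sq_eq_one_of_commute hcc hee cce
  by_cases hac : Commute a c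
  · have hbc : Commute b c := (hab c hc).1 hac
    have hae : Commute a e := ((hce a ha).1 hac.symm).symm
    have hbe : Commute b e := ((hce b hb).1 hbc.symm).symm
    have hx : Commute (a * b) (c * e) := (hac.mul_right hae).mul_left (hbc.mul_right hbe)
    rw [hx.mul_pow, show (4 : ℕ) = 2 * 2 from rfl, pow_mul, pow_mul, pow_two (a * b), pow_two (c * e), hx2, hx'2]
    simp
  · have hbc : ¬ Commute b c := fun h => hac ((hab c hc).2 h)
    have hae : ¬ Commute a e := fun h => hac ((hce a ha).2 h.symm).symm
    have hbe : ¬ Commute b e := fun h => hbc ((hce b hb).2 h.symm).symm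
    have ac3 : (a * c) ^ 3 = 1 := by
      rcases hD.2 a ha c hc with h | h
      · exact absurd (commute_of_mul_sq_eq_one haa hcc h) hac
      · exact h
    have ae3 : (a * e) ^ 3 = 1 := by
      rcases hD.2 a ha e he with h | h
      · exact absurd (commute_of_mul_sq_eq_one haa hee h) hae
      · exact h
    have cac := Cfsg.Agent.S5344.braid_of_cube haa hcc ac3
    have eae := Cfsg.Agent.S5344.braid_of_cube haa hee ae3
    have h1 : c * a * c = a * c * a := by rw [mul_assoc, cac, ← mul_assoc]
    have h2 : e * a * e = a * e * a := by rw [mul_assoc, eae, ← mul_assoc]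
    have hu : Commute (c * a * c) (e * a * e) := by
      show c * a * c * (e * a * e) = e * a * e * (c * a * c)
      rw [h1, h2]
      calc a * c * a * (a * e * a) = a * c * (a * a) * e * a := by group
        _ = a * (c * e) * a := by rw [haa]; group
        _ = a * (e * c) * a := by rw [cce.eq]
        _ = a * e * (a * a) * c * a := by rw [haa]; group
        _ = a * e * a * (a * c * a) := by group
    have hcab := hab.conj_inv hconj hcc
    have heab := hab.conj_inv hconj hee
    have hcacD := mul_mul_self_mem hconj ha hcc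
    have hcbcD := mul_mul_self_mem hconj hb hcc
    have heaeD := mul_mul_self_mem hconj ha hee
    have h3 : Commute (c * b * c) (e * a * e) := (hcab _ heaeD).1 hu
    have h4 : Commute (c * a * c) (e * b * e) := ((heab _ hcacD).1 hu.symm).symm
    have h5 : Commute (c * b * c) (e * b * e) := ((heab _ hcbcD).1 h3.symm).symm
    have hy : c * (a * b) * c = (c * a * c) * (c * b * c) := by
      rw [show (c * a * c) * (c * b * c) = c * a * (c * c) * b * c by group, hcc]; group
    have hy3 : e * (a * b) * e = (e * a * e) * (e * b * e) := by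
      rw [show (e * a * e) * (e * b * e) = e * a * (e * e) * b * e by group, hee]; group
    have hyy3 : Commute (c * (a * b) * c) (e * (a * b) * e) := by
      rw [hy, hy3]; exact (hu.mul_right h4).mul_left (h3.mul_right h5)
    -- x commutes with e x e, via the copy of Sym(4) generated by the 3-string b - e - a
    obtain ⟨φ, -, hφ0, hφ1, hφ2⟩ := Cfsg.Agent.S5344.result hD hb he ha (Ne.symm hne) cab.symm hbe
      (fun h => hae h.symm)
    have hS4 : Commute (swap 2 3 * swap 0 1 : Perm (Fin 4)) (swap 1 2 * (swap 2 3 * swap 0 1) * swap 1 2) := by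
      show _ = _
      decide
    have hx_exe : Commute (a * b) (e * (a * b) * e) := by
      have := hS4.map φ
      simpa [map_mul, hφ0, hφ1, hφ2] using this
    -- q = x' x x' = c (e x e) c
    have hq : (c * e) * (a * b) * (c * e) = c * (e * (a * b) * e) * c := by
      conv_lhs => rw [show (c * e) * (a * b) * (c * e) = (c * e) * (a * b) * (c * e) from rfl]
      calc (c * e) * (a * b) * (c * e) = (c * e) * (a * b) * (e * c) := by rw [cce.eq]
        _ = c * (e * (a * b) * e) * c := by group
    have hcinv : c⁻¹ = c := inv_eq_of_mul_eq_one_left hcc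
    have hxq : Commute (a * b) ((c * e) * (a * b) * (c * e)) := by
      rw [hq]
      have h6 : a * b = c * (c * (a * b) * c) * c⁻¹ := by
        rw [hcinv]
        calc a * b = (c * c) * (a * b) * (c * c) := by rw [hcc]; group
          _ = c * (c * (a * b) * c) * c := by group
      have h7 : c * (e * (a * b) * e) * c = c * (e * (a * b) * e) * c⁻¹ := by rw [hcinv]
      rw [h7]
      conv_lhs => rw [h6]
      exact (Commute.conj_iff c).2 hyy3
    have hq2 : ((c * e) * (a * b) * (c * e)) * ((c * e) * (a * b) * (c * e)) = 1 := by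
      calc ((c * e) * (a * b) * (c * e)) * ((c * e) * (a * b) * (c * e))
          = (c * e) * (a * b) * ((c * e) * (c * e)) * (a * b) * (c * e) := by group
        _ = (c * e) * ((a * b) * (a * b)) * (c * e) := by rw [hx'2]; group
        _ = 1 := by rw [hx2, mul_one, hx'2]
    have hsq : ((a * b) * (c * e)) ^ 2 = (a * b) * ((c * e) * (a * b) * (c * e)) := by
      rw [pow_two]; group
    rw [show (4 : ℕ) = 2 * 2 from rfl, pow_mul, hsq, hxq.mul_pow, pow_two, pow_two, hx2, hq2, one_mul]

end Cfsg.Agent.Helper89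

namespace Cfsg.Agent.Helper89

variable {G : Type*} [Group G]

/-- `a ~ b`, `a ≠ b` in a conjugation-invariant set of 3-transpositions of a finite group: `a * b ∈ O_2(G)`
(Baer–Suzuki). -/
theorem mem_pCore_two_of_sameComm [Finite G] {D : Set G} (hD : Cfsg.IsThreeTranspositionSet D)
    (hconj : ∀ g : G, ∀ d ∈ D, g * d * g⁻¹ ∈ D) {a b : G} (ha : a ∈ D) (hb : b ∈ D)
    (hab : SameComm D a b) (hne : a ≠ b) : a * b ∈ Cfsg.pCore 2 G := by
  have : Fact (Nat.Prime 2) := ⟨Nat.prime_two⟩
  have haa := mul_self_of_orderOf_two (hD.1 a ha)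
  have hbb := mul_self_of_orderOf_two (hD.1 b hb)
  have cab : Commute a b := ((hab a ha).1 (Commute.refl a)).symm
  have hx2 : (a * b) * (a * b) = 1 := by
    rw [← pow_two]; exact mul_sq_eq_one_of_commute haa hbb cab
  have hX : IsPGroup 2 (Subgroup.zpowers (a * b)) := by
    have h := isPGroup_two_closure_pair hx2 hx2 (k := 1) (by rw [hx2, one_pow])
    have e : Subgroup.closure ({a * b, a * b} : Set G) = Subgroup.zpowers (a * b) := by
      rw [Subgroup.zpowers_eq_closure]; simp
    rwa [e] at h
  obtain ⟨N, hN, hN2, hXN⟩ := Cfsg.Agent.S0199.result (p := 2) (Subgroup.zpowers (a * b)) hX (fun g => by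
    have e : Subgroup.zpowers (a * b) ⊔ (Subgroup.zpowers (a * b)).map (MulAut.conj g).toMonoidHom =
        Subgroup.closure ({a * b, (g * a * g⁻¹) * (g * b * g⁻¹)} : Set G) := by
      rw [MonoidHom.map_zpowers, Subgroup.zpowers_eq_closure, Subgroup.zpowers_eq_closure,
        ← Subgroup.closure_union]
      congr 1
      ext y
      simp only [Set.union_singleton, Set.mem_insert_iff, Set.mem_singleton_iff, MulEquiv.coe_toMonoidHom,
        MulAut.conj_apply]
      have : g * (a * b) * g⁻¹ = (g * a * g⁻¹) * (g * b * g⁻¹) := by group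
      rw [this]
      tauto
    rw [e]
    have hx'2 : ((g * a * g⁻¹) * (g * b * g⁻¹)) * ((g * a * g⁻¹) * (g * b * g⁻¹)) = 1 := by
      calc ((g * a * g⁻¹) * (g * b * g⁻¹)) * ((g * a * g⁻¹) * (g * b * g⁻¹))
          = g * ((a * b) * (a * b)) * g⁻¹ := by group
        _ = 1 := by rw [hx2]; group
    exact isPGroup_two_closure_pair hx2 hx'2 (k := 2)
      (key4 hD hconj ha hb (hconj g a ha) (hconj g b hb) hab (hab.conj hconj g) hne))
  exact (Cfsg.Agent.Lib.le_pCore hN hN2) (hXN (Subgroup.mem_zpowers _))

/-- If `u⁻¹ w` lies in a normal 2-subgroup and `e` commutes with `u`, then `e` commutes with `w`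
(all three in a set of 3-transpositions). -/
theorem commute_of_mul_mem_normal_two_group {D : Set G} (hD : Cfsg.IsThreeTranspositionSet D)
    {N : Subgroup G} (hN : N.Normal) (hN2 : IsPGroup 2 N) {u w e : G} (hu : u ∈ D) (hw : w ∈ D) (he : e ∈ D)
    (hn : u⁻¹ * w ∈ N) (hue : Commute u e) : Commute w e := by
  have huu := mul_self_of_orderOf_two (hD.1 u hu)
  have hww := mul_self_of_orderOf_two (hD.1 w hw)
  have hee := mul_self_of_orderOf_two (hD.1 e he)
  rcases hD.2 e he w hw with h2 | h3
  · exact (commute_of_mul_sq_eq_one hee hww h2).symm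
  · -- (e w)^2 ∈ N
    have heu2 : (e * u) * (e * u) = 1 := by
      rw [← pow_two]; exact mul_sq_eq_one_of_commute hee huu hue.symm
    have heuinv : (e * u)⁻¹ = e * u := inv_eq_of_mul_eq_one_left heu2
    have hsq : (e * w) ^ 2 ∈ N := by
      have h1 : (e * w) ^ 2 = ((e * u) * (u⁻¹ * w) * (e * u)⁻¹) * (u⁻¹ * w) := by
        rw [heuinv, pow_two]
        group
      rw [h1]
      exact N.mul_mem (hN.conj_mem _ hn _) hn
    have hmem : e * w ∈ N := by
      have h1 : e * w = ((e * w) ^ 2)⁻¹ := by
        apply eq_inv_of_mul_eq_one_left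
        rw [← pow_succ', h3]
      rw [h1]
      exact N.inv_mem hsq
    obtain ⟨k, hk⟩ := hN2 ⟨e * w, hmem⟩
    have hk' : (e * w) ^ (2 ^ k) = 1 := by
      have := congrArg Subtype.val hk
      simpa using this
    have h1 := eq_one_of_pow_two_pow_of_pow_three hk' h3
    have : w = e := by
      have : w = e⁻¹ := eq_inv_of_mul_eq_one_right h1
      rw [this, inv_eq_of_mul_eq_one_left hee]
    rw [this]

end Cfsg.Agent.Helper89
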