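import Mathlib
import Cfsg.Prelude.Def_FischerSpaces
import Cfsg.Agent.Helper89.TranspHallTri
import Cfsg.Agent.Helper22.Radical

/-!
# Members of a class of 3-transpositions with the same commuting partners

For `x ∈ D` let `D_x` be the set of members of `D` other than `x` commuting with `x`.  Two members
`a`, `a'` of `D` with `D_a = D_{a'}` have `a a' ∈ O_3(G)` (by Hall's theorem), and conversely
`D ∩ a O_3(G)` consists of such members.
-/

set_option autoImplicit false

namespace Cfsg.Agent.Helper89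

open Cfsg
open Cfsg.Agent.S5353 (class_conj class_trans notMem_center)

universe u

section

variable {G : Type u} [Group G] {D : Set G}

/-- The commuting partners of `x` in `D` other than `x`. -/
def Dnb (D : Set G) (x : G) : Set G := {y | y ∈ D ∧ y ≠ x ∧ Commute x y}

theorem mem_dnb_conj_iff (hconj : ∀ g : G, ∀ d ∈ D, g * d * g⁻¹ ∈ D) (g x y : G) :
    y ∈ Dnb D (g * x * g⁻¹) ↔ g⁻¹ * y * g ∈ Dnb D x := by
  unfold Dnb
  simp only [Set.mem_setOf_eq]
  constructor
  · rintro ⟨h1, h2, h3⟩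
    refine ⟨?_, ?_, ?_⟩
    · have := hconj g⁻¹ y h1
      rwa [inv_inv] at this
    · intro h
      apply h2
      rw [← h]; group
    · have e : g * x * g⁻¹ = g * x * g⁻¹ := rfl
      have hy : y = g * (g⁻¹ * y * g) * g⁻¹ := by group
      rw [hy, Commute.conj_iff] at h3
      exact h3
  · rintro ⟨h1, h2, h3⟩
    refine ⟨?_, ?_, ?_⟩
    · have := hconj g _ h1
      have e : g * (g⁻¹ * y * g) * g⁻¹ = y := by group
      rwa [e] at this
    · intro h
      apply h2
      rw [h]; group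
    · have hy : y = g * (g⁻¹ * y * g) * g⁻¹ := by group
      rw [hy, Commute.conj_iff]
      exact h3

theorem dnb_conj_eq (hconj : ∀ g : G, ∀ d ∈ D, g * d * g⁻¹ ∈ D) {a a' : G}
    (h : Dnb D a = Dnb D a') (g : G) : Dnb D (g * a * g⁻¹) = Dnb D (g * a' * g⁻¹) := by
  ext y
  rw [mem_dnb_conj_iff hconj, mem_dnb_conj_iff hconj, h]

theorem not_commute_of_dnb_eq {a a' : G} (ha' : a' ∈ D) (h : Dnb D a = Dnb D a')
    (hne : a ≠ a') : ¬ Commute a a' := by
  intro hc
  have h1 : a' ∈ Dnb D a := ⟨ha', fun h => hne h.symm, hc⟩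
  rw [h] at h1
  exact h1.2.1 rfl

theorem commute_of_dnb_eq {a a' x : G} (h : Dnb D a = Dnb D a') (hx : x ∈ D) (hxa : x ≠ a)
    (hc : Commute a x) : Commute a' x := by
  have h1 : x ∈ Dnb D a := ⟨hx, hxa, hc⟩
  rw [h] at h1
  exact h1.2.2

/-- **Parallel lemma.** If `D_a = D_{a'}` then `D_b ⊆ D_{b^g}` for `g = a a'` and every `b ∈ D`. -/
theorem dnb_subset_conj (hT : IsThreeTranspositionSet D)
    (hconj : ∀ g : G, ∀ d ∈ D, g * d * g⁻¹ ∈ D) {a a' b : G} (ha : a ∈ D) (ha' : a' ∈ D)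
    (hb : b ∈ D) (h : Dnb D a = Dnb D a') :
    Dnb D b ⊆ Dnb D ((a * a') * b * (a * a')⁻¹) := by
  have haa := sq_of_mem hT ha
  have haa' := sq_of_mem hT ha'
  have hainv : a⁻¹ = a := inv_eq_of_mul_eq_one_left haa
  have hainv' : a'⁻¹ = a' := inv_eq_of_mul_eq_one_left haa'
  by_cases hne : a = a'
  · rw [← hne, haa]; simp
  have hnc := not_commute_of_dnb_eq ha' h hne
  intro y hy
  obtain ⟨hyD, hyb, hby⟩ := hy
  -- if `y` commutes with `a` and `a'` the claim is clear
  have hcaseA : Commute a y → Commute a' y → y ∈ Dnb D ((a * a') * b * (a * a')⁻¹) := by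
    intro h1 h2
    rw [mem_dnb_conj_iff hconj]
    have hg : Commute (a * a') y := h1.mul_left h2
    have e : (a * a')⁻¹ * y * (a * a') = y := by
      rw [mul_assoc, ← hg.eq, ← mul_assoc, inv_mul_cancel, one_mul]
    rw [e]
    exact ⟨hyD, hyb, hby⟩
  -- if `b` commutes with `a` and `a'` the claim is clear
  have hcaseB : Commute a b → Commute a' b → y ∈ Dnb D ((a * a') * b * (a * a')⁻¹) := by
    intro h1 h2
    have hg : Commute (a * a') b := h1.mul_left h2
    have e : (a * a') * b * (a * a')⁻¹ = b := by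
      rw [hg.eq, mul_inv_cancel_right]
    rw [e]
    exact ⟨hyD, hyb, hby⟩
  by_cases h1 : Commute a b
  · by_cases hba : b = a
    · have hay : Commute a y := by rw [← hba]; exact hby
      have hya : y ≠ a := by rw [← hba]; exact hyb
      exact hcaseA hay (commute_of_dnb_eq h hyD hya hay)
    · exact hcaseB h1 (commute_of_dnb_eq h hb hba h1)
  by_cases h2 : Commute a' b
  · by_cases hba' : b = a'
    · have hay : Commute a' y := by rw [← hba']; exact hby
      have hya : y ≠ a' := by rw [← hba']; exact hyb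
      exact hcaseA (commute_of_dnb_eq h.symm hyD hya hay) hay
    · exact absurd (commute_of_dnb_eq h.symm hb hba' h2) h1
  -- main case: `b` commutes with neither `a` nor `a'`
  have hbb := sq_of_mem hT hb
  have hbinv : b⁻¹ = b := inv_eq_of_mul_eq_one_left hbb
  have hff' : Dnb D (b * a * b⁻¹) = Dnb D (b * a' * b⁻¹) := dnb_conj_eq hconj h b
  have hf : b * a * b⁻¹ = a * b * a⁻¹ :=
    cj_comm_of_not_commute hT hb ha (fun c => h1 c.symm)
  have hf' : b * a' * b⁻¹ = a' * b * a'⁻¹ :=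
    cj_comm_of_not_commute hT hb ha' (fun c => h2 c.symm)
  have he : a * y * a⁻¹ ∈ Dnb D (b * a * b⁻¹) := by
    refine ⟨hconj a y hyD, ?_, ?_⟩
    · rw [hf]
      intro heq
      apply hyb
      exact mul_left_cancel (mul_right_cancel heq)
    · rw [hf, Commute.conj_iff]
      exact hby
  rw [hff', hf'] at he
  obtain ⟨-, he2, he3⟩ := he
  have hy' : y = a * (a * y * a⁻¹) * a⁻¹ := by
    rw [hainv]
    calc y = (a * a) * y * (a * a) := by rw [haa, one_mul, mul_one]
      _ = a * (a * y * a) * a := by simp only [mul_assoc]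
  have hg : (a * a') * b * (a * a')⁻¹ = a * (a' * b * a'⁻¹) * a⁻¹ := by group
  refine ⟨hyD, ?_, ?_⟩
  · rw [hg]
    intro heq
    apply he2
    rw [hy'] at heq
    exact mul_left_cancel (mul_right_cancel heq)
  · rw [hg, hy', Commute.conj_iff]
    exact he3

/-- If `D_a = D_{a'}` then `D_b = D_{b^g}` for `g = a a'` and every `b ∈ D`. -/
theorem dnb_conj_mul_eq (hT : IsThreeTranspositionSet D)
    (hconj : ∀ g : G, ∀ d ∈ D, g * d * g⁻¹ ∈ D) {a a' b : G} (ha : a ∈ D) (ha' : a' ∈ D)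
    (hb : b ∈ D) (h : Dnb D a = Dnb D a') :
    Dnb D b = Dnb D ((a * a') * b * (a * a')⁻¹) := by
  apply Set.Subset.antisymm (dnb_subset_conj hT hconj ha ha' hb h)
  have h1 := dnb_subset_conj hT hconj ha' ha (hconj (a * a') b hb) h.symm
  have haa := sq_of_mem hT ha
  have haa' := sq_of_mem hT ha'
  have e : (a' * a) * ((a * a') * b * (a * a')⁻¹) * (a' * a)⁻¹ = b := by
    have e1 : a' * a = (a * a')⁻¹ := by
      rw [mul_inv_rev, inv_eq_of_mul_eq_one_left haa, inv_eq_of_mul_eq_one_left haa']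
    rw [e1]; group
  rwa [e] at h1

/-- The closure of a conjugation-invariant set is a normal subgroup. -/
theorem closure_normal_of_conj_invariant {S : Set G} (h : ∀ g : G, ∀ s ∈ S, g * s * g⁻¹ ∈ S) :
    (Subgroup.closure S).Normal := by
  constructor
  intro n hn g
  induction hn using Subgroup.closure_induction with
  | mem x hx => exact Subgroup.subset_closure (h g x hx)
  | one => simp
  | mul x y _ _ ihx ihy =>
    have : g * (x * y) * g⁻¹ = (g * x * g⁻¹) * (g * y * g⁻¹) := by group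
    rw [this]
    exact Subgroup.mul_mem _ ihx ihy
  | inv x _ ih =>
    have : g * x⁻¹ * g⁻¹ = (g * x * g⁻¹)⁻¹ := by group
    rw [this]
    exact Subgroup.inv_mem _ ih

/-- The subgroup generated by the products `a a'` with `D_a = D_{a'}`. -/
def eqvSubgroup (D : Set G) : Subgroup G :=
  Subgroup.closure {z | ∃ a ∈ D, ∃ a' ∈ D, Dnb D a = Dnb D a' ∧ z = a * a'}

theorem eqvSubgroup_normal (hconj : ∀ g : G, ∀ d ∈ D, g * d * g⁻¹ ∈ D) :
    (eqvSubgroup D).Normal := by
  apply closure_normal_of_conj_invariant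
  rintro g _ ⟨a, ha, a', ha', h, rfl⟩
  refine ⟨g * a * g⁻¹, hconj g a ha, g * a' * g⁻¹, hconj g a' ha', dnb_conj_eq hconj h g, ?_⟩
  group

/-- Members of `eqvSubgroup D` fix every class of the relation `D_a = D_b`. -/
theorem dnb_conj_eq_of_mem_eqvSubgroup (hT : IsThreeTranspositionSet D)
    (hconj : ∀ g : G, ∀ d ∈ D, g * d * g⁻¹ ∈ D) {m : G} (hm : m ∈ eqvSubgroup D) :
    ∀ b ∈ D, Dnb D b = Dnb D (m * b * m⁻¹) := by
  unfold eqvSubgroup at hm
  induction hm using Subgroup.closure_induction with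
  | mem x hx =>
    obtain ⟨a, ha, a', ha', h, rfl⟩ := hx
    intro b hb
    exact dnb_conj_mul_eq hT hconj ha ha' hb h
  | one => intro b _; simp
  | mul x y _ _ ihx ihy =>
    intro b hb
    have e : (x * y) * b * (x * y)⁻¹ = x * (y * b * y⁻¹) * x⁻¹ := by group
    rw [e, ihy b hb]
    exact ihx _ (hconj y b hb)
  | inv x _ ih =>
    intro b hb
    have h1 := ih _ (hconj x⁻¹ b hb)
    have e : x * (x⁻¹ * b * x⁻¹⁻¹) * x⁻¹ = b := by group
    rw [e] at h1
    exact h1.symm

end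

section Fin

variable {G : Type u} [Group G] [Finite G] {D : Set G}

/-- (Hall) If `D_a = D_{a'}` then `a a' ∈ O_3(G)`. -/
theorem mul_mem_pCore_of_dnb_eq (hall : HallHyp.{u}) (hT : IsThreeTranspositionSet D)
    (hconj : ∀ g : G, ∀ d ∈ D, g * d * g⁻¹ ∈ D) {a a' : G} (ha : a ∈ D) (ha' : a' ∈ D)
    (h : Dnb D a = Dnb D a') : a * a' ∈ pCore 3 G := by
  have haa := sq_of_mem hT ha
  have hainv : a⁻¹ = a := inv_eq_of_mul_eq_one_left haa
  have hMn : (eqvSubgroup D).Normal := eqvSubgroup_normal hconj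
  obtain ⟨H, hH⟩ : ∃ H : Subgroup G, H = eqvSubgroup D ⊔ Subgroup.zpowers a := ⟨_, rfl⟩
  have hMH : eqvSubgroup D ≤ H := by rw [hH]; exact le_sup_left
  have haH : a ∈ H := by rw [hH]; exact Subgroup.mem_sup_right (Subgroup.mem_zpowers a)
  have hgen : a * a' ∈ eqvSubgroup D :=
    Subgroup.subset_closure ⟨a, ha, a', ha', h, rfl⟩
  -- conjugates of `a` in `H` are equivalent to `a`
  have hconjH : ∀ x ∈ conjugatesOf (⟨a, haH⟩ : H), (x : G) ∈ D ∧ Dnb D a = Dnb D (x : G) := by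
    intro x hx
    have hx' : IsConj (⟨a, haH⟩ : H) x := hx
    rw [isConj_iff] at hx'
    obtain ⟨⟨c, hc⟩, rfl⟩ := hx'
    have hc' : c ∈ ((eqvSubgroup D ⊔ Subgroup.zpowers a : Subgroup G) : Set G) := by
      rw [← hH]; exact hc
    rw [Subgroup.normal_mul, Set.mem_mul] at hc'
    obtain ⟨m, hm, y, hy, rfl⟩ := hc'
    have e : (m * y) * a * (m * y)⁻¹ = m * a * m⁻¹ := by
      rcases eq_one_or_eq_of_mem_zpowers haa hy with h | h
      · rw [h]; simp
      · rw [h, mul_inv_rev, hainv]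
        calc m * a * a * (a * m⁻¹) = m * (a * a) * a * m⁻¹ := by simp only [mul_assoc]
          _ = m * a * m⁻¹ := by rw [haa, mul_one]
    show (m * y) * a * (m * y)⁻¹ ∈ D ∧ Dnb D a = Dnb D ((m * y) * a * (m * y)⁻¹)
    rw [e]
    exact ⟨hconj m a ha, dnb_conj_eq_of_mem_eqvSubgroup hT hconj hm a ha⟩
  have hprod : ∀ x ∈ conjugatesOf (⟨a, haH⟩ : H), ∀ x' ∈ conjugatesOf (⟨a, haH⟩ : H),
      ∃ k : ℕ, orderOf (x * x') = 3 ^ k := by
    intro x hx x' hx'
    obtain ⟨hxD, hxe⟩ := hconjH x hx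
    obtain ⟨hxD', hxe'⟩ := hconjH x' hx'
    have h1 : (x * x') ^ 3 = 1 := by
      apply Subtype.ext
      rw [Subgroup.coe_pow, Subgroup.coe_mul, Subgroup.coe_one]
      by_cases hne : (x : G) = (x' : G)
      · rw [← hne, sq_of_mem hT hxD, one_pow]
      · exact cube_of_not_commute hT hxD hxD'
          (not_commute_of_dnb_eq hxD' (hxe.symm.trans hxe') hne)
    have hdvd : orderOf (x * x') ∣ 3 ^ 1 := by
      rw [pow_one]; exact orderOf_dvd_of_pow_eq_one h1
    obtain ⟨k, -, hk⟩ := (Nat.dvd_prime_pow Nat.prime_three).mp hdvd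
    exact ⟨k, hk⟩
  have hord : orderOf (⟨a, haH⟩ : H) = 2 := by
    rw [← hT.1 a ha]; exact Subgroup.orderOf_mk a haH
  have hHall := hall H ⟨a, haH⟩ hord hprod
  -- `a'` is an `H`-conjugate of `a`
  have ha'H : a' ∈ H := by
    have : a' = a * (a * a') := by rw [← mul_assoc, haa, one_mul]
    rw [this]
    exact H.mul_mem haH (hMH hgen)
  have ha'conj : (⟨a', ha'H⟩ : H) ∈ conjugatesOf (⟨a, haH⟩ : H) := by
    show IsConj _ _
    rw [isConj_iff]
    by_cases hne : a = a'
    · exact ⟨1, by simp [hne]⟩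
    · refine ⟨⟨a * a', hMH hgen⟩, ?_⟩
      apply Subtype.ext
      exact conj_mul_eq_of_not_commute hT ha ha' (not_commute_of_dnb_eq ha' h hne)
  have hmem := hHall _ mem_conjugatesOf_self _ ha'conj
  -- the subnormal 3-subgroup `K = O_3(H) ∩ M`
  haveI hRn : (pCore 3 H).Normal := pCore_normal' 3
  have hR3 : IsPGroup 3 (pCore 3 H) := Cfsg.Agent.Lib.isPGroup_pCore 3
  obtain ⟨K, hK⟩ : ∃ K : Subgroup G, K = (pCore 3 H).map H.subtype ⊓ eqvSubgroup D := ⟨_, rfl⟩
  have hK3 : IsPGroup 3 K := by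
    rw [hK]
    exact (hR3.map H.subtype).to_le inf_le_left
  have hKM : K ≤ eqvSubgroup D := by rw [hK]; exact inf_le_right
  have hnorm : eqvSubgroup D ≤ Subgroup.normalizer (K : Set G) := by
    intro m hm
    have h1 := le_normalizer_map_subtype H (pCore 3 H) (hMH hm)
    rw [Subgroup.mem_normalizer_iff] at h1 ⊢
    intro x
    rw [hK, Subgroup.mem_inf, Subgroup.mem_inf, ← h1 x]
    constructor
    · rintro ⟨hx1, hx2⟩
      exact ⟨hx1, hMn.conj_mem x hx2 m⟩
    · rintro ⟨hx1, hx2⟩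
      refine ⟨hx1, ?_⟩
      have := hMn.conj_mem _ hx2 m⁻¹
      have e : m⁻¹ * (m * x * m⁻¹) * m⁻¹⁻¹ = x := by group
      rwa [e] at this
  have hKsub : K.IsSubnormal :=
    Subgroup.IsSubnormal.step K (eqvSubgroup D) hKM hMn.isSubnormal
      ((Subgroup.normal_subgroupOf_iff_le_normalizer hKM).mpr hnorm)
  have hKle := Cfsg.Agent.Helper22.le_pCore_of_isSubnormal hKsub hK3
  apply hKle
  rw [hK]
  exact ⟨⟨_, hmem, rfl⟩, hgen⟩

/-- If `d w` lies in a normal 3-subgroup then `D_d ⊆ D_w`. -/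
theorem dnb_subset_of_mul_mem (hT : IsThreeTranspositionSet D) {R : Subgroup G} (hRn : R.Normal)
    (hR3 : IsPGroup 3 R) {d w : G} (hd : d ∈ D) (hw : w ∈ D) (hdw : d * w ∈ R) :
    Dnb D d ⊆ Dnb D w := by
  have hdd := sq_of_mem hT hd
  have hww := sq_of_mem hT hw
  have hdinv : d⁻¹ = d := inv_eq_of_mul_eq_one_left hdd
  have hwinv : w⁻¹ = w := inv_eq_of_mul_eq_one_left hww
  have h3 : ∀ x ∈ R, x ^ 2 = 1 → x = 1 := by
    intro x hx h2
    obtain ⟨k, hk⟩ := hR3 ⟨x, hx⟩
    have hk' : x ^ (3 ^ k) = 1 := by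
      have := congrArg Subtype.val hk
      simpa using this
    exact eq_one_of_pow_three_pow_of_sq hk' h2
  rintro y ⟨hyD, hyd, hdy⟩
  have hyy := sq_of_mem hT hyD
  have hyinv : y⁻¹ = y := inv_eq_of_mul_eq_one_left hyy
  have hwy : Commute w y := by
    by_contra hnc
    apply hyd
    have hcube := cube_of_not_commute hT hw hyD hnc
    -- `(w y)^2 = (d w)⁻¹ * y (d w) y⁻¹ ∈ R`
    have h1 : (w * y) * (w * y) ∈ R := by
      have h2 := R.mul_mem (R.inv_mem hdw) (hRn.conj_mem _ hdw y)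
      have e : (d * w)⁻¹ * (y * (d * w) * y⁻¹) = (w * y) * (w * y) := by
        rw [mul_inv_rev, hdinv, hwinv, hyinv]
        calc w * d * (y * (d * w) * y) = w * d * ((y * d) * w * y) := by simp only [mul_assoc]
          _ = w * d * ((d * y) * w * y) := by rw [hdy.eq]
          _ = w * (d * d) * y * w * y := by simp only [mul_assoc]
          _ = (w * y) * (w * y) := by rw [hdd, mul_one]; simp only [mul_assoc]
      rwa [e] at h2
    have h2 : w * y ∈ R := by
      have e4 : (w * y) * (w * y) = (w * y)⁻¹ := by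
        apply eq_inv_of_mul_eq_one_left
        rw [← pow_two, ← pow_succ]
        exact hcube
      rw [e4] at h1
      have := R.inv_mem h1
      rwa [inv_inv] at this
    have h4 : d * y ∈ R := by
      have := R.mul_mem hdw h2
      have e : d * w * (w * y) = d * y := by
        calc d * w * (w * y) = d * (w * w) * y := by simp only [mul_assoc]
          _ = d * y := by rw [hww, mul_one]
      rwa [e] at this
    have h5 := h3 _ h4 (mul_sq_eq_one_of_commute hdd hyy hdy)
    have : y = d⁻¹ := (eq_inv_of_mul_eq_one_right h5)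
    rw [this, hdinv]
  refine ⟨hyD, ?_, hwy⟩
  intro hyw
  apply hyd
  rw [hyw] at hdy ⊢
  have h5 := h3 _ hdw (mul_sq_eq_one_of_commute hdd hww hdy)
  have : w = d⁻¹ := (eq_inv_of_mul_eq_one_right h5)
  rw [this, hdinv]

/-- **The classes of the relation `D_a = D_b`** (Hall): for `d ∈ D`, the class of `d` is
`D ∩ d O_3(G)`, and it is the orbit of `d` under `O_3(G)`. -/
theorem eqv_class_of_hall (hall : HallHyp.{u}) (hD : IsThreeTranspositionClass D) {d : G}
    (hd : d ∈ D) :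
    {w : G | w ∈ D ∧ {y : G | y ∈ D ∧ y ≠ d ∧ Commute d y} =
        {y : G | y ∈ D ∧ y ≠ w ∧ Commute w y}} = {w : G | w ∈ D ∧ d⁻¹ * w ∈ pCore 3 G} ∧
    {w : G | w ∈ D ∧ {y : G | y ∈ D ∧ y ≠ d ∧ Commute d y} =
        {y : G | y ∈ D ∧ y ≠ w ∧ Commute w y}} = {w : G | ∃ g ∈ pCore 3 G, w = g * d * g⁻¹} := by
  have hT := hD.1
  have hconj := class_conj hD
  have hRn : (pCore 3 G).Normal := pCore_normal' 3
  have hR3 : IsPGroup 3 (pCore 3 G) := Cfsg.Agent.Lib.isPGroup_pCore 3
  have hdd := sq_of_mem hT hd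
  have hdinv : d⁻¹ = d := inv_eq_of_mul_eq_one_left hdd
  have hVA : ∀ w : G, (w ∈ D ∧ Dnb D d = Dnb D w) ↔ (w ∈ D ∧ d⁻¹ * w ∈ pCore 3 G) := by
    intro w
    constructor
    · rintro ⟨hw, h⟩
      refine ⟨hw, ?_⟩
      rw [hdinv]
      exact mul_mem_pCore_of_dnb_eq hall hT hconj hd hw h
    · rintro ⟨hw, h⟩
      refine ⟨hw, ?_⟩
      rw [hdinv] at h
      apply Set.Subset.antisymm (dnb_subset_of_mul_mem hT hRn hR3 hd hw h)
      apply dnb_subset_of_mul_mem hT hRn hR3 hw hd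
      have := (pCore 3 G).inv_mem h
      rwa [mul_inv_rev, hdinv, inv_eq_of_mul_eq_one_left (sq_of_mem hT hw)] at this
  constructor
  · ext w
    exact hVA w
  · ext w
    show (w ∈ D ∧ Dnb D d = Dnb D w) ↔ _
    constructor
    · intro hw
      have h1 := (hVA w).mp hw
      rw [hdinv] at h1
      refine ⟨d * w, h1.2, ?_⟩
      by_cases hne : d = w
      · rw [← hne, hdd]; simp
      · exact (conj_mul_eq_of_not_commute hT hd hw.1
          (not_commute_of_dnb_eq hw.1 hw.2 hne)).symm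
    · rintro ⟨g, hg, rfl⟩
      apply (hVA _).mpr
      refine ⟨hconj g d hd, ?_⟩
      have e : d⁻¹ * (g * d * g⁻¹) = (d⁻¹ * g * d⁻¹⁻¹) * g⁻¹ := by group
      rw [e]
      exact (pCore 3 G).mul_mem (hRn.conj_mem g hg d⁻¹) ((pCore 3 G).inv_mem hg)

end Fin

end Cfsg.Agent.Helper89
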