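import Mathlib
import Cfsg.Prelude.Def_FischerSpaces
import Cfsg.Agent.Helper89.TranspHallEqv
import Cfsg.Agent.Helper17.MaxInter
import Cfsg.Agent.S5349

/-!
# A Sylow 3-subgroup normalized by a 3-transposition

Let `D` be a class of 3-transpositions generating the finite group `G` such that every member of
`D` commuting with `d` lies in `d O_2(G)`.  Then `G / O_2(G)` has width one, so it is
`⟨d⟩ O_3(G / O_2(G))` by Hall's theorem, and `d` normalizes a Sylow 3-subgroup `P` of `G`;
moreover `G = ⟨d⟩ P O_2(G)`.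

The Sylow subgroup is found as a maximal 3-subgroup `X` normalized by `d` whose image contains
`C_R(d)`, `R = O_3(G / O_2(G))` (a Sylow 3-subgroup of `C_G(d)` is such a subgroup): if `X` is not
Sylow, take `y ∈ N_P(X) \ X` for a Sylow 3-subgroup `P ≥ X`; the element `k = d · y d y⁻¹` either
extends `X` or gives an element of `P \ X` commuting with `d` modulo `O_2(G)`.
-/

set_option autoImplicit false

namespace Cfsg.Agent.Helper89

open Cfsg
open Cfsg.Agent.S5353 (class_conj class_trans notMem_center)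

universe u

section

variable {G : Type u} [Group G] [Finite G] {D : Set G}

/-- The image of a conjugation-invariant generating set of 3-transpositions under a surjective
homomorphism whose kernel avoids `D`. -/
theorem image_isThreeTranspositionGroup {Gb : Type u} [Group Gb] (π : G →* Gb)
    (hsurj : Function.Surjective π) (hT : IsThreeTranspositionSet D)
    (hconj : ∀ g : G, ∀ d ∈ D, g * d * g⁻¹ ∈ D) (hgen : Subgroup.closure D = ⊤)
    (hnot : ∀ a ∈ D, π a ≠ 1) : IsThreeTranspositionGroup (π '' D) := by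
  refine ⟨⟨?_, ?_⟩, ?_, ?_⟩
  · rintro _ ⟨a, ha, rfl⟩
    haveI : Fact (Nat.Prime 2) := ⟨Nat.prime_two⟩
    apply orderOf_eq_prime
    · rw [← map_pow, pow_two, sq_of_mem hT ha, map_one]
    · exact hnot a ha
  · rintro _ ⟨a, ha, rfl⟩ _ ⟨b, hb, rfl⟩
    rcases hT.2 a ha b hb with h | h
    · left; rw [← map_mul, ← map_pow, h, map_one]
    · right; rw [← map_mul, ← map_pow, h, map_one]
  · intro g'
    obtain ⟨g, rfl⟩ := hsurj g'
    rintro _ ⟨a, ha, rfl⟩
    exact ⟨g * a * g⁻¹, hconj g a ha, by simp⟩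
  · rw [← MonoidHom.map_closure, hgen, Subgroup.map_top_of_surjective π hsurj]

/-- **Main construction.** -/
theorem exists_sylow_normalized_of_hall (hall : HallHyp.{u}) {Gb : Type u} [Group Gb]
    (π : G →* Gb) (hsurj : Function.Surjective π) {Q : Subgroup G}
    (hker : ∀ x, π x = 1 ↔ x ∈ Q) (hQ2 : IsPGroup 2 Q) (hT : IsThreeTranspositionSet D)
    (hconj : ∀ g : G, ∀ d ∈ D, g * d * g⁻¹ ∈ D) (hgen : Subgroup.closure D = ⊤) {d : G}
    (hd : d ∈ D) (hnot : ∀ a ∈ D, a ∉ Q)
    (h1 : ∀ a ∈ D, ∀ b ∈ D, Commute a b → a⁻¹ * b ∈ Q)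
    (h2 : ∀ g : G, d⁻¹ * (g * d * g⁻¹) ∈ Q → ∃ q ∈ Q, q⁻¹ * g ∈ Subgroup.centralizer {d}) :
    ∃ P : Sylow 3 G, d ∈ Subgroup.normalizer ((P : Subgroup G) : Set G) ∧
      Subgroup.zpowers d ⊔ (P : Subgroup G) ⊔ Q = ⊤ := by
  haveI : Finite Gb := Finite.of_surjective π hsurj
  haveI : Fact (Nat.Prime 2) := ⟨Nat.prime_two⟩
  haveI : Fact (Nat.Prime 3) := ⟨Nat.prime_three⟩
  have hdd := sq_of_mem hT hd
  have hdinv : d⁻¹ = d := inv_eq_of_mul_eq_one_left hdd
  have hπeq : ∀ x y, π x = π y ↔ x⁻¹ * y ∈ Q := by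
    intro x y
    rw [← hker, map_mul, map_inv, inv_mul_eq_one]
  have hnot' : ∀ a ∈ D, π a ≠ 1 := fun a ha h => hnot a ha ((hker a).mp h)
  -- the quotient is a 3-transposition group of width one
  have hDb := image_isThreeTranspositionGroup π hsurj hT hconj hgen hnot'
  have hdb : π d ∈ π '' D := ⟨d, hd, rfl⟩
  have hwidth : ∀ a ∈ π '' D, ∀ b ∈ π '' D, Commute a b → a = b := by
    rintro _ ⟨a, ha, rfl⟩ _ ⟨b, hb, rfl⟩ hc
    rw [hπeq]
    by_cases hab : Commute a b
    · exact h1 a ha b hb hab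
    · have haa := sq_of_mem hT ha
      have hbb := sq_of_mem hT hb
      have hainv : a⁻¹ = a := inv_eq_of_mul_eq_one_left haa
      have hbinv : b⁻¹ = b := inv_eq_of_mul_eq_one_left hbb
      have hcube := cube_of_not_commute hT hb ha (fun c => hab c.symm)
      have h3 : (a * b)⁻¹ * (b * a) ∈ Q := by
        rw [← hπeq, map_mul, map_mul]; exact hc.eq
      have e1 : (a * b)⁻¹ * (b * a) = (b * a) * (b * a) := by
        rw [mul_inv_rev, hainv, hbinv]
      have e2 : (b * a) * (b * a) = (b * a)⁻¹ := by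
        apply eq_inv_of_mul_eq_one_left
        rw [← pow_two, ← pow_succ]
        exact hcube
      rw [e1, e2, mul_inv_rev, hbinv] at h3
      exact h3
  have hHall : Subgroup.zpowers (π d) ⊔ pCore 3 Gb = ⊤ :=
    (width_one_iff_of_hall hall hDb hdb).mp ((commutingWidth_eq_one_iff hdb).mpr hwidth)
  haveI hRn : (pCore 3 Gb).Normal := pCore_normal' 3
  have hR3 : IsPGroup 3 (pCore 3 Gb) := Cfsg.Agent.Lib.isPGroup_pCore 3
  have hdbdb : π d * π d = 1 := by rw [← map_mul, hdd, map_one]
  -- `π d ∉ R`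
  have hdR : π d ∉ pCore 3 Gb := by
    intro h
    obtain ⟨k, hk⟩ := hR3 ⟨_, h⟩
    have hk' : (π d) ^ (3 ^ k) = 1 := by
      have := congrArg Subtype.val hk
      simpa using this
    have h2' : (π d) ^ 2 = 1 := by rw [pow_two]; exact hdbdb
    exact hnot' d hd (eq_one_of_pow_three_pow_of_sq hk' h2')
  -- 3-elements of the quotient lie in `R`
  have h3elt : ∀ x : Gb, (∃ j : ℕ, x ^ (3 ^ j) = 1) → x ∈ pCore 3 Gb := by
    rintro x ⟨j, hj⟩
    have hx : x ∈ ((Subgroup.zpowers (π d) ⊔ pCore 3 Gb : Subgroup Gb) : Set Gb) := by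
      rw [hHall]; exact Subgroup.mem_top x
    rw [Subgroup.mul_normal, Set.mem_mul] at hx
    obtain ⟨y, hy, r, hr, rfl⟩ := hx
    rcases eq_one_or_eq_of_mem_zpowers hdbdb hy with h | h
    · rw [h, one_mul]; exact hr
    · exfalso
      apply hdR
      rw [h] at hj
      have e1 : ((π d * r : Gb) : Gb ⧸ pCore 3 Gb) = ((π d : Gb) : Gb ⧸ pCore 3 Gb) := by
        rw [QuotientGroup.mk_mul, (QuotientGroup.eq_one_iff r).mpr hr, mul_one]
      have e2 : ((π d : Gb) : Gb ⧸ pCore 3 Gb) ^ (3 ^ j) = 1 := by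
        rw [← e1, ← QuotientGroup.mk_pow, hj, QuotientGroup.mk_one]
      have e3 : ((π d : Gb) : Gb ⧸ pCore 3 Gb) ^ 2 = 1 := by
        rw [← QuotientGroup.mk_pow, pow_two, hdbdb, QuotientGroup.mk_one]
      exact (QuotientGroup.eq_one_iff _).mp (eq_one_of_pow_three_pow_of_sq e2 e3)
  -- `Q` meets every 3-subgroup trivially
  have hQP : ∀ P : Subgroup G, IsPGroup 3 P → ∀ x ∈ P, x ∈ Q → x = 1 := by
    intro P hP x hxP hxQ
    have hdis : Disjoint Q P := IsPGroup.disjoint_of_ne 2 3 (by norm_num) _ _ hQ2 hP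
    exact Subgroup.disjoint_def.mp hdis hxQ hxP
  -- base of the induction: a Sylow 3-subgroup of `C_G(d)`
  obtain ⟨X0, hX03, hX0n, hX0c⟩ : ∃ X : Subgroup G, IsPGroup 3 X ∧
      d ∈ Subgroup.normalizer (X : Set G) ∧
      ∀ r ∈ pCore 3 Gb, Commute (π d) r → r ∈ X.map π := by
    obtain ⟨C, hC⟩ : ∃ C : Subgroup G, C = Subgroup.centralizer {d} := ⟨_, rfl⟩
    obtain ⟨f, hf⟩ : ∃ f : C →* (π.comp C.subtype).range, f = (π.comp C.subtype).rangeRestrict :=
      ⟨_, rfl⟩
    have hfsurj : Function.Surjective f := by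
      rw [hf]; exact MonoidHom.rangeRestrict_surjective _
    obtain ⟨Y⟩ : Nonempty (Sylow 3 C) := inferInstance
    refine ⟨(Y : Subgroup C).map C.subtype, Y.2.map _, ?_, ?_⟩
    · -- `d` centralizes `Y`
      rw [Subgroup.mem_normalizer_iff]
      have hcent : ∀ x ∈ (Y : Subgroup C).map C.subtype, d * x * d⁻¹ = x := by
        rintro _ ⟨⟨c, hc⟩, -, rfl⟩
        rw [hC, Subgroup.mem_centralizer_iff] at hc
        have := hc d (Set.mem_singleton d)
        show d * c * d⁻¹ = c
        rw [this, mul_inv_cancel_right]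
      intro x
      constructor
      · intro hx
        rw [hcent x hx]; exact hx
      · intro hx
        have := hcent _ hx
        have e : x = d⁻¹ * (d * x * d⁻¹) * d := by group
        rw [e, ← this]
        have e2 : d⁻¹ * (d * (d * x * d⁻¹) * d⁻¹) * d = d * x * d⁻¹ := by group
        rw [e2]; exact hx
    · intro r hr hcr
      obtain ⟨g, rfl⟩ := hsurj r
      have hg : d⁻¹ * (g * d * g⁻¹) ∈ Q := by
        rw [← hπeq, map_mul, map_mul, map_inv]
        rw [hcr.eq.symm, mul_inv_cancel_right]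
      obtain ⟨q, hq, hqc⟩ := h2 g hg
      have hπc : π (q⁻¹ * g) = π g := by
        rw [map_mul, map_inv, (hker q).mpr hq, inv_one, one_mul]
      -- the element of the range
      have hmemrange : π g ∈ (π.comp C.subtype).range := by
        refine ⟨⟨q⁻¹ * g, by rw [hC]; exact hqc⟩, ?_⟩
        simp only [MonoidHom.coe_comp, Subgroup.coe_subtype, Function.comp_apply]
        exact hπc
      have hNn : ((pCore 3 Gb).subgroupOf (π.comp C.subtype).range).Normal :=
        Subgroup.normal_subgroupOf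
      have hN3 : IsPGroup 3 ((pCore 3 Gb).subgroupOf (π.comp C.subtype).range) :=
        hR3.comap_subtype
      have hle := Cfsg.Agent.Lib.normal_pGroup_le_sylow hNn hN3 (Y.mapSurjective hfsurj)
      have hmem : (⟨π g, hmemrange⟩ : (π.comp C.subtype).range) ∈
          ((Y.mapSurjective hfsurj : Sylow 3 (π.comp C.subtype).range) :
            Subgroup (π.comp C.subtype).range) := by
        apply hle
        rw [Subgroup.mem_subgroupOf]
        exact hr
      rw [Sylow.coe_mapSurjective] at hmem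
      obtain ⟨c, hcY, hc⟩ := hmem
      refine ⟨(c : G), ⟨c, hcY, rfl⟩, ?_⟩
      have := congrArg Subtype.val hc
      rw [hf] at this
      simpa using this
  -- choose `X` of maximal order
  obtain ⟨S, hS⟩ : ∃ S : Set (Subgroup G), S = {X : Subgroup G | IsPGroup 3 X ∧
      d ∈ Subgroup.normalizer (X : Set G) ∧
      ∀ r ∈ pCore 3 Gb, Commute (π d) r → r ∈ X.map π} := ⟨_, rfl⟩
  haveI : Nonempty S := ⟨⟨X0, by rw [hS]; exact ⟨hX03, hX0n, hX0c⟩⟩⟩
  obtain ⟨⟨X, hXS⟩, hXmax⟩ := Finite.exists_max (fun X : S => Nat.card (X : Subgroup G))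
  have hXS' := hXS
  rw [hS] at hXS'
  obtain ⟨hX3, hXn, hXc⟩ := hXS'
  obtain ⟨P, hXP⟩ := hX3.exists_le_sylow
  -- elements of `P` commuting with `d` modulo `Q` lie in `X`
  have hkey : ∀ c ∈ (P : Subgroup G), Commute (π d) (π c) → c ∈ X := by
    intro c hcP hcc
    have hc3 : π c ∈ pCore 3 Gb := by
      apply h3elt
      obtain ⟨j, hj⟩ := P.2 ⟨c, hcP⟩
      refine ⟨j, ?_⟩
      have := congrArg Subtype.val hj
      rw [← map_pow]
      have h' : c ^ (3 ^ j) = 1 := by simpa using this
      rw [h', map_one]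
    obtain ⟨x, hx, hxc⟩ := hXc _ hc3 hcc
    have h4 : x⁻¹ * c ∈ Q := (hπeq x c).mp hxc
    have h5 := hQP P P.2 _ ((P : Subgroup G).mul_mem ((P : Subgroup G).inv_mem (hXP hx)) hcP) h4
    have : c = x := by
      have := eq_inv_of_mul_eq_one_right h5
      rwa [inv_inv] at this
    rw [this]; exact hx
  by_cases hXeq : X = (P : Subgroup G)
  · -- `X` is a Sylow 3-subgroup
    refine ⟨P, by rw [← hXeq]; exact hXn, ?_⟩
    -- generation
    have hPim : pCore 3 Gb ≤ (P : Subgroup G).map π := by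
      have := Cfsg.Agent.Lib.normal_pGroup_le_sylow hRn hR3 (P.mapSurjective hsurj)
      rwa [Sylow.coe_mapSurjective] at this
    have hmap : (Subgroup.zpowers d ⊔ (P : Subgroup G) ⊔ Q).map π = ⊤ := by
      rw [eq_top_iff, ← hHall]
      apply sup_le
      · rw [← MonoidHom.map_zpowers]
        exact Subgroup.map_mono (le_sup_left.trans le_sup_left)
      · exact hPim.trans (Subgroup.map_mono (le_sup_right.trans le_sup_left))
    have hkerle : π.ker ≤ Subgroup.zpowers d ⊔ (P : Subgroup G) ⊔ Q := by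
      intro x hx
      exact Subgroup.mem_sup_right ((hker x).mp (MonoidHom.mem_ker.mp hx))
    rw [← Subgroup.comap_map_eq_self hkerle, hmap, Subgroup.comap_top]
  · exfalso
    have hlt : X < (P : Subgroup G) := lt_of_le_of_ne hXP hXeq
    obtain ⟨y, hyP, hyN, hyX⟩ := Cfsg.Agent.Helper17.exists_mem_normalizer_not_mem P.2 hlt
    have he : y * d * y⁻¹ ∈ D := hconj y d hd
    have hee := sq_of_mem hT he
    obtain ⟨k, hk⟩ : ∃ k, k = d * (y * d * y⁻¹) := ⟨_, rfl⟩
    have hkN : k ∈ Subgroup.normalizer (X : Set G) := by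
      rw [hk]
      have h1' := (Subgroup.normalizer (X : Set G)).mul_mem
        ((Subgroup.normalizer (X : Set G)).mul_mem hyN hXn)
        ((Subgroup.normalizer (X : Set G)).inv_mem hyN)
      exact (Subgroup.normalizer (X : Set G)).mul_mem hXn h1'
    -- `d y d⁻¹ = k y`
    have hdyd : d * y * d⁻¹ = k * y := by
      rw [hk, hdinv]; group
    rcases hT.2 d hd _ he with hk2 | hk3
    · -- `d` commutes with `y d y⁻¹`, so `y` commutes with `d` modulo `Q`
      apply hyX
      apply hkey y hyP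
      have hcomm : Commute d (y * d * y⁻¹) := commute_of_mul_sq_eq_one hdd hee hk2
      have h5 := h1 d hd _ he hcomm
      have h6 : π d = π (y * d * y⁻¹) := (hπeq _ _).mpr h5
      rw [map_mul, map_mul, map_inv] at h6
      show π d * π y = π y * π d
      calc π d * π y = (π y * π d * (π y)⁻¹) * π y := by rw [← h6]
        _ = π y * π d := by group
    · rw [← hk] at hk3
      have hkinv : k * k = k⁻¹ := by
        apply eq_inv_of_mul_eq_one_left
        rw [← pow_two, ← pow_succ]
        exact hk3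
      -- `d k d⁻¹ = k⁻¹`
      have hdk : d * k * d⁻¹ = k⁻¹ := by
        rw [hk, mul_inv_rev, hdinv, inv_eq_of_mul_eq_one_left hee]
        calc d * (d * (y * d * y⁻¹)) * d = (d * d) * (y * d * y⁻¹) * d := by
              simp only [mul_assoc]
          _ = (y * d * y⁻¹) * d := by rw [hdd, one_mul]
      by_cases hkX : k ∈ X
      · -- `c = k⁻¹ y` commutes with `d`
        apply hyX
        have hcP : k⁻¹ * y ∈ (P : Subgroup G) :=
          (P : Subgroup G).mul_mem ((P : Subgroup G).inv_mem (hXP hkX)) hyP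
        have hcd : d * (k⁻¹ * y) * d⁻¹ = k⁻¹ * y := by
          have e : d * (k⁻¹ * y) * d⁻¹ = (d * k * d⁻¹)⁻¹ * (d * y * d⁻¹) := by group
          rw [e, hdk, hdyd, inv_inv, ← mul_assoc, hkinv]
        have hcX := hkey _ hcP (by
          show π d * π (k⁻¹ * y) = π (k⁻¹ * y) * π d
          rw [← map_mul, ← map_mul]
          congr 1
          calc d * (k⁻¹ * y) = (d * (k⁻¹ * y) * d⁻¹) * d := by group
            _ = k⁻¹ * y * d := by rw [hcd])
        have : y = k * (k⁻¹ * y) := by group
        rw [this]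
        exact X.mul_mem hkX hcX
      · -- `X ⊔ ⟨k⟩` is a larger member of `S`
        have hk3grp : IsPGroup 3 (Subgroup.zpowers k) := by
          rintro ⟨g, hg⟩
          obtain ⟨i, rfl⟩ := Subgroup.mem_zpowers_iff.mp hg
          refine ⟨1, ?_⟩
          apply Subtype.ext
          show (k ^ i) ^ (3 ^ 1) = 1
          rw [pow_one, ← zpow_natCast, ← zpow_mul, mul_comm, zpow_mul, zpow_natCast, hk3,
            one_zpow]
        have hzn : Subgroup.zpowers k ≤ Subgroup.normalizer (X : Set G) := by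
          rw [Subgroup.zpowers_le]; exact hkN
        have hX'3 : IsPGroup 3 (Subgroup.zpowers k ⊔ X : Subgroup G) :=
          hk3grp.to_sup_of_normal_right' hX3 hzn
        have hX'n : d ∈ Subgroup.normalizer ((Subgroup.zpowers k ⊔ X : Subgroup G) : Set G) := by
          apply Cfsg.Agent.Helper21.mem_normalizer_of_map_conj_eq
          rw [Subgroup.map_sup, MonoidHom.map_zpowers]
          have e1 : (MulAut.conj d).toMonoidHom k = k⁻¹ := by
            simp only [MulEquiv.coe_toMonoidHom, MulAut.conj_apply]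
            exact hdk
          rw [e1, Subgroup.zpowers_inv]
          congr 1
          exact (Subgroup.mem_normalizer_iff_map_conj_eq.mp hXn)
        have hX'c : ∀ r ∈ pCore 3 Gb, Commute (π d) r →
            r ∈ (Subgroup.zpowers k ⊔ X : Subgroup G).map π := fun r hr hcr =>
          Subgroup.map_mono le_sup_right (hXc r hr hcr)
        have hX'S : (Subgroup.zpowers k ⊔ X : Subgroup G) ∈ S := by
          rw [hS]; exact ⟨hX'3, hX'n, hX'c⟩
        have hltX : X < Subgroup.zpowers k ⊔ X := by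
          refine lt_of_le_of_ne le_sup_right ?_
          intro h
          apply hkX
          rw [h]
          exact Subgroup.mem_sup_left (Subgroup.mem_zpowers k)
        have hcard := Cfsg.Agent.Helper17.card_lt_of_lt' hltX
        have := hXmax ⟨_, hX'S⟩
        simp only at this
        omega

end

end Cfsg.Agent.Helper89
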