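import Mathlib
import Cfsg.Prelude.Def_FischerSpaces
import Cfsg.Agent.Helper89.TranspHallSyl
import Cfsg.Agent.Helper89.TranspHallTri
import Cfsg.Agent.Helper89.TranspLocalClass
import Cfsg.Agent.S5353
import Cfsg.Agent.S5561

/-!
# Fischer's hypotheses give a primitive action on the class of 3-transpositions

Let `D` be a class of 3-transpositions generating the finite group `G`, with no nontrivial solvable
normal subgroup and `G'' = G'`.  Then `O_2(G) = O_3(G) = 1`, so `F*(G) = L Z(G)` with `L` the
unique component (a quasisimple normal subgroup).  Modulo `L` different members of `D` never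
commute, so `G / L` is solvable by Hall's theorem; as `G'` is perfect, `G' ≤ L`, all of `D` lies in
one coset of `L` and `|G : L| ≤ 2`.  Hence `G` is primitive on `D` (S5353).
-/

set_option autoImplicit false

namespace Cfsg.Agent.Helper89.FischerPrim

open Cfsg Cfsg.Agent.Helper89
open Cfsg.Agent.S5353 (class_conj class_trans)

universe u

variable {G : Type u} [Group G] [Finite G] {D : Set G}

/-- Hall's theorem, as proved in S5561. -/
theorem hallHyp : HallHyp.{u} :=
  fun H _ _ d hd hprod => Cfsg.Agent.S5561.result d hd hprod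

/-- A group `H = ⟨d⟩ N` with `d` an involution and `N` a solvable normal subgroup is solvable. -/
theorem isSolvable_of_zpowers_sup_eq_top {H : Type u} [Group H] {d : H} (hdd : d * d = 1)
    {N : Subgroup H} [hN : N.Normal] (hNs : Group.IsSolvable N)
    (htop : Subgroup.zpowers d ⊔ N = ⊤) : Group.IsSolvable H := by
  have hcover : ∀ g : H, d * g ∈ N ∨ g ∈ N := by
    intro g
    have hg : g ∈ Subgroup.zpowers d ⊔ N := htop ▸ Subgroup.mem_top g
    rw [Subgroup.mem_sup_of_normal_right] at hg
    obtain ⟨z, hz, n, hn, rfl⟩ := hg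
    rcases eq_one_or_eq_of_mem_zpowers hdd hz with rfl | rfl
    · right; rwa [one_mul]
    · left; rwa [← mul_assoc, hdd, one_mul]
  have hc : commutator H ≤ N := commutator_le_of_cover hcover
  haveI : IsMulCommutative (H ⧸ N) :=
    (Subgroup.Normal.quotient_commutative_iff_commutator_le).mpr hc
  haveI : Group.IsSolvable (H ⧸ N) :=
    Group.isSolvable_of_comm (fun a b => IsMulCommutative.is_comm.comm a b)
  haveI := hNs
  apply Group.isSolvable_of_ker_le_range N.subtype (QuotientGroup.mk' N)
  rw [QuotientGroup.ker_mk', Subgroup.range_subtype]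

/-- A perfect commutator subgroup lies in every term of the derived series. -/
theorem commutator_le_derivedSeries (hperf : ⁅commutator G, commutator G⁆ = commutator G)
    (n : ℕ) : commutator G ≤ derivedSeries G n := by
  induction n with
  | zero => exact le_top
  | succ n ih =>
    rw [derivedSeries_succ, ← hperf]
    exact Subgroup.commutator_mono ih ih

/-- **Primitivity under Fischer's hypotheses.** -/
theorem isPrimitiveUnderConj_of_fischer
    (hsol : ∀ N : Subgroup G, N.Normal → Group.IsSolvable ↥N → N = ⊥)
    (hperf : ⁅commutator G, commutator G⁆ = commutator G)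
    (hD : IsThreeTranspositionClass D) (hD2 : ∃ a ∈ D, ∃ b ∈ D, a ≠ b) :
    IsPrimitiveUnderConj D := by
  haveI : Fact (Nat.Prime 2) := ⟨Nat.prime_two⟩
  haveI : Fact (Nat.Prime 3) := ⟨Nat.prime_three⟩
  have hT := hD.1
  have hconj := class_conj hD
  have hgen := hD.2.2
  have h2 : pCore 2 G ≤ Subgroup.center G := by
    rw [hsol _ (pCore_normal' 2) (isSolvable_pCore 2)]; exact bot_le
  have h3 : pCore 3 G ≤ Subgroup.center G := by
    rw [hsol _ (pCore_normal' 3) (isSolvable_pCore 3)]; exact bot_le
  obtain ⟨L, hLn, hLq, hLc, hF⟩ := exists_quasisimple_fstar_of_hall hallHyp hD hD2 h2 h3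
  haveI := hLn
  have hD2' := hD2
  obtain ⟨d0, hd0, -⟩ := hD2
  have hd0d0 := sq_of_mem hT hd0
  -- the index bound
  have hidx : L.index ≤ 2 := by
    by_cases hex : ∃ a ∈ D, a ∈ L
    · obtain ⟨a, ha, haL⟩ := hex
      have : L = ⊤ := by
        rw [eq_top_iff, ← hgen, Subgroup.closure_le]
        intro d hd
        obtain ⟨g, rfl⟩ := class_trans hD a ha d hd
        exact hLn.conj_mem a haL g
      rw [this, Subgroup.index_top]; omega
    · push Not at hex
      let π : G →* G ⧸ L := QuotientGroup.mk' L
      have hsurj : Function.Surjective π := QuotientGroup.mk'_surjective L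
      have hπ1 : ∀ x, π x = 1 ↔ x ∈ L := fun x => QuotientGroup.eq_one_iff x
      have hnot' : ∀ a ∈ D, π a ≠ 1 := fun a ha h => hex a ha ((hπ1 a).mp h)
      have hDb := image_isThreeTranspositionGroup π hsurj hT hconj hgen hnot'
      have hdb : π d0 ∈ π '' D := ⟨d0, hd0, rfl⟩
      have hwidth : ∀ a ∈ π '' D, ∀ b ∈ π '' D, Commute a b → a = b := by
        rintro _ ⟨a, ha, rfl⟩ _ ⟨b, hb, rfl⟩ hc
        have h1 : a * b * a⁻¹ * b⁻¹ ∈ L := by
          rw [← hπ1]
          simp only [map_mul, map_inv]
          rw [hc.eq, mul_inv_cancel_right, mul_inv_cancel]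
        have h2 := inv_mul_mem_of_commutator_mem hD hLc ha hb h1
        rw [← hπ1, map_mul, map_inv, inv_mul_eq_one] at h2
        exact h2
      have hw1 : commutingWidth (π '' D) = 1 := (commutingWidth_eq_one_iff hdb).mpr hwidth
      have htop := (width_one_iff_of_hall hallHyp hDb hdb).mp hw1
      have hdbdb : π d0 * π d0 = 1 := by rw [← map_mul, hd0d0, map_one]
      haveI := pCore_normal' (G := G ⧸ L) 3
      have hGbs : Group.IsSolvable (G ⧸ L) :=
        isSolvable_of_zpowers_sup_eq_top hdbdb (isSolvable_pCore 3) htop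
      obtain ⟨n, hn⟩ := (Group.isSolvable_def (G ⧸ L)).mp hGbs
      have hder : derivedSeries G n ≤ L := by
        have h1 : (derivedSeries G n).map π = ⊥ := by
          rw [map_derivedSeries_eq hsurj, hn]
        intro x hx
        rw [← hπ1]
        have : π x ∈ (derivedSeries G n).map π := Subgroup.mem_map_of_mem π hx
        rw [h1, Subgroup.mem_bot] at this
        exact this
      have hcL : commutator G ≤ L := (commutator_le_derivedSeries hperf n).trans hder
      have hall' : ∀ a ∈ D, ∀ b ∈ D, a⁻¹ * b ∈ L := by
        intro a ha b hb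
        apply inv_mul_mem_of_commutator_mem hD hLc ha hb
        apply hcL
        rw [commutator_def]
        exact Subgroup.commutator_mem_commutator (Subgroup.mem_top a) (Subgroup.mem_top b)
      exact index_le_two_of_cover hd0d0 (cover_of_forall_inv_mul_mem hD hall' hd0)
  exact (Cfsg.Agent.S5353.result hD hD2' h2 h3 L hLq hF).1 hidx

end Cfsg.Agent.Helper89.FischerPrim
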