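import Mathlib
import Cfsg.Prelude.Def_FischerSpaces
import Cfsg.Agent.Helper89.ThreeTransp
import Cfsg.Agent.Helper89.TranspFischerPrim

/-!
# Maximum commuting sets of 3-transpositions

Let `D` be a conjugation-invariant set of 3-transpositions of the finite group `G` and `E ⊆ D` a
set of pairwise commuting members of maximum size.  Then `E = D ∩ P` for a Sylow 2-subgroup `P`,
so `P ≤ N_G(E)`.  Two such sets containing a common subset `S` are conjugate under `C_G(S)`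
(Sylow's theorem in `C_G(S)`).  Together with the transitivity of `G` on ordered pairs of different
commuting members of `D` (a consequence of "`D_d` is one class of `⟨D_d⟩`"), this shows that
`N_G(E)` is doubly transitive on `E`.
-/

set_option autoImplicit false

namespace Cfsg.Agent.Helper89.MaxComm

open Cfsg Cfsg.Agent.Helper89

variable {G : Type*} [Group G] [Finite G]

/-- Sylow's theorem inside a subgroup `C`: two `p`-subgroups of `C` can be put in a common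
`p`-subgroup after conjugating one of them by an element of `C`. -/
theorem exists_conj_pGroup_in_subgroup {p : ℕ} [Fact p.Prime] (C : Subgroup G)
    {Q₁ Q₂ : Subgroup G} (h1 : Q₁ ≤ C) (h2 : Q₂ ≤ C) (hp1 : IsPGroup p Q₁) (hp2 : IsPGroup p Q₂) :
    ∃ h ∈ C, ∃ T : Subgroup G, IsPGroup p T ∧ Q₂ ≤ T ∧ ∀ x ∈ Q₁, h * x * h⁻¹ ∈ T := by
  have hp1' : IsPGroup p (Q₁.subgroupOf C) := hp1.comap_subtype
  have hp2' : IsPGroup p (Q₂.subgroupOf C) := hp2.comap_subtype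
  obtain ⟨P₁, hP₁⟩ := hp1'.exists_le_sylow
  obtain ⟨P₂, hP₂⟩ := hp2'.exists_le_sylow
  obtain ⟨h, hh⟩ := MulAction.exists_smul_eq C P₁ P₂
  refine ⟨h, h.2, (P₂ : Subgroup C).map C.subtype, P₂.isPGroup'.map _, ?_, ?_⟩
  · intro x hx
    exact ⟨⟨x, h2 hx⟩, hP₂ (Subgroup.mem_subgroupOf.mpr hx), rfl⟩
  · intro x hx
    have hxP : (⟨x, h1 hx⟩ : C) ∈ (P₁ : Subgroup C) := hP₁ (Subgroup.mem_subgroupOf.mpr hx)
    have hmem : h * ⟨x, h1 hx⟩ * h⁻¹ ∈ ((h • P₁ : Sylow p C) : Subgroup C) := by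
      rw [Sylow.coe_subgroup_smul]
      have := Subgroup.smul_mem_pointwise_smul (⟨x, h1 hx⟩ : C) (MulAut.conj h) (P₁ : Subgroup C) hxP
      simpa [MulAut.smul_def] using this
    rw [hh] at hmem
    exact ⟨_, hmem, rfl⟩

variable {D : Set G}

/-- The members of `D` in a 2-subgroup `T ≥ ⟨E⟩`, `E` a maximum commuting set, are those of `E`. -/
theorem eq_inter_of_max (hT : IsThreeTranspositionSet D) {E : Set G} (hE : E ⊆ D)
    (hmax : ∀ E' : Set G, E' ⊆ D → (∀ a ∈ E', ∀ b ∈ E', Commute a b) → E'.ncard ≤ E.ncard)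
    {T : Subgroup G} (hT2 : IsPGroup 2 T) (hET : Subgroup.closure E ≤ T) :
    E = {d : G | d ∈ D ∧ d ∈ T} := by
  apply Set.eq_of_subset_of_ncard_le
  · intro x hx
    exact ⟨hE hx, hET (Subgroup.subset_closure hx)⟩
  · apply hmax
    · intro x hx; exact hx.1
    · intro a ha b hb
      exact commute_of_mem_two_group hT hT2 ha.1 hb.1 ha.2 hb.2
  · exact Set.toFinite _

/-- A maximum commuting set is normalized by a Sylow 2-subgroup. -/
theorem exists_sylow_le_normalizer (hT : IsThreeTranspositionSet D)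
    (hconj : ∀ g : G, ∀ d ∈ D, g * d * g⁻¹ ∈ D) {E : Set G} (hE : E ⊆ D)
    (hc : ∀ a ∈ E, ∀ b ∈ E, Commute a b)
    (hmax : ∀ E' : Set G, E' ⊆ D → (∀ a ∈ E', ∀ b ∈ E', Commute a b) → E'.ncard ≤ E.ncard) :
    ∃ P : Sylow 2 G, (P : Subgroup G) ≤ Subgroup.normalizer E := by
  haveI : Fact (Nat.Prime 2) := ⟨Nat.prime_two⟩
  have hp := isPGroup_two_closure_of_commuting_involutions (fun d hd => hT.1 d (hE hd)) hc
  obtain ⟨P, hP⟩ := hp.exists_le_sylow
  have hEP := eq_inter_of_max hT hE hmax P.isPGroup' hP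
  refine ⟨P, ?_⟩
  intro g hg
  rw [Subgroup.mem_set_normalizer_iff]
  intro x
  rw [hEP]
  constructor
  · rintro ⟨hxD, hxP⟩
    exact ⟨hconj g x hxD, Subgroup.mul_mem _ (Subgroup.mul_mem _ hg hxP) (Subgroup.inv_mem _ hg)⟩
  · rintro ⟨hxD, hxP⟩
    have e : x = g⁻¹ * (g * x * g⁻¹) * g⁻¹⁻¹ := by group
    constructor
    · rw [e]; exact hconj g⁻¹ _ hxD
    · rw [e]
      exact Subgroup.mul_mem _ (Subgroup.mul_mem _ (Subgroup.inv_mem _ hg) hxP)
        (Subgroup.inv_mem _ (Subgroup.inv_mem _ hg))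

/-- Two maximum commuting sets containing `S` are conjugate under the centralizer of `S`. -/
theorem exists_conj_maxComm (hT : IsThreeTranspositionSet D)
    (hconj : ∀ g : G, ∀ d ∈ D, g * d * g⁻¹ ∈ D) {E₁ E₂ : Set G} (hE₁ : E₁ ⊆ D) (hE₂ : E₂ ⊆ D)
    (hc₁ : ∀ a ∈ E₁, ∀ b ∈ E₁, Commute a b) (hc₂ : ∀ a ∈ E₂, ∀ b ∈ E₂, Commute a b)
    (hmax : ∀ E' : Set G, E' ⊆ D → (∀ a ∈ E', ∀ b ∈ E', Commute a b) → E'.ncard ≤ E₂.ncard)
    (hcard : E₁.ncard = E₂.ncard) {S : Set G} (hS₁ : S ⊆ E₁) (hS₂ : S ⊆ E₂) :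
    ∃ h ∈ Subgroup.centralizer S, (fun x => h * x * h⁻¹) '' E₁ = E₂ := by
  haveI : Fact (Nat.Prime 2) := ⟨Nat.prime_two⟩
  have hle₁ : Subgroup.closure E₁ ≤ Subgroup.centralizer S := by
    rw [Subgroup.closure_le]
    intro x hx
    rw [SetLike.mem_coe, Subgroup.mem_centralizer_iff]
    intro s hs
    exact (hc₁ s (hS₁ hs) x hx).eq
  have hle₂ : Subgroup.closure E₂ ≤ Subgroup.centralizer S := by
    rw [Subgroup.closure_le]
    intro x hx
    rw [SetLike.mem_coe, Subgroup.mem_centralizer_iff]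
    intro s hs
    exact (hc₂ s (hS₂ hs) x hx).eq
  have hp₁ := isPGroup_two_closure_of_commuting_involutions (fun d hd => hT.1 d (hE₁ hd)) hc₁
  have hp₂ := isPGroup_two_closure_of_commuting_involutions (fun d hd => hT.1 d (hE₂ hd)) hc₂
  obtain ⟨h, hhC, T, hT2, hQ2, hQ1⟩ :=
    exists_conj_pGroup_in_subgroup (Subgroup.centralizer S) hle₁ hle₂ hp₁ hp₂
  have hE₂T := eq_inter_of_max hT hE₂ hmax hT2 hQ2
  refine ⟨h, hhC, ?_⟩
  have hinj : Function.Injective (fun x : G => h * x * h⁻¹) := by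
    intro x y hxy
    simpa using hxy
  apply Set.eq_of_subset_of_ncard_le
  · rintro _ ⟨x, hx, rfl⟩
    rw [hE₂T]
    exact ⟨hconj h x (hE₁ hx), hQ1 x (Subgroup.subset_closure hx)⟩
  · rw [Set.ncard_image_of_injective E₁ hinj, hcard]
  · exact Set.toFinite _

/-- **Transitivity on commuting pairs**, given that each `D_d` is one class of `⟨D_d⟩`. -/
theorem exists_conj_pair
    (htrans : ∀ a ∈ D, ∀ b ∈ D, ∃ g : G, g * a * g⁻¹ = b)
    (hconj : ∀ g : G, ∀ d ∈ D, g * d * g⁻¹ ∈ D)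
    (hloc : ∀ d ∈ D, ∀ y ∈ LocS3.Dd D d, ∀ y' ∈ LocS3.Dd D d,
      ∃ g ∈ Subgroup.closure (LocS3.Dd D d), g * y * g⁻¹ = y')
    {a b c d : G} (ha : a ∈ D) (hb : b ∈ D) (hc : c ∈ D) (hd : d ∈ D) (hab : a ≠ b) (hcd : c ≠ d)
    (hcab : Commute a b) (hccd : Commute c d) :
    ∃ g : G, g * a * g⁻¹ = c ∧ g * b * g⁻¹ = d := by
  obtain ⟨g₀, hg₀⟩ := htrans a ha c hc
  have hb' : g₀ * b * g₀⁻¹ ∈ LocS3.Dd D c := by
    refine ⟨hconj g₀ b hb, ?_, ?_⟩
    · intro h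
      apply hab
      rw [← hg₀] at h
      have := congrArg (fun t => g₀⁻¹ * t * g₀) h
      simp only [mul_assoc, inv_mul_cancel_left, inv_mul_cancel, mul_one] at this
      exact this.symm
    · rw [← hg₀]
      show (g₀ * a * g₀⁻¹) * (g₀ * b * g₀⁻¹) = (g₀ * b * g₀⁻¹) * (g₀ * a * g₀⁻¹)
      have e1 : (g₀ * a * g₀⁻¹) * (g₀ * b * g₀⁻¹) = g₀ * (a * b) * g₀⁻¹ := by group
      have e2 : (g₀ * b * g₀⁻¹) * (g₀ * a * g₀⁻¹) = g₀ * (b * a) * g₀⁻¹ := by group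
      rw [e1, e2, hcab.eq]
  have hd' : d ∈ LocS3.Dd D c := ⟨hd, hcd.symm, hccd⟩
  obtain ⟨k, hk, hkb⟩ := hloc c hc _ hb' d hd'
  have hkc : Commute k c := by
    have hle : Subgroup.closure (LocS3.Dd D c) ≤ Subgroup.centralizer {c} := by
      rw [Subgroup.closure_le]
      intro y hy
      rw [SetLike.mem_coe, Subgroup.mem_centralizer_iff]
      intro s hs
      rw [Set.mem_singleton_iff.mp hs]
      exact hy.2.2.eq
    exact (Subgroup.mem_centralizer_iff.mp (hle hk) c (Set.mem_singleton c)).symm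
  refine ⟨k * g₀, ?_, ?_⟩
  · have e : k * g₀ * a * (k * g₀)⁻¹ = k * (g₀ * a * g₀⁻¹) * k⁻¹ := by group
    rw [e, hg₀, hkc.eq, mul_inv_cancel_right]
  · have e : k * g₀ * b * (k * g₀)⁻¹ = k * (g₀ * b * g₀⁻¹) * k⁻¹ := by group
    rw [e, hkb]

/-- **Double transitivity of `N_G(E)` on a maximum commuting set `E`.** -/
theorem exists_mem_normalizer_conj_pair (hT : IsThreeTranspositionSet D)
    (htrans : ∀ a ∈ D, ∀ b ∈ D, ∃ g : G, g * a * g⁻¹ = b)
    (hconj : ∀ g : G, ∀ d ∈ D, g * d * g⁻¹ ∈ D)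
    (hloc : ∀ d ∈ D, ∀ y ∈ LocS3.Dd D d, ∀ y' ∈ LocS3.Dd D d,
      ∃ g ∈ Subgroup.closure (LocS3.Dd D d), g * y * g⁻¹ = y')
    {E : Set G} (hE : E ⊆ D) (hc : ∀ a ∈ E, ∀ b ∈ E, Commute a b)
    (hmax : ∀ E' : Set G, E' ⊆ D → (∀ a ∈ E', ∀ b ∈ E', Commute a b) → E'.ncard ≤ E.ncard)
    {a b c d : G} (ha : a ∈ E) (hb : b ∈ E) (hc' : c ∈ E) (hd : d ∈ E) (hab : a ≠ b)
    (hcd : c ≠ d) :
    ∃ g ∈ Subgroup.normalizer E, g * a * g⁻¹ = c ∧ g * b * g⁻¹ = d := by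
  obtain ⟨g, hga, hgb⟩ := exists_conj_pair htrans hconj hloc (hE ha) (hE hb) (hE hc') (hE hd)
    hab hcd (hc a ha b hb) (hc c hc' d hd)
  have hinj : Function.Injective (fun x : G => g * x * g⁻¹) := by
    intro x y hxy
    simpa using hxy
  set E₁ : Set G := (fun x => g * x * g⁻¹) '' E with hE₁def
  have hE₁ : E₁ ⊆ D := by
    rintro _ ⟨x, hx, rfl⟩
    exact hconj g x (hE hx)
  have hc₁ : ∀ x ∈ E₁, ∀ y ∈ E₁, Commute x y := by
    rintro _ ⟨x, hx, rfl⟩ _ ⟨y, hy, rfl⟩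
    show (g * x * g⁻¹) * (g * y * g⁻¹) = (g * y * g⁻¹) * (g * x * g⁻¹)
    have e1 : (g * x * g⁻¹) * (g * y * g⁻¹) = g * (x * y) * g⁻¹ := by group
    have e2 : (g * y * g⁻¹) * (g * x * g⁻¹) = g * (y * x) * g⁻¹ := by group
    rw [e1, e2, (hc x hx y hy).eq]
  have hcard : E₁.ncard = E.ncard := Set.ncard_image_of_injective E hinj
  have hS₁ : ({c, d} : Set G) ⊆ E₁ := by
    rintro x (rfl | rfl)
    · exact ⟨a, ha, hga⟩
    · exact ⟨b, hb, hgb⟩
  have hS₂ : ({c, d} : Set G) ⊆ E := by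
    rintro x (rfl | rfl)
    · exact hc'
    · exact hd
  obtain ⟨h, hhC, hh⟩ := exists_conj_maxComm hT hconj hE₁ hE hc₁ hc hmax hcard hS₁ hS₂
  have hhc : h * c * h⁻¹ = c := by
    have := Subgroup.mem_centralizer_iff.mp hhC c (by simp)
    rw [← this, mul_inv_cancel_right]
  have hhd : h * d * h⁻¹ = d := by
    have := Subgroup.mem_centralizer_iff.mp hhC d (by simp)
    rw [← this, mul_inv_cancel_right]
  refine ⟨h * g, ?_, ?_, ?_⟩
  · rw [Subgroup.mem_normalizer_iff_conj_image_eq]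
    have himg : MulAut.conj (h * g) '' E = (fun x => h * x * h⁻¹) '' E₁ := by
      rw [hE₁def, Set.image_image]
      apply Set.image_congr
      intro x _
      simp only [MulAut.conj_apply]
      group
    rw [himg, hh]
  · have e : h * g * a * (h * g)⁻¹ = h * (g * a * g⁻¹) * h⁻¹ := by group
    rw [e, hga, hhc]
  · have e : h * g * b * (h * g)⁻¹ = h * (g * b * g⁻¹) * h⁻¹ := by group
    rw [e, hgb, hhd]

end Cfsg.Agent.Helper89.MaxComm
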