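import Mathlib
import Cfsg.Prelude.Def_FischerSpaces
import Cfsg.Agent.Helper89.TranspFischerPrim

/-!
# Classes of 3-transpositions in groups with non-abelian simple commutator subgroup

Let `D` be a class of 3-transpositions generating the finite group `G` and let `G'` be
non-abelian simple.  Then every solvable normal subgroup of `G` is central, `G'` is the unique
component, `|G : G'| ≤ 2`, `G` is primitive on `D` (S5353) and `D` contains a commuting pair (else
`G` would be solvable by Hall's theorem).
-/

set_option autoImplicit false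

namespace Cfsg.Agent.Helper89.SimplePrim

open Cfsg Cfsg.Agent.Helper89 Cfsg.Agent.Helper89.FischerPrim
open Cfsg.Agent.S5353 (class_conj class_trans)
open scoped commutatorElement

universe u

variable {G : Type u} [Group G]

/-- A non-abelian simple group is quasisimple. -/
theorem isQuasisimple_of_simple_nonab {X : Type*} [Group X] (hs : IsSimpleGroup X)
    (hna : ∃ x y : X, x * y ≠ y * x) : IsQuasisimple X := by
  obtain ⟨x, y, hxy⟩ := hna
  have hcomm : commutator X = ⊤ := by
    rcases (inferInstance : (commutator X).Normal).eq_bot_or_eq_top with h | h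
    · exfalso
      apply hxy
      have h1 : ⁅x, y⁆ ∈ commutator X := Subgroup.commutator_mem_commutator
        (Subgroup.mem_top x) (Subgroup.mem_top y)
      rw [h, Subgroup.mem_bot, commutatorElement_def] at h1
      calc x * y = (x * y * x⁻¹ * y⁻¹) * (y * x) := by group
        _ = y * x := by rw [h1, one_mul]
    · exact h
  have hcen : Subgroup.center X = ⊥ := by
    rcases (inferInstance : (Subgroup.center X).Normal).eq_bot_or_eq_top with h | h
    · exact h
    · exfalso
      apply hxy
      have : y ∈ Subgroup.center X := by rw [h]; trivial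
      exact Subgroup.mem_center_iff.mp this x
  refine ⟨⟨hcomm⟩, ?_⟩
  haveI : Nontrivial (X ⧸ Subgroup.center X) := by
    rw [hcen]
    exact (QuotientGroup.quotientBot (G := X)).toEquiv.nontrivial
  exact IsSimpleGroup.isSimpleGroup_of_surjective (QuotientGroup.mk' (Subgroup.center X))
    (QuotientGroup.mk'_surjective _)

/-- A non-abelian simple commutator subgroup is not solvable. -/
theorem not_isSolvable_commutator (hsimple : IsSimpleGroup (commutator G))
    (hnonab : ∃ x y : commutator G, x * y ≠ y * x) : ¬ Group.IsSolvable (commutator G) := by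
  intro hs
  obtain ⟨x, y, hxy⟩ := hnonab
  exact hxy (IsSimpleGroup.comm_iff_isSolvable.mpr hs x y)

/-- With `G'` non-abelian simple, every solvable normal subgroup of `G` is central. -/
theorem le_center_of_normal_solvable (hsimple : IsSimpleGroup (commutator G))
    (hnonab : ∃ x y : commutator G, x * y ≠ y * x) (N : Subgroup G) (hN : N.Normal)
    (hNs : Group.IsSolvable N) : N ≤ Subgroup.center G := by
  haveI := hN
  haveI := hNs
  rcases (inferInstance : (N.subgroupOf (commutator G)).Normal).eq_bot_or_eq_top with h | h
  · rw [Subgroup.subgroupOf_eq_bot] at h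
    intro n hn
    rw [Subgroup.mem_center_iff]
    intro g
    have h1 : n * g * n⁻¹ * g⁻¹ ∈ N := by
      have : n * g * n⁻¹ * g⁻¹ = n * (g * n⁻¹ * g⁻¹) := by group
      rw [this]
      exact N.mul_mem hn (hN.conj_mem _ (N.inv_mem hn) g)
    have h2 : n * g * n⁻¹ * g⁻¹ ∈ commutator G := by
      rw [commutator_def]
      exact Subgroup.commutator_mem_commutator (Subgroup.mem_top n) (Subgroup.mem_top g)
    have h3 : n * g * n⁻¹ * g⁻¹ = 1 := by
      have := h.le_bot (show n * g * n⁻¹ * g⁻¹ ∈ N ⊓ commutator G from ⟨h1, h2⟩)
      exact this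
    calc g * n = (n * g * n⁻¹ * g⁻¹) * (g * n) := by rw [h3, one_mul]
      _ = n * g := by group
  · exfalso
    rw [Subgroup.subgroupOf_eq_top] at h
    apply not_isSolvable_commutator hsimple hnonab
    exact Group.isSolvable_of_isSolvable_injective (Subgroup.inclusion_injective h)

variable [Finite G] {D : Set G}

/-- **Primitivity and a commuting pair** for `G'` non-abelian simple. -/
theorem isPrimitiveUnderConj_of_simple_commutator (hD : IsThreeTranspositionClass D)
    (hsimple : IsSimpleGroup (commutator G)) (hnonab : ∃ x y : commutator G, x * y ≠ y * x) :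
    IsPrimitiveUnderConj D ∧ (∃ a ∈ D, ∃ b ∈ D, a ≠ b) ∧
      ∃ a ∈ D, ∃ b ∈ D, a ≠ b ∧ Commute a b := by
  haveI : Fact (Nat.Prime 2) := ⟨Nat.prime_two⟩
  haveI : Fact (Nat.Prime 3) := ⟨Nat.prime_three⟩
  have hT := hD.1
  have hconj := class_conj hD
  have hgen := hD.2.2
  have h2 : pCore 2 G ≤ Subgroup.center G :=
    le_center_of_normal_solvable hsimple hnonab _ (pCore_normal' 2) (isSolvable_pCore 2)
  have h3 : pCore 3 G ≤ Subgroup.center G :=
    le_center_of_normal_solvable hsimple hnonab _ (pCore_normal' 3) (isSolvable_pCore 3)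
  -- `G` itself is not solvable
  have hGns : ¬ Group.IsSolvable G := by
    intro hs
    apply not_isSolvable_commutator hsimple hnonab
    exact Group.isSolvable_of_isSolvable_injective (Subgroup.subtype_injective _)
  -- two different members
  have hD2 : ∃ a ∈ D, ∃ b ∈ D, a ≠ b := by
    by_contra hcon
    push Not at hcon
    apply hGns
    apply Group.isSolvable_of_comm
    have hle : Subgroup.closure D ≤ Subgroup.center G := by
      rw [Subgroup.closure_le]
      intro d hd
      rw [SetLike.mem_coe]
      by_contra hdc
      obtain ⟨e, he, hde⟩ := Cfsg.Agent.S5353.exists_not_commute hD hdc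
      apply hde
      rw [hcon d hd e he]
    rw [hgen] at hle
    intro a b
    exact Subgroup.mem_center_iff.mp (hle (Subgroup.mem_top b)) a
  have hD2' := hD2
  obtain ⟨d0, hd0, -⟩ := hD2
  have hd0d0 := sq_of_mem hT hd0
  -- `G'` is the unique component
  have hcomp : IsComponent (commutator G) :=
    ⟨Subgroup.Normal.isSubnormal inferInstance, isQuasisimple_of_simple_nonab hsimple hnonab⟩
  obtain ⟨L, hLn, hLq, hLc, hF⟩ := exists_quasisimple_fstar_of_hall hallHyp hD hD2' h2 h3
  haveI := hLn
  have hLeq : L = commutator G := isComponent_unique_of_hall hallHyp hD hLc hcomp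
  have hall' : ∀ a ∈ D, ∀ b ∈ D, a⁻¹ * b ∈ L := by
    intro a ha b hb
    obtain ⟨g, rfl⟩ := class_trans hD a ha b hb
    rw [hLeq, commutator_def]
    have : a⁻¹ * (g * a * g⁻¹) = ⁅a⁻¹, g⁆ := by
      rw [commutatorElement_def]; group
    rw [this]
    exact Subgroup.commutator_mem_commutator (Subgroup.mem_top _) (Subgroup.mem_top _)
  have hidx : L.index ≤ 2 :=
    index_le_two_of_cover hd0d0 (cover_of_forall_inv_mul_mem hD hall' hd0)
  refine ⟨(Cfsg.Agent.S5353.result hD hD2' h2 h3 L hLq hF).1 hidx, hD2', ?_⟩
  -- a commuting pair: else `G` is solvable by Hall's theorem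
  by_contra hcon
  push Not at hcon
  apply hGns
  have hwidth : ∀ a ∈ D, ∀ b ∈ D, Commute a b → a = b := by
    intro a ha b hb hab
    by_contra hne
    exact hcon a ha b hb hne hab
  have hDg : IsThreeTranspositionGroup D := ⟨hT, hconj, hgen⟩
  have hw1 : commutingWidth D = 1 := (commutingWidth_eq_one_iff hd0).mpr hwidth
  have htop := (width_one_iff_of_hall hallHyp hDg hd0).mp hw1
  haveI := pCore_normal' (G := G) 3
  exact isSolvable_of_zpowers_sup_eq_top hd0d0 (isSolvable_pCore 3) htop

end Cfsg.Agent.Helper89.SimplePrim
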