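import Cfsg.Agent.Helper56.U35.Defs

/-!
# S2149 (`PSU₃(5)`, minimal index 50), piece (DAT) `exists_tiData` — helper89 for helper56
-/

set_option autoImplicit false

namespace Cfsg.Agent.Helper89.U35

open MulAction Cfsg.Agent.Helper56.U35

/-- A group of order `1000` has a normal subgroup of order `125` containing all elements of order
dividing `5`. -/
theorem exists_normal_sylow5 {B : Type*} [Group B] (hB : Nat.card B = 1000) :
    ∃ Q : Subgroup B, Q.Normal ∧ Nat.card Q = 125 ∧ ∀ g : B, g ^ 5 = 1 → g ∈ Q := by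
  have : Fact (Nat.Prime 5) := ⟨by norm_num⟩
  have : Finite B := Nat.finite_of_card_ne_zero (by rw [hB]; norm_num)
  obtain ⟨Q⟩ : Nonempty (Sylow 5 B) := inferInstance
  have hfac : (1000 : ℕ).factorization 5 = 3 := by
    rw [show (1000 : ℕ) = 5 ^ 3 * 8 by norm_num, Nat.factorization_mul (by norm_num) (by norm_num),
      Nat.Prime.factorization_pow (by norm_num)]
    simp [Nat.factorization_eq_zero_of_not_dvd (show ¬ 5 ∣ 8 by norm_num)]
  have hQ : Nat.card Q = 125 := by
    rw [Sylow.card_eq_multiplicity, hB, hfac]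
    norm_num
  have hidx : (Q : Subgroup B).index = 8 := by
    have := (Q : Subgroup B).card_mul_index
    rw [hQ, hB] at this
    omega
  have h1 : Nat.card (Sylow 5 B) = 1 := by
    have hd := Sylow.card_dvd_index Q
    rw [hidx] at hd
    have hm := card_sylow_modEq_one 5 B
    have hle := Nat.le_of_dvd (by norm_num) hd
    unfold Nat.ModEq at hm
    generalize Nat.card (Sylow 5 B) = n at hd hm hle
    interval_cases n <;> omega
  have : Subsingleton (Sylow 5 B) := (Nat.card_eq_one_iff_unique.mp h1).1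
  refine ⟨Q, Sylow.normal_of_subsingleton Q, hQ, fun g hg => ?_⟩
  have hpg : IsPGroup 5 (Subgroup.zpowers g) := by
    rintro ⟨z, hz⟩
    obtain ⟨j, rfl⟩ := Subgroup.mem_zpowers_iff.1 hz
    refine ⟨1, Subtype.ext ?_⟩
    show (g ^ j) ^ 5 ^ 1 = 1
    rw [pow_one, ← zpow_natCast, ← zpow_mul, mul_comm, zpow_mul, zpow_natCast, hg, one_zpow]
  obtain ⟨Q', hQ'⟩ := hpg.exists_le_sylow
  rw [Subsingleton.elim Q' Q] at hQ'
  exact hQ' (Subgroup.mem_zpowers g)

variable {G : Type*} [Group G] {Ω : Type*} [MulAction G Ω]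

/-- (DAT) the certificates give the data -/
theorem exists_tiData (hG : Nat.card G = 126000) (hΩ : Nat.card Ω = 126)
    (o w0 : Ω) (x y s : G) (hx : x • o = o) (hy : y • o = o) (hs : s • o ≠ o)
    (hx5 : x ^ 5 = 1) (hy5 : y ^ 5 = 1)
    (hP : ∀ w : Ω, w ≠ o → ∃ u ∈ Subgroup.closure ({x, y} : Set G), u • w0 = w) :
    ∃ D : TIData G Ω, D.o = o ∧ D.P = Subgroup.closure ({x, y} : Set G) := by
  have : Finite G := Nat.finite_of_card_ne_zero (by rw [hG]; norm_num)
  have : Finite Ω := Nat.finite_of_card_ne_zero (by rw [hΩ]; norm_num)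
  have hPle : Subgroup.closure ({x, y} : Set G) ≤ stabilizer G o := by
    rw [Subgroup.closure_le]
    rintro g (rfl | rfl)
    · exact hx
    · exact hy
  -- `w0 ≠ o`
  have hw0 : w0 ≠ o := by
    rintro rfl
    obtain ⟨u, hu, huw⟩ := hP (s • w0) hs
    exact hs (huw.symm.trans (hPle hu))
  -- transitivity
  have htrans : ∀ w : Ω, ∃ g : G, g • o = w := by
    obtain ⟨u0, hu0, hu0w⟩ := hP (s • o) hs
    intro w
    by_cases hw : w = o
    · exact ⟨1, by rw [hw, one_smul]⟩
    · obtain ⟨u, hu, huw⟩ := hP w hw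
      refine ⟨u * u0⁻¹ * s, ?_⟩
      rw [mul_smul, mul_smul, ← hu0w, inv_smul_smul, huw]
  -- `|B| = 1000`
  have hB : Nat.card (stabilizer G o) = 1000 := by
    have h1 := Subgroup.card_eq_card_quotient_mul_card_subgroup (stabilizer G o)
    have h2 : Nat.card (G ⧸ stabilizer G o) = 126 := by
      rw [← Nat.card_congr (orbitEquivQuotientStabilizer G o), ← hΩ]
      have : orbit G o = Set.univ := by
        ext w
        simp only [Set.mem_univ, iff_true]
        obtain ⟨g, hg⟩ := htrans w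
        exact ⟨g, hg⟩
      rw [this]
      exact Nat.card_congr (Equiv.Set.univ Ω)
    rw [hG, h2] at h1
    omega
  obtain ⟨Q, hQn, hQc, hQ5⟩ := exists_normal_sylow5 hB
  have hPQ : Subgroup.closure ({x, y} : Set G) ≤ Q.map (stabilizer G o).subtype := by
    rw [Subgroup.closure_le]
    rintro g (rfl | rfl)
    · exact ⟨⟨g, hx⟩, hQ5 _ (Subtype.ext hx5), rfl⟩
    · exact ⟨⟨g, hy⟩, hQ5 _ (Subtype.ext hy5), rfl⟩
  have hQ'c : Nat.card (Q.map (stabilizer G o).subtype) = 125 := by
    rw [Subgroup.card_map_of_injective (Subgroup.subtype_injective _)]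
    exact hQc
  -- the orbit map `P → Ω ∖ {o}`
  have hne : ∀ u : Subgroup.closure ({x, y} : Set G), (u : G) • w0 ≠ o := by
    intro u h
    apply hw0
    have h1 : (u : G) • o = o := hPle u.2
    have h2 : (u : G)⁻¹ • o = o := by
      rw [inv_smul_eq_iff]
      exact h1.symm
    rw [← h2, ← h, inv_smul_smul]
  have hf : Function.Surjective
      (fun u : Subgroup.closure ({x, y} : Set G) => (⟨(u : G) • w0, hne u⟩ : {w : Ω // w ≠ o})) := by
    rintro ⟨w, hw⟩
    obtain ⟨u, hu, huw⟩ := hP w hw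
    exact ⟨⟨u, hu⟩, Subtype.ext huw⟩
  have hcard' : Nat.card {w : Ω // w ≠ o} = 125 := by
    classical
    have := Nat.card_congr (Equiv.optionSubtypeNe o)
    rw [Finite.card_option, hΩ] at this
    omega
  have hPc : Nat.card (Subgroup.closure ({x, y} : Set G)) = 125 := by
    apply le_antisymm
    · have h1 := Subgroup.card_dvd_of_le hPQ
      rw [hQ'c] at h1
      exact Nat.le_of_dvd (by norm_num) h1
    · rw [← hcard']
      exact Nat.card_le_card_of_surjective _ hf
  have hPQeq : Subgroup.closure ({x, y} : Set G) = Q.map (stabilizer G o).subtype :=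
    Subgroup.eq_of_le_of_card_ge hPQ (by rw [hPc, hQ'c])
  have hfinj := (hf.bijective_of_nat_card_le (by rw [hPc, hcard'])).1
  refine ⟨{ o := o, P := Subgroup.closure ({x, y} : Set G), cardG := hG, cardΩ := hΩ,
            trans := htrans, cardP := hPc, P_le := hPle, P_normal := ?_, semireg := ?_ }, rfl, rfl⟩
  · intro b hb u hu
    rw [hPQeq] at hu ⊢
    obtain ⟨q, hq, rfl⟩ := hu
    exact ⟨⟨b, hb⟩ * q * ⟨b, hb⟩⁻¹, hQn.conj_mem q hq ⟨b, hb⟩, rfl⟩
  · intro u hu hu1 w huw
    by_contra hw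
    obtain ⟨v, hv, hvw⟩ := hP w hw
    apply hu1
    have h1 : (⟨u, hu⟩ * ⟨v, hv⟩ : Subgroup.closure ({x, y} : Set G)) = ⟨v, hv⟩ := by
      apply hfinj
      apply Subtype.ext
      show (u * v) • w0 = v • w0
      rw [mul_smul, hvw, huw]
    have h3 : (⟨u, hu⟩ : Subgroup.closure ({x, y} : Set G)) = 1 := mul_eq_right.mp h1
    exact congrArg Subtype.val h3

end Cfsg.Agent.Helper89.U35
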