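import Mathlib
import Cfsg.Agent.Helper22.KBalance5

/-!
# S1864 (WBal farm of helper31), leaf (W2) `signalizerDelta_le_centralizer_of_hom` — helper89
-/

set_option autoImplicit false

namespace Cfsg.Agent.Helper89.WBal

open Cfsg Cfsg.Agent.Helper31 Cfsg.Agent.Helper22

variable {G : Type*} [Group G]

/-- (W2) weak local `k`-balance of `T` makes `Δ(D̄)` centralize every elementary abelian `Ā ≥ D̄` in any
quotient `Hh / N` acting faithfully on `T` through a group of automorphisms containing the inner ones. -/
theorem signalizerDelta_le_centralizer_of_hom {Hh T : Type*} [Group Hh] [Group T] (p k : ℕ)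
    [hp : Fact p.Prime]
    (φ : Hh →* MulAut T) (hInn : (MulAut.conj : T →* MulAut T).range ≤ φ.range)
    (N : Subgroup Hh) [N.Normal] (hker : φ.ker = N) (hloc : IsWeaklyLocallyKBalanced p k T)
    (D : Subgroup (Hh ⧸ N)) (hD : IsElementaryAbelian p D) (hcard : Nat.card ↥D = p ^ k)
    (A : Subgroup (Hh ⧸ N)) (hA : IsElementaryAbelian p A) (hDA : D ≤ A) :
    signalizerDelta p D ≤ Subgroup.centralizer (A : Set (Hh ⧸ N)) := by
  let e : Hh ⧸ N ≃* ↥φ.range :=
    (QuotientGroup.quotientMulEquivOfEq hker.symm).trans (QuotientGroup.quotientKerEquivRange φ)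
  intro y hy
  rw [Subgroup.mem_centralizer_iff]
  intro x hx
  by_cases hx1 : x = 1
  · rw [hx1, one_mul, mul_one]
  · have hxp : x ^ p = 1 := hA.2 x hx
    have hox : orderOf x = p := orderOf_eq_prime hxp hx1
    have hoex : orderOf (e x) = p := by
      rw [← hox]
      exact orderOf_injective e.toMonoidHom e.injective x
    have hcent : e x ∈ Subgroup.centralizer
        ((D.map e.toMonoidHom : Subgroup ↥φ.range) : Set ↥φ.range) := by
      rw [Subgroup.mem_centralizer_iff]
      rintro _ ⟨d, hd, rfl⟩
      show e d * e x = e x * e d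
      rw [← map_mul, ← map_mul]
      congr 1
      have := hA.1.is_comm.comm (⟨d, hDA hd⟩ : ↥A) ⟨x, hx⟩
      exact congrArg Subtype.val this
    have h1 := hloc φ.range hInn (D.map e.toMonoidHom) (isElementaryAbelian_map _ hD)
      (by rw [Subgroup.card_map_of_injective e.injective, hcard]) (e x) hoex hcent
    have h2 := map_signalizerDelta_le_mulEquiv p e D
    have h3 : e y ∈ Subgroup.centralizer {e x} := h1 (h2 ⟨y, hy, rfl⟩)
    rw [Subgroup.mem_centralizer_singleton_iff] at h3
    apply e.injective
    rw [map_mul, map_mul]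
    exact h3.symm

end Cfsg.Agent.Helper89.WBal
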