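import Mathlib
import Cfsg.Agent.Helper22.KBalance5

/-!
# S1864 (WBal farm of helper31), leaf (W3) `commutator_signalizerDelta_inf_centralizer_le` — helper89

Copy-adapted from `Cfsg.Agent.Helper22.signalizerDelta_inf_centralizer_le` (Helper22/KBalance3.lean).
-/

set_option autoImplicit false

namespace Cfsg.Agent.Helper89.WBal

open Cfsg Cfsg.Agent.Helper31 Cfsg.Agent.Helper22

variable {G : Type*} [Group G]

/-- (W3) **reduction to the section `C_G(b) / O_{p'}(C_G(b))`**, for a single `b`. -/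
theorem commutator_signalizerDelta_inf_centralizer_le [Finite G] (p k : ℕ) [hp : Fact p.Prime] (b : G)
    (A : Subgroup G) (hA : IsElementaryAbelian p A) (hAb : ∀ a ∈ A, a * b = b * a)
    (D : Subgroup G) (hD : IsElementaryAbelian p D) (hDA : D ≤ A)
    (h : signalizerDelta p ((D.subgroupOf (Subgroup.centralizer ({b} : Set G))).map
          (QuotientGroup.mk' (pPrimeCore p ↥(Subgroup.centralizer ({b} : Set G))))) ≤
        Subgroup.centralizer (((A.subgroupOf (Subgroup.centralizer ({b} : Set G))).map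
          (QuotientGroup.mk' (pPrimeCore p ↥(Subgroup.centralizer ({b} : Set G)))) :
            Subgroup (↥(Subgroup.centralizer ({b} : Set G)) ⧸
              pPrimeCore p ↥(Subgroup.centralizer ({b} : Set G)))) :
            Set (↥(Subgroup.centralizer ({b} : Set G)) ⧸
              pPrimeCore p ↥(Subgroup.centralizer ({b} : Set G))))) :
    ⁅signalizerDelta p D ⊓ Subgroup.centralizer {b}, A⁆ ≤ centralizerPPrimeCore p b := by
  set C := Subgroup.centralizer ({b} : Set G) with hC
  set N := pPrimeCore p ↥C with hN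
  have hNcop : (Nat.card ↥N).Coprime p := Cfsg.Agent.Lib.card_pPrimeCore_coprime p
  set π := QuotientGroup.mk' N with hπ
  have hAC : A ≤ C := by
    intro a ha
    rw [hC, Subgroup.mem_centralizer_singleton_iff]
    exact hAb a ha
  rw [Subgroup.commutator_le]
  rintro w ⟨hwΔ, hwC⟩ a ha
  have hwΔ' : w ∈ signalizerDelta p D := hwΔ
  have hwC' : w ∈ C := hwC
  have haC : a ∈ C := hAC ha
  rw [mem_signalizerDelta_iff] at hwΔ'
  have hmem : π ⟨w, hwC'⟩ ∈ signalizerDelta p ((D.subgroupOf C).map π) := by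
    rw [mem_signalizerDelta_iff]
    rintro _ ⟨a', ha', rfl⟩ hne
    have ha'A : (a' : G) ∈ D := Subgroup.mem_subgroupOf.mp ha'
    have ha'1 : (a' : G) ≠ 1 := by
      intro h1
      apply hne
      have : a' = 1 := Subtype.ext h1
      rw [this, map_one]
    have hwa := hwΔ' (a' : G) ha'A ha'1
    set W : Subgroup ↥C := (centralizerPPrimeCore p (a' : G)).subgroupOf C with hW
    have hWc : W ≤ Subgroup.centralizer ({a'} : Set ↥C) := by
      intro c hc
      rw [hW, Subgroup.mem_subgroupOf] at hc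
      have h1 := centralizerPPrimeCore_le_centralizer p _ hc
      rw [Subgroup.mem_centralizer_singleton_iff] at h1 ⊢
      exact Subtype.ext h1
    have hWn : Subgroup.centralizer ({a'} : Set ↥C) ≤ Subgroup.normalizer (W : Set ↥C) := by
      intro c hc
      rw [Subgroup.mem_centralizer_singleton_iff] at hc
      have hc' : (c : G) ∈ Subgroup.centralizer ({(a' : G)} : Set G) := by
        rw [Subgroup.mem_centralizer_singleton_iff]
        exact congrArg Subtype.val hc
      rw [Subgroup.mem_normalizer_iff]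
      intro x
      rw [hW, Subgroup.mem_subgroupOf, Subgroup.mem_subgroupOf]
      constructor
      · intro hx
        exact conj_mem_centralizerPPrimeCore p hc' hx
      · intro hx
        have := conj_mem_centralizerPPrimeCore p (Subgroup.inv_mem _ hc') hx
        have e : (c : G)⁻¹ * ((c * x * c⁻¹ : ↥C) : G) * (c : G)⁻¹⁻¹ = (x : G) := by
          simp only [Subgroup.coe_mul, Subgroup.coe_inv]; group
        rwa [e] at this
    have hWp : (Nat.card ↥W).Coprime p := by
      have h1 : Nat.card ↥W ∣ Nat.card ↥(centralizerPPrimeCore p (a' : G)) := by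
        have h2 : W.map C.subtype ≤ centralizerPPrimeCore p (a' : G) := by
          rintro _ ⟨c, hc, rfl⟩
          exact Subgroup.mem_subgroupOf.mp hc
        have h3 : Nat.card ↥(W.map C.subtype) = Nat.card ↥W :=
          Subgroup.card_map_of_injective C.subtype_injective
        rw [← h3]
        exact Subgroup.card_dvd_of_le h2
      exact Nat.Coprime.coprime_dvd_left h1
        (coprime_card_of_not_dvd (not_dvd_card_centralizerPPrimeCore p _))
    have ha'p : a' ^ p = 1 := by
      apply Subtype.ext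
      have := hD.2 (a' : G) ha'A
      simpa using this
    have hwW : (⟨w, hwC'⟩ : ↥C) ∈ W := by
      rw [hW, Subgroup.mem_subgroupOf]; exact hwa
    exact map_mk_le_centralizerPPrimeCore p N hNcop a' ha'p W hWc hWn hWp
      (Subgroup.mem_map_of_mem _ hwW)
  have hcen := h hmem
  rw [Subgroup.mem_centralizer_iff] at hcen
  have hπa : π ⟨a, haC⟩ ∈ (((A.subgroupOf C).map π : Subgroup (↥C ⧸ N)) : Set (↥C ⧸ N)) :=
    Subgroup.mem_map_of_mem _ (Subgroup.mem_subgroupOf.mpr ha)
  have hcomm : π ⟨a, haC⟩ * π ⟨w, hwC'⟩ = π ⟨w, hwC'⟩ * π ⟨a, haC⟩ := hcen _ hπa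
  have hone : π ((⟨w, hwC'⟩ : ↥C) * ⟨a, haC⟩ * (⟨w, hwC'⟩ : ↥C)⁻¹ * (⟨a, haC⟩ : ↥C)⁻¹) = 1 := by
    rw [map_mul, map_mul, map_mul, map_inv, map_inv, ← hcomm]
    group
  rw [hπ, QuotientGroup.mk'_apply, QuotientGroup.eq_one_iff] at hone
  show w * a * w⁻¹ * a⁻¹ ∈ centralizerPPrimeCore p b
  rw [Cfsg.Agent.Helper23.mem_centralizerPPrimeCore_iff]
  exact ⟨((⟨w, hwC'⟩ : ↥C) * ⟨a, haC⟩ * (⟨w, hwC'⟩ : ↥C)⁻¹ * (⟨a, haC⟩ : ↥C)⁻¹).2, hone⟩

end Cfsg.Agent.Helper89.WBal
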